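import Cfsg.Agent.Lib.Spor.Th.CData

/-!
Checking slots of the certificate.
-/

namespace CfsgLib.Spor.Th.C

open CfsgLib.PresCert

theorem slots_80 : cert.okRange 40960 512 = true := by decide +kernel

theorem slots_81 : cert.okRange 41472 512 = true := by decide +kernel

theorem slots_82 : cert.okRange 41984 512 = true := by decide +kernel

theorem slots_83 : cert.okRange 42496 512 = true := by decide +kernel

theorem slots_84 : cert.okRange 43008 512 = true := by decide +kernel

theorem slots_85 : cert.okRange 43520 512 = true := by decide +kernel

theorem slots_86 : cert.okRange 44032 512 = true := by decide +kernel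

theorem slots_87 : cert.okRange 44544 512 = true := by decide +kernel


end CfsgLib.Spor.Th.C
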