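import Cfsg.Agent.Lib.Spor.Th.CData

/-!
Checking slots of the certificate.
-/

namespace CfsgLib.Spor.Th.C

open CfsgLib.PresCert

theorem slots_88 : cert.okRange 45056 512 = true := by decide +kernel

theorem slots_89 : cert.okRange 45568 512 = true := by decide +kernel

theorem slots_90 : cert.okRange 46080 512 = true := by decide +kernel

theorem slots_91 : cert.okRange 46592 512 = true := by decide +kernel

theorem slots_92 : cert.okRange 47104 512 = true := by decide +kernel

theorem slots_93 : cert.okRange 47616 512 = true := by decide +kernel

theorem slots_94 : cert.okRange 48128 512 = true := by decide +kernel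

theorem slots_95 : cert.okRange 48640 512 = true := by decide +kernel


end CfsgLib.Spor.Th.C
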