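import Cfsg.Agent.Lib.Spor.Th.CData

/-!
Checking slots of the certificate.
-/

namespace CfsgLib.Spor.Th.C

open CfsgLib.PresCert

theorem slots_96 : cert.okRange 49152 512 = true := by decide +kernel

theorem slots_97 : cert.okRange 49664 512 = true := by decide +kernel

theorem slots_98 : cert.okRange 50176 512 = true := by decide +kernel

theorem slots_99 : cert.okRange 50688 512 = true := by decide +kernel

theorem slots_100 : cert.okRange 51200 512 = true := by decide +kernel

theorem slots_101 : cert.okRange 51712 512 = true := by decide +kernel

theorem slots_102 : cert.okRange 52224 512 = true := by decide +kernel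

theorem slots_103 : cert.okRange 52736 512 = true := by decide +kernel


end CfsgLib.Spor.Th.C
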