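import Cfsg.Agent.Lib.Spor.Th.CData

/-!
Checking slots of the certificate.
-/

namespace CfsgLib.Spor.Th.C

open CfsgLib.PresCert

theorem slots_112 : cert.okRange 57344 512 = true := by decide +kernel

theorem slots_113 : cert.okRange 57856 512 = true := by decide +kernel

theorem slots_114 : cert.okRange 58368 512 = true := by decide +kernel

theorem slots_115 : cert.okRange 58880 512 = true := by decide +kernel

theorem slots_116 : cert.okRange 59392 512 = true := by decide +kernel

theorem slots_117 : cert.okRange 59904 512 = true := by decide +kernel

theorem slots_118 : cert.okRange 60416 512 = true := by decide +kernel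

theorem slots_119 : cert.okRange 60928 512 = true := by decide +kernel


end CfsgLib.Spor.Th.C
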