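import Cfsg.Agent.Lib.Spor.Th.CData

/-!
Checking slots of the certificate.
-/

namespace CfsgLib.Spor.Th.C

open CfsgLib.PresCert

theorem slots_48 : cert.okRange 24576 512 = true := by decide +kernel

theorem slots_49 : cert.okRange 25088 512 = true := by decide +kernel

theorem slots_50 : cert.okRange 25600 512 = true := by decide +kernel

theorem slots_51 : cert.okRange 26112 512 = true := by decide +kernel

theorem slots_52 : cert.okRange 26624 512 = true := by decide +kernel

theorem slots_53 : cert.okRange 27136 512 = true := by decide +kernel

theorem slots_54 : cert.okRange 27648 512 = true := by decide +kernel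

theorem slots_55 : cert.okRange 28160 512 = true := by decide +kernel


end CfsgLib.Spor.Th.C
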