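import Cfsg.Agent.Lib.Spor.Th.CData

/-!
Checking slots of the certificate.
-/

namespace CfsgLib.Spor.Th.C

open CfsgLib.PresCert

theorem slots_72 : cert.okRange 36864 512 = true := by decide +kernel

theorem slots_73 : cert.okRange 37376 512 = true := by decide +kernel

theorem slots_74 : cert.okRange 37888 512 = true := by decide +kernel

theorem slots_75 : cert.okRange 38400 512 = true := by decide +kernel

theorem slots_76 : cert.okRange 38912 512 = true := by decide +kernel

theorem slots_77 : cert.okRange 39424 512 = true := by decide +kernel

theorem slots_78 : cert.okRange 39936 512 = true := by decide +kernel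

theorem slots_79 : cert.okRange 40448 512 = true := by decide +kernel


end CfsgLib.Spor.Th.C
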