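import Cfsg.Agent.Lib.Spor.Th.CData

/-!
Checking slots of the certificate.
-/

namespace CfsgLib.Spor.Th.C

open CfsgLib.PresCert

theorem slots_104 : cert.okRange 53248 512 = true := by decide +kernel

theorem slots_105 : cert.okRange 53760 512 = true := by decide +kernel

theorem slots_106 : cert.okRange 54272 512 = true := by decide +kernel

theorem slots_107 : cert.okRange 54784 512 = true := by decide +kernel

theorem slots_108 : cert.okRange 55296 512 = true := by decide +kernel

theorem slots_109 : cert.okRange 55808 512 = true := by decide +kernel

theorem slots_110 : cert.okRange 56320 512 = true := by decide +kernel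

theorem slots_111 : cert.okRange 56832 512 = true := by decide +kernel


end CfsgLib.Spor.Th.C
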