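import Cfsg.Agent.Lib.Spor.Th.Derive

/-!
The derivation of the orbit closure (generated data).
-/

namespace CfsgLib.Spor.Th

/-- items -/
noncomputable def items0 : ITree (Item × Why) :=
 (.node (.node (.node (.node (.node (.node (.leaf (.stab 0 [0], .gen))
 (.leaf (.edge 7 [4, 6, 4, 5, 10, 3, 6] 11 [4, 5, 4, 3, 7, 5, 4, 2, 3, 9, 3, 5, 4, 3, 5, 4, 9], .loop 11 [4, 6, 4, 5, 10, 3, 6] [⟨393, [(32, false)], [1, 5, 4, 2, 4, 3, 4, 6, 4, 4, 4, 3, 4]⟩, ⟨295, [(86, false)], [4, 2, 4, 5, 4, 6, 4, 3, 4]⟩])))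
 (.node (.leaf (.edge 4 [7, 5, 4, 5, 10, 3, 2, 4, 6, 4, 3, 7, 10] 11 [5, 5, 4, 3, 0, 9, 3, 4, 5, 5, 10, 3, 5, 4], .loop 33 [7, 5, 4, 5, 10, 3, 2, 4, 6, 4, 3, 7, 10] [⟨255, [(86, true)], [4, 3, 5, 5, 4, 2, 4, 3, 2, 4]⟩, ⟨234, [(83, false), (239, false)], [0, 4, 3, 5, 4, 2, 4, 3, 6, 4, 2, 4, 6]⟩]))
 (.leaf (.stab 0 [], .gen))))
 (.node (.node (.leaf (.stab 12 [3, 6, 6, 4, 3, 6, 4, 6, 8, 2, 3, 9, 3, 6, 4, 6, 9, 3, 9, 6], .dupF 18 ⟨18, [(27, false), (28, false), (30, false), (28, true), (126, true), (30, true), (27, true)], [2, 4, 4, 3, 4, 5, 4, 6, 4, 6, 5]⟩))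
 (.leaf (.stab 0 [], .gen)))
 (.node (.leaf (.edge 4 [3, 5, 8, 5, 4, 6, 0, 9, 3, 4, 5, 4, 10] 9 [4, 7, 6, 4, 3, 6, 4, 6, 10, 3, 5, 9, 6, 4, 3, 5], .loop 2 [3, 5, 8, 5, 4, 6, 0, 9, 3, 4, 5, 4, 10] [⟨265, [(86, true)], [0, 4, 3, 4, 3, 4, 2, 4, 6, 3, 4, 5]⟩, ⟨238, [(31, true), (85, true)], [6, 4, 3, 2, 5, 4, 3, 4, 6, 5, 4]⟩]))
 (.leaf (.stab 0 [], .gen)))))
 (.node (.node (.node (.leaf (.edge 5 [3, 5, 10, 3, 9] 5 [3, 8, 6, 4, 0, 2, 3, 4, 10, 3], .loop 4 [3, 5, 10, 3, 9] [⟨11, [], [2, 3, 4, 2, 4, 4, 4, 3, 4, 2, 4, 3]⟩, ⟨61, [(24, true), (24, false), (24, false), (24, false)], [1, 4, 5, 5]⟩]))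
 (.leaf (.stab 0 [], .gen)))
 (.node (.leaf (.edge 10 [0, 10, 3, 2, 4, 3] 6 [3, 7, 5, 4, 3, 6, 9, 3, 5, 5, 10, 3, 10, 3], .loop 4 [0, 10, 3, 2, 4, 3] [⟨269, [(127, true), (249, false)], [2, 5, 4, 2, 4, 4, 3, 4, 2, 4, 6]⟩, ⟨188, [(83, true), (239, true), (239, false), (239, false)], [1, 4, 3, 4, 2, 3, 4, 3, 4, 5, 5]⟩]))
 (.leaf (.stab 0 [], .gen))))
 (.node (.node (.leaf (.edge 5 [4, 5, 4, 7, 2, 3, 2] 10 [3, 5, 5, 4, 9, 3, 5, 10, 3, 5, 4, 8, 5], .loop 0 [4, 5, 4, 7, 2, 3, 2] [⟨186, [(83, false)], [5, 6, 4, 3, 4, 4, 6, 4, 2, 4]⟩]))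
 (.leaf (.stab 0 [], .gen)))
 (.node (.leaf (.edge 7 [0, 10, 3, 2, 6, 4, 3, 8] 4 [3, 6, 6, 4, 3, 5, 8, 0, 10, 3, 2, 4, 3, 6, 10, 3, 2, 3], .loop 11 [0, 10, 3, 2, 6, 4, 3, 8] [⟨443, [(84, false)], [2, 4, 3, 4, 3, 4, 5, 6, 4]⟩, ⟨296, [], [2, 3, 4, 6, 4, 4, 2, 4, 3, 6]⟩]))
 (.leaf (.stab 0 [], .gen))))))
 (.node (.node (.node (.node (.leaf (.stab 7 [3, 4, 0, 2, 3, 2, 4, 3], .dupF 13 ⟨13, [(24, true), (24, true), (24, true)], [4, 2, 3, 4, 2, 3, 4, 4, 2, 3, 4, 4, 4]⟩))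
 (.leaf (.edge 5 [4, 5, 4, 3, 5, 0, 10] 4 [4, 3, 7, 5, 4, 5, 4, 3, 10, 3, 2, 3, 5, 10, 5, 4, 7], .loop 11 [4, 5, 4, 3, 5, 0, 10] [⟨186, [(83, false)], [2, 3, 4, 3, 4, 4, 5, 6, 3, 4, 4, 3]⟩, ⟨229, [(249, true), (127, true), (127, false), (249, false)], [1, 2, 4, 3, 4, 2, 4, 4, 4, 4, 4, 3]⟩])))
 (.node (.leaf (.edge 6 [3, 5, 5, 4, 10, 3] 12 [5, 4, 5, 5, 4, 3, 0, 9, 3, 9, 3, 6, 4, 6, 9, 5, 8], .loop 1 [3, 5, 5, 4, 10, 3] [⟨226, [(31, true), (31, false), (85, false)], [5, 5, 4, 3, 2, 4, 2, 4, 4, 3, 4, 2]⟩, ⟨252, [], [3, 5, 4, 3, 4, 2, 4, 3, 4, 3, 5, 5]⟩]))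
 (.leaf (.stab 0 [], .gen))))
 (.node (.node (.leaf (.edge 11 [3, 6, 7, 9, 3, 5, 5] 11 [4, 3, 5, 5, 7, 0, 9, 3, 9, 3, 6, 6, 10, 3, 9], .loop 1 [3, 6, 7, 9, 3, 5, 5] [⟨141, [(35, false), (35, false), (35, false)], [3, 4, 3, 2, 4, 5, 6, 3, 4, 2, 4, 6]⟩, ⟨149, [(127, true)], [0, 2, 5, 6, 4, 2, 4, 3, 4]⟩]))
 (.leaf (.stab 0 [], .gen)))
 (.node (.leaf (.edge 6 [3, 4, 5, 5, 4, 3, 5, 4, 6, 9, 3, 2, 3, 4, 5, 9, 5, 5] 4 [4, 5, 4, 3, 6, 4, 8, 6, 0, 9, 3, 5, 9, 3, 5, 9, 3, 10, 3], .loop 4 [3, 4, 5, 5, 4, 3, 5, 4, 6, 9, 3, 2, 3, 4, 5, 9, 5, 5] [⟨217, [(31, true), (85, false)], [6, 4, 2, 4, 5, 6, 3, 4, 6, 4, 4]⟩, ⟨329, [(86, false)], [6, 4, 4, 2, 3, 4, 2, 4, 5, 6, 3, 2]⟩]))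
 (.leaf (.stab 0 [], .gen)))))
 (.node (.node (.node (.leaf (.edge 12 [3, 7, 5, 4, 10, 3, 2, 3, 4, 3, 10] 11 [4, 5, 4, 8, 9, 3, 5, 5, 9, 3, 6, 4, 5, 8], .loop 10 [3, 7, 5, 4, 10, 3, 2, 3, 4, 3, 10] [⟨18, [], [0, 4, 4, 4, 3, 5, 6]⟩, ⟨72, [(28, true), (27, true), (28, false), (30, false), (28, false)], [3, 6, 4, 6, 4, 3, 4, 3, 6, 4, 5, 5]⟩]))
 (.leaf (.stab 0 [], .gen)))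
 (.node (.leaf (.edge 5 [5, 5, 5, 4, 5, 0, 2, 3, 10, 6] 7 [3, 4, 3, 6, 8, 0, 2, 3, 4, 5, 9, 3, 5, 8], .loop 32 [5, 5, 5, 4, 5, 0, 2, 3, 10, 6] [⟨103, [(239, true), (239, false), (83, false)], [6, 4, 4, 2, 4, 3, 4, 3, 2, 5, 6]⟩, ⟨297, [(86, true), (86, false)], [3, 4, 4, 6, 3, 4, 3, 2, 5, 4]⟩, ⟨304, [(86, false)], [0, 2, 6, 5, 4, 3, 6, 5, 4, 3]⟩, ⟨306, [(35, true), (35, true), (35, true), (35, false), (35, false)], [4, 6, 3, 4, 2, 3, 5, 5]⟩, ⟨253, [(35, true), (35, false)], [1, 4, 2, 3, 4, 4, 6, 4, 3, 2, 4, 6]⟩]))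
 (.leaf (.stab 0 [], .gen))))
 (.node (.node (.leaf (.edge 4 [3, 4, 6, 7, 2, 3, 4, 10, 3, 6, 8, 10, 5] 6 [3, 4, 7, 5, 4, 3, 6, 0, 10, 3, 6, 9, 3, 5, 8, 9, 3, 10], .loop 27 [3, 4, 6, 7, 2, 3, 4, 10, 3, 6, 8, 10, 5] [⟨220, [(86, true)], [1, 2, 3, 4, 3, 4, 4, 4, 2, 4, 3, 5]⟩, ⟨188, [], [3, 4, 6, 4, 4, 4, 3, 4, 5]⟩]))
 (.leaf (.stab 0 [], .gen)))
 (.node (.leaf (.edge 4 [3, 4, 5, 4, 8, 6, 0, 10, 3, 4, 10] 11 [4, 3, 6, 4, 8, 6, 9, 3, 6, 9, 3, 6, 9, 5, 4, 8], .loop 17 [3, 4, 5, 4, 8, 6, 0, 10, 3, 4, 10] [⟨321, [(86, true)], [6, 4, 2, 3, 4, 4, 3, 2, 5, 4, 5]⟩, ⟨470, [(35, true)], [4, 3, 4, 4, 2, 3, 4, 5]⟩, ⟨340, [], [4, 2, 4, 2, 3, 4, 2, 4, 4]⟩, ⟨441, [], [2, 6, 4, 6, 3, 4, 3, 4, 4, 2, 4, 4, 5]⟩, ⟨306, [(35, true), (35, true), (35, true),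 (35, false), (35, false)], [1, 6, 4, 3, 2, 4, 4, 4, 6, 4, 6]⟩]))
 (.leaf (.stab 0 [], .gen)))))))
 (.node (.node (.node (.node (.node (.leaf (.edge 3 [6, 9, 3] 10 [], .orbit))
 (.leaf (.edge 4 [3, 6, 4, 3, 5, 4, 6, 0, 10, 3, 6, 10, 3, 6, 9, 3] 5 [6, 6, 4, 3, 5, 4, 8, 6, 0, 10, 3, 5, 8, 9, 5, 4, 3], .loop 12 [3, 6, 4, 3, 5, 4, 6, 0, 10, 3, 6, 10, 3, 6, 9, 3] [⟨237, [(86, true)], [0, 3, 4, 6, 5, 4, 2, 4, 3, 4, 5]⟩, ⟨463, [], [3, 4, 2, 3, 5, 4, 5, 6, 3]⟩, ⟨89, [], [2, 4, 4, 3, 2, 4, 5, 4, 6, 5]⟩, ⟨108, [(241, true), (88, true), (181, true), (33, false), (33, false), (181, false), (88, false)], [1, 4, 4, 6, 4, 3, 2, 5, 5, 4]⟩, ⟨221, [(83, true)], [2, 3, 4, 2, 4, 4, 6, 4, 3, 6, 4]⟩])))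
 (.node (.leaf (.edge 4 [3, 4, 7, 5, 4, 5, 0, 10, 3, 5, 8] 6 [3, 4, 6, 4, 6, 4, 3, 10, 3, 2, 3, 5, 5, 10, 3, 10, 6, 7], .loop 14 [3, 4, 7, 5, 4, 5, 0, 10, 3, 5, 8] [⟨191, [], [6, 4, 2, 6, 4, 3, 4, 5, 6]⟩, ⟨219, [(31, true), (85, true)], [1, 6, 4, 4, 2, 5, 4, 3, 4, 4, 5]⟩, ⟨205, [(31, true), (85, true), (31, false)], [2, 3, 4, 2, 4, 3, 2, 4, 6, 3, 5]⟩, ⟨107, [(83, true), (239, true)], [2, 4, 6, 4, 4, 3, 2, 5, 4, 2, 4, 3]⟩, ⟨61, [(24, true), (24, true), (24, false), (24, false), (24, false)], [4, 2, 6, 4, 4, 2, 3, 5]⟩, ⟨203, [(239, true), (239, true)], [1, 4, 4, 4, 2, 3, 4, 4, 6, 4, 3, 2, 4, 4]⟩]))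
 (.leaf (.stab 0 [], .gen))))
 (.node (.node (.leaf (.edge 8 [4, 3, 6, 6, 4, 3, 2, 3, 2, 4, 3, 5, 4, 7, 10] 8 [8, 6, 4, 3, 6, 2, 3, 4, 6, 10], .loop 11 [4, 3, 6, 6, 4, 3, 2, 3, 2, 4, 3, 5, 4, 7, 10] [⟨14, [], [5, 6, 4, 3, 6, 4]⟩, ⟨53, [(24, false)], [1, 3, 2, 4, 2, 4, 6, 5, 4, 3, 4]⟩]))
 (.leaf (.stab 0 [], .gen)))
 (.node (.leaf (.edge 6 [3, 6, 4, 5, 0, 9, 3, 6] 4 [3, 7, 5, 4, 3, 5, 10, 3, 4, 5, 9, 3, 9, 3, 2], .loop 20 [3, 6, 4, 5, 0, 9, 3, 6] [⟨195, [], [6, 4, 3, 4, 6, 5, 4, 2, 3, 4, 4, 2]⟩, ⟨265, [], [0, 4, 3, 4, 3, 6, 4, 5, 6, 3, 4, 2]⟩, ⟨320, [(31, true), (31, false)], [2, 4, 3, 2, 5, 4, 3, 4, 6, 4, 2]⟩, ⟨185, [(249, true)], [3, 4, 2, 4, 3, 4, 6, 3, 2, 5, 4]⟩, ⟨327, [(35, true), (35, true), (35, true), (35, false), (35, false)],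 [2, 3, 4, 3, 4, 6, 4, 3, 4, 5, 5]⟩]))
 (.leaf (.stab 0 [], .gen)))))
 (.node (.node (.node (.leaf (.edge 6 [3, 9, 3, 4] 4 [3, 5, 4, 5, 4, 5, 0, 9, 3, 9, 5, 4, 3, 6, 7, 10, 6], .loop 4 [3, 9, 3, 4] [⟨12, [], [2, 4, 6, 4, 3, 4, 3, 6, 4, 3, 6, 4, 4]⟩, ⟨41, [(24, true), (24, true), (26, true), (24, false), (24, false), (24, false)], [4, 6, 4, 4, 4, 3, 2, 4, 4, 5, 6, 3]⟩]))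
 (.leaf (.stab 0 [], .gen)))
 (.node (.leaf (.edge 11 [6, 4, 3, 5, 5, 4, 6, 9, 3, 6, 10, 3, 6, 9, 3, 9] 11 [6, 4, 3, 7, 5, 4, 5, 9, 3, 9, 3, 5, 4, 9, 6, 4, 3], .loop 29 [6, 4, 3, 5, 5, 4, 6, 9, 3, 6, 10, 3, 6, 9, 3, 9] [⟨170, [(35, true), (35, true), (35, false)], [1, 2, 4, 3, 2, 4, 2, 4, 3, 4, 3]⟩, ⟨314, [(249, true), (127, true), (127, true), (127, false), (127, false)], [0, 5, 6, 3, 4, 2, 4, 3, 4, 4, 5, 6]⟩]))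
 (.leaf (.stab 0 [], .gen))))
 (.node (.node (.leaf (.edge 5 [4, 8, 5, 4, 6, 2, 3, 2, 4, 3] 4 [5, 4, 3, 7, 5, 4, 6, 9, 3, 2, 3, 10, 5, 5], .loop 26 [4, 8, 5, 4, 6, 2, 3, 2, 4, 3] [⟨188, [(83, true)], [1, 2, 4, 3, 2, 4, 2, 4, 3, 4, 4, 4, 4]⟩, ⟨195, [], [3, 4, 2, 3, 4, 2, 6, 5, 4, 3, 6]⟩]))
 (.leaf (.stab 0 [], .gen)))
 (.node (.leaf (.edge 4 [4, 3, 5, 4, 0, 9, 3, 2] 7 [3, 7, 5, 4, 3, 5, 4, 5, 10, 3, 10, 6, 4, 3, 8, 6, 9, 3, 2], .loop 11 [4, 3, 5, 4, 0, 9, 3, 2] [⟨356, [(86, false)], [0, 4, 3, 4, 2, 4, 4, 3, 4, 4, 2, 4]⟩, ⟨315, [], [1, 4, 4, 2, 3, 4, 2, 4, 4, 3, 4, 2, 4]⟩]))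
 (.leaf (.stab 0 [], .gen))))))
 (.node (.node (.node (.node (.leaf (.edge 9 [3, 5, 9, 3] 4 [5, 4, 3, 6, 4, 3, 8, 0, 10, 3, 2, 4, 3, 6, 10, 5, 5, 4], .loop 1 [3, 5, 9, 3] [⟨15, [], [5, 4, 5, 4, 5]⟩, ⟨41, [(25, true), (26, true), (24, false), (24, false), (24, false)], [1, 2, 6, 4, 2, 4, 3, 4, 3, 4, 2, 6]⟩]))
 (.leaf (.edge 9 [3, 5, 8, 9, 3, 2, 4, 3, 5, 9] 10 [3, 7, 5, 4, 5, 4, 3, 0, 10, 3, 2, 5, 4, 3, 9, 3, 6, 8], .loop 11 [3, 5, 8, 9, 3, 2, 4, 3, 5, 9] [⟨537, [(34, false), (34, false), (87, false), (34, false)], [0, 4, 3, 4, 3, 4, 2, 6, 4, 5, 5]⟩, ⟨190, [], [2, 4, 3, 2, 4, 3, 6, 5, 4, 2, 4, 5]⟩])))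
 (.node (.leaf (.edge 11 [6, 10, 3, 4, 9] 4 [3, 6, 4, 6, 4, 3, 6, 0, 10, 3, 5, 4, 7, 9, 3, 5], .loop 6 [6, 10, 3, 4, 9] [⟨294, [(35, false)], [0, 3, 6, 4, 3, 4, 4]⟩, ⟨224, [(85, true), (31, true), (31, false), (85, false)], [2, 4, 4, 4, 4, 4, 3, 4, 2]⟩]))
 (.leaf (.stab 0 [], .gen))))
 (.node (.node (.leaf (.edge 6 [3, 4, 0, 2, 3, 2, 4, 3] 4 [3, 4, 8, 5, 4, 3, 5, 4, 2, 3, 9, 3, 5, 5, 10, 5, 4, 3, 2], .loop 11 [3, 4, 0, 2, 3, 2, 4, 3] [⟨12, [], [0, 3]⟩, ⟨152, [(24, false), (24, false), (25, false)], [2, 4, 3, 4, 6, 4, 2, 4, 6, 4, 3]⟩]))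
 (.leaf (.stab 0 [], .gen)))
 (.node (.leaf (.edge 4 [3, 4, 6, 4, 5, 8, 9, 3, 6, 6] 11 [4, 3, 5, 4, 3, 5, 4, 8, 0, 10, 3, 6, 9, 5, 4, 3, 6, 10], .loop 11 [3, 4, 6, 4, 5, 8, 9, 3, 6, 6] [⟨390, [(86, false)], [4, 5, 6, 3, 4, 3, 4, 6, 5, 4, 3, 4, 2]⟩, ⟨424, [(32, false), (84, false)], [6, 4, 2, 3, 4, 4, 5, 4, 2]⟩]))
 (.leaf (.stab 0 [], .gen)))))
 (.node (.node (.node (.leaf (.edge 7 [4, 6, 4, 5, 10, 3, 6, 10, 3, 10] 7 [6, 4, 5, 9, 3, 6, 10, 3, 9, 5, 4, 6], .loop 4 [4, 6, 4, 5, 10, 3, 6, 10, 3, 10] [⟨13, [], [0, 6, 4, 2]⟩, ⟨37, [(25, true), (24, true), (25, true)], [4, 3, 5, 6, 4, 4, 6, 3, 4, 4, 4]⟩]))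
 (.leaf (.stab 0 [], .gen)))
 (.node (.leaf (.edge 10 [3, 8, 6, 4, 3, 6, 4, 2, 3, 4, 9, 3, 6, 4, 8, 10, 5] 4 [5, 5, 4, 6, 0, 2, 3, 2, 4, 3, 6, 8, 10, 3, 2], .loop 20 [3, 8, 6, 4, 3, 6, 4, 2, 3, 4, 9, 3, 6, 4, 8, 10, 5] [⟨323, [(249, true), (249, false)], [3, 4, 6, 5, 4, 6, 3, 4, 2, 3, 4]⟩, ⟨343, [(86, true), (86, false)], [3, 4, 2, 3, 5, 4, 5, 6, 4, 4, 3, 4, 2]⟩, ⟨190, [], [1, 3, 5, 5, 4, 2, 4, 2, 3, 4, 6]⟩, ⟨143, [(249, true)], [4, 3, 6, 4, 4, 3, 6, 4, 4, 2, 6, 3]⟩, ⟨229, [(127, false), (249, false)], [0, 4, 4, 4, 2, 4, 3, 4, 6, 4, 4, 4]⟩]))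
 (.leaf (.stab 0 [], .gen))))
 (.node (.node (.leaf (.edge 6 [7, 5, 4, 3, 9] 5 [4, 7, 5, 4, 3, 6, 2, 3, 4, 5, 9, 3, 5, 4, 7, 10], .loop 2 [7, 5, 4, 3, 9] [⟨200, [(85, true), (31, true), (85, false)], [1, 2, 4, 3, 4, 2, 3, 5, 4, 2, 4, 3, 4]⟩, ⟨221, [(83, true)], [0, 2, 5, 4, 3, 4, 2, 4, 3]⟩]))
 (.leaf (.stab 0 [], .gen)))
 (.node (.leaf (.edge 3 [4, 2, 3, 2, 4, 3, 10] 7 [4, 7, 6, 4, 3, 5, 4, 6, 2, 3, 4, 10, 3, 5, 4, 9, 3, 2], .loop 11 [4, 2, 3, 2, 4, 3, 10] [⟨401, [(30, false), (28, false), (30, false), (30, false)], [0, 4, 5, 4, 6, 4, 3, 4, 2, 4, 5, 6]⟩, ⟨478, [], [2, 3, 4, 5, 6, 4, 3, 4, 2, 4, 4, 5, 4]⟩]))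
 (.leaf (.stab 0 [], .gen))))))))

/-- items -/
noncomputable def items1 : ITree (Item × Why) :=
 (.node (.node (.node (.node (.node (.node (.leaf (.edge 1 [3] 2 [], .orbit))
 (.leaf (.edge 7 [7, 6, 4, 3, 0, 10, 3, 2, 4, 3] 10 [3, 7, 5, 4, 3, 6, 4, 9, 3, 2, 3, 5, 4, 8, 9, 6, 4], .loop 11 [7, 6, 4, 3, 0, 10, 3, 2, 4, 3] [⟨484, [], [0, 4, 4, 4, 3, 5, 6, 4, 2, 4, 3, 5]⟩, ⟨348, [], [0, 3, 4, 3, 4, 3, 6, 4, 3, 4, 6, 4]⟩])))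
 (.node (.leaf (.edge 7 [3, 6, 4, 8, 10, 3, 2, 6, 4, 3, 2, 5] 11 [3, 4, 5, 5, 4, 7, 2, 3, 9, 3, 9, 3, 6, 9, 3, 2], .loop 13 [3, 6, 4, 8, 10, 3, 2, 6, 4, 3, 2, 5] [⟨194, [(32, true)], [2, 4, 2, 3, 5, 4, 2, 4, 3, 6, 4]⟩, ⟨247, [(84, true), (32, false), (84, false), (32, false)], [3, 6, 4, 4, 4, 6, 5, 4, 3, 4, 6]⟩, ⟨228, [(31, true), (85, true), (31, true)], [2, 4, 2, 4, 4, 3, 5, 4, 2, 4, 2]⟩]))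
 (.leaf (.stab 0 [], .gen))))
 (.node (.node (.leaf (.edge 10 [5, 5, 4, 3, 2, 3, 2, 4, 3, 10, 3] 10 [5, 5, 4, 10, 3, 2, 3, 6, 9, 3, 5, 9, 3], .loop 15 [5, 5, 4, 3, 2, 3, 2, 4, 3, 10, 3] [⟨16, [], [2, 3, 4, 2, 3, 5, 4, 2, 3, 4, 2, 3, 6, 5]⟩, ⟨132, [(30, true), (126, true), (30, false), (30, false)], [4, 3, 4, 4, 4, 6, 4, 6, 3, 4, 2]⟩]))
 (.leaf (.stab 0 [], .gen)))
 (.node (.leaf (.edge 5 [3, 6, 6, 4, 3, 0, 2, 3, 2, 4, 3, 9, 3] 7 [4, 5, 4, 3, 5, 4, 5, 8, 0, 9, 3, 5, 9, 3, 2, 6, 4, 3, 7], .loop 12 [3, 6, 6, 4, 3, 0, 2, 3, 2, 4, 3, 9, 3] [⟨11, [], [4, 4, 3, 2, 6]⟩, ⟨101, [(26, true), (26, false), (24, false)], [4, 3, 6, 4, 3, 4, 2, 3, 4]⟩, ⟨102, [(25, true), (24, true), (24, true), (25, false), (24, false)], [4, 2, 4, 3, 2, 4, 6,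 4, 3, 4, 4]⟩, ⟨225, [(31, true), (85, true), (31, false), (85, false)], [1, 5, 4, 2, 3, 4, 2, 4, 3, 4, 5, 6, 4]⟩, ⟨325, [(31, true), (31, false), (85, false), (31, false)], [4, 2, 3, 4, 6, 4, 3, 4, 2, 3, 4, 6, 4]⟩]))
 (.leaf (.stab 0 [], .gen)))))
 (.node (.node (.node (.leaf (.edge 11 [4, 3, 2, 3, 2, 4, 5, 8] 3 [2, 3, 4, 10, 3, 2, 4, 5, 8], .loop 0 [4, 3, 2, 3, 2, 4, 5, 8] [⟨17, [], [1, 3, 2, 4, 3, 5, 5]⟩]))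
 (.leaf (.stab 0 [], .gen)))
 (.node (.leaf (.edge 11 [3, 4, 5, 8, 0, 9, 3, 2] 9 [8, 6, 4, 5, 10, 3, 2, 4, 3, 5, 4, 7, 10, 5], .loop 4 [3, 4, 5, 8, 0, 9, 3, 2] [⟨258, [(35, true), (35, true)], [4, 2, 5, 4, 3, 4, 2, 3, 4, 5, 6]⟩, ⟨260, [(32, true)], [2, 4, 3, 4, 3, 2, 5, 4, 2, 4]⟩]))
 (.leaf (.stab 0 [], .gen))))
 (.node (.node (.leaf (.edge 5 [4, 7, 9, 3, 10] 6 [4, 3, 6, 8, 6, 4, 2, 3, 4, 9, 3, 9, 6, 4, 3, 5], .loop 17 [4, 7, 9, 3, 10] [⟨107, [], [0, 5]⟩, ⟨75, [(24, true), (24, false)], [0, 3, 6, 4, 3, 6, 4, 3, 5, 6, 4, 2, 6]⟩, ⟨159, [(24, false), (25, false)], [0, 1, 4, 2, 4, 3, 4, 2, 4, 4, 6]⟩, ⟨115, [(24, true), (26, true), (25, true)], [3, 4, 4, 2, 4, 6, 3, 4, 5]⟩, ⟨155, [(181, true), (88, true), (181, true), (33, false)],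 [0, 6, 4, 4, 6, 4, 3, 4, 5, 6, 4, 6]⟩]))
 (.leaf (.stab 0 [], .gen)))
 (.node (.leaf (.edge 4 [4, 3, 6, 4, 0, 10, 3, 4, 10] 11 [4, 3, 5, 5, 4, 3, 2, 3, 2, 4, 3, 10, 3, 5, 4, 3], .loop 11 [4, 3, 6, 4, 0, 10, 3, 4, 10] [⟨317, [], [2, 4, 6, 4, 4, 6, 4, 3, 4, 2, 3, 4]⟩, ⟨351, [(86, false)], [4, 4, 3, 6, 4, 2, 4, 4, 6, 3, 4, 4]⟩]))
 (.leaf (.stab 0 [], .gen))))))
 (.node (.node (.node (.node (.leaf (.edge 5 [3, 9, 3] 7 [3, 10, 3, 2], .loop 1 [3, 9, 3] [⟨11, [], []⟩, ⟨37, [(25, true)], [4, 2, 3, 4, 2, 3, 4, 4, 3, 2, 4, 5, 5, 4]⟩]))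
 (.leaf (.edge 7 [4, 8, 0, 2, 3, 2, 4, 3, 2, 6] 7 [4, 7, 5, 4, 3, 6, 9, 3, 6, 4, 9, 3, 5, 4], .loop 11 [4, 8, 0, 2, 3, 2, 4, 3, 2, 6] [⟨530, [(32, false), (84, false), (32, false)], [4, 3, 4, 6, 4, 4, 2, 6, 3, 4, 4, 4]⟩, ⟨278, [], [4, 2, 6, 5, 4, 3, 4, 2, 4, 2, 3]⟩])))
 (.node (.leaf (.edge 4 [8, 6, 4, 5, 10, 3, 2, 5, 5] 11 [3, 4, 3, 6, 6, 4, 3, 2, 3, 10, 3, 9, 6, 4, 3, 2], .loop 0 [8, 6, 4, 5, 10, 3, 2, 5, 5] [⟨295, [(86, false)], [4, 4, 3, 6, 4, 6, 3, 4, 4, 2]⟩]))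
 (.leaf (.stab 0 [], .gen))))
 (.node (.node (.leaf (.edge 4 [6, 4, 3, 8, 9, 3, 2] 8 [3, 6, 4, 3, 8, 5, 4, 5, 2, 3, 10, 5, 4, 3, 8, 10, 6, 4], .loop 11 [6, 4, 3, 8, 9, 3, 2] [⟨46, [(86, false)], [0, 3, 4, 4, 6, 4, 4, 3, 6, 4, 2, 4, 6]⟩, ⟨65, [(83, true)], [1, 2, 5, 4, 3, 4, 2, 3, 5, 5, 4, 2, 3]⟩]))
 (.leaf (.stab 0 [], .gen)))
 (.node (.leaf (.edge 11 [6, 4, 3, 0, 9] 7 [6, 6, 4, 3, 6, 4, 7, 6, 2, 3, 10, 3, 10, 3, 4, 6, 9], .loop 20 [6, 4, 3, 0, 9] [⟨145, [(35, true), (35, true)], [0, 4, 6, 5, 4, 3, 4, 2, 4, 4, 6, 4]⟩, ⟨386, [(127, true), (127, true), (249, false)], [0, 2, 6, 5, 4, 2, 4, 6, 3, 5, 4]⟩, ⟨95, [], [1, 4, 2, 4, 3, 4, 3, 4, 2, 4, 6, 5]⟩, ⟨210, [(83, false), (239, false)], [2, 4, 3, 6, 4, 4, 3, 6, 4, 4, 5]⟩, ⟨381, [(239,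 false)], [0, 4, 2, 4, 2, 4, 3, 6, 4, 6, 5]⟩]))
 (.leaf (.stab 0 [], .gen)))))
 (.node (.node (.node (.leaf (.edge 6 [9, 3, 5, 10, 3] 7 [4, 5, 4, 3, 7, 5, 4, 0, 2, 3, 4, 6, 10, 3, 4], .loop 11 [9, 3, 5, 10, 3] [⟨93, [], [3, 4, 4, 2, 3, 4, 6, 4]⟩, ⟨90, [], [3, 4, 4, 6, 4, 5, 4]⟩]))
 (.leaf (.stab 0 [], .gen)))
 (.node (.leaf (.edge 11 [6, 4, 3, 6, 6, 4, 2, 3, 2, 4] 11 [3, 5, 5, 10, 3, 10, 3, 6, 4, 3, 7, 10, 5], .loop 28 [6, 4, 3, 6, 6, 4, 2, 3, 2, 4] [⟨17, [], [2, 5, 4, 2, 4, 3, 5, 5]⟩, ⟨120, [(126, true), (28, true)], [1, 4, 4, 4, 2, 6, 4, 5, 5]⟩, ⟨169, [(250, true), (250, true), (128, true), (128, false), (250, false), (128, false)], [1, 5, 6, 4, 2, 4, 3, 4, 4, 2, 5, 6]⟩, ⟨256, [(35, false), (35, false), (35, false)], [0, 5, 4,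 3, 6, 4, 6, 3, 4, 6, 5]⟩, ⟨304, [(86, false)], [1, 5, 5, 4, 2, 3, 4, 2, 3, 4]⟩]))
 (.leaf (.stab 0 [], .gen))))
 (.node (.node (.leaf (.edge 10 [4, 7, 9, 3, 2, 4, 3, 9] 6 [7, 6, 4, 3, 6, 4, 5, 5, 0, 9, 3, 4, 6, 4, 9, 3, 9], .loop 0 [4, 7, 9, 3, 2, 4, 3, 9] [⟨214, [(127, false)], [1, 4, 2, 4, 3, 4, 3, 4, 6, 4, 6]⟩]))
 (.leaf (.stab 0 [], .gen)))
 (.node (.leaf (.edge 5 [6, 4, 3, 5, 4, 3, 6, 7, 10, 3, 4, 6, 10, 3, 10] 11 [3, 4, 3, 6, 6, 6, 9, 3, 2, 3, 6, 9, 3, 2, 6], .loop 11 [6, 4, 3, 5, 4, 3, 6, 7, 10, 3, 4, 6, 10, 3, 10] [⟨216, [(239, false), (83, false)], [2, 4, 3, 6, 4, 4, 4, 2, 5, 4, 3]⟩, ⟨367, [(86, false)], [4, 3, 4, 2, 3, 4, 6, 4, 3, 4, 3, 2]⟩]))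
 (.leaf (.stab 0 [], .gen)))))))
 (.node (.node (.node (.node (.node (.leaf (.stab 2 [8, 2], .dupF 8 ⟨8, [(22, false), (21, false), (20, true), (21, true), (20, true)], [0, 5, 5]⟩))
 (.leaf (.edge 4 [3, 6, 6, 4, 3, 0, 9] 4 [3, 5, 4, 3, 6, 6, 4, 6, 0, 2, 3, 4, 6, 10], .loop 11 [3, 6, 6, 4, 3, 0, 9] [⟨319, [(86, false)], [3, 5, 4, 2, 3, 5, 6, 4, 6, 5]⟩, ⟨366, [(84, false)], [4, 2, 3, 4, 2, 4, 5, 4, 3, 5, 4, 6]⟩])))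
 (.node (.leaf (.edge 6 [3, 4, 3, 5, 4, 5, 9, 3, 2, 3, 4, 3, 5, 10, 3, 5, 10] 6 [3, 4, 3, 5, 5, 4, 3, 5, 10, 3, 10, 6, 4, 3, 8, 9, 3, 2, 6], .loop 4 [3, 4, 3, 5, 4, 5, 9, 3, 2, 3, 4, 3, 5, 10, 3, 5, 10] [⟨219, [], [6, 4, 2, 3, 5, 4, 3, 4, 6, 3, 4, 4, 3]⟩, ⟨235, [(31, true), (85, true), (31, false), (85, false)], [5, 4, 6, 5, 4, 2, 3, 4, 4, 5]⟩]))
 (.leaf (.stab 0 [], .gen))))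
 (.node (.node (.leaf (.edge 4 [3, 0, 10, 3, 5, 4, 5, 7] 2 [5, 8, 0, 9, 3, 6, 4, 10, 3, 5, 8, 9], .loop 4 [3, 0, 10, 3, 5, 4, 5, 7] [⟨63, [], [1, 4, 3, 4, 2, 4, 2, 3, 5, 5, 4]⟩, ⟨142, [], [1, 4, 2, 5, 4, 3, 4, 2, 3, 5, 4, 5]⟩]))
 (.leaf (.stab 0 [], .gen)))
 (.node (.leaf (.edge 10 [3, 8, 6, 4, 3, 6, 4, 9, 3, 6, 10, 3, 6, 10, 5, 4] 7 [4, 5, 7, 5, 2, 3, 9, 3, 5, 4, 3, 10, 6], .loop 17 [3, 8, 6, 4, 3, 6, 4, 9, 3, 6, 10, 3, 6, 10, 5, 4] [⟨382, [], [4, 3, 6, 4, 2, 4, 4, 6, 3, 4, 2, 4, 6]⟩, ⟨271, [], [1, 4, 4, 3, 5, 4, 5, 6, 4, 2]⟩, ⟨233, [(83, true), (83, false)], [1, 4, 4, 6, 4, 3, 4, 2, 4, 5, 6]⟩, ⟨79, [], [0, 1, 3, 5, 4, 6, 4, 4, 2]⟩, ⟨59, [(83, true), (239, true)], [2, 3, 5, 4, 3, 5, 6, 4, 2, 4, 4, 3]⟩]))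
 (.leaf (.stab 0 [], .gen)))))
 (.node (.node (.node (.leaf (.stab 8 [4, 3, 7, 0, 10, 3, 9], .dupF 62 ⟨62, [(34, true), (87, true), (34, true), (87, false), (34, false)], [1, 3, 5, 5]⟩))
 (.leaf (.stab 0 [], .gen)))
 (.node (.leaf (.edge 11 [0, 9, 3, 4] 7 [6, 4, 3, 5, 4, 10, 3, 4, 9, 6, 4, 6, 10], .loop 11 [0, 9, 3, 4] [⟨337, [], [0, 4, 4, 4, 6, 4, 3, 6, 4, 2, 5]⟩, ⟨334, [], [1, 4, 3, 2, 4, 2, 4, 6, 4, 5, 4]⟩]))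
 (.leaf (.stab 0 [], .gen))))
 (.node (.node (.leaf (.edge 4 [6, 4, 8, 0, 2, 3, 2, 4, 3, 9, 3] 5 [3, 6, 6, 4, 3, 6, 4, 2, 3, 4, 5, 5, 10, 3, 6, 4, 9, 6], .loop 0 [6, 4, 8, 0, 2, 3, 2, 4, 3, 9, 3] [⟨204, [(86, false)], [5, 4, 2, 4, 3, 2, 4, 3, 5]⟩]))
 (.leaf (.stab 0 [], .gen)))
 (.node (.leaf (.edge 4 [5, 7, 5, 10, 3, 2, 3, 4, 3] 4 [3, 4, 5, 4, 3, 10, 3, 4, 5, 8, 10, 5, 4, 3, 8], .loop 11 [5, 7, 5, 10, 3, 2, 3, 4, 3] [⟨289, [], [0, 3, 5, 4, 6, 4, 4, 3, 6, 4, 4]⟩, ⟨391, [(35, false)], [4, 4, 4, 3, 6, 5, 4, 3, 4, 3, 4]⟩]))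
 (.leaf (.stab 0 [], .gen))))))
 (.node (.node (.node (.node (.leaf (.edge 5 [5, 5, 4, 3, 0, 9, 3] 5 [6, 4, 8, 10, 3, 10, 3, 2], .loop 8 [5, 5, 4, 3, 0, 9, 3] [⟨11, [], [2, 3, 4, 2, 3, 5, 4, 2, 3, 4, 2, 6, 5]⟩, ⟨37, [(24, true), (25, true)], [3, 4, 4, 6, 4, 4, 2, 6, 3, 4]⟩, ⟨51, [(32, true)], [2, 3, 5]⟩]))
 (.leaf (.stab 0 [], .gen)))
 (.node (.leaf (.edge 10 [4, 6, 4, 10, 3, 2, 4, 3, 10, 5] 11 [4, 6, 8, 6, 9, 3, 2, 3, 4, 5, 4, 9, 3, 5], .loop 1 [4, 6, 4, 10, 3, 2, 4, 3, 10, 5] [⟨201, [(127, true)], [4, 4, 2, 3, 5, 4, 6, 3, 4, 5, 5]⟩, ⟨295, [(86, true), (86, false)], [1, 4, 4, 3, 5, 4, 2, 4, 3, 2, 5, 4, 6]⟩]))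
 (.leaf (.stab 0 [], .gen))))
 (.node (.node (.leaf (.edge 12 [4, 2, 3, 9, 5, 8] 10 [4, 6, 4, 3, 5, 4, 7, 9, 3, 5, 9, 3, 6], .loop 0 [4, 2, 3, 9, 5, 8] [⟨180, [(36, false)], [3, 4, 3, 4, 6, 4, 4, 4, 6, 5]⟩]))
 (.leaf (.stab 0 [], .gen)))
 (.node (.leaf (.edge 7 [3, 5, 4, 9, 3, 4, 5, 9] 10 [5, 4, 3, 5, 4, 7, 9, 3, 5, 8, 9, 3, 6, 9, 3, 4], .loop 11 [3, 5, 4, 9, 3, 4, 5, 9] [⟨414, [(32, false), (84, false), (32, false)], [0, 4, 3, 4, 5, 6, 4, 3, 4, 5, 5]⟩, ⟨170, [(35, false)], [4, 3, 5, 6, 4, 2, 4, 5, 5]⟩]))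
 (.leaf (.stab 0 [], .gen)))))
 (.node (.node (.node (.leaf (.edge 12 [3, 6, 2, 3] 3 [3, 4, 5, 4, 6, 0, 10, 3, 5, 5], .loop 0 [3, 6, 2, 3] [⟨18, [], [4, 3]⟩]))
 (.leaf (.stab 0 [], .gen)))
 (.node (.leaf (.edge 4 [3, 4, 6, 4, 3, 0, 10, 3, 10, 3, 5, 5, 9, 3] 9 [3, 8, 6, 4, 3, 5, 4, 5, 8, 2, 3, 4, 10, 3, 2, 5], .loop 12 [3, 4, 6, 4, 3, 0, 10, 3, 10, 3, 5, 5, 9, 3] [⟨265, [], [3, 2, 5, 4, 6, 4, 3, 4, 3, 6, 5, 4, 3]⟩, ⟨219, [(31, true), (85, true)], [3, 5, 5, 4, 3, 4, 2, 4, 6, 4, 4]⟩, ⟨238, [(31, true), (85, true), (31, true)], [0, 3, 6, 4, 4, 4, 2, 6]⟩, ⟨215, [(87, true), (34, true), (87, true), (34, true)], [2, 5, 6, 4, 6, 3, 4, 3, 4, 4, 2]⟩, ⟨238, [(85, true), (31, true)], [6, 3, 4, 2, 3, 4, 4, 6, 4, 3, 5]⟩]))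
 (.leaf (.stab 0 [], .gen))))
 (.node (.node (.leaf (.edge 3 [3, 4, 5, 4, 6, 0, 10, 3, 5, 4] 10 [4, 6, 4, 3, 6, 4, 6, 7, 9, 3, 4, 5, 9, 6, 4, 3, 9, 6], .loop 30 [3, 4, 5, 4, 6, 0, 10, 3, 5, 4] [⟨132, [(126, true), (126, true), (29, true), (30, false), (30, false)], [3, 4, 6, 4, 3, 4, 4, 6, 4, 3, 6]⟩, ⟨246, [(127, false)], [0, 5, 4, 3, 4, 6, 3, 4, 3, 4, 4, 2, 5]⟩, ⟨242, [(32, false)], [0, 3, 5, 4, 6, 4, 3, 4, 3, 6, 4, 3, 5]⟩]))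
 (.leaf (.stab 0 [], .gen)))
 (.node (.leaf (.edge 4 [4, 3, 5, 5, 7, 10, 3, 2, 4, 3, 2] 10 [4, 3, 6, 4, 3, 5, 0, 10, 3, 10, 5, 4, 3, 2, 3, 6], .loop 11 [4, 3, 5, 5, 7, 10, 3, 2, 4, 3, 2] [⟨455, [], [0, 4, 3, 4, 2, 4, 4, 6, 3, 4, 4]⟩, ⟨299, [], [3, 6, 4, 4, 6, 4, 2, 3, 4, 6, 5]⟩]))
 (.leaf (.stab 0 [], .gen))))))))

/-- items -/
noncomputable def items2 : ITree (Item × Why) :=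
 (.node (.node (.node (.node (.node (.node (.leaf (.stab 0 [5], .gen))
 (.leaf (.edge 4 [3, 4, 6, 4, 6, 8, 2, 3, 4, 9, 3, 9, 6, 4, 7] 4 [4, 3, 7, 5, 4, 3, 6, 9, 3, 6, 4, 7, 9, 3, 2, 6, 6], .loop 11 [3, 4, 6, 4, 6, 8, 2, 3, 4, 9, 3, 9, 6, 4, 7] [⟨347, [(86, false)], [2, 4, 6, 4, 3, 4, 4, 2, 3, 4, 3, 4]⟩, ⟨439, [], [0, 4, 4, 4, 6, 4, 4, 3, 6, 4, 2, 4, 3, 6]⟩])))
 (.node (.leaf (.edge 9 [5, 5, 4, 6, 9, 3, 2, 3, 6, 4, 3, 2, 7] 7 [4, 6, 4, 8, 10, 3, 2, 3, 5, 10, 3, 6], .loop 34 [5, 5, 4, 6, 9, 3, 2, 3, 6, 4, 3, 2, 7] [⟨15, [], [4, 4, 2, 6, 4, 6, 3, 5]⟩, ⟨152, [(25, true), (24, true), (25, true), (24, false), (24, false), (25, false)], [0, 2, 6, 4, 3, 4, 2, 4, 3, 4, 5, 4, 2]⟩, ⟨46, [(86, true), (86, false)], [2, 3, 4, 4, 5, 4, 6, 4,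 4, 3]⟩, ⟨11, [(239, true)], [4, 4, 3, 4, 2, 4, 3, 6, 4, 2, 6, 3]⟩, ⟨146, [(25, true), (24, true)], [2, 6, 4, 5, 6, 4, 3, 4, 2, 4, 2, 3, 6]⟩, ⟨37, [(25, true), (26, true)], [4, 3, 4, 3, 4, 6, 5, 4, 3, 4, 4]⟩]))
 (.leaf (.stab 0 [], .gen))))
 (.node (.node (.leaf (.edge 10 [3, 0, 2, 3, 4] 3 [6, 4, 3, 0, 2, 3, 4, 10, 3], .loop 0 [3, 0, 2, 3, 4] [⟨16, [], [0]⟩]))
 (.leaf (.stab 0 [], .gen)))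
 (.node (.leaf (.edge 9 [4, 6, 4, 5, 9, 3, 2, 6, 4, 5] 11 [5, 4, 3, 6, 6, 4, 2, 3, 4, 10, 3, 5, 10, 3, 4, 5], .loop 12 [4, 6, 4, 5, 9, 3, 2, 6, 4, 5] [⟨183, [(87, true), (34, true), (34, false), (87, false), (34, false)], [2, 6, 5, 4, 3, 6, 5, 6, 4]⟩, ⟨183, [(87, true), (34, false), (87, false), (34, false)], [3, 4, 6, 5, 4, 3, 4, 3, 6, 4, 3, 5, 4]⟩, ⟨15, [(34, true), (87, true)], [1, 6, 5, 4, 2, 3, 4, 4, 2, 3, 4, 4]⟩, ⟨152, [(24, true), (25, true), (24, false), (24, false), (25, false)], [3, 4, 3, 4, 4, 6, 4, 4, 6, 4, 3, 4]⟩, ⟨351, [(86, true), (86, false)], [6, 3, 2, 4, 6, 4, 3, 4, 5, 5]⟩]))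
 (.leaf (.stab 0 [], .gen)))))
 (.node (.node (.node (.leaf (.edge 4 [4, 5, 4, 9, 3, 6, 9, 3] 5 [4, 7, 5, 2, 3, 9, 3, 5, 4, 8, 10, 6], .loop 1 [4, 5, 4, 9, 3, 6, 9, 3] [⟨10, [], [4, 6, 4, 2]⟩, ⟨61, [(24, false), (24, false), (24, false)], [1, 6, 4, 6, 4, 4, 2, 3, 4, 2, 4, 3, 4]⟩]))
 (.leaf (.stab 0 [], .gen)))
 (.node (.leaf (.edge 4 [3, 4, 5, 5, 4, 6, 10, 3, 2, 6, 6] 4 [3, 4, 3, 7, 6, 9, 3, 6, 10], .loop 4 [3, 4, 5, 5, 4, 6, 10, 3, 2, 6, 6] [⟨304, [(86, false)], [5, 4, 3, 2, 4, 6, 3, 4, 3, 4, 6]⟩, ⟨313, [(35, true), (35, true), (35, true)], [4, 4, 3, 6, 5, 4, 2, 4]⟩]))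
 (.leaf (.stab 0 [], .gen))))
 (.node (.node (.leaf (.edge 12 [5, 8, 10, 3, 4, 10, 5, 8] 12 [3, 5, 4, 3, 6, 4, 6, 0, 9, 3, 6, 4, 6, 7, 9], .loop 0 [5, 8, 10, 3, 4, 10, 5, 8] [⟨187, [(128, false), (128, false)], [6, 4, 3, 4, 2, 4, 3, 4, 6, 5, 4]⟩]))
 (.leaf (.stab 0 [], .gen)))
 (.node (.leaf (.edge 12 [7, 5, 4, 2, 3] 6 [4, 3, 6, 8, 6, 4, 6, 0, 10, 3, 5, 5, 10, 3, 5, 4, 8, 6], .loop 11 [7, 5, 4, 2, 3] [⟨275, [(128, false), (128, false), (250, false)], [4, 4, 6, 4, 2, 3, 4, 5, 6, 4, 2, 3]⟩, ⟨280, [], [2, 3, 6, 4, 3, 4, 4, 3, 2, 4, 2, 5]⟩]))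
 (.leaf (.stab 0 [], .gen))))))
 (.node (.node (.node (.node (.leaf (.stab 12 [4, 3, 6, 4, 2, 3, 2, 4, 3, 6, 4], .dupF 18 ⟨18, [(27, false), (29, true), (29, true)], [2, 4, 2, 4, 3, 2, 4, 2, 4, 4, 4, 3, 4]⟩))
 (.leaf (.edge 4 [5, 5, 4, 6, 6, 10, 3, 2, 6, 4, 7] 10 [4, 3, 6, 4, 6, 4, 7, 9, 3, 5, 4, 7, 9, 5, 5], .loop 11 [5, 5, 4, 6, 6, 10, 3, 2, 6, 4, 7] [⟨329, [(86, false)], [2, 4, 3, 6, 4, 4, 4, 3, 4, 4]⟩, ⟨458, [(86, false)], [0, 6, 4, 3, 4, 2, 4, 3, 4, 5, 4, 6, 5]⟩])))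
 (.node (.leaf (.edge 4 [5, 5, 4, 0, 9, 3, 2, 5] 5 [3, 5, 5, 4, 3, 9, 3, 5, 9, 3, 5, 5, 4], .loop 12 [5, 5, 4, 0, 9, 3, 2, 5] [⟨151, [], [3, 4, 2, 4, 4, 6, 4, 6, 3, 4, 4, 6]⟩, ⟨255, [], [2, 3, 5, 4, 5, 4, 6, 4, 3, 4, 4]⟩, ⟨11, [], [2, 6, 4, 4, 4, 6, 4, 3, 4, 4, 6]⟩, ⟨53, [(24, true), (24, true), (25, true), (24, true), (24, false)], [6, 4, 4, 3, 6, 4, 4, 6, 3, 4, 4, 5]⟩, ⟨108, [(88, true), (33, true), (241, true), (33, false), (33, false), (181, false), (88, false)], [2, 5, 4, 5, 6, 4, 2, 3, 4, 5, 4]⟩]))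
 (.leaf (.stab 0 [], .gen))))
 (.node (.node (.leaf (.edge 10 [3, 0, 9, 3, 4] 12 [7, 5, 4, 3, 6, 0, 10, 3, 4, 5, 4, 8, 9, 6, 4], .loop 4 [3, 0, 9, 3, 4] [⟨16, [], [4, 2, 4, 4, 3, 4, 4, 2, 3, 4, 3, 4, 6]⟩, ⟨120, [(29, true), (27, true)], [5, 6, 4, 4, 3, 2, 5, 4, 3, 4, 4]⟩]))
 (.leaf (.stab 0 [], .gen)))
 (.node (.leaf (.edge 12 [0, 9, 5] 10 [3, 6, 6, 4, 3, 5, 4, 10, 3, 10, 3, 5, 10, 6, 4, 3, 6], .loop 11 [0, 9, 5] [⟨18, [], [0, 6, 4]⟩, ⟨268, [(27, false), (30, false)], [1, 4, 3, 4, 3, 4, 2, 4, 3, 2, 4, 4, 4, 4]⟩]))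
 (.leaf (.stab 0 [], .gen)))))
 (.node (.node (.node (.leaf (.edge 6 [3, 4, 7, 9, 3, 2, 3, 4, 3, 5] 5 [6, 4, 6, 4, 5, 10, 3, 5, 5, 10, 3, 5], .loop 11 [3, 4, 7, 9, 3, 2, 3, 4, 3, 5] [⟨60, [(31, false)], [1, 4, 4, 2, 3, 4, 4, 4, 4]⟩, ⟨43, [], [2, 3, 4, 4, 3, 2, 4, 4, 3, 5]⟩]))
 (.leaf (.stab 0 [], .gen)))
 (.node (.leaf (.edge 4 [6, 4, 10, 3] 4 [3, 6, 4, 3, 6, 4, 7, 9, 3, 6, 8], .loop 17 [6, 4, 10, 3] [⟨10, [], [0, 1, 6, 4, 6, 4, 2]⟩, ⟨159, [(24, true), (24, true), (24, false), (25, false)], [2, 4, 2, 3, 4, 5, 4, 6, 4, 3, 5, 4]⟩, ⟨61, [(26, true), (24, true), (24, true), (24, false), (24, false), (24, false)], [0, 6, 4, 3, 4, 4, 3, 6, 5, 4, 3, 4, 4]⟩, ⟨221, [(239, true)], [4, 3, 4, 3, 6, 4, 2, 4, 2, 5]⟩, ⟨211, [(239, true), (239,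 true), (83, false)], [1, 2, 3, 4, 4, 6, 4, 3, 2, 4, 6, 4]⟩]))
 (.leaf (.stab 0 [], .gen))))
 (.node (.node (.leaf (.edge 11 [7, 0, 10, 3] 6 [3, 4, 3, 5, 8, 5, 0, 9, 3, 6, 10, 3, 10, 3, 6, 6], .loop 28 [7, 0, 10, 3] [⟨17, [], [1, 5, 6]⟩, ⟨166, [(27, true)], [0, 6, 3, 4, 4, 4, 2, 4, 3, 4, 6, 4]⟩, ⟨75, [(26, true), (24, false)], [0, 6, 3, 4, 3, 4, 6, 4, 4, 4, 3, 4]⟩, ⟨102, [(24, true), (25, true), (24, true), (24, true), (25, false), (24, false)], [4, 2, 3, 4, 6, 5, 4, 2, 4, 5]⟩, ⟨207, [(85, true), (31, true), (31, false)], [2, 6, 4, 2, 4, 3, 2, 4, 2, 4, 4]⟩]))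
 (.leaf (.stab 0 [], .gen)))
 (.node (.leaf (.edge 10 [7, 5, 4, 3] 7 [3, 6, 4, 3, 8, 5, 10, 3, 6, 9, 3, 2, 3, 4, 5, 5], .loop 12 [7, 5, 4, 3] [⟨16, [], [5, 4, 2]⟩, ⟨132, [(28, true), (30, false), (30, false)], [1, 5, 4, 3]⟩, ⟨269, [(127, true), (249, false)], [0, 3, 5, 4, 2, 4, 3, 4, 2, 4, 5, 4]⟩, ⟨221, [(83, true)], [0, 6, 3, 5, 4, 2, 4, 3, 4, 3, 5]⟩, ⟨381, [(83, true), (239, true), (239, false)], [1, 4, 4, 4, 3, 4, 6, 4, 4, 2, 3, 4]⟩]))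
 (.leaf (.stab 0 [], .gen)))))))
 (.node (.node (.node (.node (.node (.leaf (.stab 1 [6, 4, 3, 5, 4, 8, 0, 2, 3, 2, 4, 3, 6, 9, 5, 8], .dupF 7 ⟨7, [(2, false), (3, false), (4, false), (4, false), (2, false), (3, false), (2, true), (3, true), (2, true), (4, true), (4, true), (3, true), (2, true)], [4, 4, 3, 4, 6, 4, 4, 4, 2, 3, 4, 3]⟩))
 (.leaf (.edge 5 [8, 6, 4, 2, 3, 2, 4, 3, 2] 4 [3, 5, 4, 6, 6, 4, 9, 3, 2, 3, 9, 5, 4, 6], .loop 11 [8, 6, 4, 2, 3, 2, 4, 3, 2] [⟨522, [], [1, 2, 3, 4, 3, 4, 3, 2, 4, 3]⟩, ⟨463, [], [5, 4, 2, 5, 4, 3, 4, 2]⟩])))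
 (.node (.leaf (.edge 10 [4, 2, 3, 2, 4, 3] 4 [5, 4, 8, 10, 3, 2, 5, 4, 3, 9, 6, 8], .loop 10 [4, 2, 3, 2, 4, 3] [⟨214, [(127, false)], [4, 3, 6, 4, 3, 4, 4, 6, 4, 3, 6]⟩, ⟨224, [(85, true), (31, true), (31, false), (85, false)], [0, 2, 4, 3, 5, 4, 2, 4, 3, 6, 4, 4, 3, 6]⟩]))
 (.leaf (.stab 0 [], .gen))))
 (.node (.node (.leaf (.edge 7 [3, 5, 5, 0, 9, 3, 6, 9, 5, 8] 4 [6, 4, 3, 6, 4, 7, 5, 4, 9, 3, 6, 4, 10, 3, 4, 5, 4, 5], .loop 11 [3, 5, 5, 0, 9, 3, 6, 9, 5, 8] [⟨119, [], [2, 3, 5, 6, 4, 3, 2, 4, 3, 4, 4, 5, 6]⟩, ⟨110, [], [3, 4, 3, 6, 4, 3, 4, 3, 2, 4, 4, 2, 6]⟩]))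
 (.leaf (.stab 0 [], .gen)))
 (.node (.leaf (.edge 9 [5, 4, 8, 0, 9, 3, 4, 10] 5 [4, 5, 4, 3, 6, 4, 5, 7, 10, 3, 4, 5, 10, 6, 4, 7], .loop 17 [5, 4, 8, 0, 9, 3, 4, 10] [⟨215, [(34, true), (87, true)], [2, 6, 3, 4, 2, 4, 2, 3, 4, 2, 4, 4]⟩, ⟨12, [(85, true)], [3, 4, 6, 3, 4, 3, 2, 4, 4, 6, 4, 5]⟩, ⟨61, [(25, true), (24, true), (24, true), (24, true), (24, false), (24, false), (24, false)], [3, 5, 4, 2, 3, 4, 6, 4, 4, 2, 3, 4, 3]⟩, ⟨92, [(83, false), (239, false)], [3, 4, 4, 3, 6, 4, 4, 6, 4, 4, 3, 4]⟩, ⟨392, [(84, false)], [3, 4, 2, 4, 3, 4, 5, 4, 6, 4, 3, 4]⟩]))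
 (.leaf (.stab 0 [], .gen)))))
 (.node (.node (.node (.leaf (.stab 7 [4, 2, 3, 10, 3, 10], .dupF 40 ⟨40, [(83, true)], [0, 3]⟩))
 (.leaf (.stab 0 [], .gen)))
 (.node (.leaf (.edge 6 [5, 9, 3, 4] 4 [3, 5, 5, 4, 3, 7, 5, 4, 10, 3, 6, 9, 3, 2, 3, 5, 7, 10], .loop 4 [5, 9, 3, 4] [⟨195, [], [2, 3, 4, 6, 4, 4, 4, 2, 3, 4, 3, 2]⟩, ⟨266, [(86, true)], [5, 4, 3, 2, 6, 5, 4, 6, 3, 4, 4, 3]⟩]))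
 (.leaf (.stab 0 [], .gen))))
 (.node (.node (.leaf (.edge 9 [6, 4, 3, 7, 6, 4, 0, 10, 3, 5, 4, 9, 3, 5, 5, 10] 6 [3, 4, 5, 4, 3, 7, 0, 9, 3, 5, 9, 5, 5, 4, 3, 6, 9], .loop 10 [6, 4, 3, 7, 6, 4, 0, 10, 3, 5, 4, 9, 3, 5, 5, 10] [⟨183, [(87, true), (34, true), (34, false), (87, false), (34, false)], [0, 4, 2, 6, 4, 4]⟩, ⟨199, [], [5, 4, 2, 4, 3, 4, 2, 5, 4, 5]⟩]))
 (.leaf (.stab 0 [], .gen)))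
 (.node (.leaf (.edge 10 [7, 6, 4, 3, 2] 7 [4, 3, 6, 6, 4, 6, 8, 0, 9, 3, 6, 4, 10, 5, 4, 3, 7], .loop 11 [7, 6, 4, 3, 2] [⟨298, [(249, false)], [3, 4, 2, 4, 3, 4, 2, 3, 4, 4, 3]⟩, ⟨422, [(249, false)], [2, 4, 3, 6, 5, 4, 3, 6, 4, 2, 4, 6]⟩]))
 (.leaf (.stab 0 [], .gen))))))
 (.node (.node (.node (.node (.leaf (.edge 1 [3, 5, 7, 9, 3, 2, 4] 1 [4, 6, 4, 5, 8, 9, 3, 5, 9, 3, 6, 6, 9, 5], .loop 7 [3, 5, 7, 9, 3, 2, 4] [⟨7, [], [5, 4, 2, 3, 4, 4, 2, 3, 4, 2, 3, 4]⟩, ⟨44, [(5, true), (4, true), (2, true), (3, true), (2, true), (1, false)], [1, 3, 4, 4, 5, 6, 4, 3, 2, 4, 4, 5]⟩]))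
 (.leaf (.edge 7 [6, 7, 0, 9, 3, 2, 4, 3, 5, 4, 7, 9] 4 [3, 8, 5, 4, 3, 6, 0, 2, 3, 4, 6, 10, 3, 6], .loop 11 [6, 7, 0, 9, 3, 2, 4, 3, 5, 4, 7, 9] [⟨405, [(84, false), (32, false)], [3, 5, 4, 6, 5, 4, 3, 6, 4, 2, 4, 2]⟩, ⟨237, [], [4, 3, 6, 5, 4, 3, 4, 3, 5, 6]⟩])))
 (.node (.leaf (.edge 4 [6, 8, 6, 4, 2, 3] 10 [3, 5, 5, 4, 9, 3, 2, 3, 9, 6, 4, 6, 8], .loop 3 [6, 8, 6, 4, 2, 3] [⟨265, [(86, true)], [1, 2, 4, 2, 4, 3, 4, 4, 2, 5, 4]⟩, ⟨232, [(31, true), (85, true)], [2, 4, 3, 5, 6, 4, 3, 4, 4, 6, 4, 3]⟩]))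
 (.leaf (.stab 0 [], .gen))))
 (.node (.node (.leaf (.edge 10 [4, 6, 4, 5, 8, 0, 9, 3, 6, 6] 12 [4, 3, 6, 4, 3, 5, 9, 3, 2, 3, 9, 6, 4, 6, 7], .loop 17 [4, 6, 4, 5, 8, 0, 9, 3, 6, 6] [⟨16, [], [0, 6, 4, 2, 5]⟩, ⟨72, [(28, true), (126, true), (126, true), (28, false), (30, false), (28, false)], [0, 4, 3, 4, 2, 4, 5, 4, 6, 4, 4, 3]⟩, ⟨170, [(35, true), (35, true), (35, false)], [0, 3, 6, 4, 3, 6, 4, 3, 5, 6]⟩, ⟨16, [], [1, 4, 5, 4, 6, 4, 3, 4, 2, 4, 4, 3]⟩, ⟨120, [(28, true), (27, true)], [0, 3, 4, 2, 4, 3, 4, 2, 4, 3, 5, 4]⟩]))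
 (.leaf (.stab 0 [], .gen)))
 (.node (.leaf (.edge 4 [4, 5, 4, 8, 6, 0, 9, 3, 4, 5, 4, 6] 5 [3, 5, 5, 4, 3, 5, 4, 9, 3, 5, 9, 3, 4, 6, 7, 9], .loop 11 [4, 5, 4, 8, 6, 0, 9, 3, 4, 5, 4, 6] [⟨316, [], [3, 5, 4, 6, 5, 4, 3, 4, 5, 6, 4, 4, 5]⟩, ⟨231, [], [5, 4, 2, 3, 4, 2, 3, 4, 4, 5]⟩]))
 (.leaf (.stab 0 [], .gen)))))
 (.node (.node (.node (.leaf (.edge 12 [3, 7, 5, 10, 3] 12 [3, 5, 8, 5, 4, 3, 6, 9, 3, 6, 6, 9, 6, 4, 3, 8, 9], .loop 13 [3, 7, 5, 10, 3] [⟨18, [], [2, 4, 3, 4, 3, 2, 5, 4, 3, 4]⟩, ⟨72, [(28, true), (27, true), (28, false), (30, false), (28, false)], [4, 4, 2, 3, 4, 3, 4, 2, 4, 3, 5, 6]⟩, ⟨96, [(35, false)], [2, 4, 3, 6, 5, 4, 2, 4, 3, 5, 4, 2]⟩]))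
 (.leaf (.stab 0 [], .gen)))
 (.node (.leaf (.edge 4 [6, 4, 6, 9, 3, 2] 11 [6, 4, 3, 6, 4, 6, 7, 2, 3, 10, 3, 10, 3, 5, 4], .loop 17 [6, 4, 6, 9, 3, 2] [⟨151, [], [2, 4, 4, 2, 3, 4, 2, 4, 2, 6]⟩, ⟨297, [(86, false)], [0, 2, 5, 4, 3, 4, 6, 4, 3, 4, 4, 3, 5]⟩, ⟨370, [(86, true)], [6, 4, 2, 3, 4, 3, 5, 6, 4, 2, 3]⟩, ⟨324, [], [4, 6, 3, 4, 4, 4, 2, 5, 4, 3]⟩, ⟨301, [], [3, 4, 2, 4, 3, 4, 6, 4, 3, 5, 5, 4]⟩]))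
 (.leaf (.stab 0 [], .gen))))
 (.node (.node (.leaf (.edge 11 [0, 9, 3, 2, 3, 5, 4, 3, 8] 4 [4, 3, 6, 6, 6, 4, 0, 10, 3, 4, 5, 9, 3, 4, 6, 9, 3], .loop 20 [0, 9, 3, 2, 3, 5, 4, 3, 8] [⟨125, [], [0, 1, 3, 4, 4, 2, 4, 4, 6]⟩, ⟨231, [(35, true), (35, true), (35, true)], [4, 2, 6, 5, 4, 3, 6, 4, 4, 4, 5]⟩, ⟨65, [(83, true)], [3, 4, 6, 4, 5, 4, 6, 3, 5, 4, 2]⟩, ⟨144, [(88, true), (33, true), (241, true), (181, false), (88, false)], [1, 3, 4, 6, 4, 3, 4, 3, 2, 4, 3, 4, 4]⟩, ⟨173, [(88, true), (181, true), (88, true), (33, false), (181, false), (241, false)], [1, 4, 4, 2, 3, 4, 4, 5, 6, 4, 3, 4, 6]⟩]))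
 (.leaf (.stab 0 [], .gen)))
 (.node (.leaf (.edge 4 [4, 10, 3, 9] 11 [3, 5, 4, 5, 4, 3, 8, 0, 9, 3, 5, 4, 8, 10, 6, 8], .loop 12 [4, 10, 3, 9] [⟨176, [], [2, 4, 3, 4, 3, 2, 4, 3, 4, 6, 4, 2]⟩, ⟨212, [(31, true), (85, true), (31, false), (85, false), (31, false)], [3, 2, 6, 4, 2, 4, 3, 4, 2]⟩, ⟨90, [], [3, 6, 4, 4, 3, 6, 4, 2, 4, 4, 2, 3]⟩, ⟨402, [(32, false), (84, false)], [4, 3, 5, 6, 4, 6, 3, 4, 4, 6]⟩, ⟨178, [(35, true), (35, false)], [0, 6, 4, 6, 3, 5, 4, 3, 4, 2]⟩]))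
 (.leaf (.stab 0 [], .gen))))))))

/-- items -/
noncomputable def items3 : ITree (Item × Why) :=
 (.node (.node (.node (.node (.node (.node (.leaf (.edge 2 [3, 4, 5, 4, 6, 9, 3, 5] 6 [], .orbit))
 (.leaf (.edge 10 [0, 10, 3, 2, 5, 4, 3] 11 [4, 7, 6, 4, 3, 6, 4, 5, 9, 3, 4, 9, 3, 6, 4, 10, 5, 7], .loop 11 [0, 10, 3, 2, 5, 4, 3] [⟨282, [(249, false)], [0, 6, 3, 4, 3, 4, 2, 4, 5]⟩, ⟨449, [(86, false)], [0, 4, 3, 4, 2, 4, 3, 4, 2, 4, 4, 6, 4]⟩])))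
 (.node (.leaf (.edge 10 [7, 5, 4, 5, 4, 0, 9, 3, 6, 8] 3 [4, 5, 4, 3, 6, 4, 5, 7, 2, 3, 4, 5, 10, 3, 2, 4, 3, 10], .loop 23 [7, 5, 4, 5, 4, 0, 9, 3, 6, 8] [⟨16, [], [0, 4, 6, 4, 4, 2, 5]⟩, ⟨120, [(29, true), (28, true)], [0, 2, 6, 4, 4, 6, 4, 3, 6]⟩, ⟨18, [(250, true), (250, true)], [3, 6, 4, 4, 2, 4, 3, 5]⟩, ⟨132, [(126, true), (30, false), (30, false)], [2, 5, 4, 2, 4, 3, 6, 5, 4, 3]⟩, ⟨248, [], [0, 5, 6, 4, 2, 4, 3, 4, 2, 4, 4, 5]⟩]))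
 (.leaf (.stab 0 [], .gen))))
 (.node (.node (.leaf (.edge 7 [3, 7, 6, 9, 3, 6, 10, 6, 8] 4 [7, 5, 4, 3, 5, 4, 9, 3, 4, 6, 6, 9, 3, 6], .loop 11 [3, 7, 6, 9, 3, 6, 10, 6, 8] [⟨69, [(84, false), (32, false)], [4, 4, 4, 2, 4, 4, 4, 3, 4, 2, 4]⟩, ⟨63, [], [3, 4, 2, 4, 3, 2, 4, 5, 4, 6, 4]⟩]))
 (.leaf (.stab 0 [], .gen)))
 (.node (.leaf (.edge 4 [4, 7, 6, 4, 5, 0, 9, 3, 5, 4, 10] 4 [8, 6, 4, 3, 6, 4, 5, 0, 10, 3, 10, 3, 5, 4, 5, 4, 10], .loop 11 [4, 7, 6, 4, 5, 0, 9, 3, 5, 4, 10] [⟨368, [], [6, 3, 4, 2, 4, 4, 3, 2, 4, 3]⟩, ⟨386, [(249, false)], [3, 4, 2, 3, 4, 4, 6, 4, 3, 5, 4, 5]⟩]))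
 (.leaf (.stab 0 [], .gen)))))
 (.node (.node (.node (.leaf (.edge 9 [3, 5, 4, 7, 0, 9, 3, 2, 4, 3, 2] 5 [7, 6, 4, 3, 5, 7, 10, 3, 5, 9, 3, 9, 3, 6, 9], .loop 3 [3, 5, 4, 7, 0, 9, 3, 2, 4, 3, 2] [⟨15, [], [6, 3, 5, 4, 3, 4, 6, 4, 3, 4, 4, 4]⟩, ⟨61, [(25, true), (26, true), (24, true), (24, true), (24, true), (24, true), (24, false), (24, false), (24, false)], [3, 2, 6, 4, 3, 4, 6, 4, 3, 4, 4, 2]⟩]))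
 (.leaf (.stab 0 [], .gen)))
 (.node (.leaf (.edge 12 [8, 5, 4, 3, 5, 4, 5, 8, 10, 3, 4, 10, 5, 4, 3, 6, 9, 3] 9 [6, 4, 3, 6, 4, 5, 5, 2, 3, 10, 3, 6, 4, 3, 5, 9], .loop 11 [8, 5, 4, 3, 5, 4, 5, 8, 10, 3, 4, 10, 5, 4, 3, 6, 9, 3] [⟨288, [(36, false), (128, false), (250, false)], [2, 4, 3, 4, 4, 6, 4, 6, 3, 4, 4, 6]⟩, ⟨202, [], [0, 1, 6, 4, 2, 4, 4]⟩]))
 (.leaf (.stab 0 [], .gen))))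
 (.node (.node (.leaf (.edge 5 [5, 5, 5, 9, 3, 6, 8] 4 [3, 5, 4, 3, 6, 4, 5, 5, 0, 9, 3, 4, 6, 10, 5, 4, 8], .loop 22 [5, 5, 5, 9, 3, 6, 8] [⟨203, [(83, true)], [4, 3, 4, 4, 2, 4, 4, 4, 3, 4, 4, 6]⟩, ⟨195, [(85, true), (31, true)], [3, 6, 4, 6, 4, 3, 4, 2, 4, 3, 6, 4, 6]⟩]))
 (.leaf (.stab 0 [], .gen)))
 (.node (.leaf (.edge 9 [4, 6, 4, 5, 10, 3] 11 [3, 5, 5, 4, 3, 6, 6, 4, 9, 3, 6, 10, 3, 5, 5, 4, 3, 2, 3], .loop 12 [4, 6, 4, 5, 10, 3] [⟨15, [], [6, 4, 2, 6, 4, 6, 4, 6]⟩, ⟨102, [(25, true), (25, false), (24, false)], [3, 6, 4, 6, 3, 4, 2, 3, 4, 3, 2, 4]⟩, ⟨226, [(31, true), (85, true), (31, true), (31, false), (85, false)], [2, 4, 6, 3, 4, 2, 4, 3, 5, 4, 5]⟩, ⟨81, [(31, true), (85, true), (85, false)], [2, 3, 4, 2, 4, 6, 3, 4,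 3, 5, 5, 4]⟩, ⟨289, [(86, true)], [4, 6, 3, 4, 5, 5, 4, 3, 2, 4]⟩]))
 (.leaf (.stab 0 [], .gen))))))
 (.node (.node (.node (.node (.leaf (.edge 1 [3, 7, 0, 2, 3, 4] 0 [4, 3, 8, 0, 2, 3, 4, 10, 3], .loop 0 [3, 7, 0, 2, 3, 4] [⟨7, [], [0, 5]⟩]))
 (.leaf (.edge 7 [5, 4, 9, 3, 5, 4] 6 [6, 4, 3, 6, 6, 4, 5, 7, 9, 3, 6, 4, 7, 9, 3, 5, 5], .loop 11 [5, 4, 9, 3, 5, 4] [⟨408, [(84, false), (32, false)], [2, 4, 3, 6, 4, 3, 5, 6, 4, 2, 6, 5]⟩, ⟨245, [(127, false), (127, false)], [3, 2, 4, 2, 4, 4, 6, 4, 3, 4, 2, 5]⟩])))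
 (.node (.leaf (.edge 11 [3, 10, 3, 2, 5, 4, 3, 8] 6 [6, 4, 3, 6, 7, 9, 3, 6, 6, 9, 3, 6, 6, 4, 9], .loop 12 [3, 10, 3, 2, 5, 4, 3, 8] [⟨253, [(35, false)], [3, 2, 6, 4, 3, 4, 5, 5]⟩, ⟨13, [(32, true), (84, true)], [0, 3, 4, 4, 3, 6, 5, 4, 6, 3]⟩, ⟨159, [(25, true), (24, false), (25, false)], [2, 4, 3, 5, 4, 5, 4]⟩, ⟨61, [(25, true), (24, true), (24, true), (24, true), (24, false), (24, false), (24, false)], [0, 4, 2, 4, 3, 4, 3, 5, 6, 4, 3, 6]⟩, ⟨240, [(239, true), (83, false), (239, false)], [0, 4, 2, 4, 2, 4, 3, 5, 4, 2, 4, 3]⟩]))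
 (.leaf (.stab 0 [], .gen))))
 (.node (.node (.leaf (.edge 10 [3, 6, 4, 0, 2, 3, 2, 4, 3, 5, 10] 10 [4, 7, 6, 10, 3, 2, 3, 5, 4, 7, 6, 9, 5], .loop 11 [3, 6, 4, 0, 2, 3, 2, 4, 3, 5, 10] [⟨16, [], [1, 4, 3, 4, 6]⟩, ⟨132, [(30, false), (30, false)], [3, 6, 4, 2, 3, 4, 4, 3, 6, 4, 5, 4]⟩]))
 (.leaf (.stab 0 [], .gen)))
 (.node (.leaf (.edge 4 [5, 5, 7, 9, 3, 2, 4, 3] 6 [5, 4, 3, 6, 6, 4, 5, 0, 2, 3, 9, 3, 2, 3, 6, 4], .loop 11 [5, 5, 7, 9, 3, 2, 4, 3] [⟨227, [], [2, 3, 4, 5, 6, 4, 3, 4, 3, 2]⟩, ⟨240, [(239, true), (83, true), (83, false), (239, false)], [1, 4, 3, 5, 4, 2, 4, 2, 3, 4, 3, 2, 4]⟩]))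
 (.leaf (.stab 0 [], .gen)))))
 (.node (.node (.node (.leaf (.edge 5 [7, 5, 4, 3, 6, 4, 3, 9, 3, 4, 9, 3, 5, 10] 8 [5, 5, 4, 3, 5, 4, 5, 8, 0, 9, 3, 9, 5, 4, 3, 2, 6, 4, 7], .loop 4 [7, 5, 4, 3, 6, 4, 3, 9, 3, 4, 9, 3, 5, 10] [⟨56, [], [1, 4, 4, 2, 5, 4, 5, 6, 4, 3, 2]⟩, ⟨65, [], [2, 6, 5, 4, 2, 3, 4, 3, 6, 4, 5, 6]⟩]))
 (.leaf (.stab 0 [], .gen)))
 (.node (.leaf (.edge 4 [7, 6, 10, 3, 9] 4 [3, 5, 4, 5, 4, 3, 6, 2, 3, 4, 6, 10, 3, 4, 10, 3, 4], .loop 23 [7, 6, 10, 3, 9] [⟨121, [(86, true), (86, false)], [0, 6, 3]⟩, ⟨188, [(83, true), (239, true), (239, false), (239, false)], [4, 3, 2, 4, 3, 4, 6, 4, 3, 4, 6, 3]⟩, ⟨207, [(31, true), (85, true), (31, true), (31, false)], [2, 3, 4, 3, 2, 4, 5, 4, 6, 4, 6, 3]⟩, ⟨320, [(31, true), (85,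 true), (31, false)], [4, 5, 4, 6, 4, 3, 4, 4, 4]⟩, ⟨323, [(249, true), (127, true), (127, true), (249, false)], [5, 6, 4, 3, 4, 2, 4, 3, 4, 4, 2, 5]⟩]))
 (.leaf (.stab 0 [], .gen))))
 (.node (.node (.leaf (.edge 5 [7, 6, 4, 3, 5, 4, 6, 0, 10, 3, 2, 5, 4, 3, 2] 5 [4, 5, 4, 8, 10, 3, 10, 3, 5, 8, 10, 3, 4, 5], .loop 10 [7, 6, 4, 3, 5, 4, 6, 0, 10, 3, 2, 5, 4, 3, 2] [⟨203, [(83, true)], [6, 4, 3, 2, 4, 4, 4, 6, 4, 3, 4, 3]⟩, ⟨205, [(31, true), (31, false)], [6, 5, 4, 2, 4, 4, 2, 3, 4, 6]⟩]))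
 (.leaf (.stab 0 [], .gen)))
 (.node (.leaf (.edge 4 [4, 5, 4, 9, 3, 6, 4, 7, 9] 4 [4, 5, 4, 3, 7, 5, 4, 2, 3, 9, 3, 6, 4, 7, 10, 3, 5, 4], .loop 12 [4, 5, 4, 9, 3, 6, 4, 7, 9] [⟨358, [(86, false)], [0, 4, 3, 4, 4, 6, 4, 3, 4, 3, 5, 6]⟩, ⟨477, [(35, true), (35, true), (35, true), (35, false), (35, false)], [3, 4, 2, 3, 5, 4, 3, 2, 4, 6, 3, 5]⟩, ⟨283, [(32, true)], [3, 4, 2, 3, 4, 4, 6, 4, 3, 6, 4, 5]⟩, ⟨136, [(249, true), (127, false)], [1, 4, 2, 4, 3, 2, 4, 6, 4, 4, 3, 4, 5]⟩, ⟨308, [(127, true)], [3, 5, 4, 3, 4, 6, 4, 3, 4, 4, 3, 6]⟩]))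
 (.leaf (.stab 0 [], .gen)))))))
 (.node (.node (.node (.node (.node (.leaf (.stab 3 [4, 3, 8, 6, 4, 2, 3, 2, 4, 3, 2, 6, 4, 7], .dupF 9 ⟨9, [(21, false), (22, false), (22, false), (20, false), (22, true), (23, true), (20, true), (23, true)], [4, 2, 3, 4, 4, 2, 3, 4, 4, 3, 2, 4, 4]⟩))
 (.leaf (.edge 11 [6, 4, 5, 5, 10, 3, 5, 4, 9] 5 [4, 3, 7, 6, 4, 5, 9, 3, 5, 5, 10, 3, 9, 5, 8], .loop 11 [6, 4, 5, 5, 10, 3, 5, 4, 9] [⟨312, [(35, false), (35, false), (35, false)], [3, 2, 5, 4, 3, 6, 5, 4, 6, 3, 4, 5, 5]⟩, ⟨491, [], [4, 2, 4, 3, 4, 6, 5, 4, 3, 6, 5, 6]⟩])))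
 (.node (.leaf (.edge 6 [3, 4, 8, 9, 3, 4] 9 [3, 5, 5, 4, 3, 7, 10, 3, 2, 3, 5, 8, 10, 3, 6, 10], .loop 11 [3, 4, 8, 9, 3, 4] [⟨235, [(31, false), (85, false)], [2, 4, 6, 3, 4, 2, 4, 3, 4, 2, 4, 2]⟩, ⟨212, [(31, false), (85, false), (31, false)], [0, 4, 5, 4, 3, 5, 6, 4, 6, 3, 4, 6]⟩]))
 (.leaf (.stab 0 [], .gen))))
 (.node (.node (.leaf (.edge 3 [3, 6, 6, 4, 0, 9, 3, 2, 4, 3] 3 [7, 6, 4, 3, 6, 8, 9, 3, 5, 9, 3, 9, 3, 6, 4, 8], .loop 4 [3, 6, 6, 4, 0, 9, 3, 2, 4, 3] [⟨9, [], [0, 4, 4, 3, 6]⟩, ⟨99, [(20, true), (21, true), (21, false), (22, false)], [1, 4, 3, 4, 4, 2, 5, 4, 3, 4, 4, 3]⟩]))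
 (.leaf (.stab 0 [], .gen)))
 (.node (.leaf (.edge 9 [6, 8, 0, 2, 3, 9, 3, 9, 3] 12 [3, 4, 3, 5, 4, 3, 6, 4, 5, 2, 3, 10, 3, 2, 3, 6, 10, 3, 9], .loop 11 [6, 8, 0, 2, 3, 9, 3, 9, 3] [⟨199, [], [2, 4, 3, 6, 4, 2, 4, 2, 3, 4, 6, 5]⟩, ⟨310, [], [4, 3, 2, 5, 4, 2, 4, 3, 4, 6, 4, 4, 2]⟩]))
 (.leaf (.stab 0 [], .gen)))))
 (.node (.node (.node (.leaf (.edge 7 [3, 5, 4, 0, 10, 3, 2, 3, 4, 3] 5 [5, 5, 4, 3, 0, 9, 3, 4, 6, 4, 6, 9, 5], .loop 11 [3, 5, 4, 0, 10, 3, 2, 3, 4, 3] [⟨51, [], [6, 4, 3, 4, 2, 3, 4, 6, 3, 5, 4]⟩, ⟨56, [], [0, 4, 2, 4, 3, 4, 2, 4, 4, 2, 6, 4]⟩]))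
 (.leaf (.stab 0 [], .gen)))
 (.node (.leaf (.edge 10 [7, 6, 4, 0, 2, 3] 10 [3, 5, 4, 3, 6, 4, 5, 8, 2, 3, 2, 4, 3, 5, 4, 5, 5], .loop 17 [7, 6, 4, 0, 2, 3] [⟨16, [], [0, 1, 4, 4, 4, 2, 5]⟩, ⟨132, [(29, true), (29, true), (30, false), (30, false)], [0, 4, 3, 4, 2, 4, 3, 4, 4, 4, 2, 5, 4]⟩, ⟨192, [(127, true), (127, false), (249, false)], [1, 3, 4, 2, 4, 3, 4, 3, 5, 5]⟩, ⟨211, [(83, false)], [5, 4, 3, 5, 4, 2, 6, 4, 6, 4, 6]⟩, ⟨276, [(86, false)], [4, 2, 3, 5, 4, 3, 4, 4, 2, 5, 4]⟩]))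
 (.leaf (.stab 0 [], .gen))))
 (.node (.node (.leaf (.edge 5 [4, 5, 4, 6, 0, 9, 3, 9, 5] 4 [7, 6, 4, 3, 6, 4, 5, 9, 3, 2, 4, 3, 5, 4, 8, 10], .loop 21 [4, 5, 4, 6, 0, 9, 3, 9, 5] [⟨59, [], [5, 4, 3, 6, 4, 2, 6, 4, 6, 4]⟩, ⟨13, [(84, true)], [3, 4, 4, 3, 2, 4, 3, 4, 4, 4]⟩, ⟨102, [(25, true), (26, true), (25, false), (24, false)], [3, 2, 4, 6, 3, 4, 5, 6, 4, 4]⟩, ⟨212, [(85, true), (31, false), (85, false), (31, false)], [2, 3, 5, 6, 4, 2, 4, 3, 4, 5, 4]⟩, ⟨215, [(34, true), (34, true), (34, true), (34, true), (34, true)], [3, 5, 4, 3, 4, 2, 3, 4, 3, 4, 4]⟩, ⟨195, [(85, true)], [5, 4, 6, 5, 4, 3, 4, 6, 4, 2, 6]⟩]))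
 (.leaf (.stab 0 [], .gen)))
 (.node (.leaf (.edge 4 [3, 5, 5, 4, 5, 9, 3, 5, 5, 9] 7 [3, 6, 4, 3, 5, 4, 7, 6, 0, 10, 3, 5, 4, 9, 3, 5, 4, 5, 8], .loop 11 [3, 5, 5, 4, 5, 9, 3, 5, 5, 9] [⟨407, [], [2, 5, 6, 4, 2, 4, 3, 2]⟩, ⟨444, [(86, false)], [2, 3, 4, 2, 4, 2, 6, 3, 4]⟩]))
 (.leaf (.stab 0 [], .gen))))))
 (.node (.node (.node (.node (.leaf (.edge 4 [3, 6, 6, 4, 6, 8, 0, 10, 3, 2, 6, 4, 3, 8, 6] 6 [4, 3, 5, 4, 6, 6, 4, 0, 10, 3, 9, 5, 4, 3, 5, 9, 5], .loop 9 [3, 6, 6, 4, 6, 8, 0, 10, 3, 2, 6, 4, 3, 8, 6] [⟨57, [], [0, 4, 6, 3, 5, 4, 2, 4, 3, 4, 5, 4]⟩, ⟨42, [], [6, 4, 4, 3, 6, 4, 4, 6, 4, 2, 3, 4]⟩]))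
 (.leaf (.stab 0 [], .gen)))
 (.node (.leaf (.edge 11 [3, 4, 3, 2, 3, 9, 5] 4 [6, 4, 6, 9, 3, 2, 3, 6, 4, 10, 3, 5, 9], .loop 12 [3, 4, 3, 2, 3, 9, 5] [⟨261, [], [1, 4, 5, 5, 4, 2, 3, 4, 2, 3, 4, 4, 5]⟩, ⟨174, [(83, false), (239, false)], [2, 3, 4, 5, 4, 6, 3, 5, 4, 2]⟩, ⟨108, [(241, true), (33, false), (33, false), (181, false), (88, false)], [3, 6, 5, 4, 2, 6, 3, 5]⟩, ⟨65, [(239, true), (83, true)], [0, 4, 3, 6, 4, 2, 4, 3, 4, 6, 5, 4, 2]⟩, ⟨168, [(33, true), (241, true), (88, true), (241, true), (181, false), (88, false)], [2, 3, 4, 3, 5, 6, 4, 3, 6, 5, 4, 2]⟩]))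
 (.leaf (.stab 0 [], .gen))))
 (.node (.node (.leaf (.edge 6 [3, 5, 4, 3, 0, 2, 3, 10, 3, 10, 3, 4] 5 [5, 8, 5, 4, 5, 0, 9, 3, 2, 3, 5, 4, 3, 6, 8], .loop 20 [3, 5, 4, 3, 0, 2, 3, 10, 3, 10, 3, 4] [⟨12, [(31, true), (85, true)], [6, 5, 4, 3, 4, 6, 5, 4, 6, 3]⟩, ⟨75, [(24, false)], [0, 2, 6, 4, 4, 3, 4, 5, 4]⟩, ⟨154, [(26, false)], [0, 3, 4, 3, 6, 4, 3, 4, 6, 4, 3, 4, 2]⟩, ⟨75, [(24, true), (24, true), (25, true), (24, false)], [3, 4, 3, 6, 4, 6, 3, 5, 4, 2, 3, 4]⟩, ⟨61, [(24, true), (25, true), (24, true), (24, false), (24, false), (24, false)], [0, 3, 5, 4, 6, 5, 4, 3]⟩]))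
 (.leaf (.stab 0 [], .gen)))
 (.node (.leaf (.edge 7 [6, 4, 8, 9, 3] 4 [3, 6, 4, 3, 6, 4, 8, 0, 9, 3, 5, 5, 10, 3, 4, 5, 5, 9], .loop 12 [6, 4, 8, 9, 3] [⟨13, [], [5, 4, 5, 4, 2, 6]⟩, ⟨41, [(24, true), (24, true), (24, false), (24, false), (24, false)], [4, 2, 3, 5, 4, 6, 3, 5, 4]⟩, ⟨351, [(86, false)], [4, 3, 4, 6, 3, 4, 3, 2, 5, 4]⟩, ⟨243, [(35, true), (35, false), (35, false)], [3, 4, 4, 4, 4, 2, 4, 3]⟩, ⟨151, [], [0, 4, 2, 5, 4, 3, 4, 3, 6, 4, 6, 5]⟩]))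
 (.leaf (.stab 0 [], .gen)))))
 (.node (.node (.node (.leaf (.stab 1 [3, 4, 7, 2, 3, 4, 10, 3, 4, 10], .loop 14 [3, 4, 0, 9, 3, 2, 3, 4, 3] [⟨7, [], [2, 4, 2, 4, 4, 3, 4, 4, 2, 3, 4, 3, 4]⟩, ⟨44, [(2, true), (3, true), (1, false)], [6, 5]⟩, ⟨55, [(23, true), (19, true), (19, false)], [5, 4, 3, 4, 3, 2, 5, 4, 3, 4, 3]⟩, ⟨75, [(25, true), (26, true), (24, false)], [5]⟩, ⟨8, [], [5]⟩, ⟨7, [], [5]⟩, ⟨44, [(2, true), (1, false)], [3, 4, 6, 4, 3, 4, 3, 6, 4, 6, 3, 4, 4]⟩]))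
 (.leaf (.stab 0 [], .gen)))
 (.node (.leaf (.edge 7 [5, 4, 8, 2, 3] 11 [7, 6, 4, 3, 5, 4, 5, 4, 9, 3, 6, 8, 10, 3, 6], .loop 28 [5, 4, 8, 2, 3] [⟨13, [], [1, 4, 2, 5, 5]⟩, ⟨41, [(25, true), (24, true), (24, true), (25, true), (24, false), (24, false), (24, false)], [2, 4, 3, 2, 6, 5, 4, 3, 6, 4, 4, 3]⟩, ⟨339, [(86, true)], [5, 4, 6, 5, 4, 3, 6, 4, 2, 4, 4, 5]⟩, ⟨243, [(35, true), (35, true), (35, false), (35, false)], [3, 4, 4, 5, 6, 4, 6, 3, 4, 6]⟩, ⟨351, [(86, false)], [0, 1, 4, 3, 4, 6, 4, 2, 4, 2]⟩]))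
 (.leaf (.stab 0 [], .gen))))
 (.node (.node (.leaf (.edge 12 [7, 5, 4, 3] 6 [3, 4, 3, 5, 5, 7, 10, 3, 6, 10, 3, 6, 9], .loop 12 [7, 5, 4, 3] [⟨18, [], [5, 4, 2]⟩, ⟨132, [(29, true), (29, true), (28, true), (30, false), (30, false)], [2, 4, 2, 3, 4, 5, 6, 3, 4, 6, 4]⟩, ⟨192, [(249, true), (127, true), (127, true), (127, false), (249, false)], [1, 2, 4, 4, 4, 6, 4, 3, 4, 3, 4]⟩, ⟨78, [(83, true), (239, false), (83, false)], [2, 4, 4, 4, 3, 5, 6, 4, 4, 3]⟩, ⟨188, [(239, true), (239, false), (239, false)], [2, 4, 2, 3, 4, 2, 3, 4, 3, 2, 4, 3, 6]⟩]))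
 (.leaf (.stab 0 [], .gen)))
 (.node (.leaf (.edge 9 [6, 4, 5, 5, 9, 3, 9, 6, 4, 7] 4 [5, 5, 4, 3, 7, 5, 2, 3, 9, 3, 5, 4, 8, 10, 6, 4, 3], .loop 11 [6, 4, 5, 5, 9, 3, 9, 6, 4, 7] [⟨384, [(87, false)], [2, 5, 4, 3, 4, 2, 4, 6, 3, 4, 2, 6]⟩, ⟨364, [(86, false)], [3, 4, 5, 4, 2, 5, 4, 3, 4, 3, 2, 5]⟩]))
 (.leaf (.stab 0 [], .gen))))))))

/-- items -/
noncomputable def items4 : ITree (Item × Why) :=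
 (.node (.node (.node (.node (.node (.node (.leaf (.stab 0 [3], .gen))
 (.leaf (.edge 11 [3, 4, 8, 5, 4, 6, 9, 3, 2, 5] 6 [3, 4, 6, 4, 3, 5, 4, 6, 10, 3, 10, 3, 9, 5, 4, 3, 7], .loop 12 [3, 4, 8, 5, 4, 6, 9, 3, 2, 5] [⟨231, [], [0, 4, 4, 6, 4, 4, 4, 3, 4]⟩, ⟨65, [], [2, 4, 2, 4, 3, 4, 5, 4, 6, 4, 3, 6]⟩, ⟨153, [(88, true), (241, true), (181, true), (88, true), (88, false), (181, false)], [6, 4, 4, 3, 6, 4, 2, 4, 4, 5, 6]⟩, ⟨41, [(24, true), (24, false), (24, false), (24, false)], [4, 2, 4, 3, 4, 3, 4, 6, 4, 3, 4, 3]⟩, ⟨377, [], [0, 4, 2, 4, 3, 5, 4, 2, 4, 6, 3, 4, 4]⟩])))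
 (.node (.leaf (.edge 7 [3, 5, 4, 7, 10, 3, 5, 5, 10] 11 [3, 6, 4, 3, 6, 4, 2, 3, 4, 5, 9, 3, 4, 10, 5, 4], .loop 3 [3, 5, 4, 7, 10, 3, 5, 5, 10] [⟨247, [(84, true), (32, true), (32, false), (84, false), (32, false)], [2, 5, 4, 3, 4, 2, 3, 5, 4, 3, 4, 3, 6]⟩, ⟨228, [(31, true), (85, true), (31, true)], [3, 4, 4, 5, 4, 2, 3, 4, 4, 4, 6]⟩]))
 (.leaf (.stab 0 [], .gen))))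
 (.node (.node (.leaf (.edge 2 [] 2 [3, 2, 3], .loop 11 [] [⟨8, [], []⟩, ⟨55, [(19, false)], [2, 4, 5, 4, 5]⟩]))
 (.leaf (.stab 0 [], .gen)))
 (.node (.leaf (.edge 4 [3, 4, 5, 5, 7, 0, 10, 3, 2, 4, 5, 4, 3, 8, 5, 4] 10 [4, 3, 7, 5, 4, 3, 5, 0, 10, 3, 2, 4, 3, 10, 5, 4, 7], .loop 17 [3, 4, 5, 5, 7, 0, 10, 3, 2, 4, 5, 4, 3, 8, 5, 4] [⟨276, [(86, true), (86, false)], [2, 5, 6, 4, 2, 3, 4, 4, 4, 6, 5]⟩, ⟨318, [(127, true)], [4, 2, 4, 2, 6, 3, 4, 4, 6, 4]⟩, ⟨232, [(85, true), (31, true)], [1, 3, 4, 4, 2, 6, 5, 4]⟩, ⟨263, [(127, true), (127, false)], [0, 3, 4, 3, 4, 6, 4, 3, 4, 5, 4, 6, 5]⟩, ⟨143, [(249, true), (127, true)], [2, 3, 4, 6, 3, 4, 3, 2, 5, 5]⟩]))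
 (.leaf (.stab 0 [], .gen)))))
 (.node (.node (.node (.leaf (.edge 6 [6, 6, 6, 4, 3, 2, 3, 2, 4, 3, 6, 10, 3, 2, 5, 4] 6 [3, 6, 6, 4, 3, 6, 4, 6, 7, 0, 10, 3, 5, 4, 5, 5, 10, 3, 6, 10], .loop 8 [6, 6, 6, 4, 3, 2, 3, 2, 4, 3, 6, 10, 3, 2, 5, 4] [⟨60, [(31, true), (31, false)], [1, 3, 4, 3, 4, 2, 4, 5, 4, 5]⟩, ⟨57, [], [4, 5, 6, 4, 6, 3, 4, 4, 6, 4, 2, 4]⟩, ⟨38, [], [3, 4, 3, 4, 3, 6, 4, 3, 6, 4, 5, 6]⟩]))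
 (.leaf (.stab 0 [], .gen)))
 (.node (.leaf (.edge 4 [7, 6, 4, 5, 0, 9, 3, 2, 5, 5] 10 [3, 5, 5, 4, 3, 5, 4, 7, 0, 2, 3, 4, 5, 9, 3, 6, 4, 5, 8], .loop 4 [7, 6, 4, 5, 0, 9, 3, 2, 5, 5] [⟨286, [(86, false)], [5, 4, 3, 4, 4, 6, 4, 6, 3, 4, 4]⟩, ⟨276, [(86, false)], [6, 4, 3, 5, 6, 4, 6, 3, 4, 6, 5]⟩]))
 (.leaf (.stab 0 [], .gen))))
 (.node (.node (.leaf (.edge 7 [3, 6, 6, 4, 0, 2, 3, 2, 4] 7 [3, 8, 6, 4, 0, 2, 3, 4, 6], .loop 12 [3, 6, 6, 4, 0, 2, 3, 2, 4] [⟨13, [], [0, 4, 4, 3]⟩, ⟨75, [(24, true), (24, false)], [4, 6, 3, 4, 4, 2, 3, 4, 2, 3, 4, 4]⟩, ⟨159, [(24, false), (25, false)], [0, 2, 4, 3, 5, 4, 6, 4, 4]⟩, ⟨75, [(24, false)], [6, 4, 3, 4, 4, 6, 3, 5, 4, 3]⟩, ⟨37, [(24, true)], [4, 6, 4, 2, 6, 4, 4, 3, 4, 2]⟩]))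
 (.leaf (.stab 0 [], .gen)))
 (.node (.leaf (.edge 4 [6, 4, 3, 7, 10, 3, 4, 6, 10, 3, 9] 10 [6, 4, 6, 4, 3, 7, 0, 9, 3, 4, 5, 4, 9, 3, 5, 9, 5, 4], .loop 12 [6, 4, 3, 7, 10, 3, 4, 6, 10, 3, 9] [⟨43, [], [2, 3, 4, 6, 4, 6]⟩, ⟨211, [(239, true), (83, true), (83, false)], [0, 4, 2, 5, 4, 3, 4, 3, 4, 2, 4, 6, 5]⟩, ⟨95, [], [4, 2, 6, 4, 4, 6, 4, 4]⟩, ⟨68, [(83, true), (239, false)], [4, 2, 4, 2, 4, 6, 3, 4, 4, 3]⟩, ⟨276, [(86, true), (86, false)], [2, 4, 2, 4, 4, 3, 6, 4, 2, 5, 5, 4]⟩]))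
 (.leaf (.stab 0 [], .gen))))))
 (.node (.node (.node (.node (.leaf (.stab 9 [3, 4, 8, 0, 2, 3, 2, 4, 3], .dupF 15 ⟨15, [(24, true)], [4, 2, 3, 4, 2, 3, 4, 4, 2, 3, 4, 5, 5, 4]⟩))
 (.leaf (.edge 6 [7, 5, 10, 3, 2] 7 [6, 6, 4, 3, 6, 4, 5, 8, 9, 3, 4, 9, 5, 4, 3, 8, 9, 3], .loop 11 [7, 5, 10, 3, 2] [⟨228, [], [6, 4, 4, 3, 4, 2, 4, 3, 2, 4]⟩, ⟨264, [], [3, 5, 4, 2, 4, 5, 6, 3]⟩])))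
 (.node (.leaf (.edge 4 [4, 7, 5, 4, 10, 3, 2, 4, 5, 5] 4 [8, 5, 4, 3, 5, 4, 5, 2, 3, 4, 9, 3, 5, 8, 9, 3], .loop 0 [4, 7, 5, 4, 10, 3, 2, 4, 5, 5] [⟨266, [], [4, 3, 4, 3, 6, 4, 3, 4, 6, 5]⟩]))
 (.leaf (.stab 0 [], .gen))))
 (.node (.node (.leaf (.edge 12 [3, 0, 9, 3, 2, 4] 10 [5, 4, 3, 6, 7, 2, 3, 4, 5, 9, 3, 6, 7, 10, 3, 2], .loop 4 [3, 0, 9, 3, 2, 4] [⟨18, [], [1, 2, 6]⟩, ⟨132, [(126, true), (28, true), (30, false), (30, false)], [3, 6, 4, 6, 3, 4, 2, 4, 2, 3, 4, 3]⟩]))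
 (.leaf (.stab 0 [], .gen)))
 (.node (.leaf (.edge 10 [7, 6, 4, 0, 10, 3, 5] 11 [5, 4, 3, 7, 5, 4, 9, 3, 2, 4, 3, 6, 4, 9, 6, 6], .loop 32 [7, 6, 4, 0, 10, 3, 5] [⟨16, [], [1, 2, 5, 6, 4, 2, 6]⟩, ⟨166, [(126, true), (29, true)], [3, 6, 5, 4, 3, 4, 3, 2, 5, 6]⟩, ⟨82, [(24, true), (25, true), (25, false), (24, false)], [4, 2, 4, 3, 4, 2, 4, 4, 3, 6, 4]⟩, ⟨188, [(239, true), (239, false), (239, false)], [4, 2, 4, 3, 4, 2, 3, 4, 4, 3, 2, 6]⟩, ⟨300, [(31, true), (31, false), (85, false)], [2, 4, 4, 5, 6, 4, 3, 4, 3, 2, 4, 3, 5]⟩]))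
 (.leaf (.stab 0 [], .gen)))))
 (.node (.node (.node (.leaf (.edge 8 [3, 6, 4, 9, 3, 2, 4, 3, 5] 4 [6, 4, 3, 10, 3, 4, 10, 5], .loop 2 [3, 6, 4, 9, 3, 2, 4, 3, 5] [⟨62, [], [2, 3, 5, 6, 4, 6, 3, 5, 4, 2, 4, 4, 3]⟩, ⟨97, [(87, true), (34, true), (34, true), (87, false), (34, false)], [1, 4, 3, 2, 4, 3, 4, 2, 4, 4, 4, 6]⟩]))
 (.leaf (.stab 0 [], .gen)))
 (.node (.leaf (.edge 12 [6, 4, 3, 5, 4, 3, 6, 4, 2, 3, 2, 4, 3, 2] 10 [6, 4, 3, 5, 4, 5, 7, 0, 10, 3, 4, 5, 9, 3, 5, 8, 10, 3], .loop 0 [6, 4, 3, 5, 4, 3, 6, 4, 2, 3, 2, 4, 3, 2] [⟨305, [(128, false), (250, false), (128, false), (128, false)], [3, 4, 5, 6, 4, 4, 3, 6, 4]⟩]))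
 (.leaf (.stab 0 [], .gen))))
 (.node (.node (.leaf (.edge 6 [4, 3] 6 [3, 4, 3, 5, 4, 3, 5, 10, 3, 2, 3, 6, 9, 3, 5, 9], .loop 4 [4, 3] [⟨193, [(31, false), (85, false), (31, false)], [4, 3, 2, 4, 2, 4, 3, 6, 4, 2, 5]⟩, ⟨215, [(87, true), (34, true)], [4, 2, 3, 5, 4, 2, 3, 4, 3, 2, 5, 4]⟩]))
 (.leaf (.stab 0 [], .gen)))
 (.node (.leaf (.edge 11 [3, 5, 4, 8, 0, 9, 3, 2, 5, 5] 10 [4, 3, 6, 6, 4, 5, 7, 10, 3, 10, 3, 6, 10, 5], .loop 11 [3, 5, 4, 8, 0, 9, 3, 2, 5, 5] [⟨372, [(35, false), (35, false)], [1, 2, 4, 6, 5, 4, 2, 4, 4, 3, 4, 4]⟩, ⟨213, [(86, false)], [2, 5, 4, 3, 4, 4, 2, 3, 4, 6]⟩]))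
 (.leaf (.stab 0 [], .gen)))))))
 (.node (.node (.node (.node (.node (.leaf (.edge 3 [3, 4, 5, 4, 6, 9, 3, 5] 12 [], .orbit))
 (.leaf (.edge 11 [3, 9, 3, 5] 7 [3, 4, 5, 4, 3, 6, 4, 3, 10, 3, 5, 9, 5, 4, 3, 7, 10, 5], .loop 12 [3, 9, 3, 5] [⟨293, [], [0, 4, 3, 6, 4, 2, 4, 3, 4, 4, 4, 2]⟩, ⟨98, [], [0, 2, 6, 4, 4, 3, 4, 6, 5, 4, 3, 4]⟩, ⟨155, [(88, true), (33, true), (241, true), (33, false)], [0, 4, 3, 4, 4, 6, 4, 5, 5]⟩, ⟨200, [(85, false)], [0, 1, 6, 5, 4]⟩, ⟨381, [(83, true), (239, false)], [1, 2, 3, 4, 3, 4, 2, 3, 4, 3]⟩])))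
 (.node (.leaf (.edge 11 [5, 8, 0, 2, 3, 2, 4, 3] 4 [4, 3, 5, 4, 8, 5, 10, 3, 5, 5, 9, 3, 5, 8, 10], .loop 0 [5, 8, 0, 2, 3, 2, 4, 3] [⟨256, [(35, false), (35, false), (35, false)], [2, 5, 4, 6, 4, 4, 2, 3, 5, 4, 6]⟩]))
 (.leaf (.stab 0 [], .gen))))
 (.node (.node (.leaf (.edge 2 [6, 4, 3, 0, 2, 3, 10, 3, 10, 3, 4] 2 [4, 7, 6, 4, 3, 6, 4, 2, 3, 10, 3, 4, 5, 5, 9, 3, 5, 4], .loop 3 [6, 4, 3, 0, 2, 3, 10, 3, 10, 3, 4] [⟨8, [], [5, 4, 5, 4, 2, 3, 5]⟩, ⟨55, [(124, true), (22, true), (124, true), (20, true), (19, false)], [6, 4, 3, 4, 2, 5, 5, 4, 3, 4, 3]⟩]))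
 (.leaf (.stab 0 [], .gen)))
 (.node (.leaf (.edge 11 [3, 6, 4, 9, 3] 7 [3, 7, 6, 4, 3, 5, 4, 7, 9, 3, 9, 3, 10, 3, 5, 4, 8], .loop 12 [3, 6, 4, 9, 3] [⟨293, [], [0, 1, 5, 4, 2, 4, 4, 3, 5, 4, 2, 4, 3, 5]⟩, ⟨346, [(86, true)], [0, 4, 2, 4, 6, 3, 5, 4, 2, 4, 2, 4]⟩, ⟨339, [], [0, 2, 4, 6, 3, 4, 3, 4, 4, 6, 4, 3, 5]⟩, ⟨327, [(35, true), (35, true), (35, true), (35, false), (35, false)], [4, 2, 3, 4, 5, 6, 4, 3, 4, 4, 5, 6]⟩, ⟨365, [], [3, 5, 4, 2, 4, 6, 5, 6]⟩]))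
 (.leaf (.stab 0 [], .gen)))))
 (.node (.node (.node (.leaf (.edge 5 [3, 4, 7, 0, 9, 3, 2, 4, 3] 2 [5, 7, 5, 0, 2, 3, 9, 3, 9, 3], .loop 3 [3, 4, 7, 0, 9, 3, 2, 4, 3] [⟨11, [], [0, 3, 5, 6]⟩, ⟨75, [(24, false)], [2, 3, 4, 2, 3, 5, 4, 2, 3, 4, 6, 3]⟩]))
 (.leaf (.stab 0 [], .gen)))
 (.node (.leaf (.edge 4 [3, 5, 4, 10, 3] 11 [3, 5, 4, 3, 6, 4, 7, 10, 3, 2, 4, 3, 2, 5, 5], .loop 11 [3, 5, 4, 10, 3] [⟨204, [(86, false)], [1, 5, 4, 2, 4, 2, 3, 4, 2, 3]⟩, ⟨257, [(83, true), (239, true), (239, false), (239, false)], [0, 4, 4, 6, 4, 3, 4, 6, 5]⟩]))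
 (.leaf (.stab 0 [], .gen))))
 (.node (.node (.leaf (.edge 5 [3, 6, 6, 4, 5, 0, 9, 3, 6] 5 [3, 4, 3, 6, 4, 7, 6, 9, 3, 5, 4, 8, 10, 3, 4, 6, 10, 3], .loop 4 [3, 6, 6, 4, 5, 0, 9, 3, 6] [⟨188, [(83, true)], [3, 4, 3, 6, 4, 6, 4, 4, 2, 3, 6]⟩, ⟨200, [(31, true), (85, true), (85, false)], [0, 4, 4, 4, 2, 4, 4, 4, 4, 3, 4, 2]⟩]))
 (.leaf (.stab 0 [], .gen)))
 (.node (.leaf (.edge 7 [3, 5, 5, 4, 3, 0, 10, 3, 5, 10] 12 [5, 4, 3, 7, 5, 4, 3, 5, 9, 3, 2, 4, 3, 5, 4, 5, 5, 9], .loop 12 [3, 5, 5, 4, 3, 0, 10, 3, 5, 10] [⟨437, [(32, true), (32, false), (84, false)], [2, 6, 4, 3, 2, 4, 4, 6, 3, 4, 6, 5]⟩, ⟨136, [(127, false)], [3, 6, 4, 6, 3, 5, 4, 6, 5]⟩, ⟨447, [(249, true), (127, true), (127, true)], [4, 3, 4, 2, 3, 4, 6, 4, 4, 3, 6, 4]⟩,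 ⟨442, [(32, true), (84, true), (32, false), (84, false), (32, false)], [3, 2, 4, 3, 4, 2, 4, 6, 4, 6]⟩, ⟨452, [], [2, 6, 4, 3, 4, 4, 4, 2]⟩]))
 (.leaf (.stab 0 [], .gen))))))
 (.node (.node (.node (.node (.leaf (.edge 4 [5, 5, 4, 3, 9, 3, 9] 5 [5, 5, 5, 4, 3, 2, 3, 9, 3, 10, 3, 10], .loop 5 [5, 5, 4, 3, 9, 3, 9] [⟨10, [], [0, 3, 4, 3, 6, 4, 6, 3, 4, 6, 4, 4, 6]⟩, ⟨41, [(24, false), (24, false), (24, false)], [4, 2, 3, 4, 2, 3, 5, 5, 4]⟩, ⟨46, [], [4, 4, 2, 4, 6, 3, 4, 4, 6, 4, 2]⟩]))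
 (.leaf (.edge 7 [5, 4, 5, 4, 0, 10, 3, 2, 4, 3, 10] 4 [3, 4, 3, 7, 6, 4, 9, 3, 4, 9, 3, 5, 5, 9], .loop 11 [5, 4, 5, 4, 0, 10, 3, 2, 4, 3, 10] [⟨437, [(32, false), (84, false)], [3, 4, 6, 3, 4, 4, 2, 6, 4]⟩, ⟨450, [(127, false)], [2, 3, 4, 4, 3, 5, 4, 2, 4, 3, 6, 5, 4]⟩])))
 (.node (.leaf (.edge 11 [4, 5, 5, 4, 7, 2, 3, 10, 3, 5, 4, 3, 6, 4, 9] 11 [3, 5, 4, 3, 5, 5, 4, 3, 9, 3, 6, 4, 9, 3, 5, 4, 8, 10, 5], .loop 1 [4, 5, 5, 4, 7, 2, 3, 10, 3, 5, 4, 3, 6, 4, 9] [⟨256, [(35, true), (35, true), (35, true), (35, false), (35, false), (35, false)], [1, 6, 5, 4, 2, 3, 4, 4, 3, 2, 5, 4]⟩, ⟨244, [(86, true)], [4, 2, 4, 4, 2, 6, 4, 3, 4, 6, 4]⟩]))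
 (.leaf (.stab 0 [], .gen))))
 (.node (.node (.leaf (.edge 11 [3, 6, 6, 4, 5, 7, 0, 9, 3, 2, 3, 6, 4, 3, 2, 7] 11 [3, 4, 6, 4, 3, 5, 8, 0, 10, 3, 5, 4, 5, 4, 10, 3, 4, 9], .loop 4 [3, 6, 6, 4, 5, 7, 0, 9, 3, 2, 3, 6, 4, 3, 2, 7] [⟨94, [(35, true)], [2, 4, 2, 5, 5, 4, 3, 4, 2, 4, 3, 4, 5]⟩, ⟨165, [(128, true)], [1, 4, 4, 2, 3, 4, 6, 4, 4, 4, 3, 4]⟩]))
 (.leaf (.stab 0 [], .gen)))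
 (.node (.leaf (.edge 11 [3, 7, 6, 4, 5, 8, 0, 10, 3, 5, 4, 7] 5 [4, 6, 4, 3, 0, 10, 3, 4, 6, 4, 10, 5, 4, 3, 10], .loop 17 [3, 7, 6, 4, 5, 8, 0, 10, 3, 5, 4, 7] [⟨403, [], [1, 2, 5, 4, 2, 4, 2, 3, 4, 5]⟩, ⟨243, [(35, false), (35, false)], [3, 4, 3, 2, 6, 5]⟩, ⟨379, [(86, true)], [1, 4, 3, 4, 2, 3, 4, 3, 2, 5, 5, 4, 2]⟩, ⟨235, [(31, true), (85, true), (31, false), (85, false)], [4, 4, 4, 2, 3, 4, 6, 3, 4]⟩, ⟨150, [(85, true), (85, false), (31, false)], [4, 3, 4, 2, 4, 3, 4, 4, 4, 5, 6]⟩]))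
 (.leaf (.stab 0 [], .gen)))))
 (.node (.node (.node (.leaf (.edge 6 [3, 5, 7, 5, 10, 3, 2, 4, 6, 4, 6, 4] 6 [6, 6, 4, 3, 6, 7, 10, 3, 2, 4, 3, 5, 5, 9, 3, 6], .loop 11 [3, 5, 7, 5, 10, 3, 2, 4, 6, 4, 6, 4] [⟨74, [], [2, 5, 4, 3, 4, 4, 3, 2, 4, 6, 3]⟩, ⟨42, [], [2, 6, 5, 4, 2, 3, 6, 4, 4, 6]⟩]))
 (.leaf (.stab 0 [], .gen)))
 (.node (.leaf (.edge 4 [5, 4, 10, 3, 4, 5, 10] 4 [3, 8, 6, 4, 3, 6, 4, 6, 8, 10, 3, 2, 6, 4, 3, 9, 6, 7], .loop 1 [5, 4, 10, 3, 4, 5, 10] [⟨204, [(86, true), (86, false)], [3, 4, 6, 5, 4, 3, 4, 3, 2, 4, 4, 5]⟩, ⟨349, [(239, true), (83, true)], [1, 5, 4, 3, 2, 4, 3, 4, 2, 4, 3, 4]⟩]))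
 (.leaf (.stab 0 [], .gen))))
 (.node (.node (.leaf (.edge 10 [3, 4, 6, 4, 5, 0, 10, 3, 6, 4, 7, 9] 7 [4, 5, 7, 5, 9, 3, 2, 3, 5, 8, 9, 3], .loop 12 [3, 4, 6, 4, 5, 0, 10, 3, 6, 4, 7, 9] [⟨136, [(127, true), (127, false)], [6, 4, 3, 6, 5, 4, 3, 4, 4, 6, 4, 3, 5]⟩, ⟨214, [(127, true), (127, true), (127, false)], [1, 6, 4, 2, 4, 3, 5, 5, 4]⟩, ⟨195, [(31, true), (85, true)], [4, 3, 2, 4, 2, 4, 4, 4, 3, 4, 2, 4]⟩, ⟨10, [], [0, 1, 6, 4, 2, 4, 4, 3, 5]⟩, ⟨37, [(25, true), (24, true), (24, true)], [2, 4, 3, 2, 4, 3, 6, 4, 4, 6, 3, 4]⟩]))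
 (.leaf (.stab 0 [], .gen)))
 (.node (.leaf (.edge 4 [3, 4, 5, 4, 3, 9, 3, 6, 9, 3, 2, 6, 4, 7] 4 [3, 8, 5, 4, 3, 5, 4, 6, 9, 3, 5, 5, 10, 3, 9, 3, 6, 10], .loop 11 [3, 4, 5, 4, 3, 9, 3, 6, 9, 3, 2, 6, 4, 7] [⟨301, [], [3, 4, 6, 5, 4, 3, 4, 4, 2, 5, 6]⟩, ⟨470, [], [3, 4, 6, 4, 3, 4, 6, 3, 4, 2, 6, 5, 4]⟩]))
 (.leaf (.stab 0 [], .gen))))))))

/-- items -/
noncomputable def items5 : ITree (Item × Why) :=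
 (.node (.node (.node (.node (.node (.node (.leaf (.edge 2 [5, 9, 3] 4 [], .orbit))
 (.leaf (.edge 4 [4, 3, 6, 4, 3, 7, 0, 2] 5 [4, 3, 5, 5, 4, 5, 2, 3, 2, 4, 3, 6, 4, 8], .loop 17 [4, 3, 6, 4, 3, 7, 0, 2] [⟨362, [(86, true)], [4, 4, 3, 5, 6, 4, 3, 6, 4, 3, 6, 5]⟩, ⟨151, [], [4, 2, 3, 4, 4, 6, 4, 6, 3, 4, 5, 6]⟩, ⟨319, [(86, false)], [0, 3, 4, 6, 4, 4, 2, 6, 4, 3, 4, 4, 5]⟩, ⟨342, [(84, true), (32, true), (84, false), (32, false)], [0, 2, 4, 3, 6, 4, 2, 4, 4, 3, 4, 5, 6]⟩, ⟨208, [], [6, 4, 2, 4, 4, 3, 5, 4, 6, 5]⟩])))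
 (.node (.leaf (.edge 4 [7, 6, 0, 9, 3, 2, 4, 3, 5, 4, 8] 4 [6, 4, 3, 5, 4, 3, 6, 7, 0, 9, 3, 2, 6, 4, 5, 8], .loop 1 [7, 6, 0, 9, 3, 2, 4, 3, 5, 4, 8] [⟨189, [(86, true), (86, false)], [2, 6, 4, 3, 2, 4, 2, 4, 4, 3, 4, 2, 4]⟩, ⟨233, [(239, true), (239, true), (83, false)], [1, 4, 3, 4, 3, 4, 6, 4, 3, 4, 4, 2]⟩]))
 (.leaf (.stab 0 [], .gen))))
 (.node (.node (.leaf (.edge 6 [3, 6, 9, 3, 4] 5 [4, 5, 5, 0, 9, 3, 5, 9, 3, 6, 6, 10, 5], .loop 4 [3, 6, 9, 3, 4] [⟨12, [], [0, 3, 6, 4, 3, 6, 4, 3, 6, 4, 4, 2, 6]⟩, ⟨61, [(25, true), (26, true), (25, true), (24, false), (24, false), (24, false)], [3, 6, 4, 2, 5, 6, 3, 4, 6, 4]⟩]))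
 (.leaf (.stab 0 [], .gen)))
 (.node (.leaf (.edge 6 [6, 4, 5, 5, 10, 3, 2, 5, 5] 4 [3, 4, 3, 6, 4, 3, 7, 5, 4, 2, 3, 4, 6, 10, 3, 4, 10, 6, 8], .loop 17 [6, 4, 5, 5, 10, 3, 2, 5, 5] [⟨81, [(85, false)], [0, 1, 3, 4, 4, 6, 4, 4, 3, 5]⟩, ⟨289, [], [3, 6, 4, 3, 4, 2, 4, 6, 4, 4, 6]⟩, ⟨264, [(35, true), (35, true)], [3, 6, 4, 2, 4, 3, 4, 2, 4, 6, 5]⟩, ⟨366, [(32, true), (84, true), (84, false)], [3, 4, 5, 4, 6, 4, 3, 4, 3, 4, 6]⟩, ⟨309, [(86, true), (86, false)], [5, 4, 3, 5, 4, 2, 4, 2, 3, 5, 4, 6, 3]⟩]))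
 (.leaf (.stab 0 [], .gen)))))
 (.node (.node (.node (.leaf (.edge 7 [5, 9, 3, 5, 9, 3, 5] 6 [8, 5, 4, 9, 3, 9, 3, 5, 4, 8, 9], .loop 4 [5, 9, 3, 5, 9, 3, 5] [⟨58, [(32, true), (32, false)], [4, 5, 4, 3, 6, 5, 4, 2, 4, 3, 2]⟩, ⟨71, [], [1, 4, 5, 6, 4, 3, 4, 2, 4, 4, 6, 4]⟩]))
 (.leaf (.stab 0 [], .gen)))
 (.node (.leaf (.edge 11 [3, 6, 6, 9, 3, 2, 4, 3, 5] 6 [5, 4, 3, 5, 4, 6, 7, 9, 3, 9, 3, 9, 5, 4, 6], .loop 28 [3, 6, 6, 9, 3, 2, 4, 3, 5] [⟨94, [], [0, 3, 4, 4, 6, 3, 4, 3, 4, 4, 6]⟩, ⟨164, [(128, true), (250, true), (128, true), (36, false), (250, false)], [3, 4, 6, 5, 4, 2, 3, 4, 5, 4, 5]⟩, ⟨172, [(249, true)], [5, 4, 3, 4, 4, 6, 4, 5]⟩, ⟨318, [(127, true), (127, true)], [3, 2, 4, 3, 4, 5, 4, 6, 4, 3, 4, 5]⟩, ⟨207, [(85, true),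 (31, false)], [2, 3, 5, 4, 3, 5, 6, 4, 6, 3, 5]⟩]))
 (.leaf (.stab 0 [], .gen))))
 (.node (.node (.leaf (.edge 9 [3, 5, 4, 3, 8, 0, 9, 3, 2, 4, 5] 6 [5, 5, 4, 5, 5, 2, 3, 4, 5, 10, 3, 5, 4, 6, 8], .loop 0 [3, 5, 4, 3, 8, 0, 9, 3, 2, 4, 5] [⟨199, [], [5, 4, 3, 2, 4, 3, 4, 6, 3, 4, 6]⟩]))
 (.leaf (.stab 0 [], .gen)))
 (.node (.leaf (.edge 10 [3, 5, 4, 9, 3, 9] 4 [4, 6, 4, 3, 5, 4, 7, 9, 3, 4, 6, 4, 10, 5, 7], .loop 12 [3, 5, 4, 9, 3, 9] [⟨318, [(127, true), (127, true)], [2, 4, 6, 4, 3, 4, 3, 4, 2, 4, 3]⟩, ⟨228, [(31, true), (85, true)], [0, 2, 4, 4, 6, 4, 3, 4, 2, 4, 4, 4, 3]⟩, ⟨388, [(35, false), (35, false)], [0, 5, 4, 6, 3, 4, 5, 4]⟩, ⟨328, [(87, true), (34, true), (34, true), (34, true), (34, true), (34, false), (34, false),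 (34, false), (34, false)], [0, 3, 6, 4, 3, 6, 4, 3, 4, 5, 6]⟩, ⟨439, [(35, true), (35, true), (35, true)], [2, 3, 5, 4, 6, 3, 4, 3, 4, 5, 6, 4]⟩]))
 (.leaf (.stab 0 [], .gen))))))
 (.node (.node (.node (.node (.leaf (.edge 6 [3, 5, 5, 10, 3, 9] 7 [4, 7, 6, 4, 6, 0, 9, 3, 5, 9, 3, 6, 7, 9, 5], .loop 3 [3, 5, 5, 10, 3, 9] [⟨12, [], [1, 4, 2, 3, 4, 4, 2, 3, 4, 2, 3, 4]⟩, ⟨37, [(25, true), (26, true)], [2, 3, 5, 4, 2, 4, 3, 5, 6]⟩]))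
 (.leaf (.edge 11 [0, 9, 3, 10, 6, 4, 3, 9] 7 [3, 7, 5, 4, 3, 5, 4, 2, 3, 4, 5, 10, 3, 2, 3, 5], .loop 11 [0, 9, 3, 10, 6, 4, 3, 9] [⟨327, [(35, false), (35, false)], [6, 5, 4, 3, 6, 4, 4, 3, 2, 4, 3]⟩, ⟨550, [], [2, 4, 3, 4, 3, 6, 5, 4, 2, 3, 4]⟩])))
 (.node (.leaf (.edge 10 [3, 7, 6, 4, 6, 7, 0, 2, 3, 4, 5, 4] 10 [7, 6, 4, 6, 7, 9, 3, 6, 6, 9, 3, 5, 5, 9, 3], .loop 4 [3, 7, 6, 4, 6, 7, 0, 2, 3, 4, 5, 4] [⟨246, [(249, true), (127, true), (127, true), (127, false)], [0, 1, 4, 2, 4, 3, 4, 2, 4, 6, 5, 4]⟩, ⟨242, [(32, true), (84, true), (32, false)], [3, 6, 5, 4, 2, 4, 3, 5, 6, 4, 3]⟩]))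
 (.leaf (.stab 0 [], .gen))))
 (.node (.node (.leaf (.edge 10 [6, 6, 4, 0, 9, 3] 11 [4, 6, 6, 4, 10, 3, 2, 3, 6, 6, 10, 3, 6, 8], .loop 16 [6, 6, 4, 0, 9, 3] [⟨16, [], [0, 4, 5, 4, 2, 6, 5]⟩, ⟨166, [(30, true), (29, true)], [2, 4, 5, 6, 4, 6, 3, 5, 4, 2, 3]⟩, ⟨41, [(26, true), (24, true), (24, false), (24, false), (24, false)], [3, 4, 4, 2, 3, 4, 3, 2, 5, 4, 6, 5]⟩, ⟨142, [], [4, 2, 3, 4, 5, 4, 5, 6, 3, 4, 6]⟩, ⟨73, [(24, true), (24, true), (26, false)], [2, 4, 3, 6, 4, 2, 3, 4, 3, 2, 4, 6, 3]⟩, ⟨72, [(126, true), (28, true), (126, true), (30, true), (28, false), (30, false), (28, false)], [6, 4, 4, 6, 4, 2, 3, 4, 6, 4, 4, 2, 3]⟩]))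
 (.leaf (.stab 0 [], .gen)))
 (.node (.leaf (.edge 11 [4, 8, 5, 4, 6, 0, 10, 3, 2, 6, 4, 3, 7, 10] 5 [6, 4, 7, 5, 4, 0, 10, 3, 5, 9, 3, 5, 4, 5, 10, 3, 5], .loop 12 [4, 8, 5, 4, 6, 0, 10, 3, 2, 6, 4, 3, 7, 10] [⟨327, [(35, true), (35, true), (35, false), (35, false)], [1, 4, 4, 4, 4, 2, 4, 3, 4, 2, 4, 4, 3]⟩, ⟨121, [(86, true), (86, false)], [4, 6, 3, 4, 2, 3, 4]⟩, ⟨211, [(239, true), (83, false)], [0, 3, 4, 3, 6, 5, 4, 3, 4, 2, 5]⟩, ⟨98, [], [3, 4, 2, 3, 4, 2, 3, 4, 6, 5, 4]⟩, ⟨108, [(241, true), (181, true), (33, false), (33, false), (181, false), (88, false)], [3, 4, 2, 4, 5, 4, 5, 6, 3, 4, 4]⟩]))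
 (.leaf (.stab 0 [], .gen)))))
 (.node (.node (.node (.leaf (.edge 1 [3, 4, 3, 0, 2, 3, 2, 4, 3, 10, 5, 5] 1 [4, 10, 3, 2, 3, 5, 5], .loop 11 [3, 4, 3, 0, 2, 3, 2, 4, 3, 10, 5, 5] [⟨7, [], [6, 3, 2, 4, 4]⟩, ⟨44, [(1, false)], [2, 4, 3, 6, 5, 4, 3, 4, 6, 4, 3, 5, 5]⟩]))
 (.leaf (.stab 0 [], .gen)))
 (.node (.leaf (.edge 4 [5, 4, 2, 3] 4 [4, 3, 5, 5, 4, 5, 9, 3, 4, 5, 10, 3, 4, 9, 6], .loop 11 [5, 4, 2, 3] [⟨208, [], [1, 2, 5, 4, 3, 4, 2, 3, 4, 5]⟩, ⟨349, [], [0, 4, 3, 4, 5, 4, 2, 5, 4, 3, 4]⟩]))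
 (.leaf (.stab 0 [], .gen))))
 (.node (.node (.leaf (.edge 11 [4, 3, 7, 2, 3, 2, 4, 3, 2] 5 [6, 4, 3, 5, 4, 3, 5, 9, 3, 2, 4, 3, 5, 4, 7, 10, 5], .loop 12 [4, 3, 7, 2, 3, 2, 4, 3, 2] [⟨17, [], [1, 3, 2, 5]⟩, ⟨166, [], [2, 6, 4, 3, 5, 4, 6, 5, 4, 6, 3]⟩, ⟨102, [(24, true), (25, false), (24, false)], [0, 4, 6, 5, 4, 3, 4, 3, 4, 2, 4, 3, 4]⟩, ⟨207, [(31, true), (85, true), (31, false)], [2, 4, 3, 6, 4, 3, 4, 6, 3, 4, 3]⟩, ⟨205, [(31, true), (85, true), (31, true), (31, false)], [5, 4, 2, 4, 6, 3, 4, 3, 2, 4, 2]⟩]))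
 (.leaf (.stab 0 [], .gen)))
 (.node (.leaf (.edge 4 [6, 4, 3, 7, 5, 4, 0, 2, 3, 2, 4, 3, 10, 3] 4 [3, 5, 4, 3, 5, 10, 3, 4, 10, 6, 4, 3, 7, 9, 6], .loop 11 [6, 4, 3, 7, 5, 4, 0, 2, 3, 2, 4, 3, 10, 3] [⟨377, [], [2, 4, 3, 2, 4, 2, 4, 6, 4, 5, 5]⟩, ⟨272, [(85, false)], [2, 4, 3, 4, 5, 6, 3, 4, 3, 4, 6, 4, 5, 4]⟩]))
 (.leaf (.stab 0 [], .gen)))))))
 (.node (.node (.node (.node (.node (.leaf (.stab 2 [3, 7, 6, 4, 2, 3, 2, 4, 3, 2, 6], .dupF 8 ⟨8, [(21, false), (21, false), (22, false), (23, true), (21, true), (22, true), (23, true)], [1, 4, 2, 4, 3, 4, 2, 4, 4, 3, 4, 4, 5]⟩))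
 (.leaf (.edge 10 [6, 4, 5, 5, 0, 9, 3, 2, 3, 5, 4, 3, 2, 8] 12 [5, 4, 5, 4, 5, 9, 3, 2, 3, 5, 4, 9, 6, 6, 9], .loop 11 [6, 4, 5, 5, 0, 9, 3, 2, 3, 5, 4, 3, 2, 8] [⟨248, [], [4, 6, 4, 5, 6, 3, 2, 4, 4, 3]⟩, ⟨120, [], [2, 6, 3, 4, 2, 5, 6, 4, 2, 3, 4]⟩])))
 (.node (.leaf (.edge 4 [6, 4, 6, 8, 0, 10, 3, 4, 5] 10 [3, 6, 4, 6, 10, 3, 6, 6, 9, 3, 2, 5], .loop 3 [6, 4, 6, 8, 0, 10, 3, 4, 5] [⟨191, [(86, true)], [1, 4, 4, 4, 6, 4, 4, 3, 4, 6]⟩, ⟨232, [], [3, 4, 5, 6, 4, 6, 3, 4, 4, 6]⟩]))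
 (.leaf (.stab 0 [], .gen))))
 (.node (.node (.leaf (.edge 2 [3, 10, 3, 9] 2 [3, 8, 2, 3, 9, 3, 10, 3], .loop 4 [3, 10, 3, 9] [⟨8, [], [4, 2, 3, 4, 2, 4, 4, 4, 3, 4, 2, 4, 3]⟩, ⟨55, [(124, true), (19, true), (19, false)], [2, 6, 4, 4, 4, 3, 4, 6, 3, 4, 3, 4]⟩]))
 (.leaf (.stab 0 [], .gen)))
 (.node (.leaf (.edge 11 [5, 4, 5, 4, 3, 6, 4, 5, 0, 10, 3, 6, 9, 3, 9, 5, 5, 4] 11 [4, 5, 5, 9, 3, 9, 5, 4, 3, 9, 3, 6, 8], .loop 11 [5, 4, 5, 4, 3, 6, 4, 5, 0, 10, 3, 6, 9, 3, 9, 5, 5, 4] [⟨388, [(35, false), (35, false)], [2, 3, 4, 2, 3, 4, 2, 3, 4, 6, 3, 4, 6]⟩, ⟨328, [(34, false), (34, false), (34, false), (34, false)], [3, 4, 4, 6, 4, 2, 5, 5, 4, 3]⟩]))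
 (.leaf (.stab 0 [], .gen)))))
 (.node (.node (.node (.leaf (.edge 7 [3, 6, 4, 3, 10, 3, 2, 3, 4, 3, 10] 9 [4, 7, 6, 4, 3, 6, 10, 3, 5, 9, 3, 6, 10, 3, 4, 5, 4], .loop 4 [3, 6, 4, 3, 10, 3, 2, 3, 4, 3, 10] [⟨13, [], [0, 3, 6, 4, 3, 6, 4, 3, 6, 4, 4, 3]⟩, ⟨45, [(26, true)], [3, 4, 3, 4, 5, 6, 4, 2, 4, 6]⟩]))
 (.leaf (.stab 0 [], .gen)))
 (.node (.leaf (.edge 4 [3, 4, 6, 0, 10, 3, 2, 3, 6, 4, 3, 9] 4 [3, 5, 4, 3, 5, 7, 5, 0, 10, 3, 4, 5, 4, 7, 9, 5, 5], .loop 3 [3, 4, 6, 0, 10, 3, 2, 3, 6, 4, 3, 9] [⟨213, [(86, true), (86, false)], [4, 2, 3, 4, 4, 5, 6, 4, 3, 2]⟩, ⟨323, [(127, true), (249, false)], [0, 6, 4, 5, 6, 3, 4, 4, 6, 4, 4, 2]⟩]))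
 (.leaf (.stab 0 [], .gen))))
 (.node (.node (.leaf (.edge 5 [6, 4, 6, 6, 10, 3, 6, 6, 9] 5 [4, 3, 6, 8, 6, 4, 3, 5, 10, 3, 4, 10, 5, 4, 3, 6], .loop 0 [6, 4, 6, 6, 10, 3, 6, 6, 9] [⟨209, [(83, false)], [2, 6, 4, 3, 4, 6, 4, 4, 4, 3, 2, 5]⟩]))
 (.leaf (.stab 0 [], .gen)))
 (.node (.leaf (.edge 4 [3, 4, 5, 4, 6, 10, 3, 5] 4 [4, 8, 5, 4, 3, 5, 4, 6, 2, 3, 9, 3, 5, 9, 3, 6, 7, 10, 3], .loop 11 [3, 4, 5, 4, 6, 10, 3, 5] [⟨385, [(86, false)], [3, 4, 6, 3, 4, 3, 4, 2]⟩, ⟨224, [(31, false), (85, false)], [2, 3, 4, 4, 4, 6, 3, 5, 4, 3, 4, 4]⟩]))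
 (.leaf (.stab 0 [], .gen))))))
 (.node (.node (.node (.node (.leaf (.edge 4 [3, 5, 4, 8, 10, 3, 2, 4, 3, 10] 7 [6, 6, 4, 3, 5, 4, 5, 4, 9, 3, 2, 6, 4, 3, 7, 9, 5], .loop 2 [3, 5, 4, 8, 10, 3, 2, 4, 3, 10] [⟨10, [], [0, 5, 4, 5, 4, 3, 6]⟩, ⟨37, [(24, true), (25, true)], [3, 4, 6, 4, 4, 4, 6, 4, 3, 2, 4]⟩]))
 (.leaf (.stab 0 [], .gen)))
 (.node (.leaf (.edge 11 [5, 8, 5, 4, 6, 9, 3, 6, 4, 6, 4] 10 [3, 4, 3, 8, 5, 4, 0, 2, 3, 4, 5, 5, 10, 3, 2, 6, 4], .loop 35 [5, 8, 5, 4, 6, 9, 3, 6, 4, 6, 4] [⟨306, [(35, true), (35, true), (35, true), (35, false), (35, false)], [1, 4, 4, 2, 5, 4, 3, 4, 2]⟩, ⟨294, [(35, false)], [3, 2, 6, 4, 2, 4, 4, 3, 6, 4]⟩, ⟨232, [], [1, 2, 3, 5, 4, 2, 4, 3, 4, 3, 4, 2]⟩]))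
 (.leaf (.stab 0 [], .gen))))
 (.node (.node (.leaf (.edge 10 [3, 8, 6, 4, 3, 0, 2, 3, 2, 4, 3, 10, 3] 5 [4, 3, 6, 6, 6, 4, 9, 3, 5, 8, 10, 3, 9, 3, 6, 4], .loop 17 [3, 8, 6, 4, 3, 0, 2, 3, 2, 4, 3, 10, 3] [⟨16, [], [4, 4, 6, 3, 2, 5]⟩, ⟨166, [(126, true), (126, true)], [1, 5, 4, 3, 4, 4, 5, 4, 6]⟩, ⟨75, [(24, false)], [4, 2, 3, 4, 5, 6, 4, 6, 3, 2, 4]⟩, ⟨53, [(26, true), (25, true), (24, false)], [1, 4, 2, 4, 6, 4, 3, 4, 2, 5, 5]⟩, ⟨108, [(88, true), (33, true), (33, true), (33, false), (33, false), (181, false), (88, false)], [2, 6, 5, 4, 3, 4, 6, 4, 5]⟩]))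
 (.leaf (.stab 0 [], .gen)))
 (.node (.leaf (.edge 6 [4, 10, 3, 2, 3, 4, 3] 7 [4, 6, 4, 3, 6, 4, 5, 8, 9, 3, 5, 4, 5, 9, 3, 10, 6, 6], .loop 17 [4, 10, 3, 2, 3, 4, 3] [⟨81, [(85, false)], [0, 1, 2, 5, 4, 3, 4, 2, 4, 3, 4, 5, 4]⟩, ⟨321, [(86, true)], [6, 4, 3, 6, 4, 2, 3, 4, 3, 6, 5]⟩, ⟨256, [(35, true), (35, false), (35, false), (35, false)], [5, 4, 2, 4, 3, 5, 4, 5]⟩, ⟨368, [(86, true)], [2, 4, 3, 6, 4, 2, 3, 4, 6, 3, 2, 5]⟩, ⟨440, [], [4, 3, 6, 4, 4, 6, 3, 4, 3, 2]⟩]))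
 (.leaf (.stab 0 [], .gen)))))
 (.node (.node (.node (.leaf (.edge 7 [7, 5, 4, 3, 9, 3, 5, 4, 10, 5] 6 [3, 5, 5, 5, 4, 5, 9, 3, 5, 8, 9, 5, 4, 3, 8, 10], .loop 11 [7, 5, 4, 3, 9, 3, 5, 4, 10, 5] [⟨38, [], [1, 4, 2, 4, 2, 4, 6, 4, 4]⟩, ⟨66, [], [4, 6, 4, 2, 3, 5, 4, 6, 5, 4, 6, 3, 4]⟩]))
 (.leaf (.stab 0 [], .gen)))
 (.node (.leaf (.edge 10 [3, 4, 6, 4, 5, 9, 3, 6] 10 [3, 6, 6, 4, 3, 6, 4, 6, 7, 2, 3, 9, 3, 6, 9, 3, 5, 4, 6], .loop 12 [3, 4, 6, 4, 5, 9, 3, 6] [⟨269, [(249, false)], [0, 6, 4, 2, 5, 5, 4, 3, 4, 3, 6, 4, 5, 5]⟩, ⟨138, [(239, true), (83, true), (83, false), (239, false)], [0, 4, 3, 4, 6, 4, 4, 4, 3, 4, 2]⟩, ⟨217, [(85, true), (85, false)], [3, 5, 4, 3, 4, 2, 4, 6, 4, 4, 3, 5]⟩, ⟨251, [], [2, 5, 4, 2, 3, 4, 3, 6, 5,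 4, 3, 4, 3]⟩, ⟨299, [], [5, 4, 3, 4, 6, 5, 4, 3, 2, 4, 2]⟩]))
 (.leaf (.stab 0 [], .gen))))
 (.node (.node (.leaf (.stab 12 [3, 7, 2, 3, 10, 3, 4, 6, 4, 8, 9, 3, 2, 3], .dupF 180 ⟨164, [(249, true), (127, true)], [4, 3, 5, 6, 4, 2, 3, 4, 2, 5, 5, 4]⟩))
 (.leaf (.stab 0 [], .gen)))
 (.node (.leaf (.edge 7 [5, 5, 7, 0, 9, 3, 4, 5, 4, 7, 9] 12 [3, 4, 5, 4, 3, 6, 4, 7, 9, 3, 5, 4, 7, 9, 3, 6, 4, 9, 6], .loop 11 [5, 5, 7, 0, 9, 3, 4, 5, 4, 7, 9] [⟨262, [(84, false), (32, false)], [2, 6, 5, 4, 2, 4, 2, 3, 4, 6, 4, 4]⟩, ⟨162, [], [2, 4, 2, 3, 5, 6, 4, 2, 4, 3, 6, 4, 4]⟩]))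
 (.leaf (.stab 0 [], .gen))))))))

/-- items -/
noncomputable def items6 : ITree (Item × Why) :=
 (.node (.node (.node (.node (.node (.node (.leaf (.edge 0 [] 0 [], .gen))
 (.leaf (.edge 6 [8, 5, 10, 3, 2, 6, 4, 3, 7] 11 [4, 6, 4, 3, 6, 6, 4, 5, 9, 3, 5, 9, 3, 4, 5, 7, 10], .loop 12 [8, 5, 10, 3, 2, 6, 4, 3, 7] [⟨224, [(85, true), (31, true), (31, false), (85, false)], [0, 2, 4, 6, 5, 4, 6, 3, 4, 2, 4]⟩, ⟨274, [(86, true)], [1, 4, 3, 2, 4, 4, 4, 6]⟩, ⟨327, [(35, true), (35, true), (35, false), (35, false)], [3, 5, 6, 4, 6, 3, 4, 4, 2, 3]⟩, ⟨309, [(86, true), (86, false)], [2, 6, 4, 6, 3, 2, 5, 4, 6, 4, 4]⟩, ⟨321, [(86, true)], [2, 4, 3, 5, 6, 4, 6, 3, 4]⟩])))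
 (.node (.leaf (.edge 10 [4, 3, 8, 0, 2, 3, 2, 4, 3, 10, 3, 5] 7 [3, 6, 4, 3, 6, 6, 2, 3, 9, 3, 5, 9, 3], .loop 1 [4, 3, 8, 0, 2, 3, 2, 4, 3, 10, 3, 5] [⟨163, [], [6, 4, 6, 3, 4, 6, 5, 4]⟩, ⟨253, [(35, false)], [4, 4, 2, 4, 3, 4, 6, 5, 4, 3]⟩]))
 (.leaf (.stab 0 [], .gen))))
 (.node (.node (.leaf (.edge 5 [3, 5, 5, 5, 9, 3] 4 [7, 6, 4, 3, 6, 4, 6, 0, 9, 3, 2, 6, 4, 3, 2, 5, 4, 3], .loop 4 [3, 5, 5, 5, 9, 3] [⟨100, [], [5, 4, 2, 4, 3, 4, 3, 2, 4, 4, 3, 6]⟩, ⟨81, [(85, false)], [0, 4, 2, 4, 3, 4, 3, 6, 4, 3, 4, 3, 5]⟩]))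
 (.leaf (.stab 0 [], .gen)))
 (.node (.leaf (.edge 7 [4, 7, 5, 4, 5, 0, 9, 3, 5, 4] 4 [3, 8, 6, 4, 3, 6, 4, 6, 4, 2, 3, 9, 6, 4, 6, 10, 3, 9, 3], .loop 4 [4, 7, 5, 4, 5, 0, 9, 3, 5, 4] [⟨352, [(32, true), (84, true), (32, true)], [3, 4, 2, 3, 5, 4, 3, 6, 5, 4, 3]⟩, ⟨383, [(83, true)], [3, 6, 4, 3, 4, 2, 4, 6, 5]⟩]))
 (.leaf (.stab 0 [], .gen)))))
 (.node (.node (.node (.leaf (.edge 6 [0, 9, 3, 5, 9, 3, 4] 9 [4, 6, 4, 3, 7, 5, 4, 10, 3, 4, 5, 5, 9, 3, 5, 9], .loop 7 [0, 9, 3, 5, 9, 3, 4] [⟨12, [], [0, 4, 6, 4, 6]⟩, ⟨45, [(24, true), (24, true), (25, true)], [1, 5, 4, 2, 5, 6, 4, 2, 3, 4, 2, 3]⟩]))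
 (.leaf (.stab 0 [], .gen)))
 (.node (.leaf (.edge 12 [3, 7, 5, 0, 2] 7 [3, 5, 2, 3, 10, 3, 6, 10, 3, 5, 10, 3], .loop 10 [3, 7, 5, 0, 2] [⟨165, [(128, true), (250, true), (128, true), (128, true), (250, false), (250, false)], [4, 2, 3, 5, 4, 5, 6, 4, 2, 3, 6]⟩, ⟨278, [(35, true), (35, true), (35, true)], [2, 4, 4, 4, 3, 6, 5, 4, 3, 6, 5, 4]⟩]))
 (.leaf (.stab 0 [], .gen))))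
 (.node (.node (.leaf (.edge 7 [3, 5, 7, 5, 0, 2, 3, 2, 4, 3, 2] 7 [3, 6, 8, 6, 2, 3, 2, 4, 3, 5], .loop 17 [3, 5, 7, 5, 0, 2, 3, 2, 4, 3, 2] [⟨13, [], [1, 4, 4, 3, 5]⟩, ⟨75, [(24, false)], [2, 4, 2, 3, 4, 4, 3, 6, 5, 4, 2, 3, 4, 6]⟩, ⟨146, [(24, true)], [0, 2, 4, 3, 6, 5, 4, 3, 4, 6, 3, 4]⟩, ⟨75, [(24, false)], [0, 4, 3, 4, 6, 3, 4, 3, 4, 4]⟩, ⟨37, [(24, true)], [1, 6, 4, 2, 4, 2, 3, 4, 2, 4, 3]⟩]))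
 (.leaf (.stab 0 [], .gen)))
 (.node (.leaf (.edge 11 [7, 5, 4, 5, 4, 10, 3, 2, 6, 8] 4 [3, 7, 5, 4, 3, 6, 4, 5, 5, 9, 3, 6, 9, 3, 2, 5, 4, 7], .loop 11 [7, 5, 4, 5, 4, 10, 3, 2, 6, 8] [⟨435, [], [1, 2, 3, 5, 5, 4, 2, 3, 4, 2, 4, 4]⟩, ⟨302, [], [4, 3, 2, 4, 4, 6, 3, 4, 4, 6, 4, 3]⟩]))
 (.leaf (.stab 0 [], .gen))))))
 (.node (.node (.node (.node (.leaf (.edge 6 [3, 6, 6, 9, 3] 7 [4, 3, 5, 4, 3, 5, 5, 7, 0, 9, 3, 4, 6, 4, 3, 9, 6, 6], .loop 1 [3, 6, 6, 9, 3] [⟨12, [], [4, 4]⟩, ⟨37, [(26, true), (24, true), (24, true)], [4, 4, 3, 4, 6, 5, 4, 3, 4, 3, 2, 4, 6]⟩]))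
 (.leaf (.edge 7 [5, 2, 3, 2, 4, 3, 10] 4 [3, 6, 4, 3, 5, 4, 3, 6, 9, 3, 4, 5, 10, 3, 10, 3, 5, 10, 6], .loop 12 [5, 2, 3, 2, 4, 3, 10] [⟨242, [(84, true), (32, true), (32, false)], [4, 5, 4, 6, 5, 4, 3]⟩, ⟨302, [(249, true), (127, true), (127, true)], [0, 2, 4, 3, 4, 4, 5, 4, 6, 3, 4, 3]⟩, ⟨423, [(86, false)], [0, 3, 4, 4, 5, 6, 3, 4, 2, 4, 2]⟩, ⟨535, [], [3, 5, 6, 4, 2, 4, 2, 3, 4, 6, 4]⟩, ⟨359, [], [1, 4, 6, 5, 4, 2, 3, 4, 6, 4, 4, 3]⟩])))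
 (.node (.leaf (.edge 6 [7, 6, 4, 0, 10, 3, 2, 4, 3, 10] 11 [3, 6, 4, 3, 6, 4, 5, 0, 10, 3, 6, 8, 10, 3, 10, 6, 4], .loop 4 [7, 6, 4, 0, 10, 3, 2, 4, 3, 10] [⟨217, [(85, true), (85, false)], [1, 3, 4, 3, 4, 6, 5, 4, 3, 4, 3, 4, 6]⟩, ⟨289, [(86, true)], [0, 5, 6, 4, 2, 4, 3, 4, 3, 4, 6, 4, 5]⟩]))
 (.leaf (.stab 0 [], .gen))))
 (.node (.node (.leaf (.edge 2 [3, 6, 4, 10, 3, 2, 4, 3, 10] 3 [4, 3, 6, 6, 0, 2, 3, 2, 4, 3, 5, 5, 9, 3], .loop 11 [3, 6, 4, 10, 3, 2, 4, 3, 10] [⟨101, [(26, false), (24, false)], [4, 3, 6, 4, 3, 6, 4]⟩, ⟨73, [(26, false)], [2, 4, 2, 4, 3, 6, 4, 5, 4, 3]⟩]))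
 (.leaf (.stab 0 [], .gen)))
 (.node (.leaf (.edge 7 [3, 6, 8, 6, 4, 3, 0, 10, 3, 10] 10 [6, 4, 3, 5, 4, 6, 9, 3, 6, 4, 6, 4, 10, 3, 10], .loop 12 [3, 6, 8, 6, 4, 3, 0, 10, 3, 10] [⟨408, [(32, true), (84, true), (32, true), (84, false), (32, false)], [5, 4, 6, 4, 2, 3, 4, 2, 3, 4, 4, 3]⟩, ⟨143, [(249, true), (127, true)], [0, 4, 3, 4, 3, 5, 6, 4, 3, 6, 4, 5]⟩, ⟨185, [(249, true), (127, true)], [6, 4, 6, 3, 4, 6, 4, 4, 3, 4, 2, 4]⟩, ⟨258, [(35, true), (35, true)], [3, 4, 4, 3, 6, 4, 6, 3, 4, 2, 5, 5]⟩, ⟨242, [(32, false)], [1, 6, 4, 6, 4, 3, 4, 2, 3, 5, 4, 3, 2]⟩]))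
 (.leaf (.stab 0 [], .gen)))))
 (.node (.node (.node (.leaf (.edge 6 [3, 6, 6, 2, 3] 2 [4, 5, 4, 3, 5, 4, 7, 0, 10, 3, 2, 3, 5, 4, 3, 2, 8], .loop 1 [3, 6, 6, 2, 3] [⟨66, [], [1, 6, 4, 2, 5, 4, 3, 4, 4, 3, 2, 4]⟩, ⟨12, [], [5, 4, 5, 6, 4, 3, 4, 2, 4, 4, 6]⟩]))
 (.leaf (.stab 0 [], .gen)))
 (.node (.leaf (.edge 11 [5, 4, 0, 10, 3, 5, 8, 9] 4 [3, 4, 5, 4, 3, 6, 4, 8, 6, 9, 3, 2, 3, 4, 3, 6, 8], .loop 28 [5, 4, 0, 10, 3, 5, 8, 9] [⟨96, [(35, true), (35, false)], [0, 4, 3, 5, 6, 4, 3, 6, 5, 4, 3, 6, 5]⟩, ⟨116, [(128, true), (128, true), (250, true), (128, true), (250, false), (250, false)], [0, 3, 6, 4, 2, 6, 5]⟩, ⟨288, [(250, true), (128, true), (36, false), (128, false), (250, false)], [2, 3, 5, 4, 2, 3, 4, 2, 5]⟩, ⟨334, [(31, true)],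 [1, 3, 5, 4, 3, 2, 4, 4, 6, 4, 3, 5]⟩, ⟨342, [(84, false), (32, false)], [2, 4, 3, 4, 2, 4, 4, 6, 4, 3, 6, 4, 6]⟩]))
 (.leaf (.stab 0 [], .gen))))
 (.node (.node (.leaf (.edge 7 [4, 5, 4, 6, 9, 3, 5] 4 [5, 4, 2, 3, 4, 5, 9, 3, 2, 6, 8], .loop 12 [4, 5, 4, 6, 9, 3, 5] [⟨13, [], [4, 6, 4, 2, 6]⟩, ⟨41, [(25, true), (24, true), (24, true), (25, true), (24, true), (24, false), (24, false), (24, false)], [1, 4, 5, 6, 4, 2, 6]⟩, ⟨208, [(86, true)], [5, 6, 4, 3, 4, 3, 5]⟩, ⟨67, [(83, true)], [4, 3, 4, 5, 6, 4, 3, 4, 2, 4, 2, 4]⟩, ⟨211, [(83, true), (83, false)], [5, 6, 4, 2, 3, 4, 3, 2, 4, 4, 3]⟩]))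
 (.leaf (.stab 0 [], .gen)))
 (.node (.leaf (.edge 7 [5, 8, 10, 3, 2] 10 [5, 4, 7, 6, 4, 0, 10, 3, 6, 10, 6, 4, 8, 6], .loop 17 [5, 8, 10, 3, 2] [⟨40, [(84, false), (32, false)], [4, 6, 5, 4, 3, 4, 6, 3, 4, 2, 6]⟩, ⟨188, [(83, true), (239, false), (239, false)], [0, 3, 4, 4, 2, 5, 4, 5, 6, 4, 3, 6]⟩, ⟨438, [(31, true)], [4, 4, 4, 2, 4, 4, 3, 4, 5, 6, 4, 3]⟩, ⟨257, [(83, true), (239, false), (239, false)], [2, 4, 3, 4, 3, 6, 4, 2, 5, 6]⟩, ⟨435, [], [0, 4, 3, 4, 5, 6, 4, 3, 6, 5, 4, 6]⟩]))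
 (.leaf (.stab 0 [], .gen)))))))
 (.node (.node (.node (.node (.node (.leaf (.stab 1 [6, 4, 6, 4, 3, 6, 4, 0, 2, 3, 2, 4, 3, 6, 9, 5], .dupF 7 ⟨7, [(4, false), (3, false), (5, false), (4, false), (4, false), (3, true), (4, true), (2, true), (3, true), (4, true), (3, true)], [4, 4, 3, 4, 2, 4, 4, 3, 6, 4, 3]⟩))
 (.leaf (.edge 4 [4, 3, 5, 4, 10, 3] 4 [3, 4, 3, 6, 4, 5, 5, 9, 3, 5, 9, 3, 2, 5, 5, 4, 3, 10], .loop 11 [4, 3, 5, 4, 10, 3] [⟨365, [], [1, 4, 4, 4, 2, 4, 4, 3, 4, 2, 4, 4, 3]⟩, ⟨483, [], [0, 4, 2, 4, 4, 4, 3, 4, 4, 4]⟩])))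
 (.node (.leaf (.edge 7 [6, 4, 7, 9, 3, 2, 4, 3, 5, 5] 11 [8, 6, 4, 3, 6, 4, 0, 10, 3, 2, 3, 4, 3, 5, 5], .loop 10 [6, 4, 7, 9, 3, 2, 4, 3, 5, 5] [⟨262, [(84, true), (32, true), (84, false), (32, false)], [3, 4, 4, 5, 4, 6, 3, 4, 3, 4, 2]⟩, ⟨149, [(127, true), (127, true)], [2, 4, 3, 2, 4, 5, 4, 5, 6]⟩]))
 (.leaf (.stab 0 [], .gen))))
 (.node (.node (.leaf (.edge 5 [5, 8, 0, 9, 3, 9, 3, 5, 4, 8] 6 [4, 6, 4, 5, 8, 0, 9, 3, 6, 9, 3, 6, 6, 9, 5, 8], .loop 4 [5, 8, 0, 9, 3, 9, 3, 5, 4, 8] [⟨11, [(83, true)], [5, 6, 4, 4, 6, 4, 3, 4, 2, 4, 2, 6]⟩, ⟨102, [(24, true), (26, true), (25, true), (25, false), (24, false)], [4, 3, 4, 4, 3, 6, 4, 6, 3, 4, 6]⟩]))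
 (.leaf (.stab 0 [], .gen)))
 (.node (.leaf (.edge 7 [3, 5, 5, 4, 3, 0, 9, 3, 2] 10 [5, 4, 5, 4, 3, 9, 3, 4, 6, 9, 3, 6, 10, 3, 2, 5], .loop 11 [3, 5, 5, 4, 3, 0, 9, 3, 2] [⟨326, [], [0, 3, 4, 3, 4, 4, 5, 6, 4, 6, 3, 5, 4, 2]⟩, ⟨167, [(250, false), (250, false), (36, false)], [6, 4, 3, 2, 4, 3, 4, 4, 6, 4, 5, 5]⟩]))
 (.leaf (.stab 0 [], .gen)))))
 (.node (.node (.node (.leaf (.stab 4 [4, 3, 0, 10, 3, 9], .dupF 43 ⟨43, [(83, true)], [2, 5, 6, 4, 3, 4, 6, 4, 2, 5, 5]⟩))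
 (.leaf (.stab 0 [], .gen)))
 (.node (.leaf (.edge 4 [6, 4, 3, 6, 6, 4, 2, 3, 10, 5] 7 [8, 5, 4, 3, 9, 3, 2, 3, 5, 10, 5, 4, 3], .loop 23 [6, 4, 3, 6, 6, 4, 2, 3, 10, 5] [⟨191, [(86, true)], [4, 3, 4, 6, 4, 6, 3, 4, 4, 2, 4]⟩, ⟨206, [(31, false)], [2, 4, 2, 4, 2, 3, 4, 2, 3, 4, 2]⟩, ⟨206, [(31, true), (31, false)], [2, 6, 3, 4, 3, 4, 3, 2, 4]⟩, ⟨118, [], [0, 4, 6, 3, 4, 3, 4, 6, 4, 3, 4, 2]⟩, ⟨194, [(32, true)], [3, 5, 6, 4, 3, 6, 4, 3, 6, 5, 4, 6]⟩]))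
 (.leaf (.stab 0 [], .gen))))
 (.node (.node (.leaf (.edge 6 [7, 6, 0, 10, 3, 9] 10 [5, 4, 3, 7, 6, 4, 6, 2, 3, 2, 4, 3, 6, 10, 3, 5], .loop 4 [7, 6, 0, 10, 3, 9] [⟨195, [], [2, 4, 4, 4, 3, 5, 4, 6, 5, 4, 3, 2, 6]⟩, ⟨213, [(86, true), (86, false)], [3, 6, 4, 4, 6, 4, 4, 2, 3, 4]⟩]))
 (.leaf (.stab 0 [], .gen)))
 (.node (.leaf (.edge 4 [7, 5, 4, 10, 3] 11 [3, 4, 3, 6, 7, 9, 3, 4, 6, 6, 9, 5, 4, 8], .loop 12 [7, 5, 4, 10, 3] [⟨10, [], [0, 1, 5, 4, 2, 6]⟩, ⟨154, [(26, true), (26, false)], [4, 3, 2, 4, 4, 6, 4, 4, 6, 4]⟩, ⟨53, [(26, true), (25, true), (24, true), (24, false)], [6, 3, 5, 4, 2, 3, 4, 2, 4, 4, 3, 4, 2]⟩, ⟨177, [(33, true), (33, true), (33, false), (181, false), (241, false)], [6, 4, 3, 2, 5, 4, 3, 4, 6, 4, 2, 4]⟩, ⟨402,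 [(32, false), (84, false)], [0, 4, 3, 4, 4, 5, 6, 4, 3, 6, 4, 2]⟩]))
 (.leaf (.stab 0 [], .gen))))))
 (.node (.node (.node (.node (.leaf (.edge 9 [3, 6, 4, 2, 3, 4, 10, 3] 7 [5, 4, 6, 6, 9, 3, 6, 10, 3, 6, 4, 5, 8], .loop 1 [3, 6, 4, 2, 3, 4, 10, 3] [⟨15, [], [0, 4, 3]⟩, ⟨37, [(24, true), (26, true), (24, true)], [1, 2, 3, 4, 4, 6, 4, 3, 4, 6, 4, 4, 4]⟩]))
 (.leaf (.edge 4 [4, 6, 6, 6, 0, 10, 3, 5, 9] 4 [6, 6, 4, 3, 5, 4, 8, 6, 10, 3, 5, 10, 5, 4, 3, 6, 4, 5], .loop 12 [4, 6, 6, 6, 0, 10, 3, 5, 9] [⟨176, [], [3, 5, 4, 2, 4, 3, 4, 3, 2, 4, 4]⟩, ⟨428, [(31, true)], [3, 4, 3, 6, 4, 5, 4, 3]⟩, ⟨525, [], [2, 5, 6, 3, 4, 2, 3, 4, 5, 6, 4]⟩, ⟨331, [], [4, 4, 4, 3, 6, 5, 4, 2, 3, 4, 4, 5]⟩, ⟨267, [(34, true)], [0, 4, 3, 5, 4, 2, 4, 5,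 5]⟩])))
 (.node (.leaf (.edge 12 [3, 4, 6, 4, 5, 10, 3, 6] 6 [3, 8, 5, 4, 3, 6, 4, 5, 2, 3, 9, 3, 4, 6, 4, 6, 10, 6, 8], .loop 23 [3, 4, 6, 4, 5, 10, 3, 6] [⟨167, [(250, false), (250, false), (36, false)], [0, 3, 4, 3, 4, 4, 6, 4, 3, 4, 4, 6, 3]⟩, ⟨302, [(249, true)], [2, 3, 4, 2, 4, 5, 4, 6, 3, 4, 4, 5]⟩, ⟨227, [], [0, 4, 6, 4, 3, 4, 3, 6, 4, 3, 4, 4, 5]⟩, ⟨64, [(239, true), (83, true), (83, false), (239, false)], [0, 2, 4, 3, 4, 4, 5, 6, 4, 3, 6, 5, 4]⟩, ⟨138, [(83, false), (239, false)], [1, 2, 4, 2, 4, 3, 4, 6, 4, 5, 5]⟩]))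
 (.leaf (.stab 0 [], .gen))))
 (.node (.node (.leaf (.edge 9 [3] 9 [3, 2], .loop 12 [3] [⟨15, [], []⟩, ⟨75, [(24, false)], [0, 1, 2, 6, 5]⟩, ⟨154, [(26, false)], [4, 4, 2, 3, 4, 4, 6, 4, 3, 4, 5, 4]⟩, ⟨75, [(24, true), (24, true), (25, true), (24, true), (24, false)], [4, 6, 4, 3, 4, 3, 6, 4, 3, 6, 4, 4]⟩, ⟨45, [], [5, 4, 5]⟩]))
 (.leaf (.stab 0 [], .gen)))
 (.node (.leaf (.edge 5 [5, 9, 3] 6 [4, 6, 4, 3, 8, 6, 4, 5, 10, 3, 2, 3, 4, 6, 6, 10, 6], .loop 11 [5, 9, 3] [⟨292, [(239, false), (239, false)], [2, 6, 4, 2, 3, 5, 4, 3, 4, 6, 4, 3, 4]⟩, ⟨416, [(86, false)], [3, 4, 2, 4, 3, 4, 3, 2, 5, 4, 6, 3]⟩]))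
 (.leaf (.stab 0 [], .gen)))))
 (.node (.node (.node (.leaf (.edge 7 [5, 4, 2, 3, 10, 3, 10] 6 [6, 4, 3, 5, 8, 5, 4, 9, 3, 4, 9, 3, 5, 8, 9, 6], .loop 11 [5, 4, 2, 3, 10, 3, 10] [⟨54, [], [0, 5, 4, 6, 4, 2, 4, 3, 5, 6, 4]⟩, ⟨70, [], [6, 4, 3, 6, 4, 2, 4, 4, 2, 6, 3]⟩]))
 (.leaf (.stab 0 [], .gen)))
 (.node (.leaf (.edge 6 [3, 5] 9 [3, 6, 4, 3, 8, 5, 9, 3, 2, 3, 9, 6, 4, 8], .loop 11 [3, 5] [⟨195, [], [0, 6, 4, 6, 3, 4, 2, 4, 3, 5, 4, 5, 4]⟩, ⟨331, [], [4, 6, 4, 4, 2, 3, 4, 6, 3, 5, 4]⟩]))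
 (.leaf (.stab 0 [], .gen))))
 (.node (.node (.leaf (.edge 7 [5, 7, 0, 9, 3, 2] 10 [6, 6, 6, 10, 3, 5, 8, 9, 3, 6, 8, 9], .loop 28 [5, 7, 0, 9, 3, 2] [⟨40, [(84, false), (32, false)], [4, 6, 5, 4, 3, 4, 3, 6, 4, 2, 6, 5]⟩, ⟨197, [(83, true), (239, false)], [3, 4, 4, 3, 2, 4, 3, 6, 5, 4, 6, 5]⟩, ⟨208, [], [3, 4, 4, 2, 3, 4, 4, 2, 6, 4, 3]⟩, ⟨100, [(83, true), (83, false), (239, false)], [2, 4, 4, 3, 6, 4, 4, 3, 2, 4, 5, 5]⟩, ⟨232, [(31, true), (85, true)], [0, 3, 5, 4, 3, 4, 2, 4, 2, 4, 3]⟩]))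
 (.leaf (.stab 0 [], .gen)))
 (.node (.leaf (.edge 4 [5, 4, 7, 5, 0, 10, 3, 9, 5, 4, 3, 7, 10, 3] 11 [4, 8, 5, 4, 3, 5, 4, 0, 10, 3, 4, 5, 9, 3, 9, 3, 2], .loop 12 [5, 4, 7, 5, 0, 10, 3, 9, 5, 4, 3, 7, 10, 3] [⟨364, [(86, false)], [3, 4, 6, 5, 4, 3, 6, 4, 3, 5, 5]⟩, ⟨299, [(86, true)], [1, 2, 3, 5, 4, 3, 4, 4, 6, 4, 3, 4]⟩, ⟨263, [(249, true), (127, false)], [4, 4, 4, 6, 4, 3, 4, 5, 6, 3, 2]⟩, ⟨136, [(249, true), (127, true), (127, false)], [2, 3, 4, 3, 4, 3, 2, 4, 3, 4, 6, 4]⟩, ⟨163, [(249, true), (127, true)], [1, 5, 6, 4, 3, 2, 4, 2, 4, 6, 5]⟩]))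
 (.leaf (.stab 0 [], .gen))))))))

/-- items -/
noncomputable def items7 : ITree (Item × Why) :=
 (.node (.node (.node (.node (.node (.node (.leaf (.edge 2 [9, 3] 8 [], .orbit))
 (.leaf (.edge 11 [3, 7, 5, 4, 9, 3, 5, 5] 4 [6, 4, 3, 8, 5, 4, 5, 0, 10, 3, 5, 9, 5, 4, 5, 4, 3, 9], .loop 11 [3, 7, 5, 4, 9, 3, 5, 5] [⟨345, [(35, false), (35, false)], [3, 4, 5, 6, 3, 4, 3, 2, 4, 5, 6]⟩, ⟨346, [], [4, 4, 3, 4, 2, 4, 2, 3, 4, 2, 4]⟩])))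
 (.node (.leaf (.edge 10 [3, 5, 7, 0, 9, 3, 4, 5, 10] 10 [4, 5, 4, 3, 6, 4, 8, 9, 3, 6, 4, 6, 4, 10, 3, 10], .loop 11 [3, 5, 7, 0, 9, 3, 4, 5, 10] [⟨246, [(127, false)], [2, 3, 5, 4, 6, 5, 4, 3, 2, 6]⟩, ⟨242, [(32, false)], [2, 4, 4, 3, 5, 4, 5, 6, 4, 6]⟩]))
 (.leaf (.stab 0 [], .gen))))
 (.node (.node (.leaf (.edge 2 [3, 4, 5, 4, 6, 7, 0, 10, 3, 5, 4, 9] 4 [4, 5, 4, 3, 5, 0, 9, 3, 6, 10, 6, 4], .loop 11 [3, 4, 5, 4, 6, 7, 0, 10, 3, 5, 4, 9] [⟨102, [(25, false), (24, false)], [5, 4, 3, 4, 6, 4, 3, 4, 3, 6, 5, 4]⟩, ⟨81, [(85, false)], [4, 3, 4, 6, 4, 3, 5, 5, 4, 2, 3]⟩]))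
 (.leaf (.stab 0 [], .gen)))
 (.node (.leaf (.edge 4 [8, 5, 4, 5, 9, 3, 2, 5, 4, 3, 7, 9] 6 [3, 6, 6, 4, 3, 6, 4, 7, 0, 2, 3, 2, 4, 3, 6, 6, 9, 3, 6], .loop 12 [8, 5, 4, 5, 9, 3, 2, 5, 4, 3, 7, 9] [⟨309, [(86, true), (86, false)], [1, 4, 2, 4, 3, 2, 4, 4, 2, 5, 6]⟩, ⟨179, [(86, false)], [0, 4, 4, 4, 6, 4, 3, 6, 4, 2, 4, 4, 3]⟩, ⟨358, [(86, false)], [2, 4, 6, 3, 4, 2, 4, 3, 5, 4, 2]⟩, ⟨388, [(35, true), (35, true), (35, true), (35, false), (35, false)], [2, 4, 2, 3, 5, 4, 3, 4, 6, 5]⟩, ⟨374, [(87, true), (34, true), (87, true)], [4, 3, 4, 2, 3, 4, 4, 2, 5, 6, 4, 3]⟩]))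
 (.leaf (.stab 0 [], .gen)))))
 (.node (.node (.node (.leaf (.edge 5 [6, 4, 3, 0, 9, 3, 4] 5 [3, 8, 6, 4, 3, 2, 3, 4, 9, 3, 4, 9], .loop 4 [6, 4, 3, 0, 9, 3, 4] [⟨11, [], [0, 6, 4, 3, 4, 3, 6, 4, 3, 6, 4, 4]⟩, ⟨61, [(24, true), (24, true), (24, true), (24, true), (24, false), (24, false), (24, false)], [1, 4, 2, 6, 5]⟩]))
 (.leaf (.stab 0 [], .gen)))
 (.node (.leaf (.edge 7 [3, 4, 6, 4, 8, 0, 10, 3, 5, 5, 9, 5] 6 [3, 4, 3, 5, 4, 3, 6, 4, 8, 9, 3, 4, 6, 10, 3, 6, 4, 3], .loop 32 [3, 4, 6, 4, 8, 0, 10, 3, 5, 5, 9, 5] [⟨242, [(32, true), (84, true), (32, false)], [2, 4, 6, 4, 4, 6, 3, 4, 2, 4, 4, 5, 4, 3]⟩, ⟨16, [], [4, 3, 6, 4, 5, 6, 4, 3, 6, 5]⟩, ⟨268, [(30, true), (27, true), (27, false), (30, false)], [1, 4, 2, 3, 4, 3, 4, 6,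 4, 6]⟩, ⟨245, [(127, true), (127, true), (127, false), (127, false)], [3, 6, 5, 4, 3, 2, 4, 2, 6, 5]⟩, ⟨225, [(31, true), (31, false), (85, false)], [5, 4, 6, 3, 4, 2, 4, 3, 5, 4, 6]⟩]))
 (.leaf (.stab 0 [], .gen))))
 (.node (.node (.leaf (.edge 6 [4, 3, 6, 4, 3, 5, 4, 7, 9, 3, 4, 5, 9, 3, 2, 4] 6 [4, 3, 6, 4, 8, 6, 10, 3, 4, 10, 3, 5, 9, 3, 5, 8], .loop 24 [4, 3, 6, 4, 3, 5, 4, 7, 9, 3, 4, 5, 9, 3, 2, 4] [⟨202, [(31, true)], [2, 6, 4, 3, 6, 4, 6, 4, 4, 6, 3, 4, 3]⟩, ⟨199, [(34, true), (34, true)], [2, 5, 5, 4, 2, 3, 4, 2, 4, 4, 3, 6, 4]⟩]))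
 (.leaf (.stab 0 [], .gen)))
 (.node (.leaf (.edge 4 [4, 0, 9, 3, 10, 5, 5] 7 [4, 7, 6, 4, 3, 6, 4, 5, 9, 3, 4, 5, 8, 10, 3, 10, 3, 6], .loop 12 [4, 0, 9, 3, 10, 5, 5] [⟨142, [], [4, 2, 3, 4, 3, 4, 4, 6, 4, 3]⟩, ⟨75, [(24, true), (25, true), (24, false)], [4, 4, 4, 2, 5, 6, 4, 4]⟩, ⟨101, [(24, true), (24, true), (26, false), (24, false)], [4, 4, 2, 3, 4, 4, 2, 3, 4, 2, 3]⟩, ⟨152, [(26, true), (24, true), (24, true), (24, false), (24, false), (25, false)], [1, 4, 4, 2, 3, 4, 2, 4, 4]⟩, ⟨390, [(86, false)], [2, 4, 2, 3, 4, 6, 4, 5, 4, 6, 5]⟩]))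
 (.leaf (.stab 0 [], .gen))))))
 (.node (.node (.node (.node (.leaf (.edge 5 [9, 3, 5, 10, 3, 9] 4 [4, 5, 4, 3, 6, 4, 3, 10, 3, 4, 10, 3, 4, 6, 10, 5, 5], .loop 4 [9, 3, 5, 10, 3, 9] [⟨11, [], [0, 4, 3, 4, 3, 6, 4, 6, 3, 4, 4, 6]⟩, ⟨41, [(24, true), (24, true), (24, false), (24, false), (24, false)], [2, 6, 4, 2, 4, 2, 3, 4, 3, 4, 6]⟩]))
 (.leaf (.edge 4 [7, 5, 4, 10, 3, 2, 4, 3, 2] 4 [4, 5, 4, 3, 5, 4, 5, 0, 10, 3, 6, 6, 9, 5], .loop 11 [7, 5, 4, 10, 3, 2, 4, 3, 2] [⟨371, [], [4, 2, 4, 3, 6, 4, 2, 4, 3, 4, 4, 6]⟩, ⟨502, [(35, false), (35, false)], [3, 6, 4, 5, 6, 4, 6, 3, 4]⟩])))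
 (.node (.leaf (.edge 4 [3, 4, 6, 4, 8, 0, 9, 3, 2, 6, 4] 10 [4, 3, 7, 5, 4, 3, 0, 9, 3, 6, 9, 3, 6, 7, 9, 3, 9], .loop 10 [3, 4, 6, 4, 8, 0, 9, 3, 2, 6, 4] [⟨286, [(86, false)], [2, 6, 4, 2, 3, 4, 2, 3, 4, 2, 3, 4, 3]⟩, ⟨299, [(86, true)], [2, 4, 4, 5, 4, 2, 3, 4, 3, 2, 6]⟩]))
 (.leaf (.stab 0 [], .gen))))
 (.node (.node (.leaf (.edge 8 [3, 5, 10, 3, 9, 5, 5] 5 [3, 5, 4, 3, 6, 4, 6, 8, 10, 3, 5, 8, 9, 3, 5, 4, 3], .loop 11 [3, 5, 10, 3, 9, 5, 5] [⟨155, [(33, false)], [0, 4, 5, 4, 6, 3, 4, 4, 4, 2, 6, 5]⟩, ⟨150, [(85, false), (31, false)], [4, 4, 6, 3, 4, 2, 3, 4, 3, 2, 5, 4]⟩]))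
 (.leaf (.stab 0 [], .gen)))
 (.node (.leaf (.edge 10 [4, 8, 10, 3, 2, 6, 8] 4 [4, 3, 8, 6, 4, 5, 10, 3, 5, 9, 3, 5, 4, 3, 6, 4, 6], .loop 17 [4, 8, 10, 3, 2, 6, 8] [⟨172, [], [0, 2, 4, 3, 4, 3, 4, 2, 4, 6, 3, 5, 4]⟩, ⟨382, [], [0, 4, 2, 4, 3, 6, 4, 2, 4, 3, 5]⟩, ⟨418, [(35, false)], [3, 4, 2, 4, 4, 3, 4, 2, 4, 6, 3, 4]⟩, ⟨382, [], [1, 4, 5, 4, 6, 4, 3, 4, 3, 2, 5, 4, 3]⟩, ⟨327, [(35, true), (35, false), (35, false)], [1, 2, 6, 4, 4, 3, 4, 6]⟩]))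
 (.leaf (.stab 0 [], .gen)))))
 (.node (.node (.node (.leaf (.edge 4 [5, 4, 3, 7, 5, 4, 6, 9, 3, 2, 6, 4, 3, 2, 5, 4, 3, 8] 4 [3, 6, 4, 3, 6, 4, 7, 0, 9, 3, 10, 5, 4, 3, 10, 5], .loop 4 [5, 4, 3, 7, 5, 4, 6, 9, 3, 2, 6, 4, 3, 2, 5, 4, 3, 8] [⟨48, [], [0, 4, 4, 3, 5, 6, 4, 3, 6, 4, 5]⟩, ⟨97, [(34, true), (87, true), (34, true), (34, true), (87, false), (34, false)], [0, 4, 4, 2, 4, 3, 4, 5]⟩]))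
 (.leaf (.stab 0 [], .gen)))
 (.node (.leaf (.edge 4 [7, 6, 4, 2, 3] 7 [5, 4, 5, 5, 4, 0, 2, 3, 4, 5, 10, 3, 5, 4, 6, 6], .loop 10 [7, 6, 4, 2, 3] [⟨286, [(86, false)], [1, 6, 5, 4, 3, 4, 2, 4, 4, 4, 3, 4, 2]⟩, ⟨365, [], [1, 4, 2, 4, 2, 4, 6, 4, 4, 3]⟩]))
 (.leaf (.stab 0 [], .gen))))
 (.node (.node (.leaf (.edge 9 [5, 4, 3, 7, 0, 2] 6 [3, 4, 7, 5, 4, 9, 3, 2, 3, 4, 10, 5, 8], .loop 28 [5, 4, 3, 7, 0, 2] [⟨129, [(87, false), (34, false)], [4, 5, 4, 2, 3, 4, 2, 4, 6, 4, 5]⟩, ⟨153, [(88, true), (88, false), (181, false)], [0, 4, 2, 4, 3, 4, 4, 2, 4, 4, 4, 4]⟩, ⟨154, [(26, false)], [0, 1, 2, 5, 4, 2, 6, 5, 4]⟩, ⟨102, [(24, true), (24, true), (25, true), (24, true), (25, false), (24, false)], [1, 3, 2, 4, 3, 4, 2, 4, 3, 4, 4, 5]⟩,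 ⟨226, [(31, true), (31, false), (85, false)], [0, 1, 3, 4, 2, 4, 4, 3, 4, 4, 2, 4]⟩]))
 (.leaf (.stab 0 [], .gen)))
 (.node (.leaf (.edge 6 [5, 8, 10, 3, 4] 11 [5, 4, 3, 6, 4, 3, 6, 8, 9, 3, 2, 3, 4, 6, 10, 3], .loop 12 [5, 8, 10, 3, 4] [⟨330, [(31, true), (31, false)], [1, 2, 4, 2, 3, 5, 4, 6, 5, 4, 3, 2]⟩, ⟨391, [(35, true), (35, true), (35, false)], [0, 2, 4, 2, 4, 6, 4, 3, 4, 5, 6]⟩, ⟨89, [], [4, 4, 3, 4, 2, 4, 4, 6, 4, 4, 3, 4]⟩, ⟨173, [(241, true), (88, true), (241, true), (33, false), (181, false), (241, false)], [0, 3, 6, 4, 4, 6, 4, 3, 4, 5, 6, 4]⟩, ⟨357, [], [4, 3, 6, 4, 4, 4, 6, 5, 4, 3, 4]⟩]))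
 (.leaf (.stab 0 [], .gen)))))))
 (.node (.node (.node (.node (.node (.leaf (.stab 3 [3, 6, 4, 6, 0, 10, 3, 6, 9, 5, 4, 3, 7, 10, 6], .dupF 9 ⟨9, [(23, false), (20, false), (22, true), (21, true), (23, true)], [1, 3, 4, 2, 4, 4, 4, 3, 4, 6, 4, 3, 4]⟩))
 (.leaf (.edge 4 [4, 5, 0, 10, 3, 2, 5] 6 [4, 7, 6, 4, 3, 6, 0, 9, 3, 5, 4, 9, 3, 6, 8, 10], .loop 11 [4, 5, 0, 10, 3, 2, 5] [⟨274, [], [4, 4, 6, 3, 4, 4, 6, 4, 2, 4]⟩, ⟨487, [], [3, 4, 5, 4, 5, 6, 3, 4, 2, 6, 5]⟩])))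
 (.node (.leaf (.edge 4 [4, 6, 4, 5, 10, 3, 6, 9] 4 [8, 6, 4, 3, 5, 4, 5, 0, 10, 3, 2, 5, 4, 3, 6, 6, 4], .loop 4 [4, 6, 4, 5, 10, 3, 6, 9] [⟨220, [], [1, 2, 4, 4, 6, 4, 3, 4, 5, 4, 6]⟩, ⟨197, [(239, true), (239, true), (239, false)], [2, 4, 6, 5, 4, 3, 4, 6, 3, 4, 6]⟩]))
 (.leaf (.stab 0 [], .gen))))
 (.node (.node (.leaf (.edge 6 [3, 4, 7, 6, 4, 10, 3, 2, 3, 6, 4, 3] 5 [4, 5, 5, 4, 3, 5, 0, 9, 3, 9, 6, 4, 8, 5], .loop 11 [3, 4, 7, 6, 4, 10, 3, 2, 3, 6, 4, 3] [⟨137, [(31, false)], [4, 4, 2, 6, 4, 6, 4, 6, 3]⟩, ⟨113, [], [2, 4, 4, 5, 6, 3, 4, 2, 4, 3, 4, 6]⟩]))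
 (.leaf (.stab 0 [], .gen)))
 (.node (.leaf (.edge 11 [5, 4, 7, 9, 3, 2, 4, 3, 6, 8] 7 [6, 6, 4, 6, 2, 3, 4, 5, 5, 10, 3, 6, 4, 10], .loop 12 [5, 4, 7, 9, 3, 2, 4, 3, 6, 8] [⟨313, [], [0, 6, 4, 3, 4, 6]⟩, ⟨339, [], [6, 4, 3, 4, 2, 4, 4, 4, 4]⟩, ⟨170, [(35, true), (35, true), (35, false)], [4, 2, 3, 4, 4, 3, 6, 5, 4, 2]⟩, ⟨143, [], [3, 5, 4, 6, 4, 3, 4]⟩, ⟨369, [(127, true), (127, false), (127, false)], [2, 5, 6, 4, 6, 3, 4, 4, 4, 6, 4]⟩]))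
 (.leaf (.stab 0 [], .gen)))))
 (.node (.node (.node (.leaf (.edge 12 [5, 9, 3, 2, 3, 5, 4, 3, 10, 3] 11 [3, 4, 5, 4, 3, 5, 4, 6, 0, 9, 3, 5, 9, 6, 4, 3, 9, 5, 5], .loop 1 [5, 9, 3, 2, 3, 5, 4, 3, 10, 3] [⟨18, [], [0, 4, 6, 4, 3]⟩, ⟨72, [(30, true), (28, true), (27, true), (28, false), (30, false), (28, false)], [0, 4, 3, 4, 4, 6, 4, 3, 4, 2]⟩]))
 (.leaf (.stab 0 [], .gen)))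
 (.node (.leaf (.edge 5 [4, 5, 7, 9, 3, 4, 6, 4, 3, 2, 3, 2] 11 [4, 3, 5, 4, 3, 8, 6, 2, 3, 4, 10, 3, 4, 5, 4, 5, 10, 5], .loop 1 [4, 5, 7, 9, 3, 4, 6, 4, 3, 2, 3, 2] [⟨211, [(239, true), (239, true), (83, false)], [2, 4, 3, 4, 6, 4, 3, 4, 3, 2, 6]⟩, ⟨281, [], [1, 3, 4, 6, 4, 4, 3, 2, 4, 5]⟩]))
 (.leaf (.stab 0 [], .gen))))
 (.node (.node (.leaf (.edge 8 [4, 5, 4, 0, 10, 3, 6, 8, 9] 5 [8, 6, 4, 3, 5, 4, 5, 9, 3, 5, 10, 3, 9, 3, 6, 6, 10], .loop 16 [4, 5, 4, 0, 10, 3, 6, 8, 9] [⟨168, [(88, true), (181, true), (33, true), (181, false), (88, false)], [4, 3, 6, 4, 2, 4, 4, 5, 6, 3, 4]⟩, ⟨220, [(86, true)], [3, 4, 2, 4, 3, 6, 4, 2, 3, 5, 5, 4]⟩, ⟨65, [], [0, 4, 4, 3, 5, 6, 4, 2, 4, 4, 5, 6, 3]⟩, ⟨155, [(33, true), (33, false)], [3,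 4, 4, 2, 6, 4, 3, 5, 6, 4, 4, 3]⟩, ⟨207, [(85, true), (31, true), (31, false)], [2, 6, 4, 6, 3, 4, 3, 4, 6, 4, 3]⟩, ⟨205, [(85, true), (31, false)], [0, 2, 4, 4, 6, 4, 4, 6, 4]⟩]))
 (.leaf (.stab 0 [], .gen)))
 (.node (.leaf (.edge 7 [3, 5, 4, 3, 10, 3, 5] 7 [7, 5, 4, 5, 4, 0, 9, 3, 5, 9, 3, 5, 4, 3, 5], .loop 12 [3, 5, 4, 3, 10, 3, 5] [⟨342, [(84, false), (32, false)], [1, 3, 4, 3, 2, 4, 3, 4, 4, 2, 6, 5]⟩, ⟨365, [], [4, 5, 6, 4, 6, 3, 4, 2, 4, 2]⟩, ⟨443, [(32, true), (84, false)], [0, 4, 5, 6, 4, 2, 4, 5, 4, 6]⟩, ⟨271, [(35, true), (35, true)], [4, 2, 4, 3, 6, 4, 2, 4, 4, 5, 4]⟩, ⟨59, [], [6, 4, 4, 3, 4, 5, 4, 2]⟩]))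
 (.leaf (.stab 0 [], .gen))))))
 (.node (.node (.node (.node (.leaf (.edge 9 [3, 9, 3, 2, 4] 8 [3, 4, 3, 8, 0, 2, 3, 4, 10, 3, 2], .loop 7 [3, 9, 3, 2, 4] [⟨15, [], [2, 4, 2, 3, 4, 3, 4, 4, 4, 2, 4, 3, 4]⟩, ⟨53, [(25, true), (26, true), (24, false)], [5, 4, 3, 4, 6, 4, 3, 4, 4, 4]⟩]))
 (.leaf (.stab 0 [], .gen)))
 (.node (.leaf (.edge 6 [3, 4, 9, 3, 2, 6, 4, 3, 9, 5] 10 [5, 4, 5, 5, 0, 9, 3, 5, 9, 3, 6, 4, 3], .loop 2 [3, 4, 9, 3, 2, 6, 4, 3, 9, 5] [⟨300, [(31, true), (85, true), (31, false), (85, false)], [3, 2, 4, 2, 4, 4, 3, 5, 4, 2, 5]⟩, ⟨312, [(35, true), (35, false), (35, false), (35, false)], [0, 3, 4, 4, 2, 6, 4, 6, 4, 3]⟩]))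
 (.leaf (.stab 0 [], .gen))))
 (.node (.node (.leaf (.edge 10 [6, 6, 4, 0, 10, 3, 2, 4, 3] 4 [5, 4, 3, 6, 4, 6, 9, 3, 4, 6, 4, 9, 3, 6, 6, 4], .loop 16 [6, 6, 4, 0, 10, 3, 2, 4, 3] [⟨185, [], [1, 3, 5, 4, 2, 4, 4, 2, 3, 4]⟩, ⟨170, [(35, true), (35, true), (35, false)], [1, 3]⟩, ⟨149, [(127, true)], [3, 4, 6, 4, 3, 4, 3, 4, 6]⟩, ⟨17, [], [3, 5, 4, 2, 4, 3, 4, 3, 6, 5, 4, 2, 4]⟩, ⟨166, [(126, true), (29, true), (27, true)], [2, 4, 4, 3, 4, 2, 4, 2, 3, 4, 6, 4, 6]⟩, ⟨41, [(24, true), (26, true), (24, true), (24, false), (24, false), (24, false)], [0, 2, 4, 3, 5, 4, 2, 4, 6]⟩]))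
 (.leaf (.stab 0 [], .gen)))
 (.node (.leaf (.edge 11 [3, 4, 10, 3, 2, 6, 4, 3, 5, 8] 11 [3, 7, 6, 4, 3, 6, 8, 0, 2, 3, 9, 6, 4, 3, 2, 5, 7], .loop 17 [3, 4, 10, 3, 2, 6, 4, 3, 5, 8] [⟨243, [(35, false), (35, false)], [3, 4, 6, 5, 4, 3, 2, 4, 5, 5, 4]⟩, ⟨227, [(86, true)], [4, 2, 4, 3, 6, 4, 2, 6, 5, 4]⟩, ⟨409, [(83, true), (239, true)], [0, 2, 6, 4, 6, 3, 4, 6, 5, 4]⟩, ⟨231, [], [6, 4, 3, 4, 2, 4, 2, 6, 5, 4, 3, 4]⟩, ⟨234, [(83, true), (239, true), (83, false), (239, false)], [1, 4, 4, 4, 3, 5, 4, 6, 4, 4, 3, 2, 4]⟩]))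
 (.leaf (.stab 0 [], .gen)))))
 (.node (.node (.node (.leaf (.stab 3 [4, 3, 5, 5, 4, 7, 0, 2, 3, 2, 4, 3, 10], .dupF 9 ⟨9, [(23, false), (20, false), (22, false), (124, true), (23, true), (21, true), (20, true)], [3, 4, 5, 4, 6, 3]⟩))
 (.leaf (.stab 0 [], .gen)))
 (.node (.leaf (.edge 11 [3, 5, 4, 3, 10, 3, 4, 5] 10 [3, 5, 4, 3, 6, 8, 2, 3, 2, 4, 3, 5, 8, 10, 3, 5], .loop 11 [3, 5, 4, 3, 10, 3, 4, 5] [⟨294, [(35, false)], [3, 2, 4, 4, 5, 6, 4, 3, 4, 2, 4, 2]⟩, ⟨232, [], [2, 3, 5, 4, 3, 4, 2, 3, 4, 4, 3, 6]⟩]))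
 (.leaf (.stab 0 [], .gen))))
 (.node (.node (.leaf (.edge 11 [7, 5, 4, 3, 9, 3, 5, 4] 10 [7, 5, 4, 3, 5, 4, 5, 4, 0, 9, 3, 6, 9, 3, 5, 9, 3], .loop 4 [7, 5, 4, 3, 9, 3, 5, 4] [⟨253, [(35, true), (35, true), (35, false)], [0, 4, 2, 4, 3, 5, 6, 4, 3, 6, 4, 3]⟩, ⟨242, [(32, false)], [1, 2, 4, 5, 6, 4, 3, 2, 4, 6, 5]⟩]))
 (.leaf (.stab 0 [], .gen)))
 (.node (.leaf (.edge 11 [6, 4, 9, 3, 5, 5, 9] 11 [4, 3, 6, 4, 3, 8, 2, 3, 9, 5, 4, 3, 8, 10, 3, 5, 10], .loop 11 [6, 4, 9, 3, 5, 5, 9] [⟨360, [(35, false)], [3, 4, 3, 4, 3, 2, 4, 3, 6, 4, 5, 5]⟩, ⟨336, [(35, false), (35, false)], [2, 4, 2, 4, 3, 4, 2, 4, 6, 5, 6]⟩]))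
 (.leaf (.stab 0 [], .gen))))))))

/-- items -/
noncomputable def items8 : ITree (Item × Why) :=
 (.node (.node (.node (.node (.node (.node (.leaf (.stab 0 [2], .gen))
 (.leaf (.edge 11 [5, 5, 4, 3, 6, 0, 10, 6] 11 [5, 5, 4, 3, 6, 4, 5, 10, 3, 5, 4, 7, 9, 3, 2, 3, 6], .loop 12 [5, 5, 4, 3, 6, 0, 10, 6] [⟨278, [(35, true), (35, true), (35, true)], [4, 2, 4, 6, 5, 4, 3, 4, 3, 5]⟩, ⟨262, [(32, true), (84, false), (32, false)], [3, 4, 2, 4, 4, 3, 6, 4, 3]⟩, ⟨413, [], [4, 3, 2, 6, 4, 6, 4, 4, 6, 3, 4]⟩, ⟨435, [(35, true)], [5, 6, 4, 3, 4, 4, 5, 6, 3, 4]⟩, ⟨433, [(249, true), (127, true), (127, true)], [5, 6, 4, 2, 3, 4, 3, 4, 3, 6]⟩])))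
 (.node (.leaf (.edge 11 [8, 6, 4, 0, 10, 3, 2, 4, 3, 2] 5 [3, 4, 5, 4, 5, 7, 10, 3, 5, 9, 3, 9, 3, 5, 9], .loop 3 [8, 6, 4, 0, 10, 3, 2, 4, 3, 2] [⟨231, [], [4, 2, 6, 4, 5, 6, 3, 4]⟩, ⟨221, [(239, true), (239, true)], [2, 4, 2, 4, 3, 6, 4, 2, 3, 6]⟩]))
 (.leaf (.stab 0 [], .gen))))
 (.node (.node (.leaf (.edge 8 [3, 0, 9, 3, 5, 4] 9 [3, 4, 3, 5, 4, 6, 0, 9, 3, 5, 10, 3, 4, 6, 9, 3, 10], .loop 4 [3, 0, 9, 3, 5, 4] [⟨113, [], [4, 5, 4, 6, 3, 4, 3, 4, 2, 3]⟩, ⟨76, [], [1, 4, 3, 4, 2, 3, 5, 4, 5, 6, 4]⟩]))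
 (.leaf (.stab 0 [], .gen)))
 (.node (.leaf (.edge 6 [8, 0, 10, 3, 2, 4, 5, 4, 3, 7, 9, 5] 4 [3, 6, 7, 0, 10, 3, 6, 10, 3, 10, 3, 6, 4, 3], .loop 23 [8, 0, 10, 3, 2, 4, 5, 4, 3, 7, 9, 5] [⟨217, [(85, true), (85, false)], [5, 4, 6, 5, 4, 3, 2, 4, 4, 6, 3, 4]⟩, ⟨220, [], [3, 4, 5, 6, 4, 2, 3, 4, 4, 6, 4, 6]⟩, ⟨216, [(239, false), (83, false)], [3, 4, 4, 4, 5, 6, 3, 4, 4, 4]⟩, ⟨189, [(86, true), (86, false)], [4, 3, 2, 4, 3, 4, 6, 4, 3, 4, 6, 3]⟩, ⟨139, [(239, true), (83, true)], [0, 2, 4, 3, 4, 5, 6, 4, 6, 3, 4]⟩]))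
 (.leaf (.stab 0 [], .gen)))))
 (.node (.node (.node (.leaf (.edge 8 [6, 4, 3, 0, 9, 3] 5 [3, 6, 9, 3, 4, 9], .loop 1 [6, 4, 3, 0, 9, 3] [⟨14, [], [0, 5, 4, 5, 4, 2, 5]⟩, ⟨61, [(24, false), (24, false), (24, false)], [1, 2, 3]⟩]))
 (.leaf (.stab 0 [], .gen)))
 (.node (.leaf (.edge 11 [3, 7, 5, 4, 3, 5, 10, 3, 6, 10, 3, 5, 9, 3, 2] 4 [3, 5, 4, 8, 6, 4, 9, 3, 4, 6, 4, 10, 3, 6, 9, 6], .loop 8 [3, 7, 5, 4, 3, 5, 10, 3, 6, 10, 3, 5, 9, 3, 2] [⟨261, [(35, true), (35, true)], [4, 3, 4, 6, 4, 2, 4, 5, 6, 3, 4, 3]⟩, ⟨211, [(83, true), (83, false)], [1, 5, 5, 4, 3, 4, 2, 4, 4, 5, 4]⟩, ⟨266, [(86, true)], [2, 5, 4, 2, 3, 4, 4, 6, 4, 4]⟩]))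
 (.leaf (.stab 0 [], .gen))))
 (.node (.node (.leaf (.edge 9 [4, 6, 4, 10, 3, 2, 3, 6, 4, 3, 2, 7, 5] 6 [5, 5, 5, 4, 3, 9, 3, 2, 6, 4, 3, 6, 9, 6], .loop 21 [4, 6, 4, 10, 3, 2, 3, 6, 4, 3, 2, 7, 5] [⟨129, [(87, true), (87, false), (34, false)], [2, 4, 2, 3, 4, 5, 6, 3, 4, 4]⟩, ⟨14, [(88, true)], [2, 3, 6, 4, 6, 4, 4, 3, 2, 4, 5, 5]⟩, ⟨159, [(25, true), (24, true), (24, false), (25, false)], [1, 2, 3, 4, 6, 4, 4, 4, 3, 4, 4]⟩, ⟨75, [(24, false)], [2, 3, 4, 2, 4, 4, 6, 3, 5, 4, 2, 4, 6]⟩, ⟨159, [(24, true), (24, false), (25, false)], [0, 5, 4, 5, 6, 4, 3, 4, 6, 4, 4, 6]⟩, ⟨102, [(25, true), (24, true), (25, false), (24, false)], [0, 6, 4, 4, 2, 4, 3, 4, 3, 5, 5]⟩]))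
 (.leaf (.stab 0 [], .gen)))
 (.node (.leaf (.edge 11 [3, 5, 4, 8, 10, 3, 5, 5] 4 [5, 4, 5, 4, 3, 8, 9, 3, 2, 4, 3, 5, 4, 7, 9, 6], .loop 32 [3, 5, 4, 8, 10, 3, 5, 5] [⟨293, [], [0, 4, 3, 6, 4, 2, 4, 3, 6, 4, 2, 4, 6]⟩, ⟨417, [(86, true)], [4, 3, 4, 2, 3, 4, 4, 3, 5, 4, 5]⟩, ⟨237, [], [3, 6, 4, 4, 3, 2, 6, 4, 2, 4]⟩, ⟨343, [(86, false)], [6, 5, 4, 3, 4, 2, 5, 4, 6]⟩, ⟨329, [(86, true), (86, false)], [5, 4, 3, 6, 4, 2, 4, 3, 5, 4, 6, 4]⟩]))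
 (.leaf (.stab 0 [], .gen))))))
 (.node (.node (.node (.node (.leaf (.stab 8 [7], .dupF 14 ⟨14, [(24, true), (24, true)], [5]⟩))
 (.leaf (.edge 10 [2, 3, 4, 9] 5 [7, 5, 4, 5, 4, 0, 2, 3, 2, 4, 3, 6, 4, 8, 10], .loop 11 [2, 3, 4, 9] [⟨308, [], [6, 5, 4, 2, 4, 3, 4, 3, 2, 5, 4, 3]⟩, ⟨399, [], [0, 3, 6, 4, 6, 4, 4, 3, 4, 5, 4]⟩])))
 (.node (.leaf (.edge 11 [3, 6, 4, 5, 5, 0, 10, 3, 5, 8, 10] 4 [4, 3, 6, 4, 3, 10, 3, 5, 10, 3, 2, 6, 4, 5], .loop 0 [3, 6, 4, 5, 5, 0, 10, 3, 5, 8, 10] [⟨277, [(35, false), (35, false), (35, false)], [0, 3, 4, 3, 4, 2, 4, 4, 6, 3]⟩]))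
 (.leaf (.stab 0 [], .gen))))
 (.node (.node (.leaf (.edge 2 [3, 9, 3] 2 [4, 3, 7, 10, 3], .loop 4 [3, 9, 3] [⟨154, [(26, true), (26, false)], [2, 3, 5, 6]⟩, ⟨130, [], [5]⟩]))
 (.leaf (.stab 0 [], .gen)))
 (.node (.leaf (.edge 4 [10, 3, 2, 3, 5, 4, 3, 7, 9] 4 [3, 4, 5, 4, 3, 5, 4, 5, 4, 9, 3, 2, 6, 4, 3, 6, 9, 5], .loop 11 [10, 3, 2, 3, 5, 4, 3, 7, 9] [⟨361, [(86, false)], [1, 3, 4, 4, 4, 2, 4, 4, 4, 4, 3]⟩, ⟨251, [], [6, 4, 3, 5, 5, 4, 2, 4, 3, 4, 4, 4]⟩]))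
 (.leaf (.stab 0 [], .gen)))))
 (.node (.node (.node (.leaf (.edge 4 [4, 6, 4, 9, 3, 5, 10, 3, 9, 3, 9, 3] 9 [4, 3, 6, 4, 7, 0, 10, 3, 4, 5, 9, 3, 10, 5, 7], .loop 11 [4, 6, 4, 9, 3, 5, 10, 3, 9, 3, 9, 3] [⟨79, [], [4, 3, 6, 4, 2, 3, 4, 3, 4, 6, 5]⟩, ⟨76, [], [0, 2, 5, 4, 6, 4, 3, 4, 4, 2]⟩]))
 (.leaf (.stab 0 [], .gen)))
 (.node (.leaf (.edge 4 [4, 8, 5, 9, 3, 5, 10] 6 [6, 4, 6, 4, 3, 0, 2, 3, 4, 5, 8, 10, 3, 5, 9], .loop 11 [4, 8, 5, 9, 3, 5, 10] [⟨230, [(86, false)], [1, 2, 4, 3, 4, 3, 2, 4, 6]⟩, ⟨247, [(32, false), (84, false), (32, false)], [5, 4, 2, 4, 3, 4, 2, 3, 4, 5, 6]⟩]))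
 (.leaf (.stab 0 [], .gen))))
 (.node (.node (.leaf (.edge 6 [8, 6, 4, 3, 6, 4, 5, 8, 10, 3, 5, 9, 3, 5, 4, 10, 3, 5] 6 [5, 5, 4, 3, 6, 4, 5, 10, 3, 2, 6, 4, 3, 5, 9, 3, 6], .loop 1 [8, 6, 4, 3, 6, 4, 5, 8, 10, 3, 5, 9, 3, 5, 4, 10, 3, 5] [⟨202, [(31, true)], [5, 6, 4, 2, 4, 6, 4, 3, 6]⟩, ⟨215, [(87, true), (34, true)], [1, 3, 4, 2, 4, 6, 4, 3, 4, 5, 6]⟩]))
 (.leaf (.stab 0 [], .gen)))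
 (.node (.leaf (.edge 11 [3, 5, 4, 3, 8, 0, 9, 3] 6 [3, 7, 6, 4, 3, 5, 4, 7, 0, 10, 3, 4, 6, 10, 3, 4, 6, 8, 9], .loop 11 [3, 5, 4, 3, 8, 0, 9, 3] [⟨431, [], [2, 3, 6, 4, 3, 6, 4, 3, 5, 5, 4, 2]⟩, ⟨214, [(127, false)], [2, 5, 4, 6, 4, 3, 4, 6, 4]⟩]))
 (.leaf (.stab 0 [], .gen)))))))
 (.node (.node (.node (.node (.node (.leaf (.edge 3 [3, 4, 9, 3] 11 [], .orbit))
 (.leaf (.edge 5 [4, 5, 5, 9, 3, 2, 5, 4, 3] 9 [4, 6, 4, 3, 7, 5, 4, 9, 3, 2, 3, 4, 6, 4, 7, 9, 3, 4], .loop 11 [4, 5, 5, 9, 3, 2, 5, 4, 3] [⟨517, [(239, false)], [2, 3, 4, 2, 4, 6, 4, 3, 4, 3, 5]⟩, ⟨260, [], [5, 4, 5, 6, 3, 2, 4, 4, 3, 5]⟩])))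
 (.node (.leaf (.edge 10 [5, 4, 7, 0, 2, 3, 4, 5] 4 [8, 6, 4, 3, 5, 2, 3, 2, 4, 3, 5, 8], .loop 11 [5, 4, 7, 0, 2, 3, 4, 5] [⟨192, [(127, false), (249, false)], [1, 4, 4, 2, 4, 3, 4, 3, 4, 2]⟩, ⟨233, [(83, false)], [3, 4, 2, 4, 3, 4, 2, 4, 2, 4, 5]⟩]))
 (.leaf (.stab 0 [], .gen))))
 (.node (.node (.leaf (.edge 10 [6, 6, 4, 3, 0, 2, 3, 10, 3, 10, 3, 4] 11 [6, 6, 4, 3, 6, 10, 3, 4, 5, 5, 10, 6, 6], .loop 10 [6, 6, 4, 3, 0, 2, 3, 10, 3, 10, 3, 4] [⟨16, [], [0, 5, 6, 3, 4, 3, 4, 6, 4, 3, 4, 4, 4]⟩, ⟨72, [(126, true), (30, true), (126, true), (28, false), (30, false), (28, false)], [4, 3, 5, 4, 2, 4, 6, 3, 4, 4, 6]⟩]))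
 (.leaf (.stab 0 [], .gen)))
 (.node (.leaf (.edge 7 [3, 5, 4, 3, 9, 3] 3 [3, 4, 5, 5, 4, 3, 5, 4, 6, 9, 3, 4, 6, 9, 3, 5, 5, 4, 5], .loop 12 [3, 5, 4, 3, 9, 3] [⟨342, [(84, false), (32, false)], [3, 4, 2, 3, 4, 3, 4, 4, 2, 6, 5, 4]⟩, ⟨356, [(86, false)], [0, 5, 6, 3, 4, 6, 4, 2]⟩, ⟨43, [], [4, 3, 6, 4, 3, 2, 4, 4, 2, 6, 5]⟩, ⟨234, [(83, true), (239, true), (83, false), (239, false)], [0, 4, 3, 4, 4, 3, 6, 4, 6, 3, 4, 6, 4]⟩, ⟨17, [], [5, 4, 2, 3, 4, 2, 3, 4, 2, 3, 4, 2, 3]⟩]))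
 (.leaf (.stab 0 [], .gen)))))
 (.node (.node (.node (.leaf (.edge 4 [3, 0, 9, 3, 6, 4, 9, 6] 6 [5, 7, 5, 4, 0, 9, 3, 6, 10, 3, 2, 5, 8], .loop 1 [3, 0, 9, 3, 6, 4, 9, 6] [⟨80, [], [4, 5, 6, 4, 3, 4, 3, 4, 2, 4, 3, 6]⟩, ⟨66, [], [4, 6, 4, 4, 2, 3, 4, 3, 4]⟩]))
 (.leaf (.stab 0 [], .gen)))
 (.node (.leaf (.edge 6 [7, 5, 0, 9, 3] 11 [4, 7, 6, 4, 5, 0, 10, 3, 2, 6, 4, 3, 5, 9, 6, 6], .loop 10 [7, 5, 0, 9, 3] [⟨200, [(31, true), (85, true), (85, false)], [4, 2, 4, 3, 6, 4, 5, 6, 3, 4, 2]⟩, ⟨257, [(239, true), (239, false), (239, false)], [5, 4, 3, 6, 4, 2, 3, 4, 3, 5, 6]⟩]))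
 (.leaf (.stab 0 [], .gen))))
 (.node (.node (.leaf (.edge 5 [6, 6, 4, 9, 3, 2, 3, 6, 4, 3] 5 [6, 4, 3, 8, 6, 0, 9, 3, 9, 5, 4, 3, 5, 10], .loop 23 [6, 6, 4, 9, 3, 2, 3, 6, 4, 3] [⟨67, [], [2, 4, 3, 6, 4, 4, 6, 4, 3, 4, 6, 3, 2]⟩, ⟨197, [], [1, 4, 2, 3, 4, 3, 2, 4, 4, 2]⟩, ⟨142, [], [0, 4, 3, 4, 3, 4, 2, 4, 5, 6, 3, 4, 6]⟩, ⟨161, [(26, false)], [4, 4, 5, 6, 4, 3, 4, 2, 3, 4, 6]⟩, ⟨61, [(26, true), (24, true), (26, true), (24, false), (24, false), (24, false)], [4, 5, 4, 5, 6, 4, 3, 2, 4, 6, 5]⟩]))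
 (.leaf (.stab 0 [], .gen)))
 (.node (.leaf (.edge 7 [5, 4, 0, 10, 3, 4, 10] 10 [8, 5, 4, 3, 6, 4, 5, 9, 3, 6, 6, 9, 3, 6], .loop 11 [5, 4, 0, 10, 3, 4, 10] [⟨442, [(32, false), (84, false), (32, false)], [6, 3, 5, 4, 3, 4, 6, 4, 2, 5]⟩, ⟨307, [(85, false), (31, false)], [0, 3, 4, 2, 4, 4, 6, 3, 4, 3, 4, 4]⟩]))
 (.leaf (.stab 0 [], .gen))))))
 (.node (.node (.node (.node (.leaf (.edge 4 [4, 7, 6, 4, 3, 0, 9, 3, 5, 10, 3, 2, 3, 4, 6, 6] 5 [3, 7, 6, 4, 2, 3, 4, 10, 3, 2, 5, 4, 7], .loop 0 [4, 7, 6, 4, 3, 0, 9, 3, 5, 10, 3, 2, 3, 4, 6, 6] [⟨43, [], [1, 6, 4, 3, 2, 5]⟩]))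
 (.leaf (.edge 11 [3, 0, 9, 3, 2, 5, 4, 3, 5] 4 [4, 3, 6, 4, 3, 6, 4, 7, 6, 0, 2, 3, 4, 5, 10, 3, 10, 3, 9], .loop 11 [3, 0, 9, 3, 2, 5, 4, 3, 5] [⟨518, [(35, false)], [1, 2, 5, 4, 6, 4, 3, 4, 2, 4, 6]⟩, ⟨217, [(85, false)], [4, 5, 4, 6, 4, 3, 4, 3, 4, 2, 6]⟩])))
 (.node (.leaf (.edge 10 [3, 4, 3, 5, 4, 6, 10, 3, 5] 12 [5, 5, 4, 9, 3, 5, 8, 10, 3, 2, 6, 4, 6, 8], .loop 4 [3, 4, 3, 5, 4, 6, 10, 3, 5] [⟨254, [(127, true), (127, false)], [0, 4, 4, 6, 4, 3, 4, 2, 6, 4, 4, 6]⟩, ⟨94, [(35, true)], [4, 2, 6, 5, 4, 3, 2, 4, 4, 2, 5]⟩]))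
 (.leaf (.stab 0 [], .gen))))
 (.node (.node (.leaf (.edge 7 [3, 6, 0, 10, 3, 2, 4] 8 [3, 4, 5, 4, 8, 6, 10, 3, 4, 5, 10, 6, 4, 3, 2, 8], .loop 11 [3, 6, 0, 10, 3, 2, 4] [⟨58, [(84, false)], [4, 3, 2, 4, 4, 3, 6, 4, 2, 5, 6]⟩, ⟨89, [], [5, 4, 2, 3, 6, 5, 4, 2, 4, 4]⟩]))
 (.leaf (.stab 0 [], .gen)))
 (.node (.leaf (.edge 11 [5, 4, 9, 3] 10 [3, 4, 5, 4, 0, 10, 3, 5, 9, 3, 2, 6, 7], .loop 11 [5, 4, 9, 3] [⟨313, [], [2, 5, 4, 2, 3, 4, 4, 6, 4, 4, 6]⟩, ⟨373, [(86, false)], [1, 6, 4, 3, 2, 4, 3, 4, 4, 2, 4]⟩]))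
 (.leaf (.stab 0 [], .gen)))))
 (.node (.node (.node (.leaf (.edge 5 [5, 4, 3, 9, 3, 4, 5, 4] 8 [5, 5, 4, 3, 5, 8, 9, 3, 6, 10, 3, 6, 10, 3, 4, 6], .loop 4 [5, 4, 3, 9, 3, 4, 5, 4] [⟨67, [(83, true)], [0, 4, 3, 6, 4, 2, 6, 4]⟩, ⟨65, [], [1, 2, 4, 2, 4, 3, 4, 2, 4, 4, 3, 4, 4, 6]⟩]))
 (.leaf (.stab 0 [], .gen)))
 (.node (.leaf (.edge 7 [5, 4, 5, 0, 10, 3, 9] 10 [5, 5, 5, 4, 3, 6, 4, 5, 9, 3, 4, 6, 9, 3, 5, 4, 8, 5], .loop 12 [5, 4, 5, 0, 10, 3, 9] [⟨112, [], [4, 6, 4, 4, 3, 2, 6, 4, 2, 4, 6]⟩, ⟨194, [(84, true), (32, true)], [5, 4, 3, 4, 6, 3, 4, 3, 4, 5]⟩, ⟨247, [(84, true), (32, true), (32, false), (84, false), (32, false)], [3, 6, 5, 4, 2, 4, 3, 4, 6, 4, 4, 3]⟩, ⟨206, [(31, true), (31, false)], [0, 4, 3, 4, 5, 6, 4, 3, 4, 4,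 6, 4, 6, 3]⟩, ⟨232, [(31, true), (85, true), (31, true)], [0, 2, 4, 4, 3, 4, 5, 6, 4, 3, 4, 6]⟩]))
 (.leaf (.stab 0 [], .gen))))
 (.node (.node (.leaf (.stab 8 [3, 4, 6, 4, 3, 5, 4, 7, 6, 9, 3, 10], .dupB 222 ⟨174, [(83, true), (83, false), (239, false)], [0, 6, 4, 3, 4, 4, 2, 4, 4, 6, 3, 4]⟩))
 (.leaf (.stab 0 [], .gen)))
 (.node (.leaf (.edge 10 [3, 4, 3, 7, 10, 3, 2, 4, 3, 5, 8] 7 [5, 4, 3, 6, 8, 6, 0, 9, 3, 5, 4, 10, 3, 5, 4], .loop 11 [3, 4, 3, 7, 10, 3, 2, 4, 3, 5, 8] [⟨378, [(127, false), (249, false)], [3, 4, 2, 4, 2, 4, 3, 4, 4, 6, 4, 6]⟩, ⟨486, [(127, false), (127, false)], [3, 6, 4, 4, 3, 2, 4, 3, 6, 4, 4, 2]⟩]))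
 (.leaf (.stab 0 [], .gen))))))))

/-- items -/
noncomputable def items9 : ITree (Item × Why) :=
 (.node (.node (.node (.node (.node (.node (.leaf (.edge 1 [3, 5, 4, 9, 3] 3 [], .orbit))
 (.leaf (.edge 4 [5, 4, 9, 3, 2] 4 [4, 5, 4, 3, 6, 4, 7, 10, 3, 6, 10, 3, 6, 6, 10, 5, 4], .loop 11 [5, 4, 9, 3, 2] [⟨475, [(86, false)], [0, 3, 4, 5, 6, 4, 2, 4, 3, 5, 4, 2, 4]⟩, ⟨297, [(86, false)], [4, 2, 3, 4, 4, 6, 5]⟩])))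
 (.node (.leaf (.edge 6 [0, 9, 3, 2, 3, 5, 4, 3, 2] 4 [3, 4, 3, 5, 4, 0, 9, 3, 4, 10, 5, 4, 7], .loop 20 [0, 9, 3, 2, 3, 5, 4, 3, 2] [⟨12, [], [0, 6, 4, 3]⟩, ⟨101, [(25, true), (24, true), (26, false), (24, false)], [3, 6, 4, 4, 3, 2, 4, 2, 4, 3, 4, 5]⟩, ⟨75, [(24, true), (24, false)], [1, 2, 4, 5, 6, 4, 4, 6, 4, 3]⟩, ⟨82, [(25, true), (24, true), (25, false), (24, false)], [0, 2, 4, 4, 3, 6, 4, 4, 6, 4, 3, 6, 4]⟩, ⟨135, [(83, false), (239, false)], [1, 3, 5, 4, 2, 3, 4, 4, 6, 4, 4, 3, 4]⟩]))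
 (.leaf (.stab 0 [], .gen))))
 (.node (.node (.leaf (.edge 8 [3, 5, 8, 9, 3, 4] 6 [3, 6, 4, 3, 7, 9, 3, 2, 3, 4, 6, 10, 3, 4, 5], .loop 3 [3, 5, 8, 9, 3, 4] [⟨14, [], [2, 3, 4, 3, 4, 4, 4, 2, 4, 3, 4, 6, 5]⟩, ⟨102, [(24, true), (26, true), (25, true), (25, false), (24, false)], [3, 4, 2, 5, 4, 5, 6, 4]⟩]))
 (.leaf (.stab 0 [], .gen)))
 (.node (.leaf (.edge 4 [0, 10, 3, 2, 5, 4, 3, 2] 7 [3, 4, 5, 4, 6, 7, 10, 3, 4, 5, 10, 3, 5, 4, 8, 9], .loop 28 [0, 10, 3, 2, 5, 4, 3, 2] [⟨362, [], [2, 3, 4, 2, 3, 4, 5, 6, 3, 4, 2, 3]⟩, ⟨46, [(86, false)], [2, 4, 3, 4, 2, 5, 5, 4, 3, 4, 2]⟩, ⟨188, [(239, true), (83, true), (239, false), (239, false)], [5, 4, 3, 2, 4, 6, 4, 4, 4, 6]⟩, ⟨272, [(85, false)], [0, 4, 4, 4, 3, 6, 4, 4, 4, 6, 4]⟩, ⟨148,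 [], [0, 2, 4, 5, 4, 6, 5, 4]⟩]))
 (.leaf (.stab 0 [], .gen)))))
 (.node (.node (.node (.leaf (.edge 3 [4, 3, 8, 0, 2, 3, 10, 3, 10, 3] 2 [4, 5, 8, 0, 10, 3, 5, 5, 10, 3, 6, 4, 5], .loop 1 [4, 3, 8, 0, 2, 3, 10, 3, 10, 3] [⟨9, [], [1, 4, 5, 6, 4, 3, 4, 4, 4, 6, 4, 3, 4, 3]⟩, ⟨55, [(20, true), (22, true), (19, true), (19, false)], [3, 5, 4, 5, 4, 2, 5]⟩]))
 (.leaf (.stab 0 [], .gen)))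
 (.node (.leaf (.edge 4 [3, 5, 5, 4, 10, 3] 4 [8, 5, 4, 3, 5, 4, 0, 9, 3, 9, 6, 4, 6, 4, 3], .loop 4 [3, 5, 5, 4, 10, 3] [⟨289, [], [0, 3, 4, 4, 6, 5, 4, 3, 4, 3, 4, 2]⟩, ⟨293, [(35, true)], [4, 4, 3, 2, 4, 2, 4, 3, 4, 2, 6, 5]⟩]))
 (.leaf (.stab 0 [], .gen))))
 (.node (.node (.leaf (.edge 4 [5, 5, 4, 6, 7, 10, 3, 2, 6, 6] 10 [5, 4, 3, 6, 4, 8, 2, 3, 2, 4, 3, 6, 6, 9, 5, 4, 3, 6], .loop 0 [5, 5, 4, 6, 7, 10, 3, 2, 6, 6] [⟨190, [], [1, 4, 2, 4, 4, 4, 3, 4, 2, 4, 5]⟩]))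
 (.leaf (.stab 0 [], .gen)))
 (.node (.leaf (.edge 4 [3, 5, 4, 3, 8, 0, 10, 3, 5, 5, 10, 5] 10 [5, 4, 3, 6, 4, 6, 2, 3, 4, 9, 3, 5, 4, 10, 5, 8], .loop 11 [3, 5, 4, 3, 8, 0, 10, 3, 5, 5, 10, 5] [⟨400, [], [2, 3, 6, 4, 4, 4, 3, 4, 2, 6]⟩, ⟨320, [(31, false)], [3, 5, 5, 4, 3, 2, 4, 3, 6, 4, 6, 5]⟩]))
 (.leaf (.stab 0 [], .gen))))))
 (.node (.node (.node (.node (.leaf (.edge 4 [3, 7, 0, 2, 3, 2, 4] 2 [5, 4, 3, 8, 2, 3, 4, 10, 3, 2], .loop 0 [3, 7, 0, 2, 3, 2, 4] [⟨10, [], [1, 5]⟩]))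
 (.leaf (.edge 7 [5, 5, 4, 6, 6, 0, 10, 3, 6, 10] 5 [4, 3, 5, 4, 5, 5, 4, 10, 3, 5, 5, 9, 5], .loop 11 [5, 5, 4, 6, 6, 0, 10, 3, 6, 10] [⟨389, [], [0, 4, 3, 4, 2, 4, 3, 4, 6, 4, 3, 4, 2]⟩, ⟨221, [], [1, 6, 5, 4, 2, 4, 3, 4, 2, 3]⟩])))
 (.node (.leaf (.edge 4 [4, 5, 4, 7, 0, 10, 3, 5, 10] 4 [4, 8, 6, 0, 2, 3, 4, 6, 10, 3, 5, 8, 9, 3, 9], .loop 7 [4, 5, 4, 7, 0, 10, 3, 5, 10] [⟨289, [], [4, 6, 3, 4, 5, 6, 4, 2, 3, 4, 3]⟩, ⟨256, [(35, false), (35, false), (35, false)], [2, 6, 4, 3, 4, 6, 3, 4, 4, 6]⟩]))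
 (.leaf (.stab 0 [], .gen))))
 (.node (.node (.leaf (.edge 11 [3, 6, 6, 10, 3] 12 [8, 5, 4, 3, 5, 4, 0, 9, 3, 4, 5, 5, 10, 3, 6, 9, 5, 7], .loop 4 [3, 6, 6, 10, 3] [⟨94, [(35, true)], [0, 2, 6, 4, 6, 4, 4, 6, 3, 4, 4]⟩, ⟨116, [], [1, 4, 6, 4, 2, 4, 3, 4, 6]⟩]))
 (.leaf (.stab 0 [], .gen)))
 (.node (.leaf (.edge 4 [4, 5, 4, 0, 2, 3] 4 [3, 4, 6, 4, 3, 8, 2, 3, 9, 3, 2, 3, 10, 5, 5], .loop 12 [4, 5, 4, 0, 2, 3] [⟨10, [], [0, 1, 2, 4, 2]⟩, ⟨41, [(25, true), (24, true), (25, true), (24, true), (24, true), (24, false), (24, false), (24, false)], [1, 4, 5, 4, 3, 5, 4, 2, 4, 2, 3, 4, 2]⟩, ⟨273, [], [3, 5, 6, 4, 2, 3, 4, 3, 6, 5, 4, 3, 6]⟩, ⟨229, [(127, true), (127, false), (249, false)], [3, 5, 6, 4, 2, 4, 3, 4, 2, 3]⟩, ⟨335, [], [1, 3,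 5, 4, 3, 2, 4, 5, 4, 5]⟩]))
 (.leaf (.stab 0 [], .gen)))))
 (.node (.node (.node (.leaf (.edge 5 [5, 8, 5, 4, 3, 6, 4, 10, 3, 2, 4, 3, 5, 4, 5, 9] 6 [6, 4, 3, 5, 4, 7, 2, 3, 4, 5, 9, 3, 5, 8, 9, 6], .loop 4 [5, 8, 5, 4, 3, 6, 4, 10, 3, 2, 4, 3, 5, 4, 5, 9] [⟨103, [(83, false)], [4, 2, 3, 5, 4, 2, 4, 3, 2, 4, 3]⟩, ⟨71, [], [1, 3, 5, 4, 2, 4, 4, 3, 4, 4, 6, 4, 3]⟩]))
 (.leaf (.stab 0 [], .gen)))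
 (.node (.leaf (.edge 4 [3, 7, 5, 4, 9, 3, 4, 5, 10] 4 [3, 5, 4, 8, 5, 4, 2, 3, 4, 6, 10, 3, 9, 3, 5, 7], .loop 23 [3, 7, 5, 4, 9, 3, 4, 5, 10] [⟨148, [], [3, 5, 4, 3, 4, 6, 3, 4, 3, 2, 4, 6]⟩, ⟨260, [(32, true), (84, true), (32, true)], [5, 4, 3, 6, 4, 6, 3, 4, 2]⟩, ⟨97, [(34, true), (34, true), (87, false), (34, false)], [4, 5, 5, 4, 3, 4, 6, 4, 2]⟩, ⟨204, [(86, false)], [5, 4, 3, 6, 4, 3, 2, 4, 2, 6, 5, 4]⟩, ⟨216, [(239, true), (239, false), (83, false)], [2, 3, 4, 3, 4, 6, 4, 3, 4, 4]⟩]))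
 (.leaf (.stab 0 [], .gen))))
 (.node (.node (.leaf (.edge 4 [6, 4, 3, 0] 5 [3, 5, 4, 3, 6, 4, 9, 3, 4, 5, 5, 9, 5, 4, 3, 2], .loop 10 [6, 4, 3, 0] [⟨204, [(86, false)], [1, 5, 4, 2, 4, 2, 3, 4, 3, 2]⟩, ⟨221, [], [2, 5, 6, 4, 2, 3, 4, 2, 4, 3, 4, 3, 5]⟩]))
 (.leaf (.stab 0 [], .gen)))
 (.node (.leaf (.edge 10 [3, 6, 6, 4, 0, 9, 3, 4, 9] 4 [3, 6, 8, 6, 4, 3, 5, 2, 3, 10, 3, 6, 6, 10, 3, 6, 9], .loop 11 [3, 6, 6, 4, 0, 9, 3, 4, 9] [⟨369, [(127, false), (127, false)], [4, 2, 3, 6, 4, 4, 3, 4, 5]⟩, ⟨395, [(84, false)], [3, 4, 2, 4, 3, 4, 4, 4, 2]⟩]))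
 (.leaf (.stab 0 [], .gen)))))))
 (.node (.node (.node (.node (.node (.leaf (.stab 2 [3, 5, 4, 2, 3, 2, 4, 3, 2, 5], .dupF 8 ⟨8, [(19, false), (21, false), (20, false), (23, true), (22, true), (23, true), (22, true)], [1, 4, 4, 4, 2, 4, 3, 4, 2, 4, 4, 3]⟩))
 (.leaf (.edge 4 [5, 5, 4, 6, 8, 9, 3, 6] 9 [3, 4, 3, 5, 4, 3, 8, 5, 10, 3, 4, 6, 6, 9, 3, 4, 9, 3, 6], .loop 12 [5, 5, 4, 6, 8, 9, 3, 6] [⟨10, [], [4, 6, 5, 4, 2]⟩, ⟨102, [(26, true), (24, true), (25, false), (24, false)], [4, 4, 4, 6, 4, 4, 2, 3, 4, 2, 4, 6]⟩, ⟨300, [(85, true), (31, true), (31, false), (85, false)], [2, 3, 4, 5, 6, 4, 3, 4, 6, 3]⟩, ⟨480, [(35, true), (35, true), (35, true), (35, false), (35, false)], [3, 4, 3, 2, 4, 3, 6, 4, 4, 6, 3, 4]⟩, ⟨508, [], [2, 4,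 6, 3, 4, 2, 5, 5]⟩])))
 (.node (.leaf (.edge 11 [0, 9, 3, 9, 6, 4, 3, 5, 4, 9] 4 [3, 5, 4, 3, 6, 4, 10, 3, 6, 10, 5, 5, 4, 3, 9, 3, 9], .loop 23 [0, 9, 3, 9, 6, 4, 3, 5, 4, 9] [⟨261, [(35, true), (35, true), (35, true)], [2, 4, 4, 3, 4, 4, 2, 5, 6, 4]⟩, ⟨210, [(239, true), (239, true), (83, false), (239, false)], [1, 5, 4, 2, 4, 3, 4, 4, 4]⟩, ⟨11, [(83, true), (239, true)], [0, 4, 5, 4, 3, 5, 6, 4, 3, 6, 4, 4]⟩, ⟨115, [], [4, 5, 6, 4, 3, 4, 2, 6, 5, 4]⟩, ⟨168, [(88, true), (241, true), (88, true), (181, false), (88, false)], [2, 6, 4, 5, 6, 3, 4, 4, 2, 4]⟩]))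
 (.leaf (.stab 0 [], .gen))))
 (.node (.node (.leaf (.edge 2 [3, 8, 5, 4, 6, 9, 3, 2, 3, 6, 4, 3, 8] 8 [3, 4, 3, 6, 6, 4, 6, 9, 3, 5, 9, 6, 4, 3, 6, 6], .loop 11 [3, 8, 5, 4, 6, 9, 3, 2, 3, 6, 4, 3, 8] [⟨45, [], [4, 5, 4, 3, 2, 5]⟩, ⟨129, [(87, false), (34, false)], [4, 2, 4, 5, 4, 3, 6, 4, 4, 4, 3, 4]⟩]))
 (.leaf (.stab 0 [], .gen)))
 (.node (.leaf (.edge 11 [3, 4, 0, 10, 3, 4] 5 [6, 8, 6, 4, 3, 5, 0, 2, 3, 4, 6, 10, 3, 4, 5, 8], .loop 11 [3, 4, 0, 10, 3, 4] [⟨243, [(35, false), (35, false)], [3, 4, 3, 6, 4, 3, 4, 3, 2, 4, 5]⟩, ⟨220, [], [5, 4, 3, 4, 6, 4, 3, 4, 6, 3, 4, 3]⟩]))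
 (.leaf (.stab 0 [], .gen)))))
 (.node (.node (.node (.leaf (.edge 8 [5, 4, 3, 9, 3, 4] 4 [6, 4, 3, 0, 2, 3, 10, 3, 10, 3], .loop 10 [5, 4, 3, 9, 3, 4] [⟨14, [], [4, 2]⟩, ⟨41, [(24, true), (24, true), (24, true), (24, false), (24, false), (24, false)], [2, 3, 6, 4, 6, 4, 3, 4, 3, 6, 4, 5]⟩]))
 (.leaf (.stab 0 [], .gen)))
 (.node (.leaf (.edge 4 [7, 5, 0, 10, 3, 5, 4, 10] 11 [4, 7, 5, 4, 3, 6, 4, 9, 3, 9, 3, 6, 10, 3, 2, 5], .loop 20 [7, 5, 0, 10, 3, 5, 4, 10] [⟨286, [(86, false)], [6, 4, 6, 4, 2, 4, 2, 6]⟩, ⟨95, [], [2, 3, 4, 2, 5, 6, 3, 4, 2, 4, 3]⟩, ⟨240, [(239, true), (83, true), (83, false), (239, false)], [0, 6, 4, 4, 6, 4, 3, 4, 6, 3]⟩, ⟨320, [(31, true), (85, true), (31, false)], [5, 6, 4, 2, 4, 3, 6, 4, 4, 3, 2]⟩, ⟨279,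 [(249, false)], [0, 4, 3, 4, 3, 4, 2, 4, 3, 4, 4, 4, 2, 5]⟩]))
 (.leaf (.stab 0 [], .gen))))
 (.node (.node (.leaf (.edge 4 [3, 5, 0, 10, 3, 2, 6, 4, 3, 6, 8] 6 [4, 5, 4, 3, 6, 4, 7, 5, 0, 10, 3, 5, 9, 6, 4, 3, 5, 4], .loop 3 [3, 5, 0, 10, 3, 2, 6, 4, 3, 6, 8] [⟨190, [], [3, 4, 5, 6, 4, 6, 3, 5, 4, 2, 4, 6]⟩, ⟨214, [(127, false)], [2, 4, 6, 4, 3, 4, 2, 3, 4, 3]⟩]))
 (.leaf (.stab 0 [], .gen)))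
 (.node (.leaf (.edge 4 [8, 5, 4, 9, 3, 2, 4, 3, 9, 5] 5 [3, 5, 0, 9, 3, 6, 10, 3, 9, 5, 7], .loop 11 [8, 5, 4, 9, 3, 2, 4, 3, 9, 5] [⟨244, [], [4, 5, 6, 4, 4, 3, 6, 4, 6, 3, 4, 4]⟩, ⟨271, [], [6, 4, 3, 4, 4, 4, 6, 4, 3, 4, 2, 4]⟩]))
 (.leaf (.stab 0 [], .gen))))))
 (.node (.node (.node (.node (.leaf (.edge 7 [3, 7, 5, 4, 0, 9, 3, 2, 4, 3] 4 [6, 4, 3, 5, 7, 10, 3, 5, 9, 3, 9, 3, 6, 8, 10], .loop 4 [3, 7, 5, 4, 0, 9, 3, 2, 4, 3] [⟨13, [], [0, 4, 4, 4, 3, 5, 6]⟩, ⟨41, [(26, true), (25, true), (26, true), (24, true), (24, false), (24, false), (24, false)], [0, 6, 4, 2, 4, 4, 6, 3, 4]⟩]))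
 (.leaf (.stab 0 [], .gen)))
 (.node (.leaf (.edge 4 [4, 5, 4, 3, 6, 4, 7, 5, 10, 3, 2, 6, 4, 3, 8, 6, 4] 11 [5, 4, 6, 6, 4, 3, 9, 3, 4, 5, 5, 10, 3, 4, 9], .loop 12 [4, 5, 4, 3, 6, 4, 7, 5, 10, 3, 2, 6, 4, 3, 8, 6, 4] [⟨134, [(86, true)], [3, 4, 3, 6, 4, 3, 4, 6, 4, 2, 6, 4]⟩, ⟨103, [(239, true), (239, true), (239, false), (83, false)], [3, 4, 2, 4, 4, 3, 4, 2, 6, 5, 4, 2]⟩, ⟨274, [(86, true)], [4, 4, 2, 4, 4, 3, 4, 4, 2, 5, 4]⟩, ⟨293, [(35, true), (35, true)], [4, 2, 4, 6, 3]⟩, ⟨244, [(86, true)], [3, 2, 4, 6, 4, 4, 3, 6, 4]⟩]))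
 (.leaf (.stab 0 [], .gen))))
 (.node (.node (.leaf (.edge 11 [5, 9, 3] 10 [3, 4, 6, 4, 3, 6, 4, 6, 0, 9, 3, 2, 6, 4, 3, 10, 5, 7], .loop 0 [5, 9, 3] [⟨170, [(35, false)], [1, 5, 5, 4, 3, 2, 4, 2, 4, 4, 3, 4]⟩]))
 (.leaf (.stab 0 [], .gen)))
 (.node (.leaf (.edge 11 [5, 4, 6, 0, 2, 3] 6 [3, 5, 4, 3, 8, 5, 4, 6, 10, 3, 2, 3, 9, 3, 5, 10, 3], .loop 11 [5, 4, 6, 0, 2, 3] [⟨256, [(35, false), (35, false), (35, false)], [0, 5, 4, 2, 4, 3, 6, 4, 4, 3]⟩, ⟨394, [], [4, 6, 3, 4, 2, 3, 4, 3, 4, 4, 2, 5]⟩]))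
 (.leaf (.stab 0 [], .gen)))))
 (.node (.node (.node (.leaf (.edge 5 [3, 7, 6, 10, 3, 9] 4 [3, 7, 5, 2, 3, 2, 4, 3, 10, 3], .loop 4 [3, 7, 6, 10, 3, 9] [⟨11, [], [3, 5, 6, 4, 3, 6, 4, 3, 6, 4, 4]⟩, ⟨41, [(24, false), (24, false), (24, false)], [4, 2, 3, 4, 2, 3, 4, 4, 3, 2, 4, 4]⟩]))
 (.leaf (.stab 0 [], .gen)))
 (.node (.leaf (.edge 6 [3, 6, 10, 3, 2, 5, 4, 3, 9] 4 [6, 6, 4, 3, 5, 4, 6, 9, 3, 4, 9, 3, 5, 5, 9], .loop 4 [3, 6, 10, 3, 2, 5, 4, 3, 9] [⟨238, [(85, true)], [5, 6, 3, 4, 3, 4, 6, 4, 2, 4, 4, 3]⟩, ⟨267, [(34, true), (87, true)], [3, 4, 3, 4, 5, 4, 5, 6, 4, 3, 4, 2, 5]⟩]))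
 (.leaf (.stab 0 [], .gen))))
 (.node (.node (.leaf (.stab 10 [3, 7, 6, 4, 3, 6, 4, 2, 3, 9, 3, 5, 10, 6, 7], .dupF 248 ⟨248, [(27, false), (28, false), (29, true), (29, true), (28, true)], [4, 2, 4, 2, 3, 4, 2, 4, 4, 4, 3, 4, 2]⟩))
 (.leaf (.stab 0 [], .gen)))
 (.node (.leaf (.edge 4 [6, 4, 3, 6, 4, 6, 4, 3, 9, 3, 5, 4, 10, 3, 4, 6, 4, 5] 7 [4, 3, 5, 0, 9, 3, 5, 4, 6, 7, 9, 3], .loop 11 [6, 4, 3, 6, 4, 6, 4, 3, 9, 3, 5, 4, 10, 3, 4, 6, 4, 5] [⟨379, [], [4, 2, 3, 4, 2, 4, 3, 4, 5, 6]⟩, ⟨325, [(31, false), (85, false), (31, false)], [4, 4, 2, 3, 5, 4, 5, 6, 4, 3, 6, 4]⟩]))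
 (.leaf (.stab 0 [], .gen))))))))

/-- items -/
noncomputable def items10 : ITree (Item × Why) :=
 (.node (.node (.node (.node (.node (.node (.leaf (.stab 0 [7], .gen))
 (.leaf (.edge 7 [6, 6, 6, 4, 9, 3] 5 [5, 4, 3, 6, 8, 6, 4, 6, 2, 3, 10, 3, 5, 9, 3, 4, 6, 6, 10], .loop 12 [6, 6, 6, 4, 9, 3] [⟨13, [], [5, 4, 2, 6, 5]⟩, ⟨53, [(24, true), (24, false)], [3, 6, 4, 2, 3, 4, 5, 6, 4, 3, 4, 3]⟩, ⟨168, [(33, true), (33, true), (181, false), (88, false)], [4, 5, 6, 4, 2, 3, 4, 2, 4, 3, 4, 2, 5]⟩, ⟨475, [(86, true), (86, false)], [3, 6, 4, 6, 4, 4]⟩, ⟨204, [(86, false)], [0, 3, 4, 6, 4, 3, 4, 3, 6, 4, 5]⟩])))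
 (.node (.leaf (.edge 5 [4, 5, 4, 6, 0, 10, 3, 2, 5] 11 [3, 6, 4, 3, 7, 5, 0, 2, 3, 9, 5, 4, 5, 10, 3, 2], .loop 20 [4, 5, 4, 6, 0, 10, 3, 2, 5] [⟨67, [], [4, 4, 4, 6, 4, 6, 3, 4, 4, 6, 4]⟩, ⟨221, [], [3, 2, 5, 5, 4, 2, 4, 3, 6, 4, 5]⟩, ⟨188, [(239, true), (239, false), (239, false)], [4, 3, 6, 4, 5, 6, 3, 4, 3, 2, 4, 4]⟩, ⟨205, [(85, true), (31, true), (31, false)], [6, 4, 3, 5, 6, 4, 2, 4, 2, 4]⟩, ⟨234, [(83, true), (83, false), (239, false)], [2, 6, 4, 3, 4, 2, 4, 2, 3, 4, 4, 5]⟩]))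
 (.leaf (.stab 0 [], .gen))))
 (.node (.node (.leaf (.edge 7 [] 5 [2, 3, 10, 3, 9], .loop 11 [] [⟨13, [], []⟩, ⟨82, [(25, false), (24, false)], [3, 4, 4, 6, 4, 3, 4, 4, 4, 6, 4, 3, 4]⟩]))
 (.leaf (.stab 0 [], .gen)))
 (.node (.leaf (.edge 5 [4, 5, 4, 6, 0, 10, 3, 2, 5, 4, 3, 5, 10] 7 [4, 3, 6, 4, 5, 2, 3, 4, 5, 10, 3, 6, 9, 5, 4], .loop 28 [4, 5, 4, 6, 0, 10, 3, 2, 5, 4, 3, 5, 10] [⟨210, [(239, true), (83, false), (239, false)], [4, 3, 4, 6, 4, 3, 4, 2, 3, 4, 4, 3]⟩, ⟨188, [(239, true), (239, false), (239, false)], [3, 5, 4, 2, 4, 6, 3, 4, 2, 4]⟩, ⟨105, [(31, false)], [6, 4, 3, 4, 3, 6, 4, 4, 2, 3, 6, 4]⟩, ⟨234, [(239, true), (83, false), (239, false)], [2, 3, 4, 3, 6, 5, 4, 3, 4, 3, 2]⟩, ⟨253, [(35, true), (35, true), (35, true),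 (35, false)], [4, 5, 4, 2, 3, 4, 3, 4, 6, 4, 3]⟩]))
 (.leaf (.stab 0 [], .gen)))))
 (.node (.node (.node (.leaf (.edge 4 [5, 9, 3, 9, 3] 7 [3, 6, 4, 3, 5, 4, 3, 9, 3, 9, 5, 4, 3, 7, 5, 4], .loop 1 [5, 9, 3, 9, 3] [⟨10, [], [4, 6]⟩, ⟨37, [(25, true)], [0, 2, 4, 6, 3, 4, 4, 6, 4, 3, 4, 2, 4]⟩]))
 (.leaf (.stab 0 [], .gen)))
 (.node (.leaf (.edge 7 [4, 5, 4, 6, 10, 3, 2, 5, 4, 5, 7] 6 [3, 5, 4, 3, 8, 6, 4, 9, 3, 2, 3, 4, 6, 8, 10, 3, 4], .loop 4 [4, 5, 4, 6, 10, 3, 2, 5, 4, 5, 7] [⟨283, [(32, true), (84, true)], [2, 3, 5, 5, 4, 3, 4, 2, 4, 6, 3, 4, 4]⟩, ⟨245, [(127, true), (127, true), (127, false), (127, false)], [1, 5, 6, 4, 2, 4, 3, 4, 5, 4, 2]⟩]))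
 (.leaf (.stab 0 [], .gen))))
 (.node (.node (.leaf (.edge 4 [5, 8, 9, 3, 2, 5, 4, 3, 8, 10] 5 [3, 5, 5, 4, 3, 7, 5, 4, 2, 3, 4, 6, 6, 10, 3, 10, 3, 5, 10], .loop 0 [5, 8, 9, 3, 2, 5, 4, 3, 8, 10] [⟨189, [(86, false)], [4, 2, 4, 3, 4, 2, 3, 5, 4, 3, 4, 3]⟩]))
 (.leaf (.stab 0 [], .gen)))
 (.node (.leaf (.edge 5 [6, 9, 3, 10] 4 [3, 4, 7, 6, 0, 2, 3, 4, 10, 3, 6, 9], .loop 11 [6, 9, 3, 10] [⟨234, [(83, false), (239, false)], [3, 5, 4, 5, 4, 2, 6, 4]⟩, ⟨293, [], [0, 6, 5, 4, 3, 4, 2, 4, 5]⟩]))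
 (.leaf (.stab 0 [], .gen))))))
 (.node (.node (.node (.node (.leaf (.edge 7 [3, 8, 2, 3, 4, 10] 2 [3, 5, 4, 3, 7, 2, 3, 10, 3, 10], .loop 0 [3, 8, 2, 3, 4, 10] [⟨13, [], [0, 4, 3, 6, 5, 4, 2, 4, 5, 6, 3, 4, 2, 4]⟩]))
 (.leaf (.edge 4 [4, 7, 6, 4, 3, 6, 4, 2, 3, 2, 4, 3, 6, 10, 3, 5, 4] 11 [3, 4, 7, 6, 4, 3, 6, 4, 2, 3, 4, 6, 10, 3, 6, 4, 10], .loop 11 [4, 7, 6, 4, 3, 6, 4, 2, 3, 2, 4, 3, 6, 10, 3, 5, 4] [⟨290, [], [1, 4, 6, 4, 2, 3, 4, 3, 4, 4]⟩, ⟨479, [(86, false)], [5, 4, 2, 4, 4, 6, 4, 3, 2, 4]⟩])))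
 (.node (.leaf (.edge 4 [6, 6, 4, 5, 0, 10, 3, 6] 11 [3, 5, 8, 5, 4, 3, 6, 4, 10, 3, 5, 9, 3, 5, 5, 4, 9, 3], .loop 28 [6, 6, 4, 5, 0, 10, 3, 6] [⟨10, [], [1, 6, 4, 6, 4, 2, 4, 2]⟩, ⟨75, [(24, true), (26, true), (25, true), (24, false)], [5, 6, 4, 3, 4, 2, 4, 3, 6, 4, 4, 5]⟩, ⟨146, [], [1, 2, 6, 4, 3, 4, 4, 3, 2, 4, 3, 4, 4]⟩, ⟨41, [(24, true), (25, true), (24, true), (24, false), (24, false), (24, false)], [1, 2, 4, 3, 5, 4, 2, 4, 3, 2, 4, 6, 4]⟩, ⟨244, [(86, true)], [4, 6, 5, 4, 2, 3, 4, 5, 4, 6]⟩]))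
 (.leaf (.stab 0 [], .gen))))
 (.node (.node (.leaf (.edge 11 [3, 6, 4, 6, 8, 6, 10, 3, 2, 5, 4, 3, 7] 12 [3, 6, 6, 4, 3, 2, 3, 4, 6, 9, 3, 2, 4, 5, 7], .loop 11 [3, 6, 4, 6, 8, 6, 10, 3, 2, 5, 4, 3, 7] [⟨96, [(35, false)], [2, 4, 2, 3, 4, 4, 5, 6, 4, 3, 4, 4, 4]⟩, ⟨116, [], [1, 4, 2, 5, 4, 3, 4, 2, 3, 5, 4, 2]⟩]))
 (.leaf (.stab 0 [], .gen)))
 (.node (.leaf (.edge 7 [3, 6, 4, 5, 5, 10, 3, 5, 4, 7] 11 [3, 6, 4, 3, 5, 7, 10, 3, 2, 3, 5, 9, 3, 2, 5, 7], .loop 12 [3, 6, 4, 5, 5, 10, 3, 5, 4, 7] [⟨109, [], [3, 4, 4, 2, 3, 4, 3, 2, 6, 5]⟩, ⟨404, [(239, true), (239, true), (239, false), (83, false)], [6, 4, 4, 3, 2, 5, 4, 6, 3, 4, 5]⟩, ⟨376, [(34, true), (34, true), (34, false), (87, false)], [4, 2, 4, 2, 3, 5, 6, 4, 2, 4, 3]⟩, ⟨415,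 [(86, true)], [2, 4, 3, 4, 2, 3, 5, 4, 5, 6, 4, 3]⟩, ⟨274, [], [2, 4, 2, 3, 4, 5, 6, 3, 4, 2, 4, 4]⟩]))
 (.leaf (.stab 0 [], .gen)))))
 (.node (.node (.node (.leaf (.edge 2 [3, 6, 7, 0, 10, 3, 10] 2 [3, 6, 6, 0, 10, 3, 10, 3, 5, 10, 3, 10, 5, 4], .loop 4 [3, 6, 7, 0, 10, 3, 10] [⟨8, [], [0, 1, 4, 5]⟩, ⟨55, [(22, true), (21, true), (19, true), (19, false)], [4, 2, 4, 3, 5, 4, 2, 4, 3, 2, 4, 3, 5]⟩]))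
 (.leaf (.stab 0 [], .gen)))
 (.node (.leaf (.edge 11 [3, 5, 4, 3, 5, 5, 4, 6, 9, 3, 2, 3, 5, 4, 5, 8, 10, 5] 4 [4, 8, 5, 4, 3, 6, 4, 5, 9, 3, 5, 5, 9, 3, 9, 6, 4, 6], .loop 37 [3, 5, 4, 3, 5, 5, 4, 6, 9, 3, 2, 3, 5, 4, 5, 8, 10, 5] [⟨293, [], [0, 5, 4, 3, 4, 6, 4, 3, 4, 4, 6, 4]⟩, ⟨297, [(86, true), (86, false)], [6, 4, 3, 4, 3, 4, 2, 4, 6, 3, 4]⟩, ⟨273, [], [4, 2, 5, 4, 3, 4, 2, 4, 6]⟩, ⟨282, [(249, true), (249, false)], [4, 2, 4, 3, 6, 4, 4, 3, 6, 4, 2]⟩, ⟨299, [], [3, 5, 4, 2, 4, 3, 2, 4, 3, 4, 2]⟩, ⟨322, [(127, true), (127, true), (127, false), (127, false)], [3, 4, 4, 3, 2, 4, 3, 4, 5, 4, 2]⟩]))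
 (.leaf (.stab 0 [], .gen))))
 (.node (.node (.leaf (.edge 4 [6, 4, 2, 3, 9] 10 [3, 4, 3, 5, 5, 4, 3, 9, 3, 2, 4, 3, 6, 4, 5], .loop 13 [6, 4, 2, 3, 9] [⟨204, [(86, false)], [4, 3, 6, 5, 6, 4, 2, 4, 6, 5]⟩, ⟨221, [], [0, 4, 3, 4, 4, 6, 4, 3, 4, 3, 5, 6, 4, 6]⟩, ⟨186, [(83, true), (83, false)], [3, 4, 6, 3, 4, 3, 4, 2, 4]⟩]))
 (.leaf (.stab 0 [], .gen)))
 (.node (.leaf (.edge 6 [3, 4, 5, 4, 6, 0, 9, 3, 5, 9] 11 [3, 6, 4, 3, 5, 4, 5, 10, 3, 10, 3, 5, 8, 10, 3, 5, 4], .loop 11 [3, 4, 5, 4, 6, 0, 9, 3, 5, 9] [⟨200, [(85, false)], [5, 4, 6, 3, 4, 2, 4, 4, 4, 3, 4, 6, 4]⟩, ⟨434, [(83, false), (239, false)], [4, 4, 6, 3, 4, 3, 4, 4, 2, 6, 4, 5]⟩]))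
 (.leaf (.stab 0 [], .gen)))))))
 (.node (.node (.node (.node (.node (.leaf (.stab 1 [4, 6, 4, 3, 5, 4, 8, 2, 3, 2, 4, 3, 10, 6, 4, 7, 6], .dupF 7 ⟨7, [(1, false), (4, false), (4, false), (3, false), (4, false), (2, false), (5, true), (3, true), (4, true), (2, true), (3, true), (4, true), (1, true)], [3, 6, 4, 6, 4, 3, 4, 5, 6, 3, 4, 3]⟩))
 (.leaf (.edge 6 [3, 4, 6, 4, 8, 10, 3, 2, 5, 5] 4 [3, 5, 4, 3, 8, 5, 4, 5, 10, 3, 5, 9, 5, 4, 3, 2, 6, 7], .loop 11 [3, 4, 6, 4, 8, 10, 3, 2, 5, 5] [⟨333, [], [0, 3, 4, 4, 5, 4, 6, 4, 3, 4, 6]⟩, ⟨423, [(86, false)], [3, 4, 4, 6, 3, 4, 3, 4, 5, 6]⟩])))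
 (.node (.leaf (.edge 4 [5, 4, 3, 5, 4, 5, 10, 3, 10, 3, 6, 10, 3, 10, 5, 5] 11 [3, 6, 8, 9, 3, 5, 9, 3, 10, 3, 2, 3, 6, 8], .loop 10 [5, 4, 3, 5, 4, 5, 10, 3, 10, 3, 6, 10, 3, 10, 5, 5] [⟨227, [(86, true)], [0, 3, 4, 2, 4, 3, 4, 4, 4, 4, 2]⟩, ⟨257, [(239, true), (239, true), (239, false), (239, false)], [0, 5, 4, 3, 6, 4, 5, 6]⟩]))
 (.leaf (.stab 0 [], .gen))))
 (.node (.node (.leaf (.edge 11 [3, 5, 10, 3] 10 [4, 5, 4, 5, 8, 2, 3, 10, 3, 5, 10, 5, 5, 4, 5], .loop 11 [3, 5, 10, 3] [⟨145, [], [3, 4, 3, 2, 4, 4, 3, 5, 4, 5, 6]⟩, ⟨136, [(127, false)], [1, 2, 3, 4, 3, 4, 4, 2, 5, 4, 6, 5]⟩]))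
 (.leaf (.stab 0 [], .gen)))
 (.node (.leaf (.edge 4 [4, 3, 6, 6, 4, 5, 0, 2, 3, 4, 5, 10, 3, 2, 6, 7] 7 [3, 4, 6, 4, 8, 9, 3, 4, 5, 5, 9, 5, 4, 3, 2], .loop 12 [4, 3, 6, 6, 4, 5, 0, 2, 3, 4, 5, 10, 3, 2, 6, 7] [⟨387, [], [2, 4, 3, 4, 5, 6, 4, 2, 3, 4, 5, 4]⟩, ⟨283, [(84, true), (32, true)], [4, 2, 5, 5, 4, 2, 3, 4, 2]⟩, ⟨386, [(249, true), (127, true), (249, false)], [0, 4, 2, 5, 4, 3, 6, 4, 2, 4, 3, 4, 6]⟩, ⟨71, [], [3, 4, 3, 4, 3, 2, 4, 3, 4, 6]⟩, ⟨334, [(85, true)], [3, 5, 4, 3, 4, 2, 4, 5, 4, 5]⟩]))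
 (.leaf (.stab 0 [], .gen)))))
 (.node (.node (.node (.leaf (.stab 6 [3, 4, 3, 5, 4, 5, 10, 3, 4, 6, 4, 9, 3, 9, 6], .dupB 38 ⟨38, [(84, true)], [1, 4, 3, 4, 6, 4, 4, 3, 5, 4]⟩))
 (.leaf (.stab 0 [], .gen)))
 (.node (.leaf (.edge 12 [4, 6, 4, 5, 9, 3, 2, 6] 12 [5, 5, 4, 3, 7, 9, 3, 6, 4, 7, 9, 3, 6, 8, 9], .loop 4 [4, 6, 4, 5, 9, 3, 2, 6] [⟨275, [(250, true), (128, true), (128, false), (128, false), (250, false)], [0, 1, 4, 5, 4, 2, 5]⟩, ⟨310, [(31, true)], [2, 6, 4, 6, 3, 4, 4, 2, 3, 5, 4, 3]⟩]))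
 (.leaf (.stab 0 [], .gen))))
 (.node (.node (.leaf (.edge 10 [3, 4, 5, 7, 9, 3, 4, 5, 10] 4 [3, 6, 4, 6, 7, 9, 3, 9, 3, 6, 10, 3, 10, 6, 7], .loop 6 [3, 4, 5, 7, 9, 3, 4, 5, 10] [⟨192, [(127, true)], [3, 4, 2, 4, 4, 6, 4, 3, 5, 4, 2]⟩, ⟨211, [(83, true), (83, false)], [0, 4, 3, 4, 4, 4, 6, 4, 3, 4, 5, 6]⟩]))
 (.leaf (.stab 0 [], .gen)))
 (.node (.leaf (.edge 4 [4, 7, 5, 4, 9, 3, 6, 4, 8, 9] 11 [3, 8, 5, 4, 6, 9, 3, 6, 8, 10, 3], .loop 11 [4, 7, 5, 4, 9, 3, 6, 4, 8, 9] [⟨266, [], [3, 6, 4, 5, 6, 3, 4, 3, 2]⟩, ⟨321, [], [0, 4, 2, 4, 4, 6, 3, 4, 4, 6, 4, 4, 3]⟩]))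
 (.leaf (.stab 0 [], .gen))))))
 (.node (.node (.node (.node (.leaf (.edge 8 [4, 6, 4, 3, 6, 2, 3, 4, 6, 9, 6] 2 [6, 4, 3, 2, 3, 4, 5, 10, 3, 6, 9, 6, 4], .loop 0 [4, 6, 4, 3, 6, 2, 3, 4, 6, 9, 6] [⟨14, [], [2, 6, 4, 3, 4, 3, 6, 4, 3, 6, 4]⟩]))
 (.leaf (.edge 11 [3, 6, 6, 4, 9, 3, 2] 4 [3, 4, 5, 4, 3, 5, 4, 5, 2, 3, 4, 10, 3, 10, 5, 5], .loop 11 [3, 6, 6, 4, 9, 3, 2] [⟨494, [(35, false), (35, false)], [2, 6, 4, 6, 4, 4]⟩, ⟨398, [(85, false), (31, false)], [0, 3, 4, 4, 6, 4, 2, 4, 3, 6, 4, 6, 5]⟩])))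
 (.node (.leaf (.edge 4 [3, 5, 4, 3, 6, 4, 6, 7, 9, 3, 6, 10, 3, 6, 10, 5, 4] 4 [5, 4, 3, 8, 6, 4, 3, 0, 10, 3, 2, 6, 4, 3, 7, 6, 4], .loop 1 [3, 5, 4, 3, 6, 4, 6, 7, 9, 3, 6, 10, 3, 6, 10, 5, 4] [⟨213, [(86, false)], [3, 5, 4, 3, 4, 6, 5, 4, 2, 4, 2]⟩, ⟨201, [(127, true)], [3, 4, 3, 2, 5, 4, 3, 4, 6, 3, 4, 6]⟩]))
 (.leaf (.stab 0 [], .gen))))
 (.node (.node (.leaf (.stab 8 [8, 0, 10, 3, 9], .loop 18 [4, 10, 3, 2, 4, 3, 2] [⟨14, [(88, true)], [1, 4, 4, 3, 5, 4, 2, 4, 2, 3, 5, 4, 2, 4]⟩, ⟨8, [], [3, 2, 5, 6]⟩, ⟨7, [(23, true), (124, true)], [6, 4, 2, 3, 4, 3, 4, 4, 4, 2, 4, 3, 4]⟩, ⟨44, [(3, true), (2, true), (1, false)], [4, 5, 6, 4, 3, 4, 4, 4, 6, 4, 3, 4, 2]⟩, ⟨55, [(124, true), (23, true), (19, true), (19, false)], [1, 3, 4,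 2, 4, 2, 4, 3, 4, 2, 3, 4, 5]⟩, ⟨154, [(26, false)], [6, 4, 3, 4, 3, 2, 4, 3, 4, 4, 6, 4]⟩, ⟨53, [(24, true), (26, true), (25, true), (24, true), (24, false)], [5, 4, 3, 4, 6, 4, 4, 4, 3, 4, 6]⟩]))
 (.leaf (.stab 0 [], .gen)))
 (.node (.leaf (.edge 10 [3, 6, 6, 4, 0, 10, 3, 5, 5] 7 [3, 5, 4, 3, 6, 8, 0, 9, 3, 6, 4, 6, 4, 9, 3, 2, 4], .loop 17 [3, 6, 6, 4, 0, 10, 3, 5, 5] [⟨269, [(249, false)], [6, 4, 2, 3, 4, 3, 4, 4, 2, 4, 4, 5]⟩, ⟨240, [(83, true), (83, false), (239, false)], [1, 6, 5, 4, 3, 4, 4, 6, 4, 2, 3, 4, 4]⟩, ⟨333, [(31, true), (85, true), (31, true)], [2, 6, 4, 2, 3, 4, 4, 3, 5, 4]⟩, ⟨255, [(86, true)], [2, 3, 6, 5, 4, 2, 4, 3, 6, 4, 3, 6, 5]⟩, ⟨133, [(83, true), (239, true)], [0, 6, 4, 6, 4, 4, 3, 6, 4, 2, 4, 2]⟩]))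
 (.leaf (.stab 0 [], .gen)))))
 (.node (.node (.node (.leaf (.edge 5 [6, 7, 9, 3, 9, 3] 5 [5, 5, 4, 3, 5, 4, 2, 3, 4, 5, 5, 10, 3, 6, 4, 9], .loop 4 [6, 7, 9, 3, 9, 3] [⟨59, [], [0, 4, 2, 5, 4, 3, 6, 5, 4, 2]⟩, ⟨40, [(84, false), (32, false)], [0, 5, 4, 6, 3, 5, 4, 2, 4, 3, 4, 3]⟩]))
 (.leaf (.stab 0 [], .gen)))
 (.node (.leaf (.edge 10 [5, 5, 5, 0, 10, 3, 2] 4 [4, 3, 6, 6, 4, 3, 5, 9, 3, 9, 3, 5, 5, 9, 3, 5, 4, 10], .loop 12 [5, 5, 5, 0, 10, 3, 2] [⟨172, [], [4, 2, 6, 4, 6, 4, 3, 4, 3, 2, 6]⟩, ⟨323, [(249, false)], [2, 4, 3, 6, 4, 2, 3, 4, 2, 5]⟩, ⟨251, [(86, true)], [0, 3, 4, 6, 4, 4, 3, 4, 5, 4]⟩, ⟨265, [(86, true)], [3, 6, 4, 3, 6, 4, 4, 2, 5, 4, 3, 4, 2]⟩, ⟨195, [], [0, 5, 4, 3, 4, 3, 6, 4, 5]⟩]))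
 (.leaf (.stab 0 [], .gen))))
 (.node (.node (.leaf (.edge 6 [3, 4, 3, 6, 4, 3, 10, 3, 4, 6, 10, 3, 10] 10 [5, 7, 5, 4, 0, 10, 3, 9, 5, 4, 7, 6, 10, 3, 10, 3], .loop 29 [3, 4, 3, 6, 4, 3, 10, 3, 4, 6, 10, 3, 10] [⟨228, [], [0, 2, 4, 5, 6, 4, 6, 3, 5, 4, 2, 4, 6]⟩, ⟨170, [(35, false)], [6, 3, 4, 3, 2, 5, 4, 3, 4, 2, 5]⟩]))
 (.leaf (.stab 0 [], .gen)))
 (.node (.leaf (.edge 4 [3, 5, 5, 5, 4, 2, 3, 2, 4, 3, 9, 3] 4 [5, 4, 3, 5, 4, 8, 6, 4, 9, 3, 5, 4, 8, 10, 3, 2, 3, 5], .loop 11 [3, 5, 5, 5, 4, 2, 3, 2, 4, 3, 9, 3] [⟨304, [(86, false)], [4, 5, 4, 3, 6, 5, 4, 2, 3, 6]⟩, ⟨480, [(35, false), (35, false)], [1, 3, 5, 5, 4, 2, 3, 4, 2]⟩]))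
 (.leaf (.stab 0 [], .gen))))))))

/-- items -/
noncomputable def items11 : ITree (Item × Why) :=
 (.node (.node (.node (.node (.node (.node (.leaf (.edge 2 [3, 5, 4, 9, 3] 7 [], .orbit))
 (.leaf (.edge 4 [4, 7, 5, 0, 9, 3, 9] 4 [3, 4, 3, 6, 4, 9, 3, 9, 3, 5, 9, 3, 5, 8, 10, 3], .loop 12 [4, 7, 5, 0, 9, 3, 9] [⟨95, [], [6, 4, 2, 6, 4, 4, 2, 3, 4, 3, 5]⟩, ⟨188, [(239, true), (83, true), (239, false), (239, false)], [4, 6, 4, 5, 5, 4, 2, 3, 4, 3, 2]⟩, ⟨212, [(31, true), (85, true), (31, true), (31, false), (85, false), (31, false)], [2, 5, 4, 3, 4, 2, 3, 5, 4, 3, 4, 2]⟩, ⟨376, [(34, true), (87, true), (34, true), (34, true), (34, false), (87, false)], [0, 6, 4, 5, 4, 6, 3, 5, 4, 2, 6]⟩, ⟨237, [(86, true)], [4, 2, 4, 4, 6, 3, 4, 4]⟩])))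
 (.node (.leaf (.edge 5 [7, 5, 4, 6, 2, 3] 10 [6, 4, 3, 6, 4, 6, 4, 5, 9, 3, 4, 6, 10, 3, 10, 3, 5, 8], .loop 2 [7, 5, 4, 6, 2, 3] [⟨257, [(239, false), (239, false)], [2, 4, 3, 6, 4, 2, 3, 4, 6, 3, 4, 4, 4]⟩, ⟨170, [(35, false)], [2, 4, 2, 6, 3, 4, 4, 2, 3, 4, 5]⟩]))
 (.leaf (.stab 0 [], .gen))))
 (.node (.node (.leaf (.edge 10 [3, 6, 6, 9, 3, 4] 11 [7, 6, 4, 5, 9, 3, 5, 9, 3, 6, 4, 5, 7], .loop 4 [3, 6, 6, 9, 3, 4] [⟨16, [], [0, 3, 4, 3, 6, 4, 6, 3, 4, 6, 4, 4, 2, 6]⟩, ⟨72, [(126, true), (30, true), (28, false), (30, false), (28, false)], [2, 6, 4, 4, 4, 6, 4, 3, 4, 4, 6, 4]⟩]))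
 (.leaf (.stab 0 [], .gen)))
 (.node (.leaf (.edge 10 [5, 9, 3] 10 [6, 4, 3, 5, 4, 3, 5, 7, 0, 10, 3, 5, 4, 5, 4, 10, 3, 4, 9], .loop 12 [5, 9, 3] [⟨16, [], [4, 6]⟩, ⟨120, [(126, true), (28, true), (29, true)], [6, 4, 5, 6, 3, 4, 3, 2, 4, 5, 4]⟩, ⟨18, [(128, true), (36, true), (250, true)], [0, 3, 4, 4, 5, 6, 4, 3, 4, 6, 3, 5]⟩, ⟨156, [(28, true)], [6, 4, 2, 3, 4, 4, 3, 6, 4, 5, 4]⟩, ⟨132, [(29, true), (126, true), (126, true), (30, false), (30, false)], [0, 3, 4, 6, 3, 4, 2, 4, 5, 4]⟩]))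
 (.leaf (.stab 0 [], .gen)))))
 (.node (.node (.node (.leaf (.edge 8 [3, 6, 9, 3, 9, 3, 10, 3] 7 [6, 4, 3, 5, 4, 5, 5, 0, 9, 3, 5, 4, 5, 7, 10, 3, 10], .loop 7 [3, 6, 9, 3, 9, 3, 10, 3] [⟨14, [], [4, 3]⟩, ⟨37, [(24, true), (25, true)], [3, 4, 2, 3, 4, 4, 6, 4, 2, 3, 6]⟩]))
 (.leaf (.stab 0 [], .gen)))
 (.node (.leaf (.edge 4 [5, 4, 5, 0, 9, 3] 6 [7, 5, 4, 3, 6, 4, 5, 5, 10, 3, 2, 3, 5, 9, 3, 2], .loop 32 [5, 4, 5, 0, 9, 3] [⟨10, [], [0, 4, 2, 4, 6]⟩, ⟨61, [(24, true), (25, true), (24, true), (24, true), (24, false), (24, false), (24, false)], [2, 5, 5, 4, 2, 4, 3, 4, 6, 4, 5]⟩, ⟨65, [(239, true), (239, true)], [3, 4, 2, 4, 4, 6, 4, 4, 3, 6, 4]⟩, ⟨113, [(181, true), (33, true), (241, true), (33, true)], [6, 4, 6, 4, 3, 4, 2, 4,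 2, 3, 5, 4]⟩, ⟨240, [(83, false), (239, false)], [1, 4, 4, 2, 4, 3, 4, 2, 4, 4]⟩]))
 (.leaf (.stab 0 [], .gen))))
 (.node (.node (.leaf (.edge 5 [6, 6, 4, 0, 9, 3] 6 [5, 5, 7, 2, 3, 2, 4, 3, 5, 8], .loop 23 [6, 6, 4, 0, 9, 3] [⟨11, [], [0, 4, 5, 4, 2, 6, 5]⟩, ⟨154, [(26, false)], [2, 4, 3, 5, 4, 2, 4, 4, 6, 4, 3, 6]⟩, ⟨75, [(24, true), (25, true), (24, true), (24, false)], [2, 4, 3, 2, 4, 2, 4, 3, 5, 4, 6]⟩, ⟨152, [(24, true), (24, true), (24, false), (24, false), (25, false)], [4, 4, 2, 6, 4, 4, 6]⟩, ⟨191, [(86, true)], [1, 2, 3, 4, 2, 3, 4, 4, 2, 3, 4, 5]⟩]))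
 (.leaf (.stab 0 [], .gen)))
 (.node (.leaf (.edge 5 [7, 2, 3] 4 [3, 8, 5, 4, 3, 6, 4, 8, 9, 3, 2, 3, 5, 4, 6, 7, 10], .loop 12 [7, 2, 3] [⟨11, [], [1, 5]⟩, ⟨8, [], [0, 5, 4, 5, 4, 6]⟩, ⟨55, [(124, true), (22, true), (23, true), (22, true), (19, false)], [0, 4, 4, 3, 6, 4, 2, 4, 4, 5]⟩, ⟨41, [(25, true), (26, true), (24, true), (24, true), (24, false), (24, false), (24, false)], [0, 4, 3, 5, 6, 4, 3, 6, 4, 6, 3]⟩, ⟨362, [(86, true)], [3, 4, 2, 3, 4, 3, 6, 4, 6, 3, 4, 6]⟩]))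
 (.leaf (.stab 0 [], .gen))))))
 (.node (.node (.node (.node (.leaf (.edge 9 [3, 5, 5, 7, 2, 3] 2 [3, 4, 7, 0, 10, 3, 6, 8], .loop 0 [3, 5, 5, 7, 2, 3] [⟨15, [], [4, 5, 4, 3]⟩]))
 (.leaf (.edge 7 [7, 5, 4, 0, 10, 3] 9 [4, 3, 5, 4, 3, 8, 5, 4, 9, 3, 6, 4, 6, 8, 9, 3, 10, 3], .loop 11 [7, 5, 4, 0, 10, 3] [⟨392, [(84, false)], [4, 5, 4, 6, 3, 5, 4, 6]⟩, ⟨404, [(239, false), (83, false)], [0, 4, 4, 3, 4, 6, 4, 5, 4, 6, 5]⟩])))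
 (.node (.leaf (.edge 11 [6, 9, 3, 9] 4 [3, 5, 5, 4, 10, 3, 4, 5, 4, 8, 9, 3, 6, 8], .loop 10 [6, 9, 3, 9] [⟨231, [], [2, 3, 4, 2, 4, 4, 3, 4, 6, 4, 4, 4]⟩, ⟨292, [(239, true), (239, true), (239, false), (239, false)], [2, 5, 4, 3, 2, 4, 2, 4, 3, 6, 4, 4]⟩]))
 (.leaf (.stab 0 [], .gen))))
 (.node (.node (.leaf (.edge 4 [6, 4, 3, 7, 0, 2, 3, 9, 3, 9, 3, 4, 5, 9] 8 [3, 5, 4, 3, 5, 4, 0, 9, 3, 6, 4, 9, 3, 5, 4, 6, 9], .loop 11 [6, 4, 3, 7, 0, 2, 3, 9, 3, 9, 3, 4, 5, 9] [⟨57, [], [1, 4, 4, 3, 4, 4, 6, 4, 4, 2, 4]⟩, ⟨77, [(32, true), (84, true), (84, false)], [0, 5, 6, 4, 3, 6, 4, 3, 6, 4, 4, 2, 6]⟩]))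
 (.leaf (.stab 0 [], .gen)))
 (.node (.leaf (.edge 6 [3, 4, 8, 5, 10, 3, 2] 12 [3, 6, 4, 3, 5, 4, 5, 2, 3, 4, 6, 6, 9, 3, 2, 3], .loop 11 [3, 4, 8, 5, 10, 3, 2] [⟨206, [(31, false)], [1, 4, 2, 4, 3, 4, 2, 4, 3, 4, 4]⟩, ⟨252, [], [2, 4, 6, 3, 4, 4, 6, 4, 3, 4, 4, 4]⟩]))
 (.leaf (.stab 0 [], .gen)))))
 (.node (.node (.node (.leaf (.edge 5 [3, 4, 3, 5, 4, 0, 9, 3, 6, 4, 9, 3, 5, 4, 7, 10] 7 [3, 6, 6, 4, 3, 5, 8, 10, 3, 10, 3, 6, 4, 3, 6, 6], .loop 11 [3, 4, 3, 5, 4, 0, 9, 3, 6, 4, 9, 3, 5, 4, 7, 10] [⟨64, [], [0, 2, 5, 4, 3, 4, 4, 2, 4, 6, 3]⟩, ⟨59, [], [0, 4, 5, 6, 3, 4, 3, 4, 4, 6, 4, 4, 2]⟩]))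
 (.leaf (.stab 0 [], .gen)))
 (.node (.leaf (.edge 7 [3, 6, 9, 3, 2, 4, 3] 4 [3, 6, 4, 3, 5, 4, 7, 6, 9, 3, 9, 3, 5, 10, 3, 4, 5], .loop 32 [3, 6, 9, 3, 2, 4, 3] [⟨77, [(84, false)], [0, 3, 4, 4, 2, 5, 4, 6, 4, 3, 4, 6]⟩, ⟨108, [(88, true), (241, true), (88, true), (33, false), (33, false), (181, false), (88, false)], [2, 5, 4, 3, 4, 2, 3, 4, 4, 2, 3]⟩, ⟨221, [(239, true), (83, true)], [2, 5, 4, 2, 4, 3, 2, 4, 2, 4, 3, 6]⟩, ⟨210, [(239, true), (83, false), (239, false)], [4, 2, 4, 2, 4, 3, 4, 3, 2, 5]⟩, ⟨139, [(239, true)], [2, 3, 4, 2, 3, 5, 4, 3, 2, 4, 6, 3]⟩]))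
 (.leaf (.stab 0 [], .gen))))
 (.node (.node (.leaf (.edge 4 [3, 8, 5, 0, 10, 3, 2, 5, 4, 3, 8, 10] 4 [8, 6, 4, 3, 5, 4, 5, 8, 2, 3, 9, 3, 6, 6, 9, 3], .loop 4 [3, 8, 5, 0, 10, 3, 2, 5, 4, 3, 8, 10] [⟨227, [], [3, 4, 2, 3, 5, 4, 6, 5, 4]⟩, ⟨233, [(83, true), (83, false)], [2, 6, 4, 3, 6, 4, 3, 4, 4, 2, 4, 6]⟩]))
 (.leaf (.stab 0 [], .gen)))
 (.node (.leaf (.edge 4 [5, 4, 7, 6, 4, 9, 3, 2, 4, 3, 2] 7 [5, 4, 3, 8, 6, 4, 5, 9, 3, 2, 3, 4, 5, 4, 9, 6, 6], .loop 11 [5, 4, 7, 6, 4, 9, 3, 2, 4, 3, 2] [⟨281, [], [0, 4, 3, 6, 4, 3, 4, 3, 6, 4, 4, 6]⟩, ⟨380, [(35, false), (35, false)], [2, 6, 4, 6, 4, 4, 3, 2, 4, 2, 4, 3, 4]⟩]))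
 (.leaf (.stab 0 [], .gen)))))))
 (.node (.node (.node (.node (.node (.leaf (.stab 3 [3, 5, 4, 8, 0, 2, 3, 2, 4, 3, 5, 4, 8, 9, 6], .dupF 9 ⟨9, [(22, false), (20, false), (21, false), (22, true), (22, true), (20, true), (22, true)], [4, 4, 2, 4, 3, 4, 4, 5, 6, 4, 3, 6]⟩))
 (.leaf (.edge 10 [7, 6, 4, 9, 3, 5, 4, 9] 10 [4, 3, 7, 6, 4, 3, 5, 4, 10, 3, 5, 4, 7, 10, 6, 6], .loop 11 [7, 6, 4, 9, 3, 5, 4, 9] [⟨254, [(127, false)], [4, 2, 3, 4, 4, 2, 5, 4, 3, 4, 2]⟩, ⟨418, [(35, false)], [3, 4, 3, 6, 5, 4, 3, 2, 4, 4, 5]⟩])))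
 (.node (.leaf (.edge 6 [3, 4, 0, 2, 3, 2, 4] 6 [7, 5, 4, 3, 9, 3, 4, 5, 10, 3, 5, 4, 10, 3, 5], .loop 12 [3, 4, 0, 2, 3, 2, 4] [⟨12, [], [0, 3]⟩, ⟨75, [(24, true), (24, false)], [6, 4, 3, 4, 2, 4, 2, 3, 4, 4, 4]⟩, ⟨154, [(26, false)], [0, 4, 3, 6, 4, 3, 4, 5, 6, 4, 3, 4, 2]⟩, ⟨61, [(24, true), (24, true), (24, true), (24, false), (24, false), (24, false)], [2, 3, 5, 4, 2, 4, 6, 3, 4, 2, 6]⟩, ⟨188, [(239, true), (239, false), (239, false)], [1, 2, 5, 5, 4, 3, 2, 4, 3, 4, 4]⟩]))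
 (.leaf (.stab 0 [], .gen))))
 (.node (.node (.leaf (.edge 4 [5, 9, 3, 5, 8, 9, 3] 6 [3, 5, 4, 6, 6, 4, 0, 9, 3, 4, 6, 4, 3, 9, 6, 6], .loop 11 [5, 9, 3, 5, 8, 9, 3] [⟨95, [], [0, 6, 4, 3, 4, 5, 6, 4, 2, 4, 3, 5, 4]⟩, ⟨138, [], [0, 5, 4, 6, 3, 4, 4, 6, 4, 3, 4, 2]⟩]))
 (.leaf (.stab 0 [], .gen)))
 (.node (.leaf (.edge 11 [3, 5, 7, 5, 4, 10, 3, 2, 3, 4, 3, 10] 10 [3, 5, 5, 4, 7, 6, 0, 9, 3, 2, 4, 3, 5], .loop 11 [3, 5, 7, 5, 4, 10, 3, 2, 3, 4, 3, 10] [⟨94, [], [0, 4, 3, 6, 4, 3, 4, 6, 4, 3, 4, 6]⟩, ⟨305, [(128, true), (250, true), (128, true), (128, false), (250, false), (128, false), (128, false)], [1, 4, 6, 4, 3, 2, 5, 4, 6, 5, 4, 2]⟩]))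
 (.leaf (.stab 0 [], .gen)))))
 (.node (.node (.node (.leaf (.edge 9 [5, 4, 3, 6, 4, 5, 7, 0, 10, 3, 2, 5, 4, 3, 7] 6 [7, 6, 10, 3, 10, 3, 6, 8, 10, 6, 4], .loop 4 [5, 4, 3, 6, 4, 5, 7, 0, 10, 3, 2, 5, 4, 3, 7] [⟨70, [(34, true), (34, true)], [4, 2, 3, 5, 4, 3, 2, 4, 4, 4, 6, 5]⟩, ⟨66, [], [4, 2, 4, 5, 6, 3, 4, 2, 4, 4, 4, 3]⟩]))
 (.leaf (.stab 0 [], .gen)))
 (.node (.leaf (.edge 4 [3, 4, 3, 0, 2, 3, 10, 3, 10, 3, 4] 5 [4, 7, 10, 3, 2, 3, 9, 6, 4, 3, 7], .loop 17 [3, 4, 3, 0, 2, 3, 10, 3, 10, 3, 4] [⟨10, [(86, true)], [1, 4, 3, 2, 4, 2, 4, 4, 4, 3, 4, 2, 4]⟩, ⟨8, [], [4, 3, 2, 6]⟩, ⟨52, [(23, false)], [4, 6, 3, 2, 4, 5, 5, 4, 2]⟩, ⟨55, [(23, true), (124, true), (124, true), (22, true), (19, false)], [0, 6, 5, 4, 3, 4, 4, 5, 6,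 4, 2]⟩, ⟨61, [(26, true), (25, true), (26, true), (24, true), (24, false), (24, false), (24, false)], [1, 5, 4, 2, 4, 3, 2, 4, 2, 4, 2, 5]⟩]))
 (.leaf (.stab 0 [], .gen))))
 (.node (.node (.leaf (.edge 5 [5, 5, 4, 0, 10, 3] 5 [3, 5, 8, 5, 4, 3, 5, 9, 3, 5, 4, 5, 4, 9, 3, 9, 3], .loop 12 [5, 5, 4, 0, 10, 3] [⟨11, [], [1, 4, 4, 2, 6]⟩, ⟨101, [(26, true), (26, false), (24, false)], [6, 4, 3, 4, 6, 5, 4, 2, 4, 3, 4, 6]⟩, ⟨102, [(25, true), (24, true), (24, true), (25, false), (24, false)], [1, 2, 4, 3, 4, 4, 6, 4, 3, 2, 4, 4]⟩, ⟨219, [(85, true)], [1, 4, 2, 4, 4, 4, 3, 4, 4, 2, 4, 4]⟩, ⟨205, [(31, true), (85, true), (31, false)], [4, 4, 2, 3, 4, 3, 4, 6, 4, 3, 6]⟩]))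
 (.leaf (.stab 0 [], .gen)))
 (.node (.leaf (.edge 7 [5, 0, 9, 3, 2, 3, 6, 4, 3, 10, 5] 11 [4, 6, 4, 3, 5, 4, 5, 9, 3, 2, 3, 5, 8, 9, 5, 4, 5], .loop 12 [5, 0, 9, 3, 2, 3, 6, 4, 3, 10, 5] [⟨69, [(84, false), (32, false)], [0, 4, 4, 3, 4, 5, 6, 4, 2, 4, 3, 5, 4]⟩, ⟨299, [(86, true)], [3, 4, 4, 6, 4, 3, 4, 2, 6, 5, 4]⟩, ⟨143, [(249, true)], [4, 5, 4, 2, 3, 4, 5, 6]⟩, ⟨308, [(249, true), (127, true), (127, true)], [4, 3, 5, 6, 4, 3, 6, 4, 3, 4, 2]⟩, ⟨358, [(86, false)], [4, 4, 3, 4, 2, 4, 3, 2, 4, 4, 6, 3]⟩]))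
 (.leaf (.stab 0 [], .gen))))))
 (.node (.node (.node (.node (.leaf (.edge 5 [3, 6, 2, 3] 2 [6, 0, 10, 3, 5], .loop 0 [3, 6, 2, 3] [⟨11, [], [4, 3]⟩]))
 (.leaf (.stab 0 [], .gen)))
 (.node (.leaf (.edge 4 [6, 7, 9, 3, 6, 8, 10] 4 [5, 4, 3, 8, 6, 4, 5, 0, 9, 3, 4, 6, 9, 3, 5, 8, 9, 6, 4], .loop 33 [6, 7, 9, 3, 6, 8, 10] [⟨274, [(86, true)], [5, 4, 3, 2, 4, 4, 2, 5, 6, 4, 6]⟩, ⟨293, [(35, true)], [2, 4, 4, 5, 6, 4, 6, 3, 4, 3, 4]⟩]))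
 (.leaf (.stab 0 [], .gen))))
 (.node (.node (.leaf (.edge 5 [8, 6, 4, 0, 10, 3, 2, 6, 4, 3, 7] 4 [7, 6, 4, 6, 9, 3, 6, 9, 3, 5, 9, 3, 2], .loop 12 [8, 6, 4, 0, 10, 3, 2, 6, 4, 3, 7] [⟨188, [], [1, 5, 4, 3, 5]⟩, ⟨12, [(31, true), (85, true)], [0, 5, 5, 4, 3]⟩, ⟨75, [(24, true), (24, false)], [2, 6, 4, 3, 5, 6, 4, 6, 3, 4, 6, 5]⟩, ⟨154, [(26, false)], [4, 5, 6, 3, 4, 6, 4, 4, 3, 2]⟩, ⟨152, [(24, true), (24, true), (25, true), (24, true), (24, false), (24, false), (25, false)], [1, 2, 5, 4, 3, 4, 4, 2, 5, 6]⟩]))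
 (.leaf (.stab 0 [], .gen)))
 (.node (.leaf (.edge 6 [6, 4, 3, 8, 5, 4, 5, 0, 10, 3, 9, 5, 4, 3, 7, 5, 10, 6] 6 [4, 6, 4, 3, 6, 0, 10, 3, 6, 6, 10, 3, 5, 10], .loop 12 [6, 4, 3, 8, 5, 4, 5, 0, 10, 3, 9, 5, 4, 3, 7, 5, 10, 6] [⟨225, [(31, true), (85, true), (31, false), (85, false)], [1, 2, 5, 4, 2, 4, 3, 4, 3, 4, 6, 4]⟩, ⟨232, [(31, true), (85, true), (31, true)], [0, 3, 4, 4, 3, 6, 5, 4, 2, 4, 3]⟩, ⟨143, [], [3, 4, 3, 4, 3, 6, 4, 3, 4, 4, 6]⟩, ⟨369, [(127, true), (127, false), (127, false)], [4, 3, 6, 4, 2, 4, 2, 3, 4, 4, 2]⟩, ⟨38, [], [6, 4, 3, 2, 4, 4, 3, 6, 4, 2]⟩]))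
 (.leaf (.stab 0 [], .gen)))))
 (.node (.node (.node (.leaf (.edge 11 [] 11 [6, 4, 10, 3, 2, 3, 4, 5, 4, 7, 6], .loop 11 [] [⟨17, [], []⟩, ⟨72, [(28, false), (30, false), (28, false)], [4, 4, 2, 3, 5, 4, 6, 5, 4, 3]⟩]))
 (.leaf (.stab 0 [], .gen)))
 (.node (.leaf (.edge 7 [4, 7, 6, 4, 5, 0, 9, 3, 2, 6] 5 [5, 4, 3, 5, 5, 4, 3, 5, 0, 9, 3, 6, 8, 9, 3, 5, 9], .loop 11 [4, 7, 6, 4, 5, 0, 9, 3, 2, 6] [⟨352, [], [5, 4, 2, 3, 5, 4, 6, 5, 4, 3]⟩, ⟨210, [(83, false), (239, false)], [0, 4, 5, 4, 5, 6, 3, 4, 2, 4, 2]⟩]))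
 (.leaf (.stab 0 [], .gen))))
 (.node (.node (.leaf (.edge 7 [3, 4, 3, 7, 2, 3, 4] 11 [3, 4, 5, 4, 3, 6, 0, 9, 3, 5, 10, 6, 4, 3, 10], .loop 12 [3, 4, 3, 7, 2, 3, 4] [⟨40, [(84, false), (32, false)], [0, 4, 3, 6, 5, 4, 2, 4, 3, 5, 6, 4, 2, 4]⟩, ⟨203, [(83, true)], [0, 4, 3, 4, 2, 4, 4, 6, 3, 4, 5, 6]⟩, ⟨137, [(31, false)], [4, 2, 4, 3, 2, 4, 3, 4, 3, 6]⟩, ⟨155, [(181, true), (33, true), (33, false)], [4, 6, 5, 4, 2, 4, 3, 4, 2, 4, 5, 5]⟩, ⟨228, [(31, true), (85, true), (31, true)], [0, 6, 4, 2, 5, 4, 6, 3]⟩]))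
 (.leaf (.stab 0 [], .gen)))
 (.node (.leaf (.edge 4 [3, 4, 5, 4, 0, 10, 3, 6] 11 [4, 3, 6, 4, 3, 5, 4, 6, 0, 9, 3, 5, 10, 5, 4, 3, 7, 6], .loop 11 [3, 4, 5, 4, 0, 10, 3, 6] [⟨223, [], [0, 1, 2, 5, 4, 3, 4, 4, 2, 4, 4, 3]⟩, ⟨300, [(31, false), (85, false)], [1, 3, 4, 4, 4, 6, 5, 4, 3, 4, 3, 2, 4]⟩]))
 (.leaf (.stab 0 [], .gen))))))))

/-- items -/
noncomputable def items12 : ITree (Item × Why) :=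
 (.node (.node (.node (.node (.node (.node (.leaf (.stab 0 [4], .gen))
 (.leaf (.edge 9 [6, 4, 3, 7, 5, 4, 2, 3, 9, 3, 2, 3, 6, 8, 10, 3, 5] 4 [3, 6, 6, 4, 6, 9, 3, 5, 5, 9, 5, 4, 3, 2, 3], .loop 11 [6, 4, 3, 7, 5, 4, 2, 3, 9, 3, 2, 3, 6, 8, 10, 3, 5] [⟨259, [(34, false)], [0, 3, 4, 2, 5, 5, 4, 3, 4, 2]⟩, ⟨201, [], [2, 4, 4, 6, 3, 4, 4, 2, 3, 4]⟩])))
 (.node (.leaf (.edge 10 [6, 6, 0, 10, 3, 9, 5] 9 [3, 4, 7, 5, 4, 5, 0, 9, 3, 9, 3, 6, 10, 3, 10, 6, 8], .loop 10 [6, 6, 0, 10, 3, 9, 5] [⟨245, [(249, true), (127, true), (127, true), (127, false), (127, false)], [3, 4, 2, 3, 4, 6, 4, 3, 4, 6, 3, 4, 5]⟩, ⟨238, [], [1, 3, 4, 2, 4, 2, 4, 3, 4, 6, 4, 5]⟩]))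
 (.leaf (.stab 0 [], .gen))))
 (.node (.node (.leaf (.edge 3 [7] 3 [4, 8, 10, 3, 2, 3, 5, 4, 6, 7], .loop 11 [7] [⟨9, [], [5]⟩, ⟨99, [(21, false), (22, false)], [2, 3, 4, 3, 4, 2, 4, 3, 5, 5, 4, 2, 4]⟩]))
 (.leaf (.stab 0 [], .gen)))
 (.node (.leaf (.edge 7 [6, 4, 3] 4 [3, 5, 4, 3, 5, 0, 10, 3, 6, 4, 6, 8, 9, 3, 5], .loop 11 [6, 4, 3] [⟨342, [(84, false), (32, false)], [3, 4, 4, 6, 4, 3, 2, 4, 4, 5]⟩, ⟨335, [], [1, 4, 6, 4, 3, 4, 3, 2, 5, 4, 5]⟩]))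
 (.leaf (.stab 0 [], .gen)))))
 (.node (.node (.node (.leaf (.edge 5 [3, 4, 2, 3, 2, 4, 3, 5, 4, 9] 5 [5, 4, 9, 3, 2, 3, 5, 4, 6], .loop 11 [3, 4, 2, 3, 2, 4, 3, 5, 4, 9] [⟨11, [], [3, 4, 2, 6]⟩, ⟨61, [(24, false), (24, false), (24, false)], [1, 4, 2, 4, 3, 4, 2, 4, 4, 3, 4, 4, 6]⟩]))
 (.leaf (.stab 0 [], .gen)))
 (.node (.leaf (.edge 4 [3, 8, 5, 4, 3, 0, 10, 3, 5, 4] 10 [5, 4, 3, 5, 4, 6, 7, 10, 3, 6, 4, 8, 9, 3, 9, 3, 6], .loop 2 [3, 8, 5, 4, 3, 0, 10, 3, 5, 4] [⟨274, [(86, true)], [0, 5, 4, 6, 5, 4, 3, 4, 6, 4, 4]⟩, ⟨170, [(35, true), (35, false)], [3, 4, 4, 6, 4, 4, 3, 4, 2, 4, 6]⟩]))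
 (.leaf (.stab 0 [], .gen))))
 (.node (.node (.leaf (.edge 4 [5, 4, 6, 8, 9, 3, 5] 6 [4, 3, 5, 4, 3, 8, 6, 4, 2, 3, 9, 5, 4, 3, 9, 5, 4, 3, 2], .loop 0 [5, 4, 6, 8, 9, 3, 5] [⟨191, [], [5, 4, 6, 5, 4, 2, 4, 4, 3, 4, 5]⟩]))
 (.leaf (.stab 0 [], .gen)))
 (.node (.leaf (.edge 4 [4, 6, 4, 5, 5, 9, 3, 6, 4] 6 [6, 7, 0, 9, 3, 5, 9, 6, 4, 7, 6], .loop 11 [4, 6, 4, 5, 5, 9, 3, 6, 4] [⟨189, [(86, false)], [5, 4, 2, 3, 6, 4, 4, 2]⟩, ⟨188, [(239, true), (239, false), (239, false)], [4, 2, 4, 3, 4, 6, 3, 4, 2, 4, 3]⟩]))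
 (.leaf (.stab 0 [], .gen))))))
 (.node (.node (.node (.node (.leaf (.stab 11 [3, 4, 6, 4, 3, 6, 6, 0, 9, 3, 6, 4, 6, 10, 3, 4, 5, 9], .dupF 17 ⟨17, [(28, false), (29, true)], [4, 3, 2, 4, 4, 4, 6, 4, 4, 4]⟩))
 (.leaf (.edge 11 [3, 6, 4, 7, 6, 9, 3, 2, 4, 3, 2] 9 [4, 3, 5, 2, 3, 4, 5, 10, 3, 6, 8, 9], .loop 11 [3, 6, 4, 7, 6, 9, 3, 2, 4, 3, 2] [⟨311, [(35, false)], [4, 6, 5, 4, 2, 4, 3, 4, 6, 3, 4, 5]⟩, ⟨460, [(35, false)], [2, 4, 3, 4, 4, 4, 2, 4, 3, 4, 6, 5]⟩])))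
 (.node (.leaf (.edge 10 [3, 4, 9, 3, 4, 5, 9] 4 [3, 4, 3, 5, 4, 3, 7, 0, 9, 3, 9, 3, 5, 9, 6, 8], .loop 10 [3, 4, 9, 3, 4, 5, 9] [⟨282, [(249, true), (127, true), (249, false)], [2, 4, 5, 6, 4, 2, 3, 4, 4, 3, 5]⟩, ⟨266, [], [3, 5, 4, 3, 2, 4, 2, 4, 4, 4]⟩]))
 (.leaf (.stab 0 [], .gen))))
 (.node (.node (.leaf (.edge 11 [3, 5, 4, 7, 0, 10, 3, 2, 4, 3] 10 [7, 6, 4, 3, 6, 0, 2, 3, 4, 9, 3, 5, 10, 3, 10], .loop 11 [3, 5, 4, 7, 0, 10, 3, 2, 4, 3] [⟨141, [(35, false), (35, false), (35, false)], [6, 3, 4, 5, 5, 4, 2, 4, 3, 4, 3]⟩, ⟨143, [], [2, 6, 5, 6, 4, 3, 4, 2, 4, 5, 4]⟩]))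
 (.leaf (.stab 0 [], .gen)))
 (.node (.leaf (.edge 4 [3, 7, 5, 4, 0, 10, 3, 6, 8, 9, 6] 4 [3, 5, 7, 5, 4, 0, 10, 3, 6, 9, 3, 5, 4, 9], .loop 17 [3, 7, 5, 4, 0, 10, 3, 6, 8, 9, 6] [⟨255, [], [3, 4, 4, 3, 2, 5, 6, 4, 2, 4, 6]⟩, ⟨221, [(239, true)], [2, 3, 4, 4, 5, 4, 6, 4, 3, 2, 4, 4]⟩, ⟨221, [(83, true)], [3, 6, 4, 3, 6, 4, 4, 6, 3, 4, 2, 4]⟩, ⟨50, [(239, true), (239, false)], [4, 4, 2, 5, 4, 3, 4, 6, 3, 4, 3]⟩, ⟨346, [], [2, 3, 4, 6, 4, 4, 3, 2, 5, 4, 2]⟩]))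
 (.leaf (.stab 0 [], .gen)))))
 (.node (.node (.node (.leaf (.edge 3 [3, 2, 3, 9] 1 [6, 4, 0, 2, 3, 9, 3, 9, 3, 4], .loop 0 [3, 2, 3, 9] [⟨9, [], [2, 4, 6, 4, 3, 4, 3, 6, 4, 3, 6, 4, 4]⟩]))
 (.leaf (.stab 0 [], .gen)))
 (.node (.leaf (.edge 12 [9, 3, 2, 6, 4, 3, 9, 5, 5, 9] 12 [5, 8, 5, 4, 6, 10, 3, 2, 3, 5, 5, 10, 3, 9, 6, 8], .loop 17 [9, 3, 2, 6, 4, 3, 9, 5, 5, 9] [⟨164, [(250, true), (128, true), (250, true), (36, true), (36, false), (250, false)], [1, 5, 4, 2, 4, 2, 3, 4, 2, 4, 5, 6]⟩, ⟨314, [(249, true), (127, true), (127, true), (127, false), (127, false)], [2, 4, 4, 4, 3, 4, 4, 2, 6, 4]⟩, ⟨294, [(35, true), (35, true), (35, false)], [0, 3, 4, 4, 4, 4, 4, 2, 4, 3, 4, 2, 4]⟩, ⟨252, [(31, true)], [0, 4, 4, 3, 6, 4, 3, 4, 2,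 4]⟩, ⟨116, [(36, true), (250, true), (128, true), (250, false), (250, false)], [4, 2, 3, 4, 2, 4, 3, 4, 6, 4, 4, 3, 4]⟩]))
 (.leaf (.stab 0 [], .gen))))
 (.node (.node (.leaf (.edge 5 [3, 4, 5, 4, 8, 9, 3, 5] 4 [3, 7, 6, 4, 3, 6, 4, 5, 8, 0, 2, 3, 4, 5, 10, 3, 4, 6, 4, 3, 2], .loop 4 [3, 4, 5, 4, 8, 9, 3, 5] [⟨186, [(83, true), (83, false)], [0, 5, 6, 3, 4, 3, 4, 4]⟩, ⟨201, [], [3, 2, 4, 3, 6, 4, 5, 6, 3, 4, 4, 5]⟩]))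
 (.leaf (.stab 0 [], .gen)))
 (.node (.leaf (.edge 4 [6, 4, 0, 9, 3] 7 [4, 7, 6, 4, 3, 5, 4, 6, 2, 3, 9, 3, 6, 9, 3, 4, 5, 4], .loop 12 [6, 4, 0, 9, 3] [⟨10, [], [0, 6, 4, 6, 4, 2]⟩, ⟨159, [(24, true), (24, true), (24, false), (25, false)], [2, 4, 3, 2, 4, 5, 4, 6, 4, 3, 5, 4]⟩, ⟨61, [(24, true), (24, true), (26, true), (25, true), (24, false), (24, false), (24, false)], [4, 3, 4, 6, 4, 3, 6, 4, 6, 4, 2, 6]⟩, ⟨257, [(83, true), (239, true), (239, false), (239, false)], [0, 4, 5, 4, 2, 5, 6, 4, 4, 3, 5]⟩, ⟨264, [(35, true), (35, true), (35, true)], [4, 3, 6, 5, 6, 4]⟩]))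
 (.leaf (.stab 0 [], .gen)))))))
 (.node (.node (.node (.node (.node (.leaf (.stab 1 [2], .dupF 7 ⟨7, [(1, false), (4, false), (3, false), (4, false), (2, false), (3, false), (5, false), (0, true), (5, true), (3, true), (2, true), (4, true), (3, true), (4, true), (1, true)], [0]⟩))
 (.leaf (.edge 4 [3, 0, 9, 3, 2, 6, 4, 3, 2, 5] 7 [3, 6, 4, 7, 5, 10, 3, 5, 4, 5, 9, 3, 6, 6], .loop 11 [3, 0, 9, 3, 2, 6, 4, 3, 2, 5] [⟨357, [], [2, 5, 6, 4, 2, 4, 2, 3, 4, 2, 4]⟩, ⟨477, [(35, false), (35, false)], [0, 6, 4, 4, 3, 5, 4, 2, 4, 4, 3]⟩])))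
 (.node (.leaf (.edge 6 [3, 4, 7, 5, 9, 3, 2] 12 [3, 6, 4, 6, 4, 10, 3, 6, 6, 9, 5], .loop 10 [3, 4, 7, 5, 9, 3, 2] [⟨207, [(85, true), (31, true), (31, false)], [4, 4, 2, 4, 3, 4, 6, 5, 4, 3, 6]⟩, ⟨252, [], [2, 5, 6, 4, 3, 4, 2, 4, 3, 6]⟩]))
 (.leaf (.stab 0 [], .gen))))
 (.node (.node (.leaf (.edge 12 [3, 7, 6, 9, 3, 4] 10 [4, 3, 6, 4, 3, 6, 4, 7, 6, 9, 3, 5, 10, 3, 5, 4, 3, 2, 5], .loop 4 [3, 7, 6, 9, 3, 4] [⟨18, [], [4, 2, 4, 3, 4, 3, 2, 5, 4, 3, 4, 6]⟩, ⟨132, [(126, true), (29, true), (30, false), (30, false)], [4, 3, 4, 4, 6, 4, 6, 3, 4, 4, 6, 4, 2]⟩]))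
 (.leaf (.stab 0 [], .gen)))
 (.node (.leaf (.edge 11 [3, 6, 4, 5, 7, 0, 10, 3, 2, 6, 8] 11 [3, 7, 5, 4, 3, 6, 4, 5, 10, 3, 2, 4, 3, 6, 4, 6, 8, 10, 3], .loop 17 [3, 6, 4, 5, 7, 0, 10, 3, 2, 6, 8] [⟨231, [], [1, 4, 4, 6, 4, 4]⟩, ⟨139, [], [0, 5, 6, 3, 4, 3, 4, 6, 4, 3]⟩, ⟨204, [(86, true), (86, false)], [0, 4, 3, 4, 2, 4, 4, 6, 4, 3, 5, 5]⟩, ⟨240, [(239, true), (83, true), (83, false), (239, false)], [3, 4, 4, 3, 5, 4, 2, 4, 4, 3, 2]⟩, ⟨300, [(85, true), (31, true), (31, false), (85, false)], [1, 4, 4, 2, 4, 4, 4, 3, 4, 2, 4, 3, 4]⟩]))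
 (.leaf (.stab 0 [], .gen)))))
 (.node (.node (.node (.leaf (.stab 5 [4, 3, 0, 10, 3, 9], .dupB 82 ⟨82, [(24, true), (25, true), (24, true), (24, true), (24, true), (25, false), (24, false)], [2, 4, 2, 3, 4, 2, 4, 4, 4, 3, 4, 2, 4]⟩))
 (.leaf (.stab 0 [], .gen)))
 (.node (.leaf (.edge 11 [3, 6, 4, 5, 5, 0, 9, 3, 5] 4 [6, 4, 3, 5, 4, 5, 4, 5, 9, 3, 5, 9, 3, 2], .loop 11 [3, 6, 4, 5, 5, 0, 9, 3, 5] [⟨277, [(35, false), (35, false), (35, false)], [1, 4, 2, 4, 3, 2, 4, 2, 4, 5]⟩, ⟨309, [(86, false)], [2, 6, 4, 3, 4, 4, 6, 4, 3, 6, 4, 5]⟩]))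
 (.leaf (.stab 0 [], .gen))))
 (.node (.node (.leaf (.edge 4 [5, 4, 3, 5, 4, 0] 5 [7, 6, 4, 6, 7, 2, 3, 4, 6, 9, 3, 9, 5, 7], .loop 10 [5, 4, 3, 5, 4, 0] [⟨191, [], [4, 4, 4, 2, 3, 4, 2, 6, 3]⟩, ⟨205, [(31, true), (85, true), (31, true), (31, false)], [4, 2, 6, 4, 3, 4, 3, 2, 4, 3, 4, 4]⟩]))
 (.leaf (.stab 0 [], .gen)))
 (.node (.leaf (.edge 4 [3, 4, 5] 5 [3, 4, 6, 6, 4, 9, 3, 2, 3, 4, 9, 5, 4, 8], .loop 11 [3, 4, 5] [⟨425, [], [4, 2, 3, 5, 4, 3, 4, 2, 3, 4, 2, 3]⟩, ⟨461, [], [3, 4, 3, 2, 5, 4]⟩]))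
 (.leaf (.stab 0 [], .gen))))))
 (.node (.node (.node (.node (.leaf (.edge 5 [3, 5, 9, 3, 4] 7 [4, 3, 7, 6, 2, 3, 4, 5, 9, 3, 5, 8, 10, 3], .loop 6 [3, 5, 9, 3, 4] [⟨11, [], [0, 6, 4, 3, 4, 3, 6, 4, 3, 6, 4, 4, 2]⟩, ⟨37, [(24, true), (24, true), (25, true)], [3, 4, 3, 6, 4, 3, 5, 5, 4, 3, 2, 4]⟩]))
 (.leaf (.edge 5 [7, 0, 9, 3, 2, 4, 3, 2, 5] 11 [3, 6, 4, 3, 6, 6, 4, 6, 10, 3, 4, 6, 4, 8, 9, 3, 5, 8], .loop 11 [7, 0, 9, 3, 2, 4, 3, 2, 5] [⟨203, [], [3, 5, 4, 3, 5, 6, 4, 2, 3, 4, 4, 2]⟩, ⟨514, [(85, false), (31, false)], [1, 4, 4, 4, 3, 2, 4, 4, 2]⟩])))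
 (.node (.leaf (.edge 10 [7, 6, 4, 5, 8, 10, 3, 2, 4, 3] 6 [3, 8, 5, 4, 3, 5, 4, 5, 4, 0, 10, 3, 2, 4, 3, 6, 9, 5, 5, 4], .loop 4 [7, 6, 4, 5, 8, 10, 3, 2, 4, 3] [⟨192, [(127, true), (127, true), (127, false), (249, false)], [3, 4, 3, 2, 5, 4, 6, 5]⟩, ⟨240, [(239, true), (239, true), (83, false), (239, false)], [3, 4, 4, 3, 2, 4, 2, 4, 3, 6, 5, 4]⟩]))
 (.leaf (.stab 0 [], .gen))))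
 (.node (.node (.leaf (.edge 4 [3, 7, 6, 4, 0, 10, 3, 2, 3, 4, 3] 4 [4, 6, 6, 4, 3, 5, 4, 0, 2, 3, 4, 5, 9, 3, 6, 6, 10], .loop 11 [3, 7, 6, 4, 0, 10, 3, 2, 3, 4, 3] [⟨134, [], [4, 3, 2, 4, 3, 6, 4, 3, 4, 4, 4]⟩, ⟨68, [], [0, 4, 4, 4, 6, 4, 3, 4, 3, 4, 6, 4]⟩]))
 (.leaf (.stab 0 [], .gen)))
 (.node (.leaf (.edge 10 [3, 8, 0, 9, 3, 2, 4, 3, 2] 11 [3, 5, 8, 5, 4, 3, 6, 4, 10, 3, 6, 10, 6, 4, 3, 9, 5, 5], .loop 12 [3, 8, 0, 9, 3, 2, 4, 3, 2] [⟨162, [], [3, 4, 2, 4, 4, 4, 3, 4, 6, 3, 4]⟩, ⟨164, [(128, true), (250, true), (36, false), (250, false)], [2, 4, 6, 4, 3, 4, 6, 4, 3, 4, 3, 6, 4, 2]⟩, ⟨386, [(127, true), (249, false)], [3, 5, 4, 2, 4, 4, 3, 6, 4, 3]⟩, ⟨309, [(86, true), (86, false)], [0, 4, 4, 4, 3, 5, 4, 6, 5, 4, 3, 4, 2]⟩,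 ⟨358, [(86, false)], [4, 3, 6, 4, 6, 3, 4, 4, 3, 2, 4, 3]⟩]))
 (.leaf (.stab 0 [], .gen)))))
 (.node (.node (.node (.leaf (.edge 8 [4, 3, 0, 2, 3, 9, 3, 9, 3, 4] 2 [3, 4, 3, 7, 2, 3, 9, 3, 4], .loop 11 [4, 3, 0, 2, 3, 9, 3, 9, 3, 4] [⟨62, [], [4, 3, 6, 5, 4, 3, 4, 3, 5, 6, 4, 3, 4]⟩, ⟨15, [(34, true), (87, true)], [3, 2, 5, 5]⟩]))
 (.leaf (.stab 0 [], .gen)))
 (.node (.leaf (.edge 11 [3, 7, 5, 0, 9, 3, 2, 3, 4, 3] 4 [3, 4, 6, 4, 3, 7, 5, 0, 2, 3, 4, 5, 5, 10, 3, 10, 3, 5], .loop 4 [3, 7, 5, 0, 9, 3, 2, 3, 4, 3] [⟨296, [], [2, 4, 3, 2, 4, 4, 3, 5, 6, 4, 6]⟩, ⟨317, [], [4, 4, 2, 3, 4, 4, 4, 6, 4, 3, 4]⟩]))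
 (.leaf (.stab 0 [], .gen))))
 (.node (.node (.leaf (.edge 4 [3, 6, 4, 6, 4, 7, 2, 3, 10, 3, 9, 3, 5, 10] 11 [3, 4, 7, 6, 4, 3, 6, 9, 3, 5, 8, 10, 6, 4, 8], .loop 9 [3, 6, 4, 6, 4, 7, 2, 3, 10, 3, 9, 3, 5, 10] [⟨189, [(86, false)], [2, 4, 5, 4, 5, 6, 4, 2, 3, 6]⟩, ⟨234, [(239, true), (83, false), (239, false)], [3, 2, 4, 2, 4, 3, 6, 4, 2, 6, 5, 4]⟩]))
 (.leaf (.stab 0 [], .gen)))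
 (.node (.leaf (.edge 7 [6, 9, 3, 2] 7 [3, 4, 5, 5, 5, 10, 3, 2, 3, 5, 4, 5, 10, 6, 8], .loop 11 [6, 9, 3, 2] [⟨303, [(32, false), (84, false)], [4, 4, 3, 6, 4, 3, 4, 6, 4, 3, 6, 5]⟩, ⟨253, [(35, false)], [2, 3, 5, 4, 3, 4, 2, 4, 5, 6, 3, 4]⟩]))
 (.leaf (.stab 0 [], .gen))))))))

/-- items -/
noncomputable def items13 : ITree (Item × Why) :=
 (.node (.node (.node (.node (.node (.node (.leaf (.edge 2 [6, 9, 3] 5 [], .orbit))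
 (.leaf (.edge 5 [3, 5, 7, 5, 4, 0, 2, 3, 2, 4] 4 [3, 4, 6, 4, 3, 6, 8, 10, 3, 2, 3, 4, 10, 6, 4, 3], .loop 11 [3, 5, 7, 5, 4, 0, 2, 3, 2, 4] [⟨211, [(83, false)], [5, 4, 6, 5, 4, 3, 6, 4, 6, 3]⟩, ⟨343, [(86, false)], [3, 2, 6, 4, 3, 4, 2, 4, 3, 4, 3, 4]⟩])))
 (.node (.leaf (.edge 4 [5, 4, 6, 7, 10, 3, 4, 10] 9 [7, 6, 4, 3, 5, 4, 6, 6, 10, 3, 2, 3, 10, 5, 4, 3, 5], .loop 11 [5, 4, 6, 7, 10, 3, 4, 10] [⟨191, [], [1, 4, 4, 4, 3, 2, 4, 3, 5]⟩, ⟨238, [], [3, 4, 5, 4, 2, 6, 5, 6, 4, 3, 4, 2]⟩]))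
 (.leaf (.stab 0 [], .gen))))
 (.node (.node (.leaf (.edge 4 [3, 5, 4, 0, 9, 3, 4, 9, 3] 5 [4, 5, 5, 4, 3, 5, 4, 2, 3, 4, 10, 3, 6, 8, 9, 5], .loop 11 [3, 5, 4, 0, 9, 3, 4, 9, 3] [⟨98, [], [2, 3, 4, 2, 4, 4, 4, 3, 4, 2, 4]⟩, ⟨108, [(88, false)], [4, 4, 5, 4, 3, 2, 4, 6, 4, 6]⟩]))
 (.leaf (.stab 0 [], .gen)))
 (.node (.leaf (.edge 4 [5, 8, 5, 4, 3, 0, 10, 3, 2, 4, 3] 7 [3, 7, 6, 4, 3, 6, 4, 6, 9, 3, 4, 9, 3, 5, 4, 3, 7, 5], .loop 12 [5, 8, 5, 4, 3, 0, 10, 3, 2, 4, 3] [⟨121, [(86, true), (86, false)], [0, 3, 5, 5]⟩, ⟨211, [(239, true), (83, true), (83, false)], [0, 3, 6, 4, 2, 4, 6, 3, 4, 2, 4, 2, 6]⟩, ⟨43, [], [3, 4, 2, 4, 6, 3, 4, 4, 6, 4, 2, 4]⟩, ⟨292, [(239, false), (239, false)], [3, 4, 3, 4, 4, 2, 4, 4, 3, 5, 4, 6]⟩, ⟨365,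 [(86, true)], [4, 3, 4, 2, 3, 4, 4, 3, 5, 4, 5, 6]⟩]))
 (.leaf (.stab 0 [], .gen)))))
 (.node (.node (.node (.leaf (.edge 2 [3] 2 [0, 2, 3, 2], .loop 12 [3] [⟨8, [], []⟩, ⟨7, [], []⟩, ⟨6, [], [6]⟩, ⟨44, [(3, true), (1, false)], [6, 5, 6]⟩, ⟨55, [(23, true), (19, false)], [0, 1, 2, 4, 5, 4, 5]⟩]))
 (.leaf (.stab 0 [], .gen)))
 (.node (.leaf (.edge 9 [5, 4, 6, 0, 2, 3, 10, 5, 8] 4 [8, 6, 4, 3, 5, 4, 9, 3, 6, 4, 6, 4, 9, 3, 2, 4], .loop 0 [5, 4, 6, 0, 2, 3, 10, 5, 8] [⟨267, [], [1, 4, 4, 6, 4, 3, 4, 3, 4, 2, 4, 3]⟩]))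
 (.leaf (.stab 0 [], .gen))))
 (.node (.node (.leaf (.edge 6 [4, 3, 6, 4, 8, 6, 10, 3, 4, 10, 6, 4, 3, 10, 6] 5 [4, 3, 6, 4, 3, 6, 0, 10, 3, 6, 6, 10, 5, 4, 5], .loop 0 [4, 3, 6, 4, 8, 6, 10, 3, 4, 10, 6, 4, 3, 10, 6] [⟨200, [(85, false)], [0, 2, 5, 4, 6, 4, 3, 4, 3, 4, 2, 4]⟩]))
 (.leaf (.stab 0 [], .gen)))
 (.node (.leaf (.edge 4 [5, 5, 9, 3, 4, 10, 5] 11 [8, 6, 4, 3, 6, 4, 5, 9, 3, 4, 5, 10, 3, 5, 4, 10, 3], .loop 11 [5, 5, 9, 3, 4, 10, 5] [⟨255, [], [2, 4, 4, 4, 6, 4, 3, 4, 4, 6, 4, 4, 3]⟩, ⟨426, [], [0, 3, 6, 4, 2, 4, 3, 4, 6, 3, 4, 6]⟩]))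
 (.leaf (.stab 0 [], .gen))))))
 (.node (.node (.node (.node (.leaf (.edge 5 [3, 7, 6, 4, 3, 0, 10, 3, 2, 4, 3, 10] 4 [3, 7, 5, 4, 3, 0, 2, 3, 4, 9, 3, 2], .loop 1 [3, 7, 6, 4, 3, 0, 10, 3, 2, 4, 3, 10] [⟨11, [], [5, 4, 2, 3, 6]⟩, ⟨41, [(24, true), (24, true), (24, true), (24, false), (24, false), (24, false)], [4, 2, 4, 3, 4, 2, 3, 4, 4, 4, 6]⟩]))
 (.leaf (.edge 12 [4, 3] 7 [7, 6, 10, 3, 4, 6, 4, 9, 3, 2, 3, 4, 6], .loop 11 [4, 3] [⟨164, [(36, false), (250, false)], [4, 6, 5, 4, 3, 4, 2, 5, 4, 5]⟩, ⟨447, [], [4, 3, 6, 4, 2, 4, 3, 6, 4, 4, 2, 4]⟩])))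
 (.node (.leaf (.edge 10 [3, 5, 4, 5, 8, 10, 3, 2, 5, 4, 3, 8, 10] 4 [3, 4, 5, 4, 3, 6, 4, 7, 9, 3, 5, 9, 3, 9, 3, 4, 6, 8], .loop 20 [3, 5, 4, 5, 8, 10, 3, 2, 5, 4, 3, 8, 10] [⟨229, [(249, true), (127, false), (249, false)], [4, 4, 2, 5, 4, 3, 4, 3, 6, 5, 4, 6]⟩, ⟨43, [], [0, 1, 6, 4, 6, 4, 4, 3, 5]⟩, ⟨240, [(239, true), (83, true), (83, false), (239, false)], [6, 4, 2, 3, 4, 6, 3, 5, 4, 2, 4]⟩, ⟨200, [(31, true), (85, false)], [6, 4, 4, 2, 4, 3, 4, 6, 3, 4, 2, 5, 5]⟩, ⟨50, [(239, true), (239, false)], [0, 2, 5, 5, 4, 3, 4, 6, 4, 3]⟩]))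
 (.leaf (.stab 0 [], .gen))))
 (.node (.node (.leaf (.edge 3 [3, 8, 6, 0, 9, 3, 9] 3 [6, 4, 3, 5, 4, 5, 8, 9, 3, 9, 5, 4, 3, 8, 9, 5], .loop 4 [3, 8, 6, 0, 9, 3, 9] [⟨131, [], [1, 6, 4, 3, 4, 4, 2, 3, 4, 3, 5]⟩, ⟨156, [], [2, 4, 4, 3, 4, 2, 5, 4]⟩]))
 (.leaf (.stab 0 [], .gen)))
 (.node (.leaf (.edge 4 [5, 9, 3] 4 [4, 5, 4, 3, 6, 4, 8, 5, 0, 9, 3, 5, 4, 10, 3, 6, 8, 10, 3], .loop 11 [5, 9, 3] [⟨419, [], [6, 4, 3, 4, 5, 6, 4, 3, 4, 2, 3, 5]⟩, ⟨286, [(86, false)], [4, 4, 4, 3, 6, 4, 4, 4, 3, 4]⟩]))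
 (.leaf (.stab 0 [], .gen)))))
 (.node (.node (.node (.leaf (.edge 2 [3, 5, 4, 10, 3] 5 [3, 0, 9, 3, 4, 10], .loop 11 [3, 5, 4, 10, 3] [⟨37, [], [1, 4, 5, 6, 4, 3, 4, 4, 4, 6, 4, 3, 4]⟩, ⟨40, [(84, false), (32, false)], [4, 6, 4, 3, 4, 3, 6, 4, 3, 6, 4, 4]⟩]))
 (.leaf (.stab 0 [], .gen)))
 (.node (.leaf (.edge 10 [3, 6, 4, 7, 6, 0, 9, 3, 2, 6, 4, 3, 7, 9] 4 [3, 6, 4, 3, 6, 4, 6, 4, 0, 9, 3, 5, 5, 9, 3, 6, 9, 5, 4], .loop 4 [3, 6, 4, 7, 6, 0, 9, 3, 2, 6, 4, 3, 7, 9] [⟨214, [(127, true), (127, false)], [0, 3, 6, 5, 4, 2, 4, 3, 4, 6, 4, 5]⟩, ⟨272, [(85, true), (85, false)], [4, 4, 3, 4, 5, 6, 4, 2, 3]⟩]))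
 (.leaf (.stab 0 [], .gen))))
 (.node (.node (.leaf (.edge 6 [3, 6, 6, 4, 3, 5, 4, 8, 9, 3, 4, 9, 3, 4, 5, 4, 10, 3] 6 [3, 5, 4, 3, 6, 8, 10, 3, 5, 9, 5, 4, 3, 7, 10], .loop 10 [3, 6, 6, 4, 3, 5, 4, 8, 9, 3, 4, 9, 3, 4, 5, 4, 10, 3] [⟨225, [(31, true), (85, true), (31, false), (85, false)], [4, 4, 3, 4, 5, 6, 4, 6, 3, 5, 4, 2]⟩, ⟨219, [(85, true), (31, true)], [0, 4, 6, 4, 4, 6, 4, 2, 4, 6, 3]⟩]))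
 (.leaf (.stab 0 [], .gen)))
 (.node (.leaf (.edge 5 [4, 5, 4, 10, 3, 2, 4, 3, 5, 4, 10] 10 [4, 7, 5, 4, 3, 9, 3, 4, 5, 10, 3, 4, 10, 6, 6], .loop 12 [4, 5, 4, 10, 3, 2, 4, 3, 5, 4, 10] [⟨292, [(239, true), (83, true), (239, false), (239, false)], [4, 2, 4, 3, 2, 4, 5, 6, 4, 6, 3, 5]⟩, ⟨98, [(86, true)], [3, 6, 4, 6, 4, 4, 3, 4, 2, 4, 4, 3]⟩, ⟨108, [(181, true), (241, true), (33, false), (33, false), (181, false), (88, false)], [0, 2, 5, 4, 3, 4, 4, 6, 4, 3, 6, 4, 4]⟩, ⟨434, [(239, true), (83, true), (83, false), (239, false)], [3, 5, 4, 3, 6, 4, 3, 4, 4, 6, 4]⟩, ⟨170, [(35, true), (35, true), (35, false)], [2, 4, 6, 3, 4, 6, 4, 4, 3, 2, 4, 5]⟩]))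
 (.leaf (.stab 0 [], .gen)))))))
 (.node (.node (.node (.node (.node (.leaf (.stab 3 [3, 4, 0, 2, 3, 2, 4, 3], .dupF 9 ⟨9, [(20, false), (23, false), (19, true), (23, true), (20, true)], [4, 2, 3, 4, 2, 3, 4, 4, 2, 3, 4, 4, 4]⟩))
 (.leaf (.edge 4 [3, 5, 5, 4, 3, 5, 5, 0, 10, 3, 4, 6, 8, 9, 3, 9, 3, 6] 6 [3, 6, 4, 3, 8, 5, 4, 0, 9, 3, 6, 10, 3, 4, 6, 7], .loop 11 [3, 5, 5, 4, 3, 5, 5, 0, 10, 3, 4, 6, 8, 9, 3, 9, 3, 6] [⟨430, [], [0, 1, 3, 4, 6, 5, 4, 3, 4, 4, 5]⟩, ⟨318, [], [0, 4, 2, 4, 3, 5, 5, 4]⟩])))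
 (.node (.leaf (.edge 10 [6, 6, 4, 10, 3, 2] 7 [3, 8, 6, 4, 3, 6, 4, 6, 8, 0, 2, 3, 4, 5, 9, 3, 9, 3, 6, 7], .loop 11 [6, 6, 4, 10, 3, 2] [⟨185, [], [1, 3, 5, 4, 2, 4, 4, 3, 2, 4, 2]⟩, ⟨258, [], [2, 3, 4, 4, 6, 4, 6, 3, 4, 2, 4, 4]⟩]))
 (.leaf (.stab 0 [], .gen))))
 (.node (.node (.leaf (.edge 6 [3, 7, 5, 0, 9, 3, 5, 5, 9] 8 [3, 4, 3, 7, 5, 4, 5, 10, 3, 4, 6, 4, 7, 10, 3, 4, 9], .loop 4 [3, 7, 5, 0, 9, 3, 5, 5, 9] [⟨105, [(31, false)], [2, 6, 3, 4, 2, 4, 3, 4, 6]⟩, ⟨65, [], [1, 2, 4, 2, 3, 4, 4, 6, 4, 6]⟩]))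
 (.leaf (.stab 0 [], .gen)))
 (.node (.leaf (.edge 10 [3, 4, 3, 5, 4, 6, 0, 9, 3, 5, 9, 6, 6, 10] 11 [6, 4, 6, 0, 10, 3, 10, 3, 5, 9, 3, 5, 9, 3], .loop 11 [3, 4, 3, 5, 4, 6, 0, 9, 3, 5, 9, 6, 6, 10] [⟨354, [], [4, 6, 4, 5, 6, 3, 2, 4, 4, 3]⟩, ⟨169, [(128, false), (250, false), (128, false)], [3, 4, 3, 2, 5, 4, 5, 6, 3, 4, 6, 5]⟩]))
 (.leaf (.stab 0 [], .gen)))))
 (.node (.node (.node (.leaf (.edge 1 [5, 4, 3, 0, 2, 3, 10, 3, 10, 3, 4] 1 [4, 6, 4, 3, 6, 9, 3, 9, 3, 5, 5, 9, 3, 5, 8, 10], .loop 4 [5, 4, 3, 0, 2, 3, 10, 3, 10, 3, 4] [⟨7, [], [4, 2, 3]⟩, ⟨44, [(2, true), (4, true), (4, true), (3, true), (2, true), (1, true), (1, false)], [2, 4, 3, 4, 2, 4, 4, 3, 6, 4, 4, 4]⟩]))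
 (.leaf (.stab 0 [], .gen)))
 (.node (.leaf (.edge 11 [3, 4, 5, 4, 8, 10, 3, 6, 6] 4 [3, 8, 5, 4, 3, 6, 4, 8, 0, 9, 3, 5, 5, 9, 3, 9, 3, 6, 4], .loop 17 [3, 4, 5, 4, 8, 10, 3, 6, 6] [⟨293, [], [2, 3, 5, 4, 3, 4, 2, 3, 4, 6, 3, 4]⟩, ⟨110, [], [3, 4, 5, 6, 4, 4, 3, 2, 4]⟩, ⟨230, [(86, true), (86, false)], [3, 6, 5, 4, 2, 4, 2, 3, 4, 4, 5, 6]⟩, ⟨51, [(32, true)], [3, 4, 2, 3, 4, 5, 4, 6, 4, 3, 4]⟩, ⟨233, [(83, false)], [4, 3, 5, 6, 4, 4, 3, 5, 4, 2, 4]⟩]))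
 (.leaf (.stab 0 [], .gen))))
 (.node (.node (.leaf (.edge 6 [4, 3, 7, 6, 4, 3, 6, 9, 3, 5, 5, 9, 3, 2, 3, 4] 6 [3, 6, 4, 3, 6, 6, 4, 6, 2, 3, 4, 5, 10, 3, 5, 4, 7, 10], .loop 2 [4, 3, 7, 6, 4, 3, 6, 9, 3, 5, 5, 9, 3, 2, 3, 4] [⟨193, [(85, true), (31, true), (31, false), (85, false), (31, false)], [0, 1, 4, 4, 3, 5, 4, 2, 4, 4, 2]⟩, ⟨215, [(34, true), (87, true), (34, true), (87, true)], [3, 5, 4, 2, 4, 3, 4, 2, 4, 3, 2, 6]⟩]))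
 (.leaf (.stab 0 [], .gen)))
 (.node (.leaf (.edge 4 [3, 8, 5, 4, 3, 0, 2, 3, 2, 4, 3, 10, 3] 4 [3, 5, 5, 4, 3, 6, 0, 10, 3, 2, 6, 4, 3, 5, 10], .loop 17 [3, 8, 5, 4, 3, 0, 2, 3, 2, 4, 3, 10, 3] [⟨10, [], [4, 5, 4, 5, 6, 3, 2]⟩, ⟨73, [(24, true), (26, false)], [0, 4, 3, 5, 6, 4, 3, 6, 4, 4, 6, 4]⟩, ⟨401, [(30, true), (30, true), (30, false), (28, false), (30, false), (30, false)], [1, 6, 4, 2, 6, 4, 4, 3]⟩, ⟨69, [(84, true), (84, false), (32, false)], [3, 4, 3, 6, 4, 3, 4, 6, 4, 2, 6, 5]⟩, ⟨317, [(86, true)], [5, 4, 2, 5, 6, 4, 4, 3, 2, 5]⟩]))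
 (.leaf (.stab 0 [], .gen))))))
 (.node (.node (.node (.node (.leaf (.edge 7 [3, 5, 8, 10, 3] 5 [5, 4, 5, 4, 5, 0, 10, 3, 5, 9, 3, 6, 7, 10, 5, 4], .loop 0 [3, 5, 8, 10, 3] [⟨51, [], [2, 4, 3, 2, 5, 6, 4, 2, 4, 3, 4, 6, 4]⟩]))
 (.leaf (.stab 0 [], .gen)))
 (.node (.leaf (.edge 7 [3, 6, 0, 10, 3, 2, 4, 3, 2, 5] 4 [6, 4, 9, 3, 5, 4, 10, 3, 2, 3, 9, 6], .loop 22 [3, 6, 0, 10, 3, 2, 4, 3, 2, 5] [⟨283, [(84, true)], [1, 3, 4, 4, 2, 5, 4, 3, 4, 4, 2, 5]⟩, ⟨229, [(127, true), (127, false), (249, false)], [1, 2, 4, 3, 5, 4, 2, 4, 3, 4, 6, 4, 6]⟩]))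
 (.leaf (.stab 0 [], .gen))))
 (.node (.node (.leaf (.edge 12 [3, 4, 7, 5, 4, 5, 10, 3, 4] 12 [5, 5, 4, 3, 6, 6, 4, 6, 9, 3, 5, 4, 9, 6, 4, 3, 10, 6], .loop 19 [3, 4, 7, 5, 4, 5, 10, 3, 4] [⟨180, [(128, true), (36, true), (36, false)], [0, 4, 4, 3, 4, 6, 5, 4, 2]⟩, ⟨184, [(127, true), (127, true)], [4, 4, 3, 6, 4, 2, 3, 5, 6]⟩]))
 (.leaf (.stab 0 [], .gen)))
 (.node (.leaf (.edge 11 [7, 6, 4, 10, 3, 2, 5, 8] 7 [3, 5, 4, 3, 5, 5, 4, 6, 0, 10, 3, 6, 10, 3, 5, 4, 3, 6, 4], .loop 17 [7, 6, 4, 10, 3, 2, 5, 8] [⟨125, [], [1, 6, 4, 4, 6, 4, 3, 4, 5, 4, 6, 4, 3]⟩, ⟨350, [(35, true), (35, false)], [0, 5, 4, 2, 4, 3, 6, 5]⟩, ⟨436, [(239, true), (239, false), (239, false)], [0, 4, 6, 4, 3, 4, 5, 4]⟩, ⟨304, [(86, true), (86, false)], [4, 2,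 3, 4, 5, 6, 4, 3, 2, 4, 3]⟩, ⟨253, [(35, true), (35, true), (35, true), (35, false)], [0, 4, 4, 6, 4, 4, 2, 5, 4, 6, 3, 4]⟩]))
 (.leaf (.stab 0 [], .gen)))))
 (.node (.node (.node (.leaf (.edge 5 [7, 6, 4, 3, 0, 2, 3, 10, 3, 10, 3, 4, 5, 5] 9 [4, 5, 4, 3, 8, 5, 9, 3, 2, 4, 5, 4, 7], .loop 11 [7, 6, 4, 3, 0, 2, 3, 10, 3, 10, 3, 4, 5, 5] [⟨50, [], [2, 3, 4, 3, 6, 5, 4, 3, 4, 6, 4, 3, 5, 5]⟩, ⟨48, [], [2, 6, 4, 6, 3, 5, 4, 3, 2]⟩]))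
 (.leaf (.stab 0 [], .gen)))
 (.node (.leaf (.edge 6 [6, 4, 9, 3] 4 [4, 8, 9, 3, 2, 3, 6, 9, 3, 5, 8], .loop 12 [6, 4, 9, 3] [⟨12, [], [6, 4, 6, 4, 2]⟩, ⟨115, [(25, true), (26, true)], [2, 4, 2, 3, 4, 5, 6, 4, 3, 4, 5, 4]⟩, ⟨14, [(88, true), (241, true), (181, true)], [2, 4, 6, 3, 5, 4, 3, 4, 2, 4, 5, 4]⟩, ⟨146, [(26, true)], [1, 3, 5, 4, 3, 4, 2, 3, 4, 5, 4]⟩, ⟨41, [(24, true), (24, true), (25, true), (24, true), (24, false), (24, false), (24, false)], [4, 6, 4, 3, 4, 5, 6, 4, 3, 4, 2, 5]⟩]))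
 (.leaf (.stab 0 [], .gen))))
 (.node (.node (.leaf (.edge 4 [5, 8, 0, 10, 3, 6, 8] 4 [3, 7, 5, 4, 3, 6, 0, 9, 3, 6, 6, 9, 3, 5], .loop 31 [5, 8, 0, 10, 3, 6, 8] [⟨230, [(86, true), (86, false)], [1, 4, 2, 6, 4, 6, 4, 3, 4, 3, 2, 5, 4]⟩, ⟨247, [(32, false), (84, false), (32, false)], [2, 5, 4, 2, 5, 6, 4, 2, 3, 4, 3]⟩, ⟨224, [(85, true), (31, false), (85, false)], [2, 4, 4, 3, 5, 6, 4, 6, 3, 4, 5, 5]⟩]))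
 (.leaf (.stab 0 [], .gen)))
 (.node (.leaf (.edge 6 [6, 6, 4, 0, 9, 3, 2, 3, 4, 3] 6 [3, 4, 3, 5, 4, 7, 9, 3, 5, 5, 9, 3, 5, 9, 3, 5], .loop 12 [6, 6, 4, 0, 9, 3, 2, 3, 4, 3] [⟨81, [(85, false)], [5, 4, 3, 6, 4, 4, 2, 3, 4, 6, 5]⟩, ⟨304, [(86, true), (86, false)], [0, 1, 4, 2, 4, 3, 4, 2, 4, 4, 4]⟩, ⟨261, [(35, true), (35, true), (35, true)], [2, 4, 2, 3, 4, 3, 6, 4, 4, 6, 4, 2]⟩, ⟨188, [(239, false), (239, false)], [5, 6, 4, 2, 4, 3, 2, 4, 6, 3, 5]⟩, ⟨207, [(31, true), (31, false)], [3, 4, 2, 4, 4, 3, 5, 4, 2, 4, 2]⟩]))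
 (.leaf (.stab 0 [], .gen))))))))

/-- items -/
noncomputable def items14 : ITree (Item × Why) :=
 (.node (.node (.node (.node (.node (.node (.leaf (.edge 0 [9, 3] 1 [], .orbit))
 (.leaf (.edge 4 [5, 7, 5, 9, 3, 10] 4 [3, 5, 8, 5, 0, 10, 3, 9, 5, 4, 3, 5, 4, 5], .loop 11 [5, 7, 5, 9, 3, 10] [⟨370, [], [2, 5, 4, 3, 4, 2, 4, 3, 4, 3, 4, 6]⟩, ⟨492, [(86, false)], [1, 5, 6, 4, 3, 4, 6, 4, 3]⟩])))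
 (.node (.leaf (.edge 10 [5, 10, 3, 5] 10 [4, 3, 6, 8, 0, 2, 3, 10, 3, 5, 4, 6], .loop 1 [5, 10, 3, 5] [⟨229, [(249, true), (127, true), (127, false), (249, false)], [1, 5, 6, 4, 3, 4, 6, 5, 4, 3, 4, 2]⟩, ⟨213, [(86, false)], [4, 2, 4, 4, 5, 4, 6, 3, 4, 2, 4, 4]⟩]))
 (.leaf (.stab 0 [], .gen))))
 (.node (.node (.leaf (.edge 4 [3, 7, 6, 2, 3, 10, 3, 10, 3, 4] 5 [4, 6, 4, 6, 8, 2, 3, 9, 3, 4, 6, 4, 7], .loop 11 [3, 7, 6, 2, 3, 10, 3, 10, 3, 4] [⟨71, [], [1, 2, 4, 3, 4, 4, 5, 4, 6]⟩, ⟨105, [(31, false)], [0, 4, 4, 4, 6, 4, 3, 4, 6, 4]⟩]))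
 (.leaf (.stab 0 [], .gen)))
 (.node (.leaf (.edge 4 [6, 4, 5, 9, 3, 6] 11 [4, 5, 5, 4, 7, 10, 3, 4, 10, 3, 6, 4, 6, 4, 10], .loop 12 [6, 4, 5, 9, 3, 6] [⟨10, [], [2, 6, 4, 2]⟩, ⟨41, [(26, true), (24, true), (24, true), (24, false), (24, false), (24, false)], [1, 4, 4, 6, 4, 2]⟩, ⟨237, [], [4, 2, 3, 4, 3, 2, 4, 3, 5]⟩, ⟨319, [(86, true), (86, false)], [6, 4, 2, 3, 4, 4, 3, 6, 4, 3]⟩, ⟨344, [(32, true)], [5, 4, 2, 4, 3, 4, 3, 2, 4, 6, 5]⟩]))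
 (.leaf (.stab 0 [], .gen)))))
 (.node (.node (.node (.leaf (.edge 6 [3, 6, 4, 0, 9, 3, 2, 4, 3] 4 [5, 4, 5, 4, 0, 9, 3, 6, 9, 3, 6, 7, 9, 5], .loop 4 [3, 6, 4, 0, 9, 3, 2, 4, 3] [⟨12, [], [0, 4, 3, 6]⟩, ⟨41, [(24, true), (26, true), (25, true), (24, false), (24, false), (24, false)], [1, 4, 4, 5, 4, 6, 4, 3, 4, 2, 4, 4]⟩]))
 (.leaf (.stab 0 [], .gen)))
 (.node (.leaf (.edge 4 [5, 4, 5, 8, 5, 9, 3, 5, 4, 8, 10] 11 [4, 5, 5, 4, 3, 5, 4, 6, 0, 10, 3, 6, 6, 9, 3, 2, 6, 8], .loop 1 [5, 4, 5, 8, 5, 9, 3, 5, 4, 8, 10] [⟨237, [(86, true)], [0, 4, 3, 6, 4, 5, 5, 4, 2, 4, 6, 3]⟩, ⟨295, [(86, true), (86, false)], [6, 4, 3, 6, 4, 4, 3, 2, 4, 3, 6]⟩]))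
 (.leaf (.stab 0 [], .gen))))
 (.node (.node (.leaf (.edge 6 [3, 8, 5, 4, 0, 9, 3, 4, 5, 4, 8, 9] 9 [4, 3, 5, 4, 3, 6, 4, 8, 2, 3, 9, 3, 6, 4, 3, 5, 4, 10], .loop 2 [3, 8, 5, 4, 0, 9, 3, 4, 5, 4, 8, 9] [⟨193, [(31, true), (31, false), (85, false), (31, false)], [2, 4, 3, 4, 4, 5, 6, 4, 2, 3]⟩, ⟨182, [], [2, 4, 3, 4, 4, 4, 2, 4, 3, 4, 6, 4]⟩]))
 (.leaf (.stab 0 [], .gen)))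
 (.node (.leaf (.edge 4 [7, 6, 4, 5, 0, 10, 3, 6, 8, 10] 4 [8, 6, 4, 6, 10, 3, 10, 6, 4, 3, 5, 4, 9, 5], .loop 17 [7, 6, 4, 5, 0, 10, 3, 6, 8, 10] [⟨63, [], [0, 3, 5, 4, 3, 4, 2, 4, 5, 4, 3]⟩, ⟨346, [(86, true)], [0, 5, 6, 4, 6, 3, 5, 4, 2, 4, 4]⟩, ⟨299, [(86, true)], [3, 5, 4, 5, 6, 4, 4, 3, 2, 4]⟩, ⟨270, [], [2, 4, 2, 4, 2, 3, 4, 3, 5, 6, 4]⟩, ⟨450, [(249, true), (127, false)], [6, 4, 6, 3, 5, 4, 2, 3, 4, 5, 4]⟩]))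
 (.leaf (.stab 0 [], .gen))))))
 (.node (.node (.node (.node (.leaf (.edge 7 [3, 5, 7, 5, 4, 3, 0, 10, 3, 2, 4, 3, 10] 7 [4, 6, 6, 4, 6, 10, 3, 2, 3, 5, 8, 9, 3, 6, 9, 3], .loop 2 [3, 5, 7, 5, 4, 3, 0, 10, 3, 2, 4, 3, 10] [⟨13, [], [4, 4, 2, 3, 5, 6]⟩, ⟨37, [(24, true), (25, true), (24, true)], [5, 4, 3, 4, 2, 6, 5, 4, 2, 4]⟩]))
 (.leaf (.edge 10 [7, 5, 9, 3] 5 [3, 4, 6, 6, 6, 2, 3, 9, 3, 5, 8, 9, 3, 4, 9], .loop 11 [7, 5, 9, 3] [⟨279, [(249, false)], [4, 3, 2, 4, 2, 4, 4, 6, 4, 3, 4]⟩, ⟨350, [(35, false)], [1, 4, 3, 4, 4, 2, 5, 4, 3, 4, 3, 4]⟩])))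
 (.node (.leaf (.edge 11 [3, 6, 6, 6, 4, 2, 3, 2, 4, 3, 9, 3, 5] 4 [3, 6, 4, 0, 10, 3, 5, 9, 6, 4, 3, 9, 5, 5], .loop 28 [3, 6, 6, 6, 4, 2, 3, 2, 4, 3, 9, 3, 5] [⟨17, [], [4, 4, 4, 3, 4, 6, 4, 6]⟩, ⟨72, [(28, true), (126, true), (30, true), (28, false), (30, false), (28, false)], [1, 4, 3, 4, 4, 6, 4, 4, 3, 4, 2]⟩, ⟨271, [], [0, 1, 4, 2, 6, 4, 4]⟩, ⟨138, [(239, true), (83, true), (83, false), (239, false)], [4, 6, 3, 4, 3, 2, 4, 5, 4, 5]⟩, ⟨272, [(85, true), (85, false)], [1, 4, 3, 4, 6, 4, 4, 4, 3, 2, 4, 4, 4, 6]⟩]))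
 (.leaf (.stab 0 [], .gen))))
 (.node (.node (.leaf (.edge 10 [3, 6, 9, 3, 6, 10, 6, 4, 7] 12 [7, 6, 4, 3, 5, 2, 3, 9, 6, 4, 3, 7, 10, 3, 5], .loop 10 [3, 6, 9, 3, 6, 10, 6, 4, 7] [⟨163, [(127, true), (127, true)], [2, 3, 5, 4, 2, 4, 3, 6, 5, 4, 3, 2, 4]⟩, ⟨96, [(35, true), (35, false)], [0, 2, 5, 4, 6, 3, 4, 3, 4, 6, 4]⟩]))
 (.leaf (.stab 0 [], .gen)))
 (.node (.leaf (.edge 4 [3, 5, 4, 8, 0, 10, 3, 2, 6, 4, 3, 8, 9] 4 [3, 4, 3, 6, 4, 3, 5, 4, 5, 0, 9, 3, 5, 4, 7, 10, 3, 4, 6, 9, 5], .loop 20 [3, 5, 4, 8, 0, 10, 3, 2, 6, 4, 3, 8, 9] [⟨339, [], [4, 2, 5, 4, 3, 4, 6, 3, 4, 3, 5, 5, 4]⟩, ⟨294, [(35, true), (35, true), (35, true), (35, false)], [0, 6, 5, 4, 3, 6, 4, 3, 4, 6, 4, 2]⟩, ⟨200, [(31, true), (85, true), (31, true), (85, false)],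 [6, 3, 2, 4, 3, 4, 6]⟩, ⟨221, [(239, true), (83, true)], [2, 4, 4, 6, 4, 2, 6, 3, 4, 4, 3]⟩, ⟨292, [(83, true), (239, false), (239, false)], [3, 4, 3, 2, 5, 5, 4, 3, 4, 2, 6]⟩]))
 (.leaf (.stab 0 [], .gen)))))
 (.node (.node (.node (.leaf (.edge 4 [3, 7, 6, 10, 3, 10, 5, 4] 5 [4, 3, 8, 5, 0, 10, 3, 9, 6, 4, 7, 6, 9], .loop 1 [3, 7, 6, 10, 3, 10, 5, 4] [⟨63, [], [5, 4, 3, 6, 4, 3, 6, 5, 4, 3]⟩, ⟨46, [(86, true), (86, false)], [0, 6, 4, 2, 4, 6, 3, 4, 2, 4, 3, 4]⟩]))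
 (.leaf (.stab 0 [], .gen)))
 (.node (.leaf (.edge 4 [3, 6, 0, 9, 3, 2, 5, 4, 3] 11 [4, 6, 4, 3, 8, 6, 4, 6, 0, 9, 3, 9, 3, 5, 9, 3, 5, 5], .loop 11 [3, 6, 0, 9, 3, 2, 5, 4, 3] [⟨291, [], [2, 4, 6, 3, 4, 2, 4, 3, 4, 2]⟩, ⟨314, [(127, false), (127, false)], [2, 3, 5, 4, 2, 4, 6, 3, 5, 4, 2, 4]⟩]))
 (.leaf (.stab 0 [], .gen))))
 (.node (.node (.leaf (.edge 5 [5, 8, 9, 3, 2, 4, 5, 4, 3, 6, 9, 6] 11 [3, 6, 4, 5, 8, 10, 3, 2, 3, 5, 5, 9, 6, 6], .loop 1 [5, 8, 9, 3, 2, 4, 5, 4, 3, 6, 9, 6] [⟨188, [], [4, 5, 4, 3, 2, 4, 2, 4, 6, 3]⟩, ⟨228, [], [1, 4, 6, 4, 3, 4, 6, 4, 4, 2]⟩]))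
 (.leaf (.stab 0 [], .gen)))
 (.node (.leaf (.edge 6 [5, 10, 3, 2, 5, 4, 3, 8, 5, 10] 11 [3, 4, 5, 4, 3, 5, 7, 9, 3, 6, 10, 5, 4, 3, 6, 10, 5], .loop 12 [5, 10, 3, 2, 5, 4, 3, 8, 5, 10] [⟨272, [(85, true), (85, false)], [5, 4, 3, 6, 4, 2, 3, 4, 2, 6, 3, 5]⟩, ⟨265, [], [3, 4, 3, 2, 4, 5, 6, 4, 3, 4, 6, 3]⟩, ⟨353, [(85, true), (31, true)], [0, 5, 4, 2, 4, 4, 3, 5, 6, 4, 6]⟩, ⟨399, [], [4, 3, 5, 6, 4, 2, 4, 3, 4, 6, 3]⟩, ⟨234, [(239, true), (83, false), (239, false)], [2, 5, 4, 2, 4, 3, 5, 4, 2, 4, 3]⟩]))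
 (.leaf (.stab 0 [], .gen)))))))
 (.node (.node (.node (.node (.node (.leaf (.stab 1 [3, 4, 0, 2, 3, 2, 4, 3, 2], .dupF 7 ⟨7, [(1, false), (3, false), (4, false), (4, false), (2, false), (3, false), (1, true), (3, true), (2, true), (4, true), (4, true), (3, true), (1, true)], [4, 2, 3, 4, 2, 3, 4, 4, 3, 2, 4, 4, 4]⟩))
 (.leaf (.edge 11 [3, 6, 0, 9, 3, 2, 4, 3] 4 [3, 7, 5, 4, 3, 5, 0, 9, 3, 4, 5, 4, 10, 3, 5, 8, 9], .loop 11 [3, 6, 0, 9, 3, 2, 4, 3] [⟨421, [(35, false), (35, false), (35, false)], [3, 5, 4, 6, 5, 4, 3, 2, 4, 4, 6, 4, 5]⟩, ⟨462, [(32, false), (84, false), (32, false)], [1, 5, 4, 2, 3, 4, 2, 4, 4, 3, 4, 6]⟩])))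
 (.node (.leaf (.edge 11 [8, 5, 4, 3, 6, 4, 5, 0, 10, 3, 4, 5, 10, 3, 4, 6, 8] 10 [6, 6, 4, 5, 7, 9, 3, 6, 10, 3, 6, 10, 3, 5, 5], .loop 28 [8, 5, 4, 3, 6, 4, 5, 0, 10, 3, 4, 5, 10, 3, 4, 6, 8] [⟨271, [(35, true)], [0, 5, 4, 6, 3, 4, 2, 4, 2, 4, 3, 5, 4]⟩, ⟨68, [(239, true), (83, true), (239, false)], [1, 3, 4, 4, 3, 5, 4, 2, 6, 4]⟩, ⟨223, [(86, true)], [0, 3, 4, 6, 3, 4, 2, 4, 2, 5, 6]⟩, ⟨118, [], [3, 4, 4, 2, 3, 4, 3, 4, 6, 4, 6, 3]⟩, ⟨262, [(32, true), (84, true), (84, false), (32, false)], [5, 4, 3, 2, 4, 3, 4, 2, 4, 5, 5]⟩]))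
 (.leaf (.stab 0 [], .gen))))
 (.node (.node (.leaf (.edge 4 [5, 0] 4 [3, 6, 2, 3, 2], .loop 11 [5, 0] [⟨10, [], [0, 4]⟩, ⟨41, [(24, false), (24, false), (24, false)], [4, 3, 5, 5, 4, 2, 4, 3, 4, 4, 2]⟩]))
 (.leaf (.stab 0 [], .gen)))
 (.node (.leaf (.edge 4 [6, 4, 5, 5, 9, 3, 5] 4 [3, 5, 4, 3, 5, 4, 8, 6, 0, 10, 3, 4, 10, 3, 6, 4, 5, 10], .loop 20 [6, 4, 5, 5, 9, 3, 5] [⟨10, [], [4, 4, 6, 4, 2, 6]⟩, ⟨61, [(25, true), (26, true), (24, true), (24, true), (24, true), (24, true), (24, false), (24, false), (24, false)], [2, 3, 5, 4, 3, 5, 6, 4, 3, 4, 4, 6]⟩, ⟨78, [(239, true), (83, true), (239, false), (83, false)], [0, 4, 4, 6, 4, 3, 4, 3, 4, 2, 4, 4]⟩, ⟨100, [(83, false), (239, false)], [0, 3, 4, 2, 4, 3, 4, 3, 4, 6, 5, 4]⟩, ⟨224,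 [(31, true), (85, true), (31, false), (85, false)], [1, 4, 2, 4, 6, 4, 5, 5]⟩]))
 (.leaf (.stab 0 [], .gen)))))
 (.node (.node (.node (.leaf (.stab 9 [4, 2, 3, 10, 3, 10], .dupB 48 ⟨48, [(86, true)], [4, 4, 3, 4, 4, 2, 4, 5, 6, 4, 4]⟩))
 (.leaf (.stab 0 [], .gen)))
 (.node (.leaf (.edge 4 [4, 3, 5, 8, 10] 4 [7, 5, 4, 3, 5, 0, 9, 3, 4, 5, 8, 10, 3, 6, 10], .loop 28 [4, 3, 5, 8, 10] [⟨98, [], [2, 3, 5, 4, 2, 4, 6, 3, 4, 4, 5, 4]⟩, ⟨108, [(88, true), (241, true), (33, false), (33, false), (181, false), (88, false)], [5, 4, 3, 6, 4, 2, 4, 2, 3, 5, 6]⟩, ⟨11, [(239, true), (83, true)], [3, 5, 4, 5, 6, 4, 3, 4, 4, 6, 4, 6]⟩, ⟨115, [], [0, 2, 4, 2, 4, 3, 5, 4, 2, 6]⟩, ⟨168, [(33, true), (241, true), (88, true), (181, false), (88, false)],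 [5, 6, 4, 6, 3, 4, 2, 4, 2, 6, 5]⟩]))
 (.leaf (.stab 0 [], .gen))))
 (.node (.node (.leaf (.edge 6 [3, 5, 5, 4, 6, 7, 0, 10, 3, 2, 6, 4, 3, 8, 9] 9 [3, 5, 8, 5, 4, 6, 10, 3, 10, 3, 6, 4, 6, 10], .loop 11 [3, 5, 5, 4, 6, 7, 0, 10, 3, 2, 6, 4, 3, 8, 9] [⟨207, [(31, false)], [0, 3, 4, 6, 3, 4, 4, 3, 5, 4, 6, 4, 2]⟩, ⟨193, [(31, false), (85, false), (31, false)], [0, 2, 4, 6, 3, 5, 4, 6, 4, 4, 3, 4, 2]⟩]))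
 (.leaf (.stab 0 [], .gen)))
 (.node (.leaf (.edge 4 [3, 4, 5, 4, 6, 9, 3, 5, 4, 8] 6 [4, 6, 4, 8, 5, 9, 3, 5, 9, 3, 4, 6, 4, 3, 8], .loop 12 [3, 4, 5, 4, 6, 9, 3, 5, 4, 8] [⟨142, [], [0, 2, 6, 4, 3, 6, 4, 4, 2, 5, 4, 3, 4, 4]⟩, ⟨61, [(25, true), (24, false), (24, false), (24, false)], [0, 5, 5, 4, 2, 4, 3, 4, 4, 6, 4, 2]⟩, ⟨210, [(83, true), (239, true), (83, false), (239, false)], [2, 4, 2, 4, 5, 4, 6, 4, 3, 4, 3]⟩, ⟨117, [(239, true), (83, true), (239, false), (239, false)], [2, 6, 3, 4, 2, 4, 3, 2, 4, 4, 6]⟩, ⟨100, [(83, true), (83, false), (239, false)], [1, 3, 4, 2, 3, 4, 3, 4, 6, 5, 4, 3]⟩]))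
 (.leaf (.stab 0 [], .gen))))))
 (.node (.node (.node (.node (.leaf (.edge 2 [5, 4, 3, 7, 2, 3] 1 [6, 7, 2, 3, 4], .loop 0 [5, 4, 3, 7, 2, 3] [⟨8, [], [4, 2, 3, 5]⟩]))
 (.leaf (.edge 11 [4, 6, 0, 9, 3, 2, 5, 4, 3, 5] 11 [5, 4, 3, 8, 5, 4, 3, 0, 9, 3, 2, 3, 6, 4, 3, 2, 3, 6], .loop 11 [4, 6, 0, 9, 3, 2, 5, 4, 3, 5] [⟨306, [(35, false), (35, false)], [3, 2, 5, 4, 6, 5]⟩, ⟨513, [(35, false), (35, false)], [2, 4, 4, 2, 3, 5, 4, 3, 6, 5, 4, 2]⟩])))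
 (.node (.leaf (.edge 11 [3, 4, 5, 4, 8, 9, 3, 2, 4, 3, 9, 5] 11 [3, 4, 7, 5, 4, 3, 6, 0, 9, 3, 9, 5, 4, 5, 9, 3, 9], .loop 4 [3, 4, 5, 4, 8, 9, 3, 2, 4, 3, 9, 5] [⟨294, [(35, true), (35, true), (35, false)], [4, 2, 4, 3, 4, 3, 2, 4, 4, 4, 4, 3]⟩, ⟨300, [(85, true), (31, false), (85, false)], [3, 6, 4, 6, 3, 4, 2, 3, 4, 2, 5, 5, 4]⟩]))
 (.leaf (.stab 0 [], .gen))))
 (.node (.node (.leaf (.edge 9 [7, 2, 3, 4] 9 [4, 8, 0, 10, 3, 10], .loop 12 [7, 2, 3, 4] [⟨182, [(34, true)], [3, 5, 5]⟩, ⟨15, [], [4, 5, 6, 4, 3, 4, 4, 4, 6, 4, 3, 4, 6]⟩, ⟨75, [(24, false)], [4, 6, 4, 3, 4, 3, 6, 4, 6, 3, 4, 4, 3]⟩, ⟨115, [], [1, 2, 5]⟩, ⟨62, [(88, false), (181, false)], [2, 4, 3, 6, 5, 4, 3, 4, 6, 4, 3, 4, 4, 4]⟩]))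
 (.leaf (.stab 0 [], .gen)))
 (.node (.leaf (.edge 4 [6, 8, 10, 3, 4, 6, 8, 10] 11 [4, 7, 5, 4, 5, 0, 9, 3, 4, 6, 9, 3, 5, 8], .loop 12 [6, 8, 10, 3, 4, 6, 8, 10] [⟨237, [], [4, 5, 4, 6, 5, 4, 2, 3, 4, 2]⟩, ⟨368, [(86, true)], [3, 6, 4, 4, 6, 3, 4, 2, 3, 4, 4]⟩, ⟨369, [(249, true), (127, true), (127, false), (127, false)], [0, 5, 6, 3, 4, 3, 4, 6, 4, 3, 4]⟩, ⟨408, [(84, true), (32, true), (84, false), (32, false)], [5, 6, 4, 2, 4, 3, 6, 4, 4, 6]⟩, ⟨279, [(249, false)], [6, 4, 3, 4, 3, 4, 6, 4, 3, 4, 4]⟩]))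
 (.leaf (.stab 0 [], .gen)))))
 (.node (.node (.node (.leaf (.edge 4 [3, 5, 5, 4, 7, 10, 3, 2, 4, 3, 2, 5, 5] 7 [6, 4, 6, 4, 7, 2, 3, 9, 3, 9, 5, 4, 5, 4], .loop 4 [3, 5, 5, 4, 7, 10, 3, 2, 4, 3, 2, 5, 5] [⟨79, [], [3, 5, 4, 2, 4, 4, 6, 3]⟩, ⟨92, [], [2, 3, 4, 3, 2, 4, 3, 4, 6, 4, 5, 4]⟩]))
 (.leaf (.stab 0 [], .gen)))
 (.node (.leaf (.edge 4 [3, 4, 5, 4, 3, 5, 4, 5, 7, 10, 3, 4, 10, 3, 5, 4, 5] 11 [3, 4, 3, 5, 4, 5, 2, 3, 9, 3, 4, 6, 9, 3, 4, 5], .loop 11 [3, 4, 5, 4, 3, 5, 4, 5, 7, 10, 3, 4, 10, 3, 5, 4, 5] [⟨340, [], [3, 6, 4, 2, 3, 5, 4, 3, 4, 6, 3, 4, 4]⟩, ⟨330, [(31, false)], [1, 2, 4, 3, 5, 4]⟩]))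
 (.leaf (.stab 0 [], .gen))))
 (.node (.node (.leaf (.edge 6 [3, 5, 4, 7, 0, 2, 3, 2, 4, 3, 10, 3] 7 [4, 3, 5, 4, 3, 5, 7, 9, 3, 6, 6, 9, 3, 5], .loop 14 [3, 5, 4, 7, 0, 2, 3, 2, 4, 3, 10, 3] [⟨205, [(31, false)], [3, 4, 2, 4, 2, 3, 5, 4, 3]⟩, ⟨107, [], [2, 5, 4, 6, 4, 3, 4, 4, 3, 2]⟩, ⟨75, [(25, true), (26, true), (24, false)], [5, 4, 3, 4, 4, 2, 3, 4, 3, 4, 6]⟩, ⟨53, [(26, true), (24, true), (24, false)], [1, 4, 3, 5, 4, 2, 4, 3, 4, 3, 2, 4, 5]⟩, ⟨177, [(241, true), (33, false), (181, false), (241, false)], [0, 2, 4, 4, 6, 4, 3, 4, 2]⟩, ⟨198, [(32, true), (84, true), (32, true), (32, false)], [1, 2, 4, 4, 3, 2, 5, 4, 5, 6, 4, 2]⟩]))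
 (.leaf (.stab 0 [], .gen)))
 (.node (.leaf (.edge 9 [6, 4, 5, 5, 0, 10, 3, 5] 4 [4, 3, 8, 6, 4, 6, 0, 9, 3, 5, 9, 3, 6, 4, 3, 10, 5], .loop 11 [6, 4, 5, 5, 0, 10, 3, 5] [⟨376, [(34, false), (87, false)], [0, 1, 2, 4, 4, 3, 4, 4]⟩, ⟨324, [], [0, 3, 4, 3, 4, 6, 4, 3, 4, 6, 4]⟩]))
 (.leaf (.stab 0 [], .gen))))))))

/-- items -/
noncomputable def items15 : ITree (Item × Why) :=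
 (.node (.node (.node (.node (.node (.node (.leaf (.edge 2 [3, 4, 9, 3] 9 [], .orbit))
 (.leaf (.edge 10 [5, 8, 5, 0, 9, 3, 5] 11 [4, 8, 5, 4, 3, 5, 4, 6, 0, 10, 3, 9, 6, 4, 3, 7, 10], .loop 11 [5, 8, 5, 0, 9, 3, 5] [⟨323, [(249, false)], [0, 4, 2, 5, 6, 4, 4, 3]⟩, ⟨358, [(86, false)], [5, 4, 3, 4, 2, 4, 4, 6, 4, 6]⟩])))
 (.node (.leaf (.edge 5 [4, 6, 8, 6, 0, 9, 3, 2, 3, 6, 4, 3, 8] 11 [6, 4, 3, 5, 4, 5, 4, 3, 9, 3, 5, 8, 9, 3, 6, 4, 5, 5], .loop 8 [4, 6, 8, 6, 0, 9, 3, 2, 3, 6, 4, 3, 8] [⟨234, [(83, false), (239, false)], [6, 4, 3, 4, 5, 6, 3, 2, 4]⟩, ⟨256, [(35, true), (35, true), (35, true), (35, false), (35, false), (35, false)], [0, 4, 2, 4, 6, 3, 4, 5, 6, 4, 3, 4]⟩, ⟨244, [(86, true)], [4, 4, 4, 3, 6, 5, 4]⟩]))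
 (.leaf (.stab 0 [], .gen))))
 (.node (.node (.leaf (.edge 10 [3, 5, 5, 4, 0, 9, 3, 2, 4, 3, 2] 10 [6, 6, 4, 3, 5, 4, 6, 6, 10, 3, 4, 5, 4, 8, 9, 3, 2, 5], .loop 3 [3, 5, 5, 4, 0, 9, 3, 2, 4, 3, 2] [⟨16, [], [5, 6, 3, 4, 3, 4, 6, 4, 3, 4, 4, 4]⟩, ⟨132, [(27, true), (126, true), (27, true), (30, false), (30, false)], [5, 4, 3, 6, 4, 3, 2, 4, 2, 6, 5, 4]⟩]))
 (.leaf (.stab 0 [], .gen)))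
 (.node (.leaf (.edge 5 [3, 7, 5, 4, 5, 4, 3, 9] 4 [7, 5, 4, 3, 6, 4, 0, 10, 3, 2, 3, 6, 4, 5], .loop 17 [3, 7, 5, 4, 5, 4, 3, 9] [⟨186, [(239, true), (83, false)], [6, 3, 5, 4, 3, 2, 4, 3, 5]⟩, ⟨302, [(127, true)], [3, 6, 4, 2, 6, 5, 4, 3, 4, 4, 6]⟩, ⟨367, [(86, true), (86, false)], [3, 2, 4, 5, 4, 5, 6, 4, 3, 4]⟩, ⟨261, [], [1, 5, 4, 2, 3, 4, 2, 3, 4, 4, 6]⟩, ⟨349, [(239, true), (83, true)], [6, 4, 5, 4, 6, 3, 5, 4, 3, 2]⟩]))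
 (.leaf (.stab 0 [], .gen)))))
 (.node (.node (.node (.leaf (.edge 5 [3, 7, 5, 4, 0, 9, 3, 2, 4, 3] 4 [8, 5, 9, 3, 9, 3], .loop 10 [3, 7, 5, 4, 0, 9, 3, 2, 4, 3] [⟨11, [], [2, 4, 3, 4, 2, 3, 5, 4, 3, 4, 3]⟩, ⟨41, [(26, true), (24, true), (26, true), (24, false), (24, false), (24, false)], [4, 2, 3, 4, 3, 2, 4, 4, 3, 5, 6]⟩]))
 (.leaf (.stab 0 [], .gen)))
 (.node (.leaf (.edge 4 [4, 6, 4, 8, 5, 2, 3, 2, 4, 3] 4 [4, 6, 4, 3, 5, 4, 8, 2, 3, 2, 4, 5, 5], .loop 6 [4, 6, 4, 8, 5, 2, 3, 2, 4, 3] [⟨276, [(86, true), (86, false)], [1, 5, 4, 3, 4, 6, 4, 3]⟩, ⟨201, [], [1, 3, 4, 3, 4, 6, 4, 3, 4, 4, 5, 4]⟩]))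
 (.leaf (.stab 0 [], .gen))))
 (.node (.node (.leaf (.edge 6 [3, 4, 0, 10, 3, 2, 4, 5] 6 [3, 4, 6, 4, 3, 5, 4, 6, 9, 3, 6, 9, 3, 6, 9, 3, 4], .loop 25 [3, 4, 0, 10, 3, 2, 4, 5] [⟨193, [(31, false), (85, false), (31, false)], [3, 2, 6, 4, 3, 4, 4, 6, 4, 3, 4, 6]⟩, ⟨183, [(34, false), (87, false), (34, false)], [1, 3, 5, 4, 2, 4, 2, 3, 4, 2, 4, 5, 5]⟩, ⟨199, [], [3, 4, 5, 5, 4, 2, 3, 4, 3, 4]⟩]))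
 (.leaf (.stab 0 [], .gen)))
 (.node (.leaf (.edge 4 [5, 7, 5, 0, 2, 3, 4] 4 [3, 4, 3, 5, 4, 8, 2, 3, 10, 3, 2, 3, 10, 6, 4, 3], .loop 12 [5, 7, 5, 0, 2, 3, 4] [⟨461, [], [1, 3, 4, 2, 4, 4, 3, 4, 4, 2, 5, 4]⟩, ⟨221, [(83, true)], [3, 4, 3, 6, 4, 2, 6, 5, 4, 3]⟩, ⟨211, [(83, true), (239, true), (83, false)], [2, 3, 4, 3, 4, 2, 5]⟩, ⟨362, [(86, true)], [1, 2, 5, 4, 2, 4, 3, 2, 5, 4]⟩, ⟨335, [], [1, 3, 4, 3, 4, 2, 4, 3, 4, 2, 3]⟩]))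
 (.leaf (.stab 0 [], .gen))))))
 (.node (.node (.node (.node (.leaf (.edge 1 [3, 8, 9, 3, 2, 4] 1 [4, 3, 8, 0, 9, 3], .loop 4 [3, 8, 9, 3, 2, 4] [⟨7, [], [0, 1, 2, 6, 5]⟩, ⟨44, [(2, true), (3, true), (2, true), (1, false)], [2, 5]⟩]))
 (.leaf (.edge 11 [3, 4, 9, 3] 4 [3, 5, 5, 5, 4, 5, 9, 3, 9, 3, 5, 9, 3, 9, 6, 6], .loop 11 [3, 4, 9, 3] [⟨261, [], [2, 3, 5, 4, 2, 3, 4, 5, 4, 5]⟩, ⟨528, [(83, false), (239, false)], [3, 6, 5, 4, 3, 2, 4, 3, 6, 4, 3, 5, 6]⟩])))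
 (.node (.leaf (.edge 11 [3, 10, 3, 9, 5] 7 [3, 6, 6, 4, 3, 5, 4, 8, 0, 10, 3, 4, 5, 9, 3, 6, 10, 6], .loop 7 [3, 10, 3, 9, 5] [⟨160, [(35, true)], [4, 5, 4, 2, 3, 4, 3, 6, 4, 3, 5, 5]⟩, ⟨253, [(35, true), (35, true), (35, true), (35, false)], [0, 5, 4, 2, 4, 2, 4, 6, 3, 4, 2]⟩]))
 (.leaf (.stab 0 [], .gen))))
 (.node (.node (.leaf (.edge 4 [3, 6, 4, 9, 3, 2, 4, 3, 2] 4 [4, 3, 8, 0, 10, 3, 5, 9, 3, 6, 9, 3], .loop 11 [3, 6, 4, 9, 3, 2, 4, 3, 2] [⟨121, [(86, false)], [0, 4, 3, 4, 6, 4, 3, 4, 4, 2, 5, 4]⟩, ⟨103, [(83, false)], [2, 3, 4, 2, 4, 3, 4, 2, 4, 4, 5, 6]⟩]))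
 (.leaf (.stab 0 [], .gen)))
 (.node (.leaf (.edge 10 [9, 3, 2] 11 [3, 6, 4, 6, 4, 3, 6, 0, 2, 3, 9, 3, 6, 10, 3], .loop 12 [9, 3, 2] [⟨172, [], [0, 4, 3, 4, 2, 4, 3, 4, 6, 4, 4, 5]⟩, ⟨382, [], [0, 4, 3, 4, 2, 4, 5, 4, 3, 5, 4, 6, 4]⟩, ⟨418, [(35, true), (35, false)], [1, 3, 4, 2, 4, 3, 2, 4, 2, 4, 3, 5, 4]⟩, ⟨192, [(249, true), (127, false), (249, false)], [4, 3, 6, 4, 2, 4, 4, 2, 6, 3, 4, 4]⟩, ⟨426, [(83, true)], [3, 6, 4, 2, 6, 4, 6]⟩]))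
 (.leaf (.stab 0 [], .gen)))))
 (.node (.node (.node (.leaf (.edge 5 [6, 4, 5, 5, 9, 3, 5, 10, 3, 9, 3, 9, 3, 5, 5] 6 [3, 4, 3, 6, 4, 8, 10, 3, 10, 3, 4, 5, 4, 5, 10, 3, 2], .loop 11 [6, 4, 5, 5, 9, 3, 5, 10, 3, 9, 3, 9, 3, 5, 5] [⟨49, [], [6, 4, 3, 6, 5, 4, 2, 3, 4, 2, 3, 4, 2]⟩, ⟨80, [], [0, 5, 4, 3, 5, 4, 2, 4, 3, 6, 4, 6, 3]⟩]))
 (.leaf (.stab 0 [], .gen)))
 (.node (.leaf (.edge 11 [6, 6, 10, 3, 2, 4] 4 [3, 7, 5, 4, 3, 5, 4, 5, 10, 3, 6, 4, 5], .loop 4 [6, 6, 10, 3, 2, 4] [⟨231, [], [6, 3, 5, 4, 2, 3, 4, 2, 3]⟩, ⟨211, [(83, true), (83, false)], [4, 4, 4, 2, 3, 4, 3, 6, 5, 4, 3, 2]⟩]))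
 (.leaf (.stab 0 [], .gen))))
 (.node (.node (.leaf (.stab 5 [5, 4, 3, 5, 4, 8, 6, 4, 0, 9, 3, 6, 9, 3, 5, 4], .loop 28 [6, 4, 5, 10, 3, 6] [⟨11, [], [0, 1, 2, 6, 4, 2]⟩, ⟨53, [(24, true), (26, true), (25, true), (24, true), (24, false)], [3, 4, 2, 4, 3, 4, 6, 4, 4, 4, 6]⟩, ⟨155, [(88, true), (181, true), (33, true), (33, false)], [3, 6, 4, 4, 3, 6, 4, 2, 4, 6]⟩, ⟨212, [(85, true), (31, false), (85, false), (31, false)], [2, 6, 4, 6, 4, 3, 4, 2, 4, 4, 3]⟩, ⟨129, [(87, false), (34, false)], [3, 5, 4, 3, 5, 6, 4, 6, 3, 2]⟩, ⟨108, [(181, true), (88, true), (33, true), (33, true), (33, false), (33, false), (181, false), (88, false)], [6, 5, 4, 3, 4, 4, 2, 5, 6, 3]⟩]))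
 (.leaf (.stab 0 [], .gen)))
 (.node (.leaf (.edge 4 [6, 4, 6, 4, 9, 3, 5, 4, 7] 4 [3, 4, 3, 5, 4, 3, 6, 4, 8, 0, 2, 3, 4, 9, 3, 6, 8, 10, 3], .loop 11 [6, 4, 6, 4, 9, 3, 5, 4, 7] [⟨265, [], [6, 4, 3, 6, 5, 4, 3, 2, 4, 3, 4]⟩, ⟨471, [(85, false)], [1, 4, 3, 4, 6, 4, 4, 3, 2]⟩]))
 (.leaf (.stab 0 [], .gen)))))))
 (.node (.node (.node (.node (.node (.leaf (.stab 6 [4, 3, 6, 4, 2, 3, 2, 4, 3, 6, 4], .dupF 12 ⟨12, [(24, true), (24, true), (24, true)], [2, 4, 2, 4, 3, 2, 4, 2, 4, 4, 4, 3, 4]⟩))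
 (.leaf (.edge 10 [5, 4, 3, 6, 8, 2, 3, 9, 3, 5, 9, 3, 5, 8, 10, 5] 7 [6, 6, 4, 2, 3, 4, 10, 3, 10, 6, 8], .loop 11 [5, 4, 3, 6, 8, 2, 3, 9, 3, 5, 9, 3, 5, 8, 10, 5] [⟨147, [], [5, 4, 3, 2, 4, 4, 3, 6, 4, 6, 5]⟩, ⟨466, [(36, true), (250, true), (250, true), (36, false), (128, false)], [0, 1, 3, 4, 2, 5, 6]⟩])))
 (.node (.leaf (.edge 6 [3, 5, 4, 3, 0] 4 [4, 6, 4, 3, 6, 4, 5, 7, 0, 9, 3, 5, 9, 3, 4, 6, 7], .loop 11 [3, 5, 4, 3, 0] [⟨205, [(31, false)], [3, 4, 6, 5, 4, 3, 6, 4, 6, 3, 5]⟩, ⟨197, [(239, true), (239, true), (239, false)], [4, 3, 4, 2, 3, 4, 2, 3, 4]⟩]))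
 (.leaf (.stab 0 [], .gen))))
 (.node (.node (.leaf (.edge 2 [3, 4, 8, 5, 4, 3, 5, 4, 0, 10, 3, 10, 5, 4, 3, 9, 5, 8] 2 [4, 3, 5, 7, 5, 4, 0, 9, 3, 4, 6, 10, 3, 10, 5], .loop 10 [3, 4, 8, 5, 4, 3, 5, 4, 0, 10, 3, 10, 5, 4, 3, 9, 5, 8] [⟨146, [(24, true)], [2, 3, 4, 4, 3, 2, 4, 6]⟩, ⟨101, [(25, true), (24, true), (26, false), (24, false)], [1, 6, 4, 3, 4, 3, 2, 4, 3, 4, 5, 4, 6, 4]⟩]))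
 (.leaf (.stab 0 [], .gen)))
 (.node (.leaf (.edge 4 [4, 3, 8, 5, 4, 10, 3, 4, 9, 5, 5] 4 [6, 4, 3, 6, 6, 4, 6, 9, 3, 6, 9, 3, 5, 4, 3, 2, 8, 5], .loop 11 [4, 3, 8, 5, 4, 10, 3, 4, 9, 5, 5] [⟨363, [], [3, 4, 2, 3, 4, 5, 4, 6, 4, 3, 5, 4, 2]⟩, ⟨322, [(127, false), (127, false)], [3, 4, 3, 4, 3, 2, 4, 4, 5, 4]⟩]))
 (.leaf (.stab 0 [], .gen)))))
 (.node (.node (.node (.leaf (.edge 5 [3, 5, 5, 4, 7, 0, 9, 3, 2, 3, 4, 3] 4 [3, 5, 8, 5, 2, 3, 9, 3, 9, 3], .loop 1 [3, 5, 5, 4, 7, 0, 9, 3, 2, 3, 4, 3] [⟨11, [], [2, 4, 3, 4, 4, 2, 3, 4, 3, 2, 4, 3, 5]⟩, ⟨41, [(24, true), (24, false), (24, false), (24, false)], [2, 4, 2, 3, 4, 3, 4, 2, 4, 2, 3, 5, 4]⟩]))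
 (.leaf (.stab 0 [], .gen)))
 (.node (.leaf (.edge 11 [3, 4, 5, 4, 0, 9, 3, 10] 4 [4, 3, 5, 4, 3, 8, 0, 9, 3, 5, 4, 5, 9, 3, 10, 3, 5, 9], .loop 10 [3, 4, 5, 4, 0, 9, 3, 10] [⟨336, [(35, false), (35, false)], [5, 4, 3, 2, 4, 2, 5, 5, 4, 3, 4]⟩, ⟨256, [(35, true), (35, false), (35, false), (35, false)], [6, 4, 4, 3, 4, 6, 5, 4, 6, 3, 2]⟩]))
 (.leaf (.stab 0 [], .gen))))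
 (.node (.node (.leaf (.edge 6 [4, 8, 5, 4, 0, 10, 3, 5, 4, 7] 4 [4, 3, 7, 5, 4, 3, 5, 4, 2, 3, 9, 3, 5, 8, 10, 3, 9, 3], .loop 0 [4, 8, 5, 4, 0, 10, 3, 5, 4, 7] [⟨217, [(85, false)], [4, 2, 5, 4, 6, 5, 6]⟩]))
 (.leaf (.stab 0 [], .gen)))
 (.node (.leaf (.edge 11 [3, 7, 5, 4, 3, 2, 3, 2, 4, 3, 9, 3] 4 [5, 4, 7, 5, 0, 9, 3, 5, 4, 5, 10, 6, 8], .loop 32 [3, 7, 5, 4, 3, 2, 3, 2, 4, 3, 9, 3] [⟨17, [], [4, 4, 4, 2, 3, 5, 6]⟩, ⟨132, [(28, true), (29, true), (30, false), (30, false)], [1, 4, 3, 2, 4, 2, 4, 6, 4, 3, 4, 5]⟩, ⟨386, [(249, true), (127, true), (127, true), (249, false)], [4, 4, 3, 2, 5, 4, 5, 6, 4, 4]⟩, ⟨273, [(86, true)], [3, 4, 4, 2, 3, 4, 6, 5, 4, 2, 6, 3]⟩, ⟨302, [(127, true)], [1, 2, 4, 6, 5, 4, 3, 4, 2, 3, 4, 4, 3]⟩]))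
 (.leaf (.stab 0 [], .gen))))))
 (.node (.node (.node (.node (.leaf (.edge 4 [3, 5, 5, 7, 0, 10, 3, 10] 4 [3, 6, 4, 7, 2, 3, 4, 10, 3, 2], .loop 10 [3, 5, 5, 7, 0, 10, 3, 10] [⟨10, [], [1, 6, 4, 3, 4, 4, 4, 6, 4, 3, 4, 2]⟩, ⟨41, [(26, true), (24, true), (26, true), (24, false), (24, false), (24, false)], [1, 5, 4, 2, 3, 4, 3, 2, 5, 5, 4]⟩]))
 (.leaf (.stab 0 [], .gen)))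
 (.node (.leaf (.edge 7 [6, 4, 2, 3] 4 [4, 3, 5, 4, 5, 4, 3, 8, 2, 3, 9, 3, 6, 4, 9], .loop 36 [6, 4, 2, 3] [⟨283, [], [6, 3, 2, 4, 6, 4, 4, 3, 4, 5, 4]⟩, ⟨185, [], [2, 6, 4, 3, 6, 4, 3, 4, 4, 3, 6, 4]⟩, ⟨277, [(35, true), (35, true), (35, true), (35, false), (35, false), (35, false)], [0, 4, 4, 6, 3, 4, 3, 5, 5, 4]⟩]))
 (.leaf (.stab 0 [], .gen))))
 (.node (.node (.leaf (.edge 6 [8, 0, 2, 3] 4 [4, 3, 6, 6, 4, 6, 8, 2, 3, 4, 10, 3, 4, 5, 4, 10, 6], .loop 17 [8, 0, 2, 3] [⟨12, [], [6, 5, 6]⟩, ⟨75, [(24, true), (24, false)], [3, 6, 4, 2, 3, 4, 2, 3, 5, 5, 4, 2, 4]⟩, ⟨161, [(26, false)], [2, 4, 3, 6, 4, 6, 4, 4, 2, 3, 4, 6, 5]⟩, ⟨75, [(24, true), (25, true), (24, false)], [2, 6, 4, 2, 3, 5, 4, 3, 4, 2, 4, 3, 5]⟩, ⟨152, [(24, false),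 (24, false), (25, false)], [2, 3, 4, 6, 5, 4, 3, 4, 4, 6]⟩]))
 (.leaf (.stab 0 [], .gen)))
 (.node (.leaf (.edge 7 [5, 5, 5, 4, 10, 3, 2, 4, 3, 5] 10 [7, 6, 4, 5, 2, 3, 9, 3, 6, 6, 10, 6, 4, 6], .loop 17 [5, 5, 5, 4, 10, 3, 2, 4, 3, 5] [⟨442, [(32, true), (84, true), (32, true), (32, false), (84, false), (32, false)], [0, 5, 4, 6, 3, 4, 6, 5, 4, 2, 4]⟩, ⟨212, [(85, true), (31, false), (85, false), (31, false)], [5, 4, 3, 6, 4, 2, 3, 4, 3, 2]⟩, ⟨123, [(34, true), (34, true), (34, true), (34, true)], [4, 5, 4, 2, 3, 4, 3, 4, 2, 4, 3]⟩, ⟨103, [(83, true), (239, false), (83, false)], [4, 5, 4, 3, 6, 4, 2, 4, 3, 6, 4, 4]⟩, ⟨190, [(86, true)], [1, 3, 4, 6, 4, 3, 4, 3, 4, 2, 4, 6, 5]⟩]))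
 (.leaf (.stab 0 [], .gen)))))
 (.node (.node (.node (.leaf (.stab 10 [3, 4, 7, 2, 3, 2, 4, 3, 5], .dupF 16 ⟨16, [(126, false), (126, false), (27, false), (29, true), (126, true), (29, true), (27, true)], [1, 4, 2, 3, 4, 2, 3, 4, 4, 3, 2, 5]⟩))
 (.leaf (.stab 0 [], .gen)))
 (.node (.leaf (.edge 4 [7, 5, 4, 3] 5 [3, 7, 5, 4, 3, 6, 4, 6, 2, 3, 4], .loop 11 [7, 5, 4, 3] [⟨276, [(86, false)], [3, 4, 2, 4, 3, 4, 2, 3, 5, 4]⟩, ⟨269, [(249, false)], [1, 3, 4, 4, 3, 2, 4, 3, 4, 3]⟩]))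
 (.leaf (.stab 0 [], .gen))))
 (.node (.node (.leaf (.edge 5 [7, 5, 4, 0, 10, 3, 2, 4, 3, 10, 5, 4] 4 [5, 5, 4, 3, 7, 2, 3, 4, 9, 3, 6, 9, 5, 4], .loop 32 [7, 5, 4, 0, 10, 3, 2, 4, 3, 10, 5, 4] [⟨56, [(83, true), (239, true)], [2, 3, 4, 3, 4, 6, 4, 3, 4, 4, 4]⟩, ⟨107, [(83, true), (239, true)], [2, 4, 5, 4, 6, 3, 4, 4, 3]⟩, ⟨53, [(24, true), (25, true), (24, false)], [4, 2, 3, 4, 2, 3, 4, 4, 2, 3, 4]⟩, ⟨108, [(88, true), (33, false), (33, false), (181, false), (88, false)], [1, 6, 5, 4, 3, 4, 3, 4, 2, 6, 4, 6]⟩, ⟨233, [(239, true), (83, true), (83, false)], [2, 4, 4, 2, 5, 4, 3, 4, 6, 3, 5, 4, 3, 2]⟩]))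
 (.leaf (.stab 0 [], .gen)))
 (.node (.leaf (.edge 7 [3, 6, 4, 5, 5, 9, 3, 5] 4 [5, 4, 3, 8, 6, 10, 3, 10, 3, 5, 9, 5, 4, 3, 2], .loop 11 [3, 6, 4, 5, 5, 9, 3, 5] [⟨402, [(32, false), (84, false)], [0, 6, 4, 4, 3, 5, 4, 6]⟩, ⟨500, [(35, false), (35, false), (35, false)], [4, 5, 4, 3, 6, 5, 4, 6, 3, 4, 5]⟩]))
 (.leaf (.stab 0 [], .gen))))))))

/-- the derivation -/
noncomputable def deriv : Deriv where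
  orbits := 13
  root := [[],
    [9, 3, 3, 2, 1, 0, 3, 2, 1],
    [9, 3, 3, 2, 1, 0, 3, 2, 1, 3, 3, 2, 1, 0, 3, 2, 1],
    [9, 3, 3, 2, 1, 0, 3, 2, 1, 3, 5, 4, 9, 3, 3, 2, 1, 0, 3, 2, 1],
    [9, 3, 3, 2, 1, 0, 3, 2, 1, 3, 3, 2, 1, 0, 3, 2, 1, 5, 9, 3, 3, 2, 1, 0, 3, 2, 1],
    [9, 3, 3, 2, 1, 0, 3, 2, 1, 3, 3, 2, 1, 0, 3, 2, 1, 6, 9, 3, 3, 2, 1, 0, 3, 2, 1],
    [9, 3, 3, 2, 1, 0, 3, 2, 1, 3, 3, 2, 1, 0, 3, 2, 1, 3, 4, 5, 4, 6, 9, 3, 5, 3, 2, 1, 0, 3, 2, 1],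
    [9, 3, 3, 2, 1, 0, 3, 2, 1, 3, 3, 2, 1, 0, 3, 2, 1, 3, 5, 4, 9, 3, 3, 2, 1, 0, 3, 2, 1],
    [9, 3, 3, 2, 1, 0, 3, 2, 1, 3, 3, 2, 1, 0, 3, 2, 1, 9, 3, 3, 2, 1, 0, 3, 2, 1],
    [9, 3, 3, 2, 1, 0, 3, 2, 1, 3, 3, 2, 1, 0, 3, 2, 1, 3, 4, 9, 3, 3, 2, 1, 0, 3, 2, 1],
    [9, 3, 3, 2, 1, 0, 3, 2, 1, 3, 5, 4, 9, 3, 3, 2, 1, 0, 3, 2, 1, 6, 9, 3, 3, 2, 1, 0, 3, 2, 1],
    [9, 3, 3, 2, 1, 0, 3, 2, 1, 3, 5, 4, 9, 3, 3, 2, 1, 0, 3, 2, 1, 3, 4, 9, 3, 3, 2, 1, 0, 3, 2, 1],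
    [9, 3, 3, 2, 1, 0, 3, 2, 1, 3, 5, 4, 9, 3, 3, 2, 1, 0, 3, 2, 1, 3, 4, 5, 4, 6, 9, 3, 5, 3, 2, 1, 0, 3, 2, 1]]
  rels := [[[10, 3, 2, 3, 9], [3, 2, 3, 4]],
    [[2, 3, 10, 3, 10], [3, 9, 3, 4], [3, 9, 3]],
    [[3, 9, 10, 3, 2, 3, 10, 3, 10], [3, 9, 3, 4], [3, 9, 3]],
    [[3, 9, 3, 4], [3, 9, 3], [3, 9, 10, 3, 2, 3, 10, 3, 10]],
    [[3, 9, 3, 4], [3, 9, 3], [2, 3, 10, 3, 10]],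
    [[3, 4, 10, 3, 2, 4, 3, 10], [2, 3, 10, 3, 9, 3, 2, 3], [3, 2, 3, 4, 3, 2, 3, 10], [0, 3, 10, 3, 4]],
    [[0, 3, 10, 3, 9, 3, 2, 3, 4], [0, 4, 9, 3, 9, 3], [3, 10, 3, 10]],
    [[3, 9, 3], [3, 9, 10, 3, 2, 3, 10, 3, 10], [3, 9, 3, 4]],
    [[4, 10], [3, 4, 9, 3, 2, 4, 3, 2], [0, 3, 2, 3, 9, 3, 9, 3, 2], [0, 9, 3, 9, 3, 2]],
    [[3, 4, 10, 3, 2, 4, 3, 2], [9, 3, 9, 3, 2], [3, 4, 9, 3, 2, 4, 3]],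
    [[3, 9, 3], [2, 3, 10, 3, 10], [3, 9, 3, 4]],
    [[], [], []],
    [[3], [3], [3], [3], [3], [3, 2, 2]],
    [[3, 9, 3, 2, 3, 10, 3, 9], [4, 3, 9, 3, 4], [2, 4, 3, 10, 3], [2, 4, 3, 10, 3, 2]],
    [[3, 4, 9, 3, 4], [3], [3], [3], [3, 4, 9], [3, 4, 9], [3, 4, 10, 3, 4, 2, 3, 2, 4, 3, 2, 3]],
    [[3, 4, 9, 3, 2, 4, 3], [3, 4, 10, 3, 2, 4, 3, 2], [9, 3, 9, 3, 2]],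
    [[3], [3, 4, 9], [3, 4, 9], [3, 4, 10, 3, 4, 2, 3, 2, 4, 3, 2, 3], [3, 4, 9, 3, 4], [3], [3]],
    [[3], [3], [3], [3], [3, 2, 2], [3]],
    [[3, 4, 9], [3, 4, 10, 3, 4, 2, 3, 2, 4, 3, 2, 3], [3, 4, 9, 3, 4], [3], [3], [3], [3, 4, 9]],
    [[0, 2, 3, 9, 3, 10, 3, 2, 3], [2, 3, 4, 9, 3, 4, 9, 3], [9, 3, 9, 3, 2]],
    [[3, 2, 2], [3], [3], [3], [3], [3]],
    [[3], [3], [3], [3, 4, 9], [3, 4, 9], [3, 4, 10, 3, 4, 2, 3, 2, 4, 3, 2, 3], [3, 4, 9, 3, 4]],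
    [[0, 3, 9, 3, 10, 3, 10, 3, 4], [3, 9, 3, 9, 3, 2, 3, 9], [0, 2, 3, 9, 3, 9, 3, 2, 3]],
    [[3], [3, 2, 2], [3], [3], [3], [3]],
    [[0, 4, 9, 3, 9, 3], [3, 10, 3, 10], [0, 3, 10, 3, 9, 3, 2, 3, 4]],
    [[3, 4, 9, 3, 2, 4, 3, 2], [0, 3, 2, 3, 9, 3, 9, 3, 2], [0, 9, 3, 9, 3, 2], [4, 10]],
    [[3, 10, 3, 10], [0, 3, 10, 3, 9, 3, 2, 3, 4], [0, 4, 9, 3, 9, 3]],
    [[2, 3, 4, 9, 3, 4, 9, 3], [9, 3, 9, 3, 2], [0, 2, 3, 9, 3, 10, 3, 2, 3]],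
    [[3], [3], [3], [3, 2, 2], [3], [3]],
    [[0, 2, 3, 9, 3, 9, 3, 2, 3], [0, 3, 9, 3, 10, 3, 10, 3, 4], [3, 9, 3, 9, 3, 2, 3, 9]],
    [[0, 9, 3, 9, 3, 2], [4, 10], [3, 4, 9, 3, 2, 4, 3, 2], [0, 3, 2, 3, 9, 3, 9, 3, 2]],
    [[2, 4, 3, 10, 3], [2, 4, 3, 10, 3, 2], [3, 9, 3, 2, 3, 10, 3, 9], [4, 3, 9, 3, 4]],
    [[3], [3], [3, 2, 2], [3], [3], [3]],
    [[3, 9, 3, 9, 3, 2, 3, 9], [0, 2, 3, 9, 3, 9, 3, 2, 3], [0, 3, 9, 3, 10, 3, 10, 3, 4]],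
    [[3], [3], [3, 4, 9], [3, 4, 9], [3, 4, 10, 3, 4, 2, 3, 2, 4, 3, 2, 3], [3, 4, 9, 3, 4], [3]],
    [[2, 3, 10, 3, 9, 3, 2, 3], [3, 2, 3, 4, 3, 2, 3, 10], [0, 3, 10, 3, 4], [3, 4, 10, 3, 2, 4, 3, 10]],
    [[0, 3, 2, 3, 9, 3, 9, 3, 2], [0, 9, 3, 9, 3, 2], [4, 10], [3, 4, 9, 3, 2, 4, 3, 2]],
    [[3, 4, 10, 3, 4, 2, 3, 2, 4, 3, 2, 3], [3, 4, 9, 3, 4], [3], [3], [3], [3, 4, 9], [3, 4, 9]]]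
  dec := [[1], [0, 1], [2, 4, 2, 3, 4, 2, 4, 4, 4, 3, 4, 2, 4], [2], [4], [5], [2, 6, 3]]
  items := (.node (.node (.node (.node items0
 items1)
 (.node items2
 items3))
 (.node (.node items4
 items5)
 (.node items6
 items7)))
 (.node (.node (.node items8
 items9)
 (.node items10
 items11))
 (.node (.node items12
 items13)
 (.node items14
 items15))))

end CfsgLib.Spor.Th
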