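import Cfsg.Agent.Lib.Spor.Th.ChainData
import Cfsg.Agent.Lib.Spor.Th.DerivData

/-!
Checking the chains.
-/

namespace CfsgLib.Spor.Th

theorem chain_ok_0 : okChain deriv 568 0 chain0 = true := by decide +kernel

theorem chain_ok_1 : okChain deriv 568 1 chain1 = true := by decide +kernel

theorem chain_ok_2 : okChain deriv 568 2 chain2 = true := by decide +kernel

theorem chain_ok_3 : okChain deriv 568 3 chain3 = true := by decide +kernel

theorem chain_ok_4 : okChain deriv 568 4 chain4 = true := by decide +kernel

theorem chain_ok_5 : okChain deriv 568 5 chain5 = true := by decide +kernel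

theorem chain_ok_6 : okChain deriv 568 6 chain6 = true := by decide +kernel

theorem chain_ok_7 : okChain deriv 568 7 chain7 = true := by decide +kernel

theorem chain_ok_8 : okChain deriv 568 8 chain8 = true := by decide +kernel

theorem chain_ok_9 : okChain deriv 568 9 chain9 = true := by decide +kernel

theorem chain_ok_10 : okChain deriv 568 10 chain10 = true := by decide +kernel

theorem chain_ok_11 : okChain deriv 568 11 chain11 = true := by decide +kernel

theorem chain_ok_12 : okChain deriv 568 12 chain12 = true := by decide +kernel

end CfsgLib.Spor.Th
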