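import Cfsg.Agent.Lib.Spor.Th.Count

/-!
Chains for the stabilisers (generated data).
-/

namespace CfsgLib.Spor.Th

/-- chain -/
noncomputable def chain0 : Chain where
  levs := [⟨0, [[], [(2, true)], [(2, true), (1, true)], [(2, true), (3, true)], [(2, true), (1, true), (2, true)], [(2, true), (1, true), (3, true)], [(2, true), (3, true), (4, true)], [(2, true), (3, true), (4, false)], [(2, true), (1, true), (3, true), (4, true)], [(2, true), (1, true), (3, true), (4, false)], [(2, true), (3, true), (4, true), (3, true)], [(2, true), (3, true), (4, true), (4, true)], [(2, true), (3, true), (4, true), (5, false)], [(2, true), (3, true), (4, false), (4, false)], [(2, true), (1, true), (3, true), (4, true), (3, true)], [(2, true), (1, true), (3, true), (4, true), (4, true)], [(2, true), (1, true), (3, true), (4, true), (5, false)], [(2, true), (1, true), (3, true), (4, false), (4, false)]]⟩,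
    ⟨1, [[], [(1, true)], [(3, true)], [(1, true), (3, true)], [(3, true), (4, true)], [(3, true), (4, false)], [(1, true), (3, true), (4, true)], [(1, true), (3, true), (4, false)], [(3, true), (4, true), (3, true)], [(3, true), (4, true), (4, true)], [(3, true), (4, true), (5, false)], [(3, true), (4, false), (4, false)], [(1, true), (3, true), (4, true), (3, true)], [(1, true), (3, true), (4, true), (4, true)], [(1, true), (3, true), (4, true), (5, false)], [(1, true), (3, true), (4, false), (4, false)]]⟩,
    ⟨3, [[], [(4, true)], [(4, false)], [(4, true), (4, true)], [(4, true), (5, false)], [(4, false), (4, false)], [(4, false), (5, false)], [(1, true), (2, true), (1, true), (2, true), (4, true), (3, true), (2, true), (1, true), (2, true), (3, true)], [(1, true), (2, true), (1, true), (2, true), (4, false), (3, true), (2, true), (1, true), (2, true), (3, true)], [(1, true), (2, true), (1, true), (2, true), (4, true), (3, true), (2, true), (1, true), (2, true), (3, true), (4, true)], [(1, true), (2, true), (1, true), (2, true), (4, true), (3, true), (2, true), (1, true), (2, true), (3, true), (4, false)], [(1, true), (2, true), (1, true), (2, true), (4, true), (3, true), (2, true), (1, true), (2, true), (3, true), (5, false)], [(1, true),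 (2, true), (1, true), (2, true), (4, false), (3, true), (2, true), (1, true), (2, true), (3, true), (4, false)], [(1, true), (2, true), (1, true), (2, true), (4, false), (3, true), (2, true), (1, true), (2, true), (3, true), (5, false)]]⟩,
    ⟨4, [[], [(1, true), (2, true), (1, true), (2, true), (3, true), (2, true), (1, true), (2, true), (3, true)]]⟩,
    ⟨8, [[], [(5, true)], [(5, false)], [(4, false), (3, true), (2, true), (1, true), (2, true), (3, true), (4, false), (3, true), (2, true), (1, true), (2, true), (3, true), (4, true), (4, true)], [(4, false), (3, true), (2, true), (1, true), (2, true), (3, true), (4, false), (3, true), (2, true), (1, true), (2, true), (3, true), (5, false), (4, true)], [(4, false), (3, true), (2, true), (1, true), (2, true), (3, true), (5, true), (4, true), (3, true), (2, true), (1, true), (2, true), (3, true), (4, true)]]⟩,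
    ⟨9, [[], [(4, true), (3, true), (2, true), (1, true), (2, true), (3, true), (4, true), (3, true), (2, true), (1, true), (2, true), (3, true), (4, false), (4, false)]]⟩,
    ⟨13, [[], [(3, true), (4, true), (3, true), (2, true), (1, true), (2, true), (3, true), (4, true), (3, true), (2, true), (1, true), (2, true), (3, true), (4, false), (4, false), (3, true)]]⟩,
    ⟨14, [[], [(3, true), (4, false), (3, true), (2, true), (1, true), (2, true), (4, false), (3, true), (2, true), (1, true), (2, true), (3, true), (4, true), (3, true), (4, true), (3, true)]]⟩]
  central := (some [(0, true)])
  idx := 120

/-- chain -/
noncomputable def chain1 : Chain where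
  levs := [⟨0, [[], [(124, true)], [(124, false)]]⟩,
    ⟨1, [[], [(19, true)], [(20, true)], [(21, true)], [(21, false)], [(22, true)], [(22, false)], [(23, true)], [(19, true), (20, true)], [(19, true), (21, true)], [(19, true), (21, false)], [(19, true), (22, true)], [(19, true), (22, false)], [(19, true), (23, true)], [(20, true), (21, true)], [(20, true), (21, false)], [(20, true), (23, true)], [(21, true), (20, true)], [(21, true), (22, true)], [(21, true), (22, false)], [(21, true), (23, true)], [(21, false), (20, true)], [(21, false), (22, true)], [(21, false), (22, false)], [(21, false), (23, true)], [(22, true), (21, true)], [(22, true), (23, true)], [(22, false), (21, true)], [(22, false), (21, false)], [(22, false), (23, true)], [(23, true), (20, true)], [(23, true), (22, true)], [(23, true), (22, false)], [(19, true), (20, true), (21, true)], [(19, true), (20, true), (21, false)], [(19, true), (20, true), (23, true)], [(19, true), (21, true), (22, false)], [(19, true), (21, false), (20, true)], [(19, true), (21, false), (22, true)], [(19, true), (22, true), (23, true)], [(19, true), (22, false), (23, true)], [(19, true), (23, true), (22, true)], [(20, true), (21, true), (22, false)], [(20, true), (21, true), (23, true)], [(20,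 true), (21, false), (22, true)], [(20, true), (21, false), (23, true)], [(20, true), (23, true), (20, true)], [(20, true), (23, true), (22, true)], [(20, true), (23, true), (22, false)], [(21, true), (20, true), (22, false)], [(21, true), (22, false), (21, true)], [(21, true), (22, false), (23, true)], [(21, true), (23, true), (21, true)], [(21, true), (23, true), (21, false)], [(21, false), (20, true), (23, true)], [(21, false), (22, true), (23, true)], [(21, false), (22, false), (23, true)], [(22, true), (21, true), (23, true)], [(22, true), (23, true), (20, true)], [(22, true), (23, true), (22, true)], [(22, false), (21, true), (23, true)], [(22, false), (21, false), (23, true)], [(22, false), (23, true), (22, false)], [(19, true), (21, false), (22, true), (23, true)]]⟩,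
    ⟨3, [[], [(124, true), (19, true), (124, false)]]⟩,
    ⟨8, [[], [(20, true), (22, true), (20, true)], [(20, true), (22, false), (20, true)], [(20, true), (21, false), (124, false), (22, false), (124, true)], [(21, true), (23, true), (22, true), (23, true), (21, false)], [(21, false), (124, true), (22, false), (124, false), (21, true)]]⟩,
    ⟨9, [[], [(21, true), (22, false), (20, true), (124, true), (21, true), (124, false)]]⟩]
  central := (some [(19, true), (21, true), (22, true), (21, true), (22, true)])
  idx := 10080

/-- chain -/
noncomputable def chain2 : Chain where
  levs := [⟨1, [[], [(24, true)], [(25, true)], [(26, true)], [(26, false)], [(24, true), (25, true)], [(24, true), (26, true)], [(24, true), (26, false)], [(25, true), (24, true)], [(25, true), (24, false)], [(25, true), (26, true)], [(26, true), (24, false)], [(24, true), (25, true), (24, true)], [(24, true), (25, true), (24, false)], [(24, true), (25, true), (26, true)], [(24, true), (26, true), (24, false)]]⟩,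
    ⟨8, [[], [(24, true), (24, true)], [(24, false), (24, false)]]⟩]
  central := none
  idx := 1935360

/-- chain -/
noncomputable def chain3 : Chain where
  levs := [⟨1, [[], [(27, true)], [(28, true)], [(29, true)], [(29, false)], [(30, true)], [(30, false)], [(126, true)], [(27, true), (28, true)], [(27, true), (29, true)], [(27, true), (29, false)], [(27, true), (30, true)], [(27, true), (30, false)], [(27, true), (126, true)], [(27, true), (126, false)], [(28, true), (29, true)], [(28, true), (29, false)], [(28, true), (30, true)], [(28, true), (30, false)], [(28, true), (126, true)], [(29, true), (28, true)], [(29, true), (29, true)], [(29, true), (30, true)], [(29, true), (30, false)], [(29, true), (126, true)], [(29, true), (126, false)], [(29, false), (28, true)], [(29, false), (30, false)], [(30, true), (28, true)], [(30, true), (29, true)], [(30, true), (29, false)], [(30, true), (30, true)], [(30, true), (126, false)], [(30, false), (28, true)], [(30, false), (29, true)], [(30, false), (29, false)], [(126, true), (27, true)], [(126, true), (29, false)], [(27, true), (28, true), (30, true)], [(27, true), (28, true), (30, false)], [(27, true), (28, true), (126, false)], [(27, true), (29, false), (126, true)], [(27, true), (29,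 false), (126, false)], [(27, true), (30, true), (126, true)], [(27, true), (30, true), (126, false)], [(27, true), (30, false), (126, true)], [(27, true), (30, false), (126, false)], [(27, true), (126, true), (30, true)], [(27, true), (126, true), (30, false)], [(27, true), (126, false), (27, true)], [(27, true), (126, false), (30, true)], [(27, true), (126, false), (30, false)], [(28, true), (29, true), (29, true)], [(28, true), (29, true), (30, true)], [(28, true), (29, true), (126, false)], [(28, true), (30, true), (28, true)], [(28, true), (30, true), (29, false)], [(28, true), (30, true), (30, true)], [(28, true), (126, true), (29, false)], [(29, true), (30, true), (126, false)], [(29, true), (30, false), (126, false)], [(29, false), (28, true), (126, false)], [(30, true), (28, true), (30, true)], [(30, true), (28, true), (30, false)]]⟩,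
    ⟨3, [[], [(30, false), (126, true)], [(126, false), (30, true)]]⟩]
  central := none
  idx := 483840

/-- chain -/
noncomputable def chain4 : Chain where
  levs := [⟨0, [[], [(86, true)]]⟩]
  central := none
  idx := 46448640

/-- chain -/
noncomputable def chain5 : Chain where
  levs := [⟨0, [[], [(83, true)], [(239, true)], [(239, false)], [(83, true), (239, true)], [(83, true), (239, false)]]⟩]
  central := none
  idx := 15482880

/-- chain -/
noncomputable def chain6 : Chain where
  levs := [⟨0, [[], [(85, true)], [(85, true), (31, true)]]⟩,
    ⟨1, [[], [(31, true)]]⟩]
  central := none
  idx := 15482880

/-- chain -/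
noncomputable def chain7 : Chain where
  levs := [⟨0, [[], [(84, true)], [(84, true), (32, true)]]⟩,
    ⟨1, [[], [(32, true)]]⟩]
  central := none
  idx := 15482880

/-- chain -/
noncomputable def chain8 : Chain where
  levs := [⟨0, [[], [(88, true)], [(181, true)], [(241, true)], [(88, true), (181, true)], [(88, true), (241, true)], [(181, true), (88, true)], [(181, true), (241, true)], [(241, true), (33, true)], [(241, true), (33, false)], [(241, true), (88, true)], [(241, true), (88, false)], [(241, true), (181, true)], [(88, true), (181, true), (88, true)], [(88, true), (241, true), (33, false)], [(88, true), (241, true), (88, true)], [(88, true), (241, true), (88, false)], [(88, true), (241, true), (181, true)]]⟩,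
    ⟨8, [[], [(33, true)], [(33, false)]]⟩]
  central := none
  idx := 1720320

/-- chain -/
noncomputable def chain9 : Chain where
  levs := [⟨0, [[], [(87, true)], [(87, true), (34, true)]]⟩,
    ⟨1, [[], [(34, true)]]⟩,
    ⟨8, [[], [(34, true), (34, true)], [(34, false), (34, false)]]⟩]
  central := none
  idx := 5160960

/-- chain -/
noncomputable def chain10 : Chain where
  levs := [⟨0, [[], [(249, true)]]⟩,
    ⟨1, [[], [(127, true)], [(127, false)]]⟩]
  central := none
  idx := 15482880

/-- chain -/
noncomputable def chain11 : Chain where
  levs := [⟨1, [[], [(35, true)], [(35, false)], [(35, true), (35, true)]]⟩]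
  central := none
  idx := 23224320

/-- chain -/
noncomputable def chain12 : Chain where
  levs := [⟨0, [[], [(250, true)], [(250, false)], [(250, true), (36, true)], [(250, true), (128, true)], [(250, true), (128, false)], [(250, false), (128, false)]]⟩,
    ⟨1, [[], [(36, true)], [(128, true)], [(128, false)], [(36, true), (128, true)], [(36, true), (128, false)]]⟩]
  central := none
  idx := 2211840

/-- all chains -/
noncomputable def chains : List Chain := [chain0, chain1, chain2, chain3, chain4, chain5, chain6, chain7, chain8, chain9, chain10, chain11, chain12]

end CfsgLib.Spor.Th
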