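import Cfsg.Agent.Lib.Spor.Th.DeriveSound

/-!
The orbits of a finished derivation cover all cosets of the triality subgroup.
-/

namespace CfsgLib.Spor.Th

open CfsgLib.PresCert

/-- Data showing that every coset is reached. -/
structure Cover where
  /-- number of classes of the involution centraliser -/
  size : Nat
  /-- representatives of the classes -/
  reps : List (List Nat)
  /-- for each letter and class, the image class and a remainder -/
  step : List (List (Nat × List Nat))
  /-- for each orbit and class, an edge and how it applies -/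
  edge : List (List Step)
  /-- first segment of the word for the generator `b` -/
  bHead : List Nat
  /-- further segments, each preceded by `n` -/
  bTail : List (List Nat)

namespace Cover

variable (D : Deriv) (V : Cover)

/-- a representative -/
noncomputable def rep (o : Nat) : List Nat := V.reps.getD o []

/-- the classes are permuted as claimed -/
noncomputable def okStep : Bool :=
  decide (0 < V.size) && decide (V.rep 0 = []) &&
  (allBelow 10 fun t => allBelow V.size fun o =>
    let e := (V.step.getD t []).getD o (V.size, [])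
    Nat.blt e.1 V.size && Deriv.okH e.2 &&
      eqC (selC.getD t 0 :: V.rep o) (V.rep e.1 ++ Deriv.hW e.2)) &&
  (eqG [1] (V.bHead ++ (V.bTail.map fun m => wN ++ m).flatten)) &&
  (V.bHead.all fun x => selC.contains x) && V.bTail.all fun m => m.all fun x => selC.contains x

/-- the edge claimed for a class applies -/
noncomputable def okEdge1 (N i o : Nat) : Bool :=
  let s := (V.edge.getD i []).getD o ⟨0, [], []⟩
  match (D.item s.edge).1, D.etaW N i s.eta with
  | .edge i' u j _, some e =>
    decide (s.edge < N ∧ i' = i ∧ j < D.orbits) && Deriv.okH s.h &&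
      eqC (V.rep o) (e ++ u ++ Deriv.hW s.h)
  | _, _ => false

/-- the edges claimed for an orbit apply -/
noncomputable def okEdge (N i : Nat) : Bool := allBelow V.size fun o => V.okEdge1 D N i o

variable {D} {V}

theorem tev_singleton (x : Nat) : tev [x] = letter x := by simp [tev]

/-- every element of the involution centraliser lies in a class -/
theorem exists_class (h : V.okStep = true) : ∀ w : List Nat, (∀ x ∈ w, x ∈ selC) →
    ∃ o < V.size, ∃ l : List Nat, (∀ x ∈ l, x < 7) ∧ tev w = tev (V.rep o) * tev (Deriv.hW l) := by
  simp only [okStep, Bool.and_eq_true, decide_eq_true_eq] at h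
  obtain ⟨⟨⟨⟨⟨h0, hr⟩, hs⟩, -⟩, -⟩, -⟩ := h
  intro w
  induction w with
  | nil => exact fun _ => ⟨0, h0, [], by simp, by simp [hr, Deriv.hW, tev]⟩
  | cons x w ih =>
    intro hw
    obtain ⟨o, ho, l, hl, e⟩ := ih fun y hy => hw y (List.mem_cons_of_mem _ hy)
    obtain ⟨t, ht, hx⟩ := List.getElem_of_mem (hw x (List.mem_cons_self ..))
    have hd : selC.getD t 0 = x := by
      simp [List.getD_eq_getElem?_getD, List.getElem?_eq_getElem ht, hx]
    have := allBelow_spec (allBelow_spec hs t (by simpa [selC] using ht)) o ho
    simp only [Bool.and_eq_true] at this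
    obtain ⟨⟨h1, h2⟩, h3⟩ := this
    have h3' := eqC_sound h3
    rw [hd, tev_cons, tev_append] at h3'
    generalize (V.step.getD t []).getD o (V.size, []) = e' at h1 h2 h3'
    refine ⟨e'.1, lt_of_blt h1, e'.2 ++ l, ?_, ?_⟩
    · intro y hy
      rcases List.mem_append.1 hy with hy | hy
      · exact Deriv.okH_lt h2 y hy
      · exact hl y hy
    · simp only [tev_cons, e, Deriv.hW, List.map_append, List.flatten_append, tev_append,
        ← mul_assoc]
      rw [h3']
      simp [Deriv.hW, mul_assoc]

/-- the words for elements of the involution centraliser -/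
def CWord (w : List Nat) : Prop := ∀ x ∈ w, x ∈ selC

/-- an element is reached by the orbits -/
def Reached (D : Deriv) (q : Cfsg.Spor.Th) : Prop :=
  ∃ i < D.orbits, ∃ w, CWord w ∧ Deriv.Same q (D.pt i w)

theorem reached_mul_C {q : Cfsg.Spor.Th} (hq : Reached D q) {v : List Nat} (hv : CWord v) :
    Reached D (q * tev v) := by
  obtain ⟨i, hi, w, hw, h⟩ := hq
  refine ⟨i, hi, w ++ v, fun x hx => (List.mem_append.1 hx).elim (hw x) (hv x), ?_⟩
  simpa [Deriv.pt, tev_append, mul_assoc] using h.mul (tev v)

theorem hW_CWord {l : List Nat} (hl : ∀ x ∈ l, x < 7) : CWord (Deriv.hW l) := by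
  intro x hx
  obtain ⟨m, hm, hx⟩ := List.mem_flatten.1 hx
  obtain ⟨y, hy, rfl⟩ := List.mem_map.1 hm
  have := hl y hy
  interval_cases y <;> simp [wGens, selC] at hx ⊢ <;> omega

theorem phiW_CWord {l : List Nat} (hl : ∀ x ∈ l, x < 7) : CWord (Deriv.phiW l) := by
  intro x hx
  obtain ⟨m, hm, hx⟩ := List.mem_flatten.1 hx
  obtain ⟨y, hy, rfl⟩ := List.mem_map.1 hm
  have := hl y hy
  interval_cases y <;> simp [wPhiS, selC] at hx ⊢ <;> omega

theorem eqC_right {u v : List Nat} (e : eqC u v = true) : CWord v := by
  simp only [eqC, eqIn, Bool.and_eq_true, List.all_eq_true, List.contains_iff_mem] at e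
  exact e.1.2

theorem reached_mul_n {N : Nat} (hN : ∀ k < N, Deriv.ItemOK D (D.item k).1)
    (hv : ∀ k < N, ∀ i u j v, (D.item k).1 = .edge i u j v → CWord v)
    (h : V.okStep = true) (he : ∀ i < D.orbits, V.okEdge D N i = true)
    {q : Cfsg.Spor.Th} (hq : Reached D q) : Reached D (q * elN) := by
  obtain ⟨i, hi, w, hw, hs⟩ := hq
  obtain ⟨o, ho, l, hl, e⟩ := exists_class h w hw
  have := allBelow_spec (he i hi) o ho
  simp only [okEdge1] at this
  split at this
  · rename_i i' u j v η hit heta
    simp only [Bool.and_eq_true, decide_eq_true_eq] at this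
    obtain ⟨⟨⟨hk, rfl, hj⟩, hh⟩, heq⟩ := this
    generalize (V.edge.getD i' []).getD o ⟨0, [], []⟩ = s at hit heta hk hh heq
    have hl' : ∀ x ∈ s.h ++ l, x < 7 := fun x hx =>
      (List.mem_append.1 hx).elim (Deriv.okH_lt hh x) (hl x)
    have A := hN _ hk
    rw [hit, Deriv.ItemOK] at A
    refine ⟨j, hj, v ++ Deriv.phiW (s.h ++ l), fun x hx => (List.mem_append.1 hx).elim
      (hv _ hk _ _ _ _ hit x) (phiW_CWord hl' x), ?_⟩
    have h1 := (Deriv.etaW_spec hN heta).mul (tev u * tev (Deriv.hW (s.h ++ l)) * elN)
    have h2 := A.mul (tev (Deriv.phiW (s.h ++ l)))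
    have h3 := hs.mul elN
    have hsplit : tev (Deriv.hW s.h) * tev (Deriv.hW l) = tev (Deriv.hW (s.h ++ l)) := by
      simp [Deriv.hW, tev_append]
    simp only [Deriv.pt, tev_append, tev_nil, mul_one, mul_assoc, e, eqC_sound heq, hsplit,
      Deriv.phiW_spec hl'] at h1 h2 h3 ⊢
    exact (h3.trans h1).trans h2
  · simp at this

/-- every coset of the triality subgroup is reached -/
theorem reached_all {N : Nat} (S : Deriv.Setup D) (h0 : 0 < D.orbits)
    (hN : ∀ k < N, Deriv.ItemOK D (D.item k).1)
    (hv : ∀ k < N, ∀ i u j v, (D.item k).1 = .edge i u j v → CWord v)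
    (h : V.okStep = true) (he : ∀ i < D.orbits, V.okEdge D N i = true) (g : Cfsg.Spor.Th) :
    Reached D g := by
  have hb : ∀ q, Reached D q → Reached D (q * letter 1) := by
    intro q hq
    have h' := h
    simp only [okStep, Bool.and_eq_true, List.all_eq_true, List.contains_iff_mem] at h'
    have e := eqG_sound h'.1.1.2
    rw [tev_singleton, tev_append] at e
    rw [e, ← mul_assoc]
    have ht := h'.2
    generalize V.bTail = ms at ht
    have hq' := reached_mul_C (D := D) hq (v := V.bHead) fun x hx => h'.1.2 x hx
    clear hq
    generalize q * tev V.bHead = q' at hq'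
    induction ms generalizing q' with
    | nil => simpa [tev_nil] using hq'
    | cons m ms ih =>
      have := ih (fun y hy => ht y (List.mem_cons_of_mem _ hy)) _
        (reached_mul_C (reached_mul_n hN hv h he hq') (v := m) fun x hx =>
          ht m (List.mem_cons_self ..) x hx)
      simpa [tev_append, mul_assoc, elN] using this
  have hone : Reached D 1 := ⟨0, h0, [], fun x hx => by simp at hx, by
    simp only [Deriv.Same, Deriv.pt, S.root]
    simp [tev_nil]⟩
  have key : ∀ g ∈ Subgroup.closure {q | ∃ x < 11, letter x = q},
      ∀ q, Reached D q → Reached D (q * g) := by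
    intro g hg
    induction hg using Subgroup.closure_induction'' with
    | mem x hx =>
      obtain ⟨t, ht, rfl⟩ := hx
      intro q hq
      by_cases h1 : t = 1
      · subst h1
        exact hb q hq
      · have hc : CWord [t] := fun y hy => by
          simp only [List.mem_singleton] at hy
          simp [selC]
          omega
        simpa [tev_singleton] using reached_mul_C hq hc
    | inv_mem x hx =>
      obtain ⟨t, ht, rfl⟩ := hx
      intro q hq
      by_cases h1 : t = 1
      · subst h1
        have : (letter 1)⁻¹ = letter 1 := by simp [letter, letterList, inv_b]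
        rw [this]
        exact hb q hq
      · have hc : CWord [tiv t] := fun y hy => by
          simp only [List.mem_singleton] at hy
          subst hy
          interval_cases t <;> simp_all [tiv, selC]
        simpa [tev_singleton, letter_tiv ht] using reached_mul_C hq hc
    | one => exact fun q hq => by simpa using hq
    | mul a b _ _ ha hb' => exact fun q hq => by simpa [mul_assoc] using hb' _ (ha q hq)
  have := key g (by rw [letters_top]; trivial) 1 hone
  simpa using this

end Cover

end CfsgLib.Spor.Th
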