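import Cfsg.Agent.Lib.Spor.Th.Closure

/-!
Bounding the number of cosets in the orbits of a derivation, from lower bounds on the orders of
the stabilisers inside the presented involution centraliser.
-/

namespace CfsgLib.Spor.Th

open CfsgLib.PresCert

/-- One level of a chain: a point and elements with distinct images at that point. -/
structure Lev where
  /-- the point -/
  base : Nat
  /-- the elements, as words in stabiliser items -/
  elems : List (List (Nat × Bool))

/-- A chain for the stabiliser of an orbit. -/
structure Chain where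
  /-- the levels -/
  levs : List Lev
  /-- whether the central involution is shown to lie in the stabiliser -/
  central : Option (List (Nat × Bool))
  /-- the size of the orbit -/
  idx : Nat

/-- the local word of a product of items -/
noncomputable def locW (D : Deriv) (N i : Nat) (l : List (Nat × Bool)) : Option (List Nat) :=
  match D.etaW N i l with
  | some w => bif w.all (fun x => selC.contains x) then some (w.map (pos selC)) else none
  | none => none

/-- the elements of a level fix the earlier points and have distinct images -/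
noncomputable def okLev (D : Deriv) (N i : Nat) (before : List Nat) (L : Lev) : Bool :=
  Nat.blt L.base sysC.A.deg &&
  (L.elems.all fun l =>
    match locW D N i l with
    | some w => before.all fun p => Nat.beq (sysC.A.app w p) p
    | none => false) &&
  decide (L.elems.map fun l => (locW D N i l).map fun w => sysC.A.app w L.base).Nodup

/-- all levels are correct -/
noncomputable def okLevs (D : Deriv) (N i : Nat) : List Nat → List Lev → Bool
  | _, [] => true
  | bs, L :: ls => okLev D N i bs L && okLevs D N i (bs ++ [L.base]) ls

/-- the product of the lengths -/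
noncomputable def levProd : List Lev → Nat
  | [] => 1
  | L :: ls => L.elems.length * levProd ls

/-- the chain is correct -/
noncomputable def okChain (D : Deriv) (N i : Nat) (c : Chain) : Bool :=
  okLevs D N i [] c.levs &&
  match c.central with
  | none => Nat.beq (c.idx * levProd c.levs) 92897280
  | some l =>
    Nat.beq (c.idx * levProd c.levs * 2) 92897280 &&
      (c.levs.all fun L => Nat.beq (sysC.A.app [0] L.base) L.base) &&
      match locW D N i l with
      | some w => sysC.same w [0]
      | none => false

namespace Count

variable {D : Deriv} {N i : Nat}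

/-- the image of a point -/
noncomputable def actC (q : sysC.P.Grp) (p : Fin sysC.A.deg) : Fin sysC.A.deg :=
  (MulOpposite.unop (sysC.A.hom sysC_valid.act (Sys.shape_spec sysC_valid).1 q)) p

theorem actC_mul (q r : sysC.P.Grp) (p : Fin sysC.A.deg) : actC (q * r) p = actC r (actC q p) := by
  simp [actC]

theorem actC_ev {w : List Nat} (hw : ∀ x ∈ w, x < sysC.P.g) (p : Fin sysC.A.deg) :
    (actC (sysC.P.ev w) p).1 = sysC.A.app w p :=
  Act.hom_ev _ _ w hw p

theorem actC_inv {q : sysC.P.Grp} {p : Fin sysC.A.deg} (h : actC q p = p) : actC q⁻¹ p = p := by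
  have := actC_mul q q⁻¹ p
  rw [h, mul_inv_cancel] at this
  rw [← this]
  simp [actC]

/-- the generated stabiliser of an orbit -/
noncomputable def stabGrp (D : Deriv) (N i : Nat) : Subgroup sysC.P.Grp :=
  Subgroup.closure {q | ∃ k < N, ∃ e, (D.item k).1 = .stab i e ∧ (∀ x ∈ e, x ∈ selC) ∧
    sysC.P.ev (e.map (pos selC)) = q}

/-- the elements fixing given points -/
noncomputable def fixer (D : Deriv) (N i : Nat) (bs : List Nat) : Subgroup sysC.P.Grp where
  carrier := {q | q ∈ stabGrp D N i ∧ ∀ p : Fin sysC.A.deg, p.1 ∈ bs → actC q p = p}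
  one_mem' := ⟨one_mem _, fun p _ => by simp [actC]⟩
  mul_mem' := fun ha hb => ⟨mul_mem ha.1 hb.1, fun p hp => by
    rw [actC_mul, ha.2 p hp, hb.2 p hp]⟩
  inv_mem' := fun ha => ⟨inv_mem ha.1, fun p hp => actC_inv (ha.2 p hp)⟩

theorem pos_bound {x : Nat} (hx : x ∈ selC) : pos selC x < sysC.P.g := (pos_lt okSel_C hx).1

theorem map_pos_bound {e : List Nat} (he : ∀ x ∈ e, x ∈ selC) :
    ∀ x ∈ e.map (pos selC), x < sysC.P.g := by
  intro y hy
  obtain ⟨x, hx, rfl⟩ := List.mem_map.1 hy
  exact pos_bound (he x hx)

theorem map_twinv : ∀ {e : List Nat}, (∀ x ∈ e, x ∈ selC) →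
    (twinv e).map (pos selC) = sysC.P.winv (e.map (pos selC))
  | [], _ => by simp [twinv, Pres.winv]
  | x :: e, he => by
    have hp : ∀ x ∈ selC, pos selC (tiv x) = sysC.P.iv (pos selC x) := by decide +kernel
    simp [twinv, Pres.winv, map_twinv (fun y hy => he y (List.mem_cons_of_mem _ hy)),
      hp x (he x (List.mem_cons_self ..))]

theorem locW_mem (hN : ∀ k < N, ∀ i e, (D.item k).1 = .stab i e → ∀ x ∈ e, x ∈ selC) :
    ∀ {l : List (Nat × Bool)} {w : List Nat}, locW D N i l = some w →
      (∀ x ∈ w, x < sysC.P.g) ∧ sysC.P.ev w ∈ stabGrp D N i := by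
  have key : ∀ {l : List (Nat × Bool)} {w : List Nat}, D.etaW N i l = some w →
      (∀ x ∈ w, x ∈ selC) → sysC.P.ev (w.map (pos selC)) ∈ stabGrp D N i := by
    intro l
    induction l with
    | nil =>
      intro w h _
      simp only [Deriv.etaW, Option.some.injEq] at h
      subst h
      simp [Pres.ev]
    | cons a l hl =>
      obtain ⟨t, s⟩ := a
      intro w h hw
      simp only [Deriv.etaW] at h
      split at h
      · rename_i i' e hte
        split_ifs at h with hc
        obtain ⟨rest, hr, rfl⟩ := Option.map_eq_some_iff.1 h
        obtain ⟨ht, rfl⟩ := hc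
        rw [List.map_append, Pres.ev_append]
        refine mul_mem ?_ (hl hr fun x hx => hw x (List.mem_append_right _ hx))
        have he := hN t ht _ e hte
        cases s
        · have := map_twinv he
          simp only [cond_false, this]
          rw [sysC.P.ev_winv (map_pos_bound he)]
          exact inv_mem (Subgroup.subset_closure ⟨t, ht, e, hte, he, rfl⟩)
        · exact Subgroup.subset_closure ⟨t, ht, e, hte, he, rfl⟩
      · simp at h
  intro l w h
  simp only [locW] at h
  split at h
  · rename_i v hv
    cases hall : v.all (fun x => selC.contains x) with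
    | false => rw [hall] at h; simp at h
    | true =>
      simp only [hall, cond_true, Option.some.injEq] at h
      subst h
      have hv' : ∀ x ∈ v, x ∈ selC := by simpa using hall
      exact ⟨map_pos_bound hv', key hv hv'⟩
  · simp at h

theorem levs_bound (hN : ∀ k < N, ∀ i e, (D.item k).1 = .stab i e → ∀ x ∈ e, x ∈ selC)
    [Finite sysC.P.Grp] :
    ∀ (ls : List Lev) (bs : List Nat), okLevs D N i bs ls = true →
      levProd ls * Nat.card (fixer D N i (bs ++ ls.map (·.base))) ≤ Nat.card (fixer D N i bs) := by
  intro ls
  induction ls with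
  | nil => intro bs _; simp [levProd]
  | cons L ls ih =>
    intro bs h
    simp only [okLevs, okLev, Bool.and_eq_true, List.all_eq_true, decide_eq_true_eq] at h
    obtain ⟨⟨⟨hb, he⟩, hn⟩, hrest⟩ := h
    have hcons : bs ++ (L :: ls).map (·.base) = (bs ++ [L.base]) ++ ls.map (·.base) := by simp
    rw [levProd, hcons, mul_assoc]
    refine le_trans (Nat.mul_le_mul_left _ (ih _ hrest)) ?_
    let b : Fin sysC.A.deg := ⟨L.base, lt_of_blt hb⟩
    have hel : ∀ k : Fin L.elems.length, ∃ w, locW D N i (L.elems.get k) = some w ∧
        (∀ x ∈ w, x < sysC.P.g) ∧ sysC.P.ev w ∈ fixer D N i bs := by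
      intro k
      have := he _ (List.get_mem L.elems k)
      split at this
      · rename_i w hw
        simp only [List.all_eq_true] at this
        obtain ⟨h1, h2⟩ := locW_mem hN hw
        refine ⟨w, hw, h1, h2, fun p hp => Fin.ext ?_⟩
        rw [actC_ev h1]
        exact Nat.eq_of_beq_eq_true (this _ hp)
      · simp at this
    choose W hW hWlt hWmem using hel
    let f : Fin L.elems.length × fixer D N i (bs ++ [L.base]) → fixer D N i bs := fun t =>
      ⟨t.2.1 * sysC.P.ev (W t.1),
        mul_mem ⟨t.2.2.1, fun p hp => t.2.2.2 p (List.mem_append_left _ hp)⟩ (hWmem t.1)⟩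
    have hf : Function.Injective f := by
      rintro ⟨k, x⟩ ⟨k', x'⟩ e
      have e' : (x : sysC.P.Grp) * sysC.P.ev (W k) = x' * sysC.P.ev (W k') :=
        congrArg Subtype.val e
      have e2 := congrArg (fun q => (actC q b).1) e'
      simp only [actC_mul] at e2
      rw [x.2.2 b (List.mem_append_right _ (List.mem_singleton_self _)),
        x'.2.2 b (List.mem_append_right _ (List.mem_singleton_self _)), actC_ev (hWlt k), actC_ev (hWlt k')] at e2
      have hk : k = k' := by
        have a := hW k
        have a' := hW k'
        simp only [List.get_eq_getElem] at a a'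
        refine Fin.ext ((hn.getElem_inj_iff (hi := by simp) (hj := by simp)).1 ?_)
        simp only [List.getElem_map, a, a', Option.map_some]
        exact congrArg some e2
      subst hk
      exact Prod.ext rfl (Subtype.ext (mul_right_cancel e'))
    have := Nat.card_le_card_of_injective f hf
    simpa [Nat.card_prod] using this

theorem index_le (hN : ∀ k < N, ∀ i e, (D.item k).1 = .stab i e → ∀ x ∈ e, x ∈ selC)
    (ha : sysC.P.gen 0 ≠ 1) {c : Chain} (h : okChain D N i c = true) :
    (stabGrp D N i).index ≤ c.idx ∧ (stabGrp D N i).FiniteIndex := by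
  obtain ⟨hfin, hcard⟩ := Sys.card_le sysC_valid
  have hcard' : Nat.card sysC.P.Grp ≤ 92897280 := by
    refine hcard.trans (le_of_eq ?_)
    decide +kernel
  refine ⟨?_, Subgroup.finiteIndex_of_finite_quotient⟩
  simp only [okChain, Bool.and_eq_true] at h
  obtain ⟨hl, hc⟩ := h
  have h1 := levs_bound hN c.levs [] hl
  have h2 : Nat.card (fixer D N i []) ≤ Nat.card (stabGrp D N i) :=
    Nat.card_le_card_of_injective (fun q => (⟨q.1, q.2.1⟩ : stabGrp D N i))
      (fun a b e => Subtype.ext (congrArg Subtype.val e :))
  simp only [List.nil_append] at h1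
  have h0 : (stabGrp D N i).index * Nat.card (stabGrp D N i) = Nat.card sysC.P.Grp :=
    Subgroup.index_mul_card _
  obtain ⟨m, hm, hid⟩ : ∃ m, m ≤ Nat.card (stabGrp D N i) ∧ c.idx * m = 92897280 ∧ 0 < m := by
    split at hc
    · have := Nat.eq_of_beq_eq_true hc
      refine ⟨levProd c.levs, ?_, this, ?_⟩
      · refine le_trans ?_ (h1.trans h2)
        exact Nat.le_mul_of_pos_right _ Nat.card_pos
      · rcases Nat.eq_zero_or_pos (levProd c.levs) with h | h
        · rw [h] at this; simp at this
        · exact h
    · rename_i l _
      simp only [Bool.and_eq_true] at hc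
      obtain ⟨⟨hc1, hc3⟩, hc2⟩ := hc
      have := Nat.eq_of_beq_eq_true hc1
      split at hc2
      swap
      · simp at hc2
      rename_i w hw
      obtain ⟨hwlt, hwm⟩ := locW_mem hN hw
      have e := Sys.same_sound sysC_valid hc2
      have hag : sysC.P.ev [0] = sysC.P.gen 0 := by simp [Pres.ev]
      rw [e, hag] at hwm
      have hafix : sysC.P.gen 0 ∈ fixer D N i (c.levs.map (·.base)) := by
        refine ⟨hwm, fun p hp => Fin.ext ?_⟩
        obtain ⟨L, hL, hLp⟩ := List.mem_map.1 hp
        rw [← hag, actC_ev (fun x hx => by simp at hx; subst hx; exact pos_bound (x := 0) (by simp [selC]) |> id), ← hLp]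
        simp only [List.all_eq_true] at hc3
        exact Nat.eq_of_beq_eq_true (hc3 L hL)
      refine ⟨levProd c.levs * 2, le_trans ?_ (h1.trans h2), by rw [← this, mul_assoc], ?_⟩
      · refine Nat.mul_le_mul_left _ ?_
        refine le_trans (le_of_eq (Nat.card_fin 2).symm)
          (Nat.card_le_card_of_injective
            (fun k : Fin 2 => if k = 0 then (1 : fixer D N i (c.levs.map (·.base)))
              else ⟨_, hafix⟩) ?_)
        intro k k' ek
        fin_cases k <;> fin_cases k' <;>
          simp_all [Subtype.ext_iff, ha.symm]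
      · rcases Nat.eq_zero_or_pos (levProd c.levs) with h | h
        · rw [h] at this; simp at this
        · omega
  refine Nat.le_of_mul_le_mul_right ?_ hid.2
  calc (stabGrp D N i).index * m ≤ (stabGrp D N i).index * Nat.card (stabGrp D N i) :=
        Nat.mul_le_mul_left _ hm
    _ ≤ 92897280 := h0.le.trans hcard'
    _ = c.idx * m := hid.1.symm

end Count

end CfsgLib.Spor.Th
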