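import Cfsg.Agent.Lib.Spor.Th.Closure

/-!
Coverage of all cosets (generated data).
-/

namespace CfsgLib.Spor.Th

noncomputable def coverReps : List (List Nat) := [[],
  [3],
  [2, 3],
  [4, 3],
  [9, 3],
  [10, 3],
  [3, 2, 3],
  [4, 2, 3],
  [5, 4, 3],
  [6, 4, 3],
  [4, 9, 3],
  [4, 10, 3],
  [3, 9, 3],
  [5, 9, 3],
  [6, 9, 3],
  [3, 10, 3],
  [5, 10, 3],
  [6, 10, 3],
  [5, 4, 2, 3],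
  [6, 4, 2, 3],
  [4, 5, 4, 3],
  [5, 5, 4, 3],
  [7, 5, 4, 3],
  [4, 6, 4, 5, 9, 3, 6],
  [4, 6, 4, 5, 10, 3, 6],
  [7, 6, 4, 3],
  [4, 5, 4, 6, 9, 3, 5],
  [4, 5, 4, 6, 10, 3, 5],
  [3, 4, 9, 3],
  [5, 4, 9, 3],
  [6, 4, 9, 3],
  [3, 4, 10, 3],
  [5, 4, 10, 3],
  [6, 4, 10, 3],
  [4, 3, 9, 3],
  [3, 6, 9, 3],
  [3, 5, 9, 3],
  [9, 3, 9, 3],
  [4, 5, 9, 3],
  [5, 5, 9, 3],
  [7, 5, 9, 3],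
  [4, 6, 9, 3],
  [6, 6, 9, 3],
  [7, 6, 9, 3],
  [3, 6, 10, 3],
  [3, 5, 10, 3],
  [4, 5, 10, 3],
  [5, 5, 10, 3],
  [7, 5, 10, 3],
  [4, 6, 10, 3],
  [6, 6, 10, 3],
  [7, 6, 10, 3],
  [4, 5, 4, 2, 3],
  [5, 5, 4, 2, 3],
  [7, 5, 4, 2, 3],
  [7, 6, 4, 2, 3],
  [6, 4, 5, 9, 3, 6],
  [6, 4, 5, 10, 3, 6],
  [5, 5, 4, 6, 6, 9, 3, 6, 6],
  [5, 5, 4, 6, 6, 10, 3, 6, 6],
  [5, 4, 6, 8, 9, 3, 6],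
  [5, 4, 6, 8, 10, 3, 6],
  [3, 4, 6, 4, 5, 9, 3, 6],
  [4, 5, 4, 9, 3, 6],
  [3, 4, 6, 4, 5, 10, 3, 6],
  [4, 5, 4, 10, 3, 6],
  [4, 8, 5, 4, 6, 9, 3, 5],
  [4, 8, 5, 4, 6, 10, 3, 5],
  [3, 4, 5, 4, 6, 9, 3, 5],
  [6, 4, 5, 5, 9, 3, 5],
  [4, 6, 4, 9, 3, 5],
  [3, 4, 5, 4, 6, 10, 3, 5],
  [6, 4, 5, 5, 10, 3, 5],
  [4, 6, 4, 10, 3, 5],
  [3, 4, 3, 9, 3],
  [3, 6, 4, 9, 3],
  [3, 5, 4, 9, 3],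
  [5, 5, 4, 9, 3],
  [7, 5, 4, 9, 3],
  [6, 6, 4, 9, 3],
  [7, 6, 4, 9, 3],
  [3, 4, 3, 10, 3],
  [3, 6, 4, 10, 3],
  [3, 5, 4, 10, 3],
  [5, 5, 4, 10, 3],
  [7, 5, 4, 10, 3],
  [6, 6, 4, 10, 3],
  [7, 6, 4, 10, 3],
  [5, 4, 3, 9, 3],
  [6, 4, 3, 9, 3],
  [3, 6, 6, 9, 3],
  [3, 7, 6, 9, 3],
  [3, 5, 5, 9, 3],
  [3, 7, 5, 9, 3],
  [9, 3, 5, 9, 3],
  [5, 9, 3, 9, 3],
  [6, 9, 3, 9, 3],
  [3, 4, 5, 9, 3],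
  [5, 4, 5, 9, 3],
  [4, 7, 5, 9, 3],
  [4, 8, 5, 9, 3],
  [6, 4, 6, 9, 3],
  [4, 7, 6, 9, 3],
  [4, 8, 6, 9, 3],
  [3, 6, 6, 10, 3],
  [3, 7, 6, 10, 3],
  [3, 5, 5, 10, 3],
  [3, 7, 5, 10, 3],
  [9, 3, 5, 10, 3],
  [3, 4, 5, 10, 3],
  [5, 4, 5, 10, 3],
  [4, 7, 5, 10, 3],
  [4, 8, 5, 10, 3],
  [6, 4, 6, 10, 3],
  [4, 7, 6, 10, 3],
  [4, 8, 6, 10, 3],
  [3, 6, 4, 5, 9, 3, 6],
  [6, 6, 4, 5, 9, 3, 6],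
  [3, 6, 4, 5, 10, 3, 6],
  [6, 6, 4, 5, 10, 3, 6],
  [3, 5, 5, 4, 6, 6, 9, 3, 6, 6],
  [4, 5, 5, 4, 6, 9, 3, 6, 6],
  [5, 4, 6, 6, 9, 3, 6, 6],
  [3, 5, 5, 4, 6, 6, 10, 3, 6, 6],
  [4, 5, 5, 4, 6, 10, 3, 6, 6],
  [5, 4, 6, 6, 10, 3, 6, 6],
  [5, 5, 4, 6, 8, 9, 3, 6],
  [5, 5, 4, 6, 8, 10, 3, 6],
  [3, 4, 3, 6, 4, 5, 9, 3, 6],
  [3, 4, 5, 4, 9, 3, 6],
  [5, 4, 5, 4, 9, 3, 6],
  [4, 7, 5, 4, 9, 3, 6],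
  [4, 8, 5, 4, 9, 3, 6],
  [3, 4, 3, 6, 4, 5, 10, 3, 6],
  [3, 4, 5, 4, 10, 3, 6],
  [5, 4, 5, 4, 10, 3, 6],
  [4, 7, 5, 4, 10, 3, 6],
  [4, 8, 5, 4, 10, 3, 6],
  [3, 4, 8, 5, 4, 6, 9, 3, 5],
  [4, 6, 4, 8, 5, 9, 3, 5],
  [3, 4, 8, 5, 4, 6, 10, 3, 5],
  [4, 6, 4, 8, 5, 10, 3, 5],
  [3, 4, 3, 5, 4, 6, 9, 3, 5],
  [3, 4, 6, 4, 9, 3, 5],
  [3, 6, 4, 5, 5, 9, 3, 5],
  [9, 3, 9, 6, 4, 3],
  [5, 4, 7, 6, 4, 9, 3, 5],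
  [4, 5, 4, 5, 8, 9, 3, 5],
  [6, 4, 6, 4, 9, 3, 5],
  [4, 7, 6, 4, 9, 3, 5],
  [4, 8, 6, 4, 9, 3, 5],
  [3, 4, 3, 5, 4, 6, 10, 3, 5],
  [3, 4, 6, 4, 10, 3, 5],
  [3, 6, 4, 5, 5, 10, 3, 5],
  [9, 3, 10, 6, 4, 3],
  [5, 4, 7, 6, 4, 10, 3, 5],
  [4, 5, 4, 5, 8, 10, 3, 5],
  [6, 4, 6, 4, 10, 3, 5],
  [4, 7, 6, 4, 10, 3, 5],
  [4, 8, 6, 4, 10, 3, 5],
  [3, 6, 4, 3, 9, 3],
  [3, 5, 4, 3, 9, 3],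
  [4, 3, 6, 4, 9, 3],
  [3, 6, 6, 4, 9, 3],
  [3, 7, 6, 4, 9, 3],
  [9, 3, 6, 4, 9, 3],
  [4, 3, 5, 4, 9, 3],
  [3, 5, 5, 4, 9, 3],
  [3, 7, 5, 4, 9, 3],
  [3, 6, 4, 3, 10, 3],
  [3, 5, 4, 3, 10, 3],
  [4, 3, 6, 4, 10, 3],
  [3, 6, 6, 4, 10, 3],
  [4, 3, 5, 4, 10, 3],
  [3, 5, 5, 4, 10, 3],
  [3, 7, 5, 4, 10, 3],
  [5, 5, 4, 3, 9, 3],
  [7, 5, 4, 3, 9, 3],
  [6, 6, 4, 3, 9, 3],
  [9, 3, 5, 5, 9, 3],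
  [3, 9, 3, 5, 9, 3],
  [5, 9, 3, 5, 9, 3],
  [6, 9, 3, 5, 9, 3],
  [3, 5, 4, 5, 9, 3],
  [3, 4, 7, 5, 9, 3],
  [3, 4, 8, 5, 9, 3],
  [9, 3, 4, 5, 9, 3],
  [8, 5, 4, 5, 9, 3],
  [4, 6, 4, 7, 5, 9, 3, 5, 8],
  [4, 6, 4, 7, 5, 10, 3, 5, 8],
  [6, 4, 7, 5, 9, 3],
  [5, 4, 8, 5, 9, 3],
  [4, 6, 4, 6, 9, 3],
  [6, 6, 4, 6, 9, 3],
  [4, 5, 4, 7, 6, 10, 3, 6, 8],
  [5, 4, 7, 6, 9, 3],
  [3, 9, 3, 5, 10, 3],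
  [3, 5, 4, 5, 10, 3],
  [3, 4, 8, 5, 10, 3],
  [8, 5, 4, 5, 10, 3],
  [6, 4, 7, 5, 10, 3],
  [5, 4, 8, 5, 10, 3],
  [4, 6, 4, 6, 10, 3],
  [5, 4, 7, 6, 10, 3],
  [4, 3, 6, 4, 5, 9, 3, 6],
  [3, 6, 6, 4, 5, 9, 3, 6],
  [9, 3, 4, 9, 5, 4, 3],
  [4, 3, 6, 4, 5, 10, 3, 6],
  [3, 6, 6, 4, 5, 10, 3, 6],
  [9, 3, 4, 10, 5, 4, 3],
  [3, 4, 5, 5, 4, 6, 9, 3, 6, 6],
  [3, 4, 5, 5, 4, 6, 10, 3, 6, 6],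
  [3, 4, 3, 8, 5, 4, 6, 9, 3, 5],
  [3, 4, 6, 4, 8, 5, 9, 3, 5],
  [7, 9, 3, 9, 6, 4, 3],
  [3, 4, 3, 8, 5, 4, 6, 10, 3, 5],
  [3, 4, 6, 4, 8, 5, 10, 3, 5],
  [7, 9, 3, 10, 6, 4, 3],
  [3, 6, 4, 3, 5, 4, 6, 9, 3, 5],
  [4, 9, 3, 9, 6, 4, 3],
  [3, 4, 3, 6, 4, 9, 3, 5],
  [3, 4, 7, 6, 4, 9, 3, 5],
  [3, 4, 8, 6, 4, 9, 3, 5],
  [9, 3, 6, 9, 6, 4, 3],
  [4, 3, 6, 4, 5, 5, 9, 3, 5],
  [3, 4, 5, 4, 5, 8, 9, 3, 5],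
  [9, 3, 5, 9, 6, 4, 3],
  [3, 9, 3, 9, 6, 4, 3],
  [5, 9, 3, 9, 6, 4, 3],
  [6, 9, 3, 9, 6, 4, 3],
  [3, 6, 4, 3, 5, 4, 6, 10, 3, 5],
  [4, 9, 3, 10, 6, 4, 3],
  [3, 4, 3, 6, 4, 10, 3, 5],
  [3, 4, 7, 6, 4, 10, 3, 5],
  [3, 4, 8, 6, 4, 10, 3, 5],
  [9, 3, 6, 10, 6, 4, 3],
  [4, 3, 6, 4, 5, 5, 10, 3, 5],
  [3, 4, 5, 4, 5, 8, 10, 3, 5],
  [9, 3, 5, 10, 6, 4, 3],
  [3, 9, 3, 10, 6, 4, 3],
  [5, 9, 3, 10, 6, 4, 3],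
  [6, 9, 3, 10, 6, 4, 3],
  [3, 6, 6, 4, 3, 9, 3],
  [4, 3, 5, 4, 3, 9, 3],
  [3, 5, 5, 4, 3, 9, 3],
  [3, 7, 5, 4, 3, 9, 3],
  [5, 4, 3, 6, 4, 9, 3],
  [6, 4, 3, 6, 4, 9, 3],
  [4, 3, 7, 6, 4, 9, 3],
  [4, 9, 3, 6, 4, 9, 3],
  [5, 4, 3, 5, 4, 9, 3],
  [4, 3, 8, 5, 4, 9, 3],
  [3, 6, 6, 4, 3, 10, 3],
  [4, 3, 5, 4, 3, 10, 3],
  [3, 5, 5, 4, 3, 10, 3],
  [3, 7, 5, 4, 3, 10, 3],
  [5, 4, 3, 6, 4, 10, 3],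
  [6, 4, 3, 6, 4, 10, 3],
  [5, 4, 3, 5, 4, 10, 3],
  [4, 3, 8, 5, 4, 10, 3],
  [3, 4, 3, 6, 4, 8, 5, 9, 3, 5],
  [6, 7, 9, 3, 9, 6, 4, 3],
  [3, 4, 3, 6, 4, 8, 5, 10, 3, 5],
  [6, 7, 9, 3, 10, 6, 4, 3],
  [4, 3, 6, 4, 3, 5, 4, 6, 9, 3, 5],
  [4, 6, 4, 5, 9, 3, 6, 9, 6, 4, 3],
  [3, 6, 9, 3, 9, 6, 4, 3],
  [4, 6, 4, 5, 9, 3, 6, 10, 6, 4, 3],
  [4, 3, 8, 5, 4, 3, 9, 3],
  [5, 4, 9, 3, 6, 4, 9, 3]]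

noncomputable def coverStep0 : List (Nat × List Nat) := [(0, [0]), (1, [0]), (2, [0]), (3, [0]), (4, [0]), (5, [0]), (6, [0]), (7, [0]), (8, [0]), (9, [0]), (10, [0]), (11, [0]), (12, [0]), (13, [0]), (14, [0]), (15, [0]), (16, [0]), (17, [0]), (18, [0]), (19, [0]), (20, [0]), (21, [0]), (22, [0]), (23, [0]), (24, [0]), (25, [0]), (26, [0]), (27, [0]), (28, [0]), (29, [0]), (30, [0]), (31, [0]), (32, [0]), (33, [0]), (34, [0]), (35, [0]), (36, [0]), (37, [0]), (38, [0]), (39, [0]), (40, [0]), (41, [0]), (42, [0]), (43, [0]), (44, [0]), (45, [0]), (46, [0]), (47, [0]), (48, [0]), (49, [0]), (50, [0]), (51, [0]), (52, [0]), (53, [0]), (54, [0]), (55, [0]), (56, [0]), (57, [0]), (58, [0]), (59, [0]), (60, [0]), (61, [0]), (62, [0]), (63, [0]), (64, [0]), (65, [0]), (66, [0]),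 (67, [0]), (68, [0]), (69, [0]), (70, [0]), (71, [0]), (72, [0]), (73, [0]), (74, [0]), (75, [0]), (76, [0]), (77, [0]), (78, [0]), (79, [0]), (80, [0]), (81, [0]), (82, [0]), (83, [0]), (84, [0]), (85, [0]), (86, [0]), (87, [0]), (88, [0]), (89, [0]), (90, [0]), (91, [0]), (92, [0]), (93, [0]), (94, [0]), (95, [0]), (96, [0]), (97, [0]), (98, [0]), (99, [0]), (100, [0]), (101, [0]), (102, [0]), (103, [0]), (104, [0]), (105, [0]), (106, [0]), (107, [0]), (108, [0]), (109, [0]), (110, [0]), (111, [0]), (112, [0]), (113, [0]), (114, [0]), (115, [0]), (116, [0]), (117, [0]), (118, [0]), (119, [0]), (120, [0]), (121, [0]), (122, [0]), (123, [0]), (124, [0]), (125, [0]), (126, [0]), (127, [0]), (128, [0]), (129, [0]), (130, [0]), (131, [0]), (132, [0]), (133, [0]), (134, [0]),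 (135, [0]), (136, [0]), (137, [0]), (138, [0]), (139, [0]), (140, [0]), (141, [0]), (142, [0]), (143, [0]), (144, [0]), (145, [0]), (146, [0]), (147, [0]), (148, [0]), (149, [0]), (150, [0]), (151, [0]), (152, [0]), (153, [0]), (154, [0]), (155, [0]), (156, [0]), (157, [0]), (158, [0]), (159, [0]), (160, [0]), (161, [0]), (162, [0]), (163, [0]), (164, [0]), (165, [0]), (166, [0]), (167, [0]), (168, [0]), (169, [0]), (170, [0]), (171, [0]), (172, [0]), (173, [0]), (174, [0]), (175, [0]), (176, [0]), (177, [0]), (178, [0]), (179, [0]), (180, [0]), (181, [0]), (182, [0]), (183, [0]), (184, [0]), (185, [0]), (186, [0]), (187, [0]), (188, [0]), (189, [0]), (190, [0]), (191, [0]), (192, [0]), (193, [0]), (194, [0]), (195, [0]), (196, [0]), (197, [0]), (198, [0]), (199, [0]), (200,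 [0]), (201, [0]), (202, [0]), (203, [0]), (204, [0]), (205, [0]), (206, [0]), (207, [0]), (208, [0]), (209, [0]), (210, [0]), (211, [0]), (212, [0]), (213, [0]), (214, [0]), (215, [0]), (216, [0]), (217, [0]), (218, [0]), (219, [0]), (220, [0]), (221, [0]), (222, [0]), (223, [0]), (224, [0]), (225, [0]), (226, [0]), (227, [0]), (228, [0]), (229, [0]), (230, [0]), (231, [0]), (232, [0]), (233, [0]), (234, [0]), (235, [0]), (236, [0]), (237, [0]), (238, [0]), (239, [0]), (240, [0]), (241, [0]), (242, [0]), (243, [0]), (244, [0]), (245, [0]), (246, [0]), (247, [0]), (248, [0]), (249, [0]), (250, [0]), (251, [0]), (252, [0]), (253, [0]), (254, [0]), (255, [0]), (256, [0]), (257, [0]), (258, [0]), (259, [0]), (260, [0]), (261, [0]), (262, [0]), (263, [0]), (264, [0]), (265, [0]),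 (266, [0]), (267, [0]), (268, [0]), (269, [0])]

noncomputable def coverStep1 : List (Nat × List Nat) := [(0, [1]), (2, []), (1, []), (7, []), (5, [0]), (4, [0]), (6, [0, 1]), (3, []), (18, []), (19, []), (11, [0]), (10, [0]), (12, [2, 4, 2, 4, 4, 3, 4, 4, 2, 3, 4, 3, 4]), (16, [0]), (17, [0]), (15, [2, 4, 2, 3, 4, 3, 4, 4, 4, 2, 4, 3, 4]), (13, [0]), (14, [0]), (8, []), (9, []), (52, []), (53, []), (54, []), (24, [0]), (23, [0]), (55, []), (27, [0]), (26, [0]), (28, [4, 2, 3, 4, 2, 3, 4, 4, 2, 3, 4, 4, 4]), (32, [0]), (33, [0]), (31, [4, 2, 3, 4, 2, 3, 4, 4, 3, 2, 4, 4, 4]), (29, [0]), (30, [0]), (34, [2, 4, 2, 4, 4, 3, 4, 4, 2, 3, 4, 3, 4]), (35, [2, 4, 2, 4, 4, 3, 4, 4, 2, 3, 4, 3, 4]), (36, [2, 4, 2, 4, 4, 3, 4, 4, 2, 3, 4, 3, 4]), (37, [2, 4, 2, 4, 4, 3, 4, 4, 2, 3, 4,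 3, 4]), (46, [0]), (47, [0]), (48, [0]), (49, [0]), (50, [0]), (51, [0]), (44, [2, 4, 2, 3, 4, 3, 4, 4, 4, 2, 4, 3, 4]), (45, [2, 4, 2, 3, 4, 3, 4, 4, 4, 2, 4, 3, 4]), (38, [0]), (39, [0]), (40, [0]), (41, [0]), (42, [0]), (43, [0]), (20, []), (21, []), (22, []), (25, []), (57, [0]), (56, [0]), (59, [0]), (58, [0]), (61, [0]), (60, [0]), (64, [0, 1, 4, 4, 2, 4, 4, 3, 4, 2, 4, 4]), (65, [0]), (62, [1, 4, 4, 2, 4, 4, 3, 4, 2, 4, 4]), (63, [0]), (67, [0]), (66, [0]), (68, [2, 4, 2, 4, 3, 2, 4, 2, 4, 4, 4, 3, 4]), (72, [0]), (73, [0]), (71, [2, 4, 2, 4, 2, 3, 4, 2, 4, 4, 4, 3, 4]), (69, [0]), (70, [0]), (74, [4, 2, 3, 4, 2, 3, 4, 4, 2, 3, 4, 4, 4]), (75, [4, 2, 3, 4, 2, 3, 4, 4, 2, 3, 4, 4, 4]), (76, [4, 2, 3, 4, 2, 3, 4, 4, 2, 3, 4, 4, 4]), (84, [0]), (85, [0]), (86, [0]), (87,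 [0]), (81, [4, 2, 3, 4, 2, 3, 4, 4, 3, 2, 4, 4, 4]), (82, [4, 2, 3, 4, 2, 3, 4, 4, 3, 2, 4, 4, 4]), (83, [4, 2, 3, 4, 2, 3, 4, 4, 3, 2, 4, 4, 4]), (77, [0]), (78, [0]), (79, [0]), (80, [0]), (88, [2, 4, 2, 4, 4, 3, 4, 4, 2, 3, 4, 3, 4]), (89, [2, 4, 2, 4, 4, 3, 4, 4, 2, 3, 4, 3, 4]), (90, [2, 4, 2, 4, 4, 3, 4, 4, 2, 3, 4, 3, 4]), (91, [2, 4, 2, 4, 4, 3, 4, 4, 2, 3, 4, 3, 4]), (92, [2, 4, 2, 4, 4, 3, 4, 4, 2, 3, 4, 3, 4]), (93, [2, 4, 2, 4, 4, 3, 4, 4, 2, 3, 4, 3, 4]), (94, [2, 4, 2, 4, 4, 3, 4, 4, 2, 3, 4, 3, 4]), (95, [2, 4, 2, 4, 4, 3, 4, 4, 2, 3, 4, 3, 4]), (96, [2, 4, 2, 4, 4, 3, 4, 4, 2, 3, 4, 3, 4]), (97, [2, 4, 3, 2, 4, 2, 4, 3, 4, 4, 4, 4]), (110, [0]), (111, [0]), (112, [0]), (113, [0]), (114, [0]), (115, [0]), (104, [2, 4, 2, 3, 4, 3, 4, 4, 4, 2, 4, 3, 4]), (105,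 [2, 4, 2, 3, 4, 3, 4, 4, 4, 2, 4, 3, 4]), (106, [2, 4, 2, 3, 4, 3, 4, 4, 4, 2, 4, 3, 4]), (107, [2, 4, 2, 3, 4, 3, 4, 4, 4, 2, 4, 3, 4]), (108, [2, 4, 2, 3, 4, 3, 4, 4, 4, 2, 4, 3, 4]), (109, [2, 4, 2, 3, 4, 2, 4, 3, 4, 4, 4, 4]), (98, [0]), (99, [0]), (100, [0]), (101, [0]), (102, [0]), (103, [0]), (116, [4, 2, 4, 3, 2, 4, 2, 4, 3, 4, 4, 4]), (119, [0]), (118, [4, 2, 4, 2, 3, 4, 2, 4, 3, 4, 4, 4]), (117, [0]), (123, [1, 4, 4, 4, 2, 3, 4, 3, 2, 4, 4, 4]), (124, [0]), (125, [0]), (120, [1, 4, 4, 4, 2, 3, 4, 2, 3, 4, 4, 4]), (121, [0]), (122, [0]), (127, [0]), (126, [0]), (133, [0, 1, 4, 4, 2, 4, 4, 3, 4, 2, 4, 4]), (134, [0, 1, 4, 4, 2, 4, 4, 3, 4, 2, 4, 4]), (135, [0]), (136, [0]), (137, [0]), (128, [1, 4, 4, 2, 4, 4, 3, 4, 2, 4, 4]), (129, [1, 4, 4, 2, 4, 4, 3, 4, 2, 4, 4]),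 (130, [0]), (131, [0]), (132, [0]), (138, [2, 4, 2, 4, 3, 2, 4, 2, 4, 4, 4, 3, 4]), (141, [0]), (140, [2, 4, 2, 4, 2, 3, 4, 2, 4, 4, 4, 3, 4]), (139, [0]), (142, [2, 4, 2, 4, 3, 2, 4, 2, 4, 4, 4, 3, 4]), (143, [2, 4, 2, 4, 3, 2, 4, 2, 4, 4, 4, 3, 4]), (144, [2, 4, 2, 4, 3, 2, 4, 2, 4, 4, 4, 3, 4]), (145, [2, 4, 2, 4, 3, 2, 4, 2, 4, 4, 4, 3, 4]), (155, [0]), (156, [0]), (157, [0]), (158, [0]), (159, [0]), (151, [2, 4, 2, 4, 2, 3, 4, 2, 4, 4, 4, 3, 4]), (152, [2, 4, 2, 4, 2, 3, 4, 2, 4, 4, 4, 3, 4]), (153, [2, 4, 2, 4, 2, 3, 4, 2, 4, 4, 4, 3, 4]), (154, [2, 4, 2, 4, 2, 3, 4, 2, 4, 4, 4, 3, 4]), (146, [0]), (147, [0]), (148, [0]), (149, [0]), (150, [0]), (160, [4, 2, 3, 4, 2, 3, 4, 4, 2, 3, 4, 4, 4]), (161, [4, 2, 3, 4, 2, 3, 4, 4, 2, 3, 4, 4, 4]), (162, [4, 2, 3, 4, 2, 3, 4,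 4, 2, 3, 4, 4, 4]), (163, [4, 2, 3, 4, 2, 3, 4, 4, 2, 3, 4, 4, 4]), (164, [4, 2, 3, 4, 2, 3, 4, 4, 2, 3, 4, 4, 4]), (165, [4, 2, 3, 4, 2, 3, 4, 4, 2, 3, 4, 4, 4]), (166, [4, 2, 3, 4, 2, 3, 4, 4, 2, 3, 4, 4, 4]), (167, [4, 2, 3, 4, 2, 3, 4, 4, 2, 3, 4, 4, 4]), (168, [4, 2, 3, 4, 2, 3, 4, 4, 2, 3, 4, 4, 4]), (169, [4, 2, 3, 4, 2, 3, 4, 4, 3, 2, 4, 4, 4]), (170, [4, 2, 3, 4, 2, 3, 4, 4, 3, 2, 4, 4, 4]), (171, [4, 2, 3, 4, 2, 3, 4, 4, 3, 2, 4, 4, 4]), (172, [4, 2, 3, 4, 2, 3, 4, 4, 3, 2, 4, 4, 4]), (173, [4, 2, 3, 4, 2, 3, 4, 4, 3, 2, 4, 4, 4]), (174, [4, 2, 3, 4, 2, 3, 4, 4, 3, 2, 4, 4, 4]), (175, [4, 2, 3, 4, 2, 3, 4, 4, 3, 2, 4, 4, 4]), (176, [2, 4, 2, 4, 4, 3, 4, 4, 2, 3, 4, 3, 4]), (177, [2, 4, 2, 4, 4, 3, 4, 4, 2, 3, 4, 3, 4]), (178, [2, 4, 2, 4, 4, 3, 4, 4, 2, 3, 4, 3,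 4]), (179, [2, 4, 2, 4, 4, 3, 4, 4, 2, 3, 4, 3, 4]), (180, [1, 4, 3, 4, 2, 4, 3, 4, 4, 2, 4, 4]), (181, [2, 4, 2, 4, 4, 3, 4, 4, 2, 3, 4, 3, 4]), (182, [2, 4, 2, 4, 4, 3, 4, 4, 2, 3, 4, 3, 4]), (183, [2, 4, 3, 2, 4, 2, 4, 3, 4, 4, 4, 4]), (184, [2, 4, 3, 2, 4, 2, 4, 3, 4, 4, 4, 4]), (185, [2, 4, 3, 2, 4, 2, 4, 3, 4, 4, 4, 4]), (186, [2, 4, 3, 2, 4, 2, 4, 3, 4, 4, 4, 4]), (199, [0]), (189, [0]), (188, [0]), (200, [0]), (201, [0]), (202, [0]), (194, [0, 5, 4, 5]), (193, [0, 4, 5, 4]), (203, [0]), (196, [1, 4, 3, 4, 2, 4, 3, 4, 4, 2, 4, 4]), (197, [2, 4, 2, 3, 4, 2, 4, 3, 4, 4, 4, 4]), (198, [2, 4, 2, 3, 4, 2, 4, 3, 4, 4, 4, 4]), (187, [0]), (190, [0]), (191, [0]), (192, [0]), (195, [0]), (204, [4, 2, 4, 3, 2, 4, 2, 4, 3, 4, 4, 4]), (205, [4, 2, 4, 3, 2, 4, 2, 4, 3, 4, 4, 4]),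 (206, [4, 2, 4, 3, 2, 4, 2, 4, 3, 4, 4, 4]), (207, [4, 2, 4, 2, 3, 4, 2, 4, 3, 4, 4, 4]), (208, [4, 2, 4, 2, 3, 4, 2, 4, 3, 4, 4, 4]), (209, [4, 2, 4, 2, 3, 4, 2, 4, 3, 4, 4, 4]), (211, [1, 4, 4, 4, 2, 3, 4, 3, 2, 4, 4, 4]), (210, [1, 4, 4, 4, 2, 3, 4, 2, 3, 4, 4, 4]), (212, [2, 4, 2, 4, 3, 2, 4, 2, 4, 4, 4, 3, 4]), (213, [2, 4, 2, 4, 3, 2, 4, 2, 4, 4, 4, 3, 4]), (214, [2, 4, 2, 4, 3, 2, 4, 2, 4, 4, 4, 3, 4]), (215, [2, 4, 2, 4, 2, 3, 4, 2, 4, 4, 4, 3, 4]), (216, [2, 4, 2, 4, 2, 3, 4, 2, 4, 4, 4, 3, 4]), (217, [2, 4, 2, 4, 2, 3, 4, 2, 4, 4, 4, 3, 4]), (218, [2, 4, 2, 4, 3, 2, 4, 2, 4, 4, 4, 3, 4]), (219, [2, 4, 2, 4, 3, 2, 4, 2, 4, 4, 4, 3, 4]), (220, [2, 4, 2, 4, 3, 2, 4, 2, 4, 4, 4, 3, 4]), (221, [2, 4, 2, 4, 3, 2, 4, 2, 4, 4, 4, 3, 4]), (222, [2, 4, 2, 4, 3, 2, 4, 2, 4,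 4, 4, 3, 4]), (223, [2, 4, 2, 4, 3, 2, 4, 2, 4, 4, 4, 3, 4]), (224, [2, 4, 2, 4, 3, 2, 4, 2, 4, 4, 4, 3, 4]), (225, [2, 4, 2, 4, 3, 2, 4, 2, 4, 4, 4, 3, 4]), (226, [2, 4, 2, 4, 3, 2, 4, 2, 4, 4, 4, 3, 4]), (227, [1, 4, 4, 4, 3, 4, 2, 4, 3, 4, 4, 2]), (228, [2, 4, 2, 4, 3, 2, 4, 2, 4, 4, 4, 3, 4]), (229, [2, 4, 2, 4, 3, 2, 4, 2, 4, 4, 4, 3, 4]), (230, [2, 4, 2, 4, 2, 3, 4, 2, 4, 4, 4, 3, 4]), (231, [2, 4, 2, 4, 2, 3, 4, 2, 4, 4, 4, 3, 4]), (232, [2, 4, 2, 4, 2, 3, 4, 2, 4, 4, 4, 3, 4]), (233, [2, 4, 2, 4, 2, 3, 4, 2, 4, 4, 4, 3, 4]), (234, [2, 4, 2, 4, 2, 3, 4, 2, 4, 4, 4, 3, 4]), (235, [2, 4, 2, 4, 2, 3, 4, 2, 4, 4, 4, 3, 4]), (236, [2, 4, 2, 4, 2, 3, 4, 2, 4, 4, 4, 3, 4]), (237, [2, 4, 2, 4, 2, 3, 4, 2, 4, 4, 4, 3, 4]), (238, [2, 4, 2, 4, 2, 3, 4, 2, 4, 4, 4, 3, 4]), (239,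 [1, 4, 4, 4, 3, 4, 2, 4, 3, 4, 4, 2]), (240, [2, 4, 2, 4, 2, 3, 4, 2, 4, 4, 4, 3, 4]), (241, [2, 4, 2, 4, 2, 3, 4, 2, 4, 4, 4, 3, 4]), (242, [4, 2, 3, 4, 2, 3, 4, 4, 2, 3, 4, 4, 4]), (243, [4, 2, 3, 4, 2, 3, 4, 4, 2, 3, 4, 4, 4]), (244, [4, 2, 3, 4, 2, 3, 4, 4, 2, 3, 4, 4, 4]), (245, [4, 2, 3, 4, 2, 3, 4, 4, 2, 3, 4, 4, 4]), (246, [4, 2, 3, 4, 2, 3, 4, 4, 2, 3, 4, 4, 4]), (247, [4, 2, 3, 4, 2, 3, 4, 4, 2, 3, 4, 4, 4]), (248, [4, 2, 3, 4, 2, 3, 4, 4, 2, 3, 4, 4, 4]), (249, [4, 2, 3, 4, 2, 3, 4, 4, 2, 3, 4, 4, 4]), (250, [4, 2, 3, 4, 2, 3, 4, 4, 2, 3, 4, 4, 4]), (251, [4, 2, 3, 4, 2, 3, 4, 4, 2, 3, 4, 4, 4]), (252, [4, 2, 3, 4, 2, 3, 4, 4, 3, 2, 4, 4, 4]), (253, [4, 2, 3, 4, 2, 3, 4, 4, 3, 2, 4, 4, 4]), (254, [4, 2, 3, 4, 2, 3, 4, 4, 3, 2, 4, 4, 4]), (255, [4, 2, 3, 4, 2, 3,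 4, 4, 3, 2, 4, 4, 4]), (256, [4, 2, 3, 4, 2, 3, 4, 4, 3, 2, 4, 4, 4]), (257, [4, 2, 3, 4, 2, 3, 4, 4, 3, 2, 4, 4, 4]), (258, [4, 2, 3, 4, 2, 3, 4, 4, 3, 2, 4, 4, 4]), (259, [4, 2, 3, 4, 2, 3, 4, 4, 3, 2, 4, 4, 4]), (260, [2, 4, 2, 4, 3, 2, 4, 2, 4, 4, 4, 3, 4]), (261, [2, 4, 2, 4, 3, 2, 4, 2, 4, 4, 4, 3, 4]), (262, [2, 4, 2, 4, 2, 3, 4, 2, 4, 4, 4, 3, 4]), (263, [2, 4, 2, 4, 2, 3, 4, 2, 4, 4, 4, 3, 4]), (264, [2, 4, 2, 4, 3, 2, 4, 2, 4, 4, 4, 3, 4]), (265, [2, 4, 2, 4, 3, 2, 4, 2, 4, 4, 4, 3, 4]), (266, [1, 4, 4, 4, 3, 4, 2, 4, 3, 4, 4, 2]), (267, [2, 4, 2, 4, 2, 3, 4, 2, 4, 4, 4, 3, 4]), (268, [4, 2, 3, 4, 2, 3, 4, 4, 2, 3, 4, 4, 4]), (269, [4, 2, 3, 4, 2, 3, 4, 4, 2, 3, 4, 4, 4])]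

noncomputable def coverStep2 : List (Nat × List Nat) := [(1, []), (0, []), (6, []), (3, [2]), (12, []), (15, []), (2, []), (7, [3]), (9, [2]), (8, [2]), (28, []), (31, []), (4, []), (36, []), (35, []), (5, []), (45, []), (44, []), (19, [3]), (18, [3]), (21, [2, 4, 4, 4, 4]), (20, [4, 4, 4, 2]), (25, [2]), (62, []), (64, []), (22, [2]), (68, []), (71, []), (10, []), (76, []), (75, []), (11, []), (83, []), (82, []), (74, []), (14, []), (13, []), (81, [6, 4, 2, 3, 4, 3, 4, 4, 4, 2, 4, 3, 4]), (97, []), (92, []), (93, []), (41, [4, 3, 5, 4, 2, 4, 4, 3, 6, 4, 3]), (90, []), (91, []), (17, []), (16, []), (109, []), (106, []), (107, []), (49, [4, 3, 6, 5, 4, 6, 3, 5, 4, 3, 4, 4]), (104, []), (105, []), (53, [3, 4, 4, 4, 4]), (52, [4, 4, 4, 3]), (55, [3]), (54, [3]), (116, []), (118,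 []), (120, []), (123, []), (101, [0, 4, 4, 2, 4, 3, 4, 2, 4, 3, 4, 6, 4]), (113, [4, 3, 6, 4, 6, 4, 4, 6, 3, 4, 4]), (23, []), (129, []), (24, []), (134, []), (138, []), (140, []), (26, []), (144, []), (143, []), (27, []), (153, []), (152, []), (34, []), (30, []), (29, []), (167, []), (168, []), (163, []), (164, []), (37, [2, 4, 6, 4, 3, 4, 3, 6, 4, 3, 6, 4, 4]), (33, []), (32, []), (174, []), (175, []), (172, []), (165, [3, 4, 6, 5, 4, 2, 3, 4, 4, 2, 6]), (161, []), (160, []), (42, []), (43, []), (39, []), (40, []), (180, []), (170, [6, 4, 2, 3, 4, 3, 4, 4, 4, 2, 4, 3, 4]), (169, [6, 4, 2, 3, 4, 3, 4, 4, 4, 2, 4, 3, 4]), (38, []), (183, []), (184, []), (185, []), (60, [4, 4, 4, 3, 4, 2, 4, 4, 3, 6, 4, 3]), (102, [4, 3, 5, 4, 2, 4, 4, 3, 6, 4, 3]), (103, [4, 3, 5, 4, 2, 4,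 4, 3, 6, 4, 3]), (50, []), (51, []), (47, []), (48, []), (196, []), (46, []), (197, []), (186, [1, 5, 4, 5, 6, 4, 2, 3, 4, 4]), (198, []), (61, [3, 4, 3, 4, 3, 6, 4, 3, 4, 5, 6, 4, 6]), (114, [4, 3, 6, 5, 4, 6, 3, 5, 4, 3, 4, 4]), (115, [4, 3, 6, 5, 4, 6, 3, 5, 4, 3, 4, 4]), (56, []), (205, []), (57, []), (208, []), (58, []), (210, []), (131, [5, 5, 4, 3, 4, 2, 4, 6, 5, 4, 3, 4]), (59, []), (211, []), (136, [3, 4, 4, 3, 5, 4, 6, 3, 4, 3, 4]), (193, [0, 4, 4, 2, 4, 3, 4, 2, 4, 3, 4, 6, 4]), (194, [3, 5, 4, 3, 5, 6, 4, 6, 3, 4, 4]), (204, []), (63, []), (195, [0, 4, 4, 2, 4, 3, 4, 2, 4, 3, 4, 6, 4]), (122, [5, 4, 3, 4, 2, 4, 6, 5, 4, 3, 4, 5, 5]), (188, [0, 2, 5, 5, 4, 3, 4, 2, 4, 3, 4, 6, 4]), (207, []), (65, []), (203, [4, 3, 6, 4, 6, 4, 4, 6, 3, 4, 4]), (125, [4, 3, 4, 3,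 5, 6, 4, 6, 3, 4, 4]), (189, [3, 4, 3, 6, 4, 4, 4, 3, 4, 5]), (66, []), (213, []), (67, []), (216, []), (192, [3, 4, 4, 5, 4, 3, 6, 4, 2, 4, 2, 3]), (70, []), (69, []), (227, []), (218, [2, 4, 4, 3, 6, 4, 2, 4, 3, 6, 4, 4]), (225, []), (166, [4, 2, 3, 4, 6, 4, 3, 4, 6, 3, 2]), (221, []), (222, []), (202, [4, 3, 4, 5, 4, 6, 3, 4, 4, 3]), (73, []), (72, []), (239, []), (230, [3, 6, 4, 5, 6, 4, 6, 3]), (237, []), (173, [1, 6, 4, 3, 4, 4, 6, 4, 3, 4, 5, 4, 6]), (233, []), (234, []), (89, []), (88, []), (220, [5, 4, 5, 4, 5]), (79, []), (80, []), (87, [3, 5, 4, 3, 2, 4, 4, 6, 4, 3, 5]), (148, [4, 3, 4, 2, 4, 4, 3, 6, 4, 3, 5]), (77, []), (78, []), (96, [2, 4, 6, 4, 3, 4, 3, 6, 4, 3, 6, 4, 4]), (95, [2, 4, 6, 4, 3, 4, 3, 6, 4, 3, 6, 4, 4]), (232, [5, 4, 5, 4, 5]), (86, []), (157,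 [4, 3, 4, 4, 4, 6, 5, 4, 3, 4, 3]), (84, []), (85, []), (244, []), (245, []), (242, []), (252, [2, 4, 4, 6, 4, 3, 2, 5, 4]), (94, []), (255, [2, 5, 4, 6, 4, 4, 3, 2, 4, 5]), (254, [2, 4, 6, 4, 4, 3, 2, 4, 5]), (98, []), (99, []), (100, []), (111, [0, 3, 4, 3, 6, 4, 2, 4, 6]), (250, [4, 3, 5, 4, 6, 4, 4, 4, 2, 3, 4, 3]), (132, [4, 4, 4, 6, 4, 3, 4, 6, 4, 4, 3, 2, 4]), (137, [5, 4, 3, 4, 3, 5, 6, 4, 6, 3]), (251, [4, 3, 5, 4, 6, 4, 4, 4, 2, 3, 4, 3]), (212, [3, 5, 4, 2, 4, 4, 3, 6, 4, 3]), (142, [3, 5, 4, 2, 4, 4, 3, 6, 4, 3]), (126, [4, 4, 4, 3, 4, 2, 4, 4, 3, 6, 4, 3]), (127, [3, 4, 3, 4, 6, 4, 5, 4, 6, 3, 5, 4]), (130, [4, 4, 4, 3, 4, 2, 4, 4, 3, 6, 4, 3]), (108, []), (110, []), (112, []), (258, [3, 6, 4, 6, 4, 3, 4, 5, 6, 3, 4, 3]), (259, [3, 6, 4, 6, 4, 3, 4, 5, 6, 3, 4,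 3]), (215, [3, 6, 5, 4, 6, 3, 5, 4, 3, 4, 4]), (151, [3, 6, 5, 4, 6, 3, 5, 4, 3, 4, 4]), (135, [3, 4, 3, 4, 3, 6, 4, 3, 4, 5, 6, 4, 6]), (128, []), (117, []), (219, [3]), (133, []), (119, []), (231, [2]), (121, []), (124, []), (191, [3, 4, 4, 5, 4, 3, 6, 4, 2, 4, 2, 3]), (139, []), (256, [3, 4, 2, 4, 6, 3, 4, 3, 4, 4, 5]), (201, [4, 3, 4, 5, 4, 6, 3, 4, 4, 3]), (141, []), (246, [2, 3, 4, 4, 6, 3, 4, 2, 4, 4, 3, 5]), (146, [4, 3, 4, 6, 5, 4, 2, 4, 2, 3]), (206, [3]), (162, [4]), (149, []), (150, []), (247, [0, 4, 4, 3, 6, 4, 3, 4, 6, 5, 4, 3, 6]), (260, [4, 5, 5]), (147, []), (240, [0, 6, 4, 4, 3, 4, 2, 6, 4]), (145, []), (238, [0, 4, 5, 6, 4, 3, 4, 6, 3, 4, 6]), (266, []), (155, [0, 1, 3, 4, 4, 6, 4, 3, 5]), (209, [2]), (171, [4]), (158, []), (159, []), (257, [1, 4, 2, 3,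 4, 2, 4, 3, 4, 3, 2, 4, 5]), (262, [4, 5, 5]), (156, []), (228, [0, 4, 3, 6, 4, 3, 4, 4, 5, 6, 4, 6]), (154, []), (226, [0, 5, 4, 3, 5, 4, 2, 6, 4, 6, 5]), (264, [3, 4, 4, 3, 6, 4, 6, 3, 4, 2, 4]), (178, []), (243, [4, 3, 5, 4, 2, 4, 4, 3, 6, 4, 3]), (176, []), (177, []), (217, [3, 2, 4, 2, 4, 6, 3, 4, 6, 5]), (223, [0, 3, 4, 6, 4, 3, 4, 3, 6, 5, 4, 6, 5]), (265, [1, 3, 2, 4, 3, 4, 6, 4, 5, 5]), (267, [0, 5, 4, 6, 5, 4, 3, 4, 5, 6]), (187, [2, 6, 4, 2, 3, 4, 6, 5, 4, 3, 4, 4, 3]), (190, [2, 6, 4, 2, 3, 4, 6, 5, 4, 3, 4, 4, 3]), (179, [0, 4, 2, 6, 4, 3, 4, 6, 3, 4, 4]), (253, [4, 3, 6, 5, 4, 6, 3, 5, 4, 3, 4, 4]), (182, [0, 2, 4, 6, 4, 3, 4, 2, 4, 5]), (181, [0, 2, 4, 6, 4, 3, 4, 2, 4]), (214, [4, 2, 3, 6, 4, 4, 3, 2, 5, 4, 3]), (235, [1, 2, 4, 2, 3, 4, 2, 4, 3, 4, 3, 5, 5]),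 (199, [4, 3, 4, 4, 3, 5, 6, 4, 3, 4, 3]), (200, [4, 3, 4, 4, 3, 5, 6, 4, 3, 4, 3]), (224, [4, 4, 4, 5]), (261, [5, 4, 3, 2, 5, 6, 4, 2, 4, 6, 3, 4]), (236, [4, 4, 4, 5]), (263, [4, 3, 4, 4, 5, 6, 4, 3, 4, 4, 4]), (241, [5, 6, 4, 2, 3, 4, 2, 3, 4, 4, 5, 6, 3]), (248, [5, 6, 4, 2, 4, 2, 6, 3, 4, 6]), (229, []), (249, [0, 6, 3, 4, 3, 4, 4, 6, 4, 5, 4]), (268, [4, 3, 5, 4, 2, 4, 4, 3, 6, 4, 3]), (269, [0, 5, 4, 2, 4, 3, 4, 6, 4, 3, 4])]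

noncomputable def coverStep3 : List (Nat × List Nat) := [(0, [2]), (3, []), (7, []), (1, []), (10, []), (11, []), (6, [3]), (2, []), (20, []), (22, [4, 5, 5, 4]), (4, []), (5, []), (34, []), (38, []), (41, []), (37, [2, 4, 6, 4, 3, 4, 3, 6, 4, 3, 6, 4, 4]), (46, []), (49, []), (52, []), (54, [4, 5, 5, 4]), (8, []), (25, [5, 5, 4]), (9, [4, 4, 5]), (56, []), (57, []), (21, [4, 4, 5, 4]), (60, [4, 5, 5, 4]), (61, [4, 5, 5, 4]), (74, []), (63, [4]), (70, [5, 4, 5, 4, 5]), (81, []), (65, [4]), (73, [5, 4, 5, 4, 5]), (12, []), (35, [4, 3, 5, 4, 2, 4, 4, 3, 6, 4, 3]), (89, [4, 4, 3, 4, 6, 4, 4, 4, 2, 3, 4, 3]), (15, [6, 4, 2, 3, 4, 3, 4, 4, 4, 2, 4, 3, 4]), (13, []), (100, [5, 5]), (99, []), (14, []), (103, [5, 5]), (102, []), (44, [4, 3, 6, 5, 4, 6, 3, 5, 4, 3, 4, 4]), (96, [3,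 2, 4, 4, 6, 3, 4, 5, 5, 4, 3, 4]), (16, []), (112, [5, 5]), (111, []), (17, []), (115, [5, 5]), (114, []), (18, []), (55, [5, 5, 4]), (19, [4, 4, 5]), (53, [4, 4, 5, 4]), (23, []), (24, []), (66, [5, 5, 4]), (67, [5, 5, 4]), (26, [4, 4, 5]), (27, [4, 4, 5]), (128, []), (29, [5, 4, 5, 4, 5]), (133, []), (32, [5, 4, 5, 4, 5]), (58, [4, 4, 5, 4]), (59, [4, 4, 5, 4]), (142, []), (139, [4, 5, 5]), (30, [4]), (151, []), (141, [4, 5, 5]), (33, [4]), (28, []), (162, []), (166, []), (132, [4, 5, 5]), (131, [4]), (150, [5, 4, 5, 4]), (149, [5, 4, 5, 4, 5]), (31, []), (171, []), (173, []), (137, [4, 5, 5]), (136, [4]), (159, [5, 4, 5, 4]), (158, [5, 4, 5, 4, 5]), (88, [4, 3, 5, 4, 2, 4, 4, 3, 6, 4, 3]), (36, [4, 4, 3, 4, 6, 4, 4, 4, 2, 3, 4, 3]), (90, [4, 4, 3, 4, 6, 4, 4, 4, 2, 3, 4,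 3]), (91, [4, 3, 5, 4, 2, 4, 4, 3, 6, 4, 3]), (178, [4, 4, 3, 4, 2, 4, 4, 3, 6, 4, 3, 5]), (108, [5, 6, 4, 2, 4, 3, 4, 4, 4, 6, 4, 3]), (107, [3, 6, 4, 4, 2, 3, 4, 6, 3, 5, 4]), (95, [4, 4, 3, 4, 6, 4, 4, 4, 2, 3, 4, 3]), (45, [4, 4, 3, 4, 6, 5, 4, 2, 3, 6, 5]), (160, [4, 4, 3, 4, 6, 4, 4, 4, 2, 3, 4, 3]), (147, [5, 4, 5, 4]), (40, []), (39, [5]), (192, []), (43, []), (42, [5]), (104, [4, 3, 5, 4, 6, 4, 4, 3, 6, 4, 3]), (105, [4, 3, 6, 5, 4, 6, 3, 5, 4, 3, 4, 4]), (179, [4, 2, 3, 4, 4, 3, 6, 5, 4, 6, 3]), (94, [4, 3, 4, 2, 3, 5, 4, 3, 6, 4, 6, 5]), (93, [0, 6, 4, 3, 4, 2, 4, 6, 3, 5, 4, 3]), (169, [4, 3, 5, 4, 6, 4, 4, 3, 6, 4, 3]), (156, [5, 4, 5, 4]), (48, []), (47, [5]), (202, []), (51, []), (50, [5]), (204, []), (122, [4]), (207, []), (125, [4]), (191, [4, 2, 6, 3, 5,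 4, 6, 4, 4, 3, 2, 4, 3]), (126, [5, 4, 5]), (117, [5, 4, 5, 4, 5]), (201, [4, 3, 4, 5, 4, 5, 6, 3, 4, 3, 4]), (127, [5, 4, 5]), (119, [5, 4, 5, 4, 5]), (121, [4, 5, 4]), (124, [4, 5, 4]), (62, []), (148, [3, 2, 4, 2, 4, 4, 3, 4, 2, 6, 5, 4, 3]), (210, [5, 4, 3, 4, 2, 4, 6, 5, 4, 3, 4, 4]), (78, [5, 4, 5, 4, 5]), (77, [4, 4, 4, 5]), (64, []), (157, [4, 3, 4, 4, 4, 6, 4, 4, 4, 3, 4, 5]), (211, [0, 1, 4, 4, 4, 3, 4, 4, 6, 4, 3, 4, 4]), (85, [5, 4, 5, 4, 5]), (84, [4, 4, 4, 5]), (212, []), (69, [4, 4, 4, 5]), (215, []), (72, [4, 4, 4, 5]), (68, []), (220, []), (224, []), (219, []), (187, [5, 4]), (98, [5, 4]), (129, [3, 4, 4, 2, 3, 4, 6, 4, 4, 3, 2, 6]), (80, [4]), (79, [5, 4]), (71, []), (232, []), (236, []), (231, []), (199, [5, 4]), (110, [5, 4]), (134, [0, 6, 4, 3, 4, 6, 5,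 4, 3, 4, 3, 5, 6]), (87, [4]), (86, [5, 4]), (97, [4, 4, 3, 4, 6, 4, 4, 4, 2, 3, 4, 3]), (243, []), (75, []), (240, [0, 6, 5, 4, 3, 4, 2, 4, 3, 4, 5, 4, 6]), (248, []), (249, []), (76, []), (251, [5, 5]), (205, [1, 3, 4, 4, 6, 4, 2, 3, 4, 2, 4, 6]), (109, [4, 3, 5, 4, 6, 4, 4, 3, 6, 4, 3]), (253, []), (82, []), (228, [0, 6, 4, 2, 4, 3, 4, 4, 6, 5]), (83, []), (259, [5, 5]), (208, [3, 4, 3, 5, 6, 4, 6, 3, 4, 4, 4]), (176, [4, 4, 3, 4, 6, 4, 4, 4, 2, 3, 4, 3]), (177, [4, 3, 5, 4, 2, 4, 4, 3, 6, 4, 3]), (92, [4, 4, 3, 4, 2, 4, 4, 3, 6, 4, 3, 5]), (106, [2, 3, 4, 3, 6, 4, 3, 2, 4, 4, 5]), (186, [3, 5, 4, 2, 4, 4, 3, 6, 4, 3, 4]), (181, [4, 3, 5, 4, 2, 4, 4, 3, 6, 4, 3]), (182, [4, 4, 3, 4, 6, 4, 4, 4, 2, 3, 4, 3]), (247, [4, 4, 3, 4, 6, 4, 4, 4, 2, 3, 4, 3]), (196, [5, 6, 4, 2,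 4, 3, 4, 4, 4, 6, 4, 3]), (242, [4, 3, 5, 4, 6, 4, 4, 4, 2, 3, 4, 3]), (180, [3, 5, 4, 2, 4, 4, 3, 6, 4, 3, 4]), (146, [5, 4, 5, 4]), (190, [4, 5, 5]), (200, [4, 5, 5]), (188, [4, 4, 4, 5]), (120, [3, 5, 4, 3, 4, 2, 4, 3, 5, 6, 4, 3]), (101, []), (195, [5]), (203, [5, 4, 5, 4]), (193, [5, 5]), (184, [0, 6, 4, 3, 4, 2, 4, 6, 3, 5, 4, 3]), (257, [4, 3, 5, 4, 6, 4, 4, 3, 6, 4, 3]), (252, [3, 6, 4, 6, 4, 3, 4, 5, 6, 3, 4, 3]), (155, [5, 4, 5, 4]), (189, [4, 4, 4, 5]), (123, [0, 3, 6, 4, 3, 4, 6, 3, 4, 3, 4, 4, 6]), (113, []), (194, [5, 4]), (116, []), (168, [4, 3, 4, 5, 4, 5, 6, 4, 3, 4, 2, 6]), (256, [3, 4, 2, 4, 4, 6, 4, 6, 3, 4, 4, 3]), (118, []), (175, [0, 1, 5, 4, 3, 4, 4, 6, 4, 3, 4, 4]), (246, [3, 4, 4, 4, 6, 4, 6, 3, 4, 2, 4, 3, 2]), (130, [2, 3, 5, 6, 4, 3, 6, 5, 4, 6,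 3, 4]), (135, [0, 1, 4, 4, 3, 4, 4, 6, 4, 3, 4]), (138, []), (260, []), (227, [4, 4, 3, 5]), (140, []), (262, []), (239, [4, 4, 2, 5]), (264, []), (145, []), (143, []), (265, [1, 3, 2, 4, 3, 4, 6, 4, 5, 5, 4]), (226, [3, 4, 5, 4, 6, 4, 3, 4, 4, 2, 4]), (225, [1, 6, 4, 2, 6, 4, 3, 4, 5, 6, 4, 3]), (144, []), (223, [5, 6, 3, 4, 6, 4, 4, 2, 3, 4, 2]), (222, [2, 4, 2, 3, 6, 4, 4, 2, 3, 4, 3, 6]), (214, [3, 4, 5, 5, 4]), (172, [3, 4, 4, 2, 4, 4, 6, 4, 3, 4]), (258, [3, 4, 4, 2, 4, 4, 6, 4, 3, 4]), (266, [3, 4, 3, 6, 4, 3, 6, 4, 4, 2, 6]), (154, []), (152, []), (267, [0, 6, 4, 2, 4, 4, 3, 6, 4, 4, 4]), (238, [0, 4, 6, 4, 2, 4, 6, 4, 3, 4, 6]), (237, [2, 4, 4, 3, 4, 4, 4, 6, 4, 6, 5, 6]), (153, []), (235, [5, 6, 4, 6, 3, 4, 3, 4, 4, 2]), (234, [0, 4, 6, 4, 3, 4, 2, 4, 6]), (217,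 [2, 4, 5, 5, 4]), (163, [1, 4, 4, 2, 3, 4, 3, 4, 6, 4, 3, 4]), (250, [1, 4, 4, 2, 3, 4, 3, 4, 6, 4, 3, 4]), (185, [2, 6, 4, 2, 3, 4, 6, 5, 4, 3, 4, 4, 3]), (161, []), (268, [5, 5]), (263, [0, 6, 5, 4, 3, 4, 2, 4, 3, 4, 5, 4, 6]), (209, [4, 6, 4, 4, 3, 4, 2, 4, 3, 6, 4, 5]), (183, [4, 4, 3, 4, 6, 4, 4, 4, 2, 3, 4, 3]), (164, []), (165, []), (241, [0, 6, 5, 4, 3, 4, 2, 4, 3, 4, 5, 4, 6]), (167, [5]), (198, [4, 3, 4, 4, 3, 5, 6, 4, 3, 4, 3]), (170, []), (269, [3, 4, 2, 4, 3, 6, 4, 4, 2, 6, 4]), (261, [0, 6, 4, 2, 4, 3, 4, 4, 6, 5]), (206, [0, 4, 2, 4, 4, 2, 6, 4, 3, 4, 5, 6]), (197, [4, 3, 5, 4, 6, 4, 4, 3, 6, 4, 3]), (229, [0, 6, 4, 2, 4, 3, 4, 4, 6, 5]), (174, [5]), (213, []), (255, [3, 4, 4, 2, 4, 4, 6, 4, 3, 4]), (216, []), (245, [1, 4, 4, 2, 3, 4, 3, 4, 6, 4, 3, 4]), (218,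 []), (221, [4, 4, 4, 6, 4, 5, 6, 3, 4, 4, 2]), (230, [2, 4, 4, 6, 5, 4, 3, 4, 6, 3, 4, 3, 5]), (233, [0, 5, 4, 6, 3, 4, 2, 4, 2, 5, 6]), (244, [5]), (254, [3, 4, 3, 2, 4, 4, 6, 4, 3, 5])]

noncomputable def coverStep4 : List (Nat × List Nat) := [(0, [4]), (1, [5, 4, 5, 4, 5]), (2, [5, 4, 5, 4, 5]), (8, []), (13, []), (16, []), (6, [4]), (18, []), (21, []), (3, []), (29, []), (32, []), (35, []), (39, []), (4, []), (44, []), (47, []), (5, []), (53, []), (7, []), (9, [4, 4, 4, 4]), (25, [5, 5]), (20, [4, 4, 4, 5]), (63, []), (65, []), (22, []), (69, []), (72, []), (75, []), (77, []), (10, []), (82, []), (84, []), (11, []), (88, []), (90, []), (12, []), (95, []), (98, []), (43, [5]), (42, [5, 5]), (60, [4, 5, 5]), (14, []), (40, []), (104, []), (15, []), (110, []), (51, [5]),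 (50, [5, 5]), (61, [4, 5, 5]), (17, []), (48, []), (19, [4, 4, 4, 4]), (55, [5, 5]), (52, [4, 4, 4, 5]), (54, []), (38, [5, 4, 5, 4, 5]), (46, [5, 4, 5, 4, 5]), (121, []), (124, []), (126, []), (127, []), (23, [2, 4, 6, 3, 4, 4, 6, 4, 2, 4, 3, 4, 6]), (130, []), (24, [3, 4, 3, 6, 5, 4, 3, 6, 4, 3, 4]), (135, []), (139, []), (141, []), (143, []), (100, [5, 5, 4]), (26, []), (152, []), (112, [5, 5, 4]), (27, []), (160, []), (163, []), (28, []), (80, [5]), (79, [5, 5]), (30, []), (78, []), (169, []), (172, []), (31, []), (87, [5]), (86, [5, 5]), (33, []), (85, []), (176, []), (34, []), (93, [5]), (92, [5, 5]), (36, []), (91, []), (181, []), (182, [1, 4, 2, 4, 2, 3, 4, 2, 6, 5, 4, 3]), (37, []), (116, [4]), (149, [4, 4, 5, 4]), (150, [4, 4, 5, 4]), (191, []), (41, []), (195, []),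 (122, [4, 4, 5]), (107, [5]), (106, [5, 5]), (45, []), (105, []), (177, [1, 4, 4, 2, 4, 3, 4, 4, 6, 4, 6]), (118, [4]), (158, [4, 4, 5, 4]), (159, [4, 4, 5, 4]), (201, []), (49, []), (203, []), (125, [4, 4, 5]), (205, []), (56, []), (208, []), (57, []), (131, [5, 5, 4, 3, 4, 2, 4, 6, 5, 4, 3, 4]), (210, [5, 4, 3, 4, 2, 4, 6, 5, 4, 3, 4]), (58, []), (136, [3, 4, 4, 3, 5, 4, 6, 3, 4, 3, 4]), (211, [0, 1, 4, 4, 4, 3, 4, 4, 6, 4, 3, 4]), (59, []), (132, []), (137, []), (66, [0, 2, 5, 4, 3, 4, 2, 4, 3, 4, 6, 4]), (62, []), (102, [4, 4, 4, 5]), (103, [4, 4, 4, 5]), (188, [4, 4]), (67, [3, 4, 4, 6, 4, 3, 4, 6, 5, 6]), (64, []), (114, [4, 4, 4, 5]), (115, [4, 4, 4, 5]), (189, [4, 4]), (204, [2, 3, 4, 6, 3, 4, 2, 4, 3, 2, 4, 4, 6]), (147, []), (207, [5, 4, 3, 4, 3, 5, 6, 4, 6, 3, 5]),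 (156, []), (218, []), (166, [4, 2, 3, 4, 6, 4, 3, 4, 6, 3, 2]), (68, []), (228, []), (192, [5, 5, 4]), (190, [5, 5, 4]), (70, []), (146, []), (128, [2, 3, 4, 6, 3, 4, 2, 4, 3, 2, 4, 4, 6]), (230, []), (173, [1, 6, 4, 3, 4, 4, 6, 4, 3, 4, 5, 4, 6]), (71, []), (240, []), (202, [5, 5, 4]), (200, [5, 5, 4]), (73, []), (155, []), (133, [5, 4, 3, 4, 3, 5, 6, 4, 6, 3, 5]), (242, []), (74, []), (246, []), (168, [5]), (167, [5, 5]), (174, [3, 4, 3, 2, 4, 4, 6, 4, 3, 5]), (250, []), (76, []), (164, []), (252, []), (81, []), (256, []), (175, [5]), (258, []), (83, []), (165, [3, 4, 6, 5, 4, 2, 3, 4, 4, 2, 6]), (108, [4, 4, 6, 4, 2, 6, 3, 5, 4, 2]), (178, [5, 5]), (89, []), (96, [0, 3, 4, 6, 3, 4, 2, 4, 4, 6]), (254, [2, 4, 6, 4, 4, 3, 2, 4, 5]), (179, [4, 4, 4, 2, 3, 4, 4, 4, 5, 6, 4]),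 (94, []), (97, []), (251, [4, 3, 5, 4, 6, 4, 4, 4, 2, 3, 4, 3]), (144, [4, 4, 5, 4]), (259, [3, 4, 3, 4, 6, 4, 2, 6, 4, 4, 3]), (148, [4, 4, 5, 4]), (193, [4, 4, 5]), (194, [4]), (99, []), (187, []), (117, [4]), (101, []), (113, [4, 5, 4]), (129, [4, 4, 4, 3, 4, 2, 4, 4, 3, 6, 4, 3]), (244, [2, 4, 3, 4, 6, 3, 4, 2, 6, 5, 4]), (109, []), (153, [4, 4, 5, 4]), (157, [4, 4, 5, 4]), (111, []), (199, []), (119, [4]), (134, [3, 4, 3, 4, 3, 6, 4, 3, 4, 5, 6, 4, 6]), (222, [0, 2, 5, 4, 3, 4, 2, 4, 3, 4, 6, 4]), (142, [3, 6, 4, 2, 4, 4, 4, 3, 6, 4, 4]), (236, [2, 6, 3, 4, 3, 4, 2, 4, 4, 4, 3, 4]), (234, [3, 4, 4, 6, 4, 3, 4, 6, 5, 6]), (151, [3, 6, 5, 4, 6, 3, 5, 4, 3, 4]), (224, [2, 5, 4, 3, 4, 6, 5, 4, 3, 6]), (120, []), (123, []), (185, [3, 4, 4, 5, 4, 3, 6, 4, 2, 4, 2, 3]), (138,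 []), (232, [0, 2, 4, 3, 4, 6, 5, 4, 3, 4, 5, 6, 4]), (198, [4, 3, 4, 5, 4, 6, 3, 4, 4, 3]), (140, []), (220, [4, 2, 4, 3, 4, 6, 5, 4, 3, 2, 6]), (221, [4, 3, 4, 6, 5, 4, 2, 4, 2, 3]), (206, [4, 6, 4, 4, 3, 4, 6, 4, 4, 2, 6]), (223, [0, 3, 4, 3, 6, 5, 4, 6, 3, 4, 6]), (183, [5, 5, 4]), (184, [5, 5, 4]), (247, [3, 4, 3, 2, 4, 5, 6, 3, 4, 2, 6, 4]), (248, [4, 2, 3, 5, 6, 4, 2, 4, 3, 2, 6]), (213, []), (239, [0, 6, 4, 4, 3, 4, 2, 6, 4]), (266, []), (238, [1, 5, 4, 3, 2, 4, 4, 5, 4, 6]), (145, []), (233, [0, 1, 3, 4, 4, 6, 4, 3, 5]), (209, [0, 2, 4, 3, 4, 6, 4, 4, 3, 5, 4]), (235, [1, 2, 4, 2, 3, 4, 2, 3, 5, 4, 3, 5]), (197, [5, 5, 4]), (186, [1, 5, 4, 6, 4, 4, 2, 3, 4, 5]), (257, [0, 1, 3, 4, 3, 4, 2, 4, 3, 4, 4, 5, 6]), (249, [4, 4, 4, 3, 2, 4, 3, 6, 4, 4]), (216, []), (227,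 [0, 4, 3, 6, 4, 3, 4, 4, 5, 6, 4, 6]), (264, [3, 4, 4, 3, 6, 4, 6, 3, 4, 2, 4]), (226, [4, 2, 3, 4, 2, 3, 4, 5, 4, 5, 6]), (154, []), (245, [5]), (241, [0, 6, 5, 4, 3, 4, 2, 4, 3, 4, 5, 4, 6]), (161, []), (196, [2, 4, 4, 4, 5, 6, 3, 4, 3, 4, 6]), (263, [2, 6, 4, 3, 6, 4, 2, 3, 4, 6, 3, 5, 4]), (162, []), (268, [5]), (269, []), (212, [4, 3, 4, 2, 4, 4, 3, 6, 4, 3]), (225, [4, 3, 4, 2, 4, 4, 3, 6, 4, 3, 5]), (255, [5]), (229, [0, 6, 4, 2, 4, 3, 4, 4, 6, 5]), (170, []), (180, [0, 2, 4, 6, 4, 3, 4, 2, 4]), (261, [0, 6, 4, 2, 4, 3, 4, 4, 5, 6]), (171, []), (215, [4, 3, 5, 6, 4, 6, 3, 5, 4, 3, 4, 4]), (237, [4, 3, 4, 4, 4, 6, 5, 4, 3, 4, 3]), (231, [3, 2, 4, 2, 4, 6, 3, 4, 6, 5, 4]), (214, []), (219, [4, 2, 3, 6, 4, 4, 3, 2, 5, 4, 3, 4]), (217, []), (243, [4, 2, 3, 4, 6, 4, 3, 4,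 6, 3, 2]), (260, [1, 6, 4, 2, 6, 4, 3, 4, 5, 6, 4, 3]), (253, [3, 4, 6, 4, 4, 4, 2, 3, 4, 4, 4]), (262, [2, 4, 4, 3, 4, 4, 4, 6, 4, 6, 5, 6]), (265, [2, 6, 4, 3, 4, 3, 2, 4, 3, 4]), (267, [4, 4, 6, 5, 4, 3, 4, 2, 4, 2, 3])]

noncomputable def coverStep5 : List (Nat × List Nat) := [(0, [5, 4, 5, 4, 5]), (1, [4]), (2, [4]), (9, []), (14, []), (17, []), (6, [5, 4, 5, 4, 5]), (19, []), (3, []), (20, [4, 4, 4]), (30, []), (33, []), (36, []), (4, []), (42, []), (45, []), (5, []), (50, []), (7, []), (52, [4, 4, 4]), (22, [4, 5, 5]), (8, []), (25, []), (62, [2, 4, 6, 3, 4, 4, 6, 4, 2, 4, 3, 4, 6]), (64, [3, 4, 3, 6, 5, 4, 3, 6, 4, 3, 4]), (21, [5]), (70, []), (73, []), (76, []), (10, []), (79, []), (83, []), (11, []), (86, []), (89, []), (12, []), (92, []), (96, []), (56, [4]), (13,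 []), (43, []), (101, []), (40, [5]), (39, [5, 5]), (15, []), (106, []), (57, [4]), (16, []), (51, []), (113, []), (48, [5]), (47, [5, 5]), (54, [4, 5, 5]), (18, []), (55, []), (53, [5]), (117, []), (119, []), (122, []), (125, []), (41, [4, 4, 4, 5]), (49, [4, 4, 4, 5]), (129, []), (23, []), (134, []), (24, []), (128, [2, 3, 4, 6, 3, 4, 2, 4, 3, 2, 4, 4, 6]), (133, [5, 4, 3, 4, 3, 5, 6, 4, 6, 3, 5]), (144, []), (26, []), (148, []), (153, []), (27, []), (157, []), (161, []), (28, []), (167, []), (29, []), (80, []), (78, [5]), (77, [5, 5]), (170, []), (31, []), (174, []), (32, []), (87, []), (85, [5]), (84, [5, 5]), (34, []), (178, []), (35, []), (93, []), (91, [5]), (90, [5, 5]), (182, []), (37, []), (179, [1, 4, 5, 4, 5, 6, 4, 2, 3, 4, 5]), (183, []), (38, []), (190, []), (69,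 [4, 4, 5, 4]), (193, []), (130, [4, 5, 5]), (131, [4, 5, 5]), (44, []), (107, []), (105, [5]), (104, [5, 5]), (176, [2, 4, 3, 4, 6, 3, 4, 2, 6, 5, 4]), (197, []), (46, []), (200, []), (72, [4, 4, 5, 4]), (194, [5, 4, 5]), (135, [4, 5, 5]), (136, [4, 5, 5]), (97, [5, 4, 5, 4, 5]), (192, [5, 4, 5, 4, 5]), (109, [5, 4, 5, 4, 5]), (202, [5, 4, 5, 4, 5]), (210, []), (58, []), (103, [4, 5, 5, 4]), (211, []), (59, []), (115, [4, 5, 5, 4]), (60, []), (61, []), (150, [0, 2, 5, 4, 3, 4, 2, 4, 3, 4, 6, 4]), (195, [0, 4, 4, 2, 4, 3, 4, 2, 4, 3, 4, 6, 4]), (63, []), (120, [5, 4, 3, 4, 2, 4, 6, 5, 4, 3, 4, 5, 5]), (126, []), (159, [3, 4, 4, 6, 4, 3, 4, 6, 5, 6]), (203, [4, 3, 6, 4, 6, 4, 4, 6, 3, 4, 4]), (65, []), (123, [4, 3, 4, 3, 5, 6, 4, 6, 3, 4, 4]), (127, []), (213, []), (66, []),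 (216, []), (67, []), (205, [2, 6, 3, 5, 4, 3, 4, 2, 4, 4, 5, 4, 3]), (68, []), (185, [5, 5, 4]), (229, []), (149, []), (139, []), (187, [5, 5, 4]), (98, [5, 5, 4]), (99, [5, 5, 4]), (208, [4, 4, 3, 4, 5, 4, 6, 3, 4, 4, 3]), (71, []), (198, [5, 5, 4]), (241, []), (158, []), (141, []), (199, [5, 5, 4]), (110, [5, 5, 4]), (111, [5, 5, 4]), (74, []), (244, []), (247, []), (75, []), (168, []), (175, [3, 5, 4, 3, 2, 4, 4, 6, 4, 3, 5]), (143, [4, 3, 4, 2, 4, 4, 3, 6, 4, 3, 5]), (164, [5]), (163, [5, 5]), (81, []), (254, []), (257, []), (82, []), (152, [4, 3, 4, 4, 4, 6, 5, 4, 3, 4, 3]), (165, [3, 4, 2, 4, 3, 6, 4, 4, 2, 6, 4]), (172, [5, 5]), (88, []), (108, [2, 4, 4, 4, 5, 6, 3, 4, 3, 4, 6]), (177, [5]), (181, [1, 6, 4, 6, 4, 4, 2, 3, 4, 5, 5]), (255, [2, 5, 4, 6, 4, 4, 3, 2, 4,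 5]), (94, []), (95, [4, 4, 4, 2, 3, 6, 4, 4, 6, 4]), (221, [4, 4, 5, 4]), (222, [4, 4, 5, 4]), (212, [3, 5, 4, 2, 4, 4, 3, 6, 4, 3]), (234, [0, 3, 4, 3, 6, 4, 2, 4, 4]), (191, []), (132, [4, 4, 4, 4, 4]), (137, [4, 4, 4, 4, 4]), (147, [4, 4, 5, 4]), (100, []), (146, [4, 4, 5, 4]), (188, [4, 5, 5, 4]), (189, [5, 4, 5, 4, 5]), (102, []), (245, [1, 4, 4, 2, 4, 3, 4, 4, 6, 4, 6]), (233, [4, 4, 5, 4]), (215, [3, 6, 5, 4, 6, 3, 5, 4, 3, 4, 4]), (201, []), (156, [4, 4, 5, 4]), (112, []), (155, [4, 4, 5, 4]), (114, []), (138, [0, 2, 5, 4, 3, 4, 2, 4, 3, 4, 6, 4]), (116, []), (219, [2, 4, 6, 4, 4, 3, 4, 6, 4, 4, 6]), (140, [3, 4, 4, 6, 4, 3, 4, 6, 5, 6]), (118, []), (231, [0, 4, 3, 4, 6, 4, 4, 3, 5, 4, 2]), (121, [5, 4, 3, 4, 2, 4, 6, 5, 4, 3, 4]), (124, [0, 1, 4, 4, 4, 3, 4, 4, 6,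 4, 3, 4]), (250, [4, 2, 3, 5, 6, 4, 2, 4, 3, 2, 6]), (225, []), (261, []), (258, [4, 3, 4, 5, 4, 6, 5, 4, 3, 4, 3, 4]), (237, []), (263, []), (142, []), (262, [0, 2, 4, 3, 4, 6, 5, 4, 3, 4, 5, 6, 4]), (217, [3, 2, 4, 2, 4, 6, 3, 4, 6, 5, 4]), (218, [2, 4, 4, 3, 6, 4, 2, 4, 3, 6, 4, 4]), (204, [2, 3, 4, 6, 3, 4, 2, 4, 3, 2, 4, 4, 6]), (220, [0, 4, 3, 6, 4, 3, 4, 6, 5, 4, 3, 6]), (209, [0, 3, 4, 2, 4, 6, 3, 4, 6, 4]), (251, [4, 2, 3, 4, 6, 4, 3, 4, 6, 3, 2]), (240, [1, 2, 4, 2, 5, 5, 4, 2, 3, 4, 2, 4, 6]), (238, [0, 4, 5, 6, 4, 3, 4, 6, 3, 4, 6]), (145, []), (253, [3, 4, 4, 2, 4, 4, 6, 4, 3, 4]), (151, []), (260, [4, 2, 4, 3, 4, 6, 5, 4, 3, 2, 6]), (214, [4, 2, 3, 6, 4, 4, 3, 2, 5, 4, 3, 4]), (230, [3, 6, 4, 5, 6, 4, 6, 3]), (207, [5, 4, 3, 4, 3, 5, 6, 4, 6, 3, 5]), (232, [1,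 2, 3, 4, 2, 4, 3, 4, 3, 2, 4, 5]), (206, [1, 3, 4, 6, 4, 4, 3, 4, 2, 4, 3, 4, 4, 4]), (259, [1, 6, 4, 3, 4, 4, 6, 4, 3, 4, 5, 4, 6]), (228, [6, 4, 4, 3, 2, 4, 5, 4]), (226, [0, 5, 4, 3, 5, 4, 2, 6, 4, 6, 5]), (154, []), (243, [1, 4, 4, 2, 3, 4, 3, 4, 6, 4, 3, 4]), (160, []), (264, [4, 3, 4, 2, 4, 4, 3, 6, 4, 3, 5]), (196, [4, 4, 6, 4, 2, 6, 3, 5, 4, 2]), (242, [5, 5]), (162, []), (223, [2, 6, 4, 3, 4, 3, 2, 4, 3, 4, 5, 5]), (224, [4, 3, 4, 2, 4, 4, 3, 6, 4, 3]), (236, [2, 4, 3, 6, 5, 4, 3, 2, 4, 4, 6, 4]), (166, []), (184, [2, 6, 4, 2, 3, 4, 6, 5, 4, 3, 4, 4, 3]), (169, []), (266, [1, 4, 6, 4, 4, 3, 4, 2, 4, 3, 4, 4]), (180, [0, 2, 4, 6, 4, 3, 4, 2, 4, 5]), (252, [5, 5]), (171, []), (235, [0, 6, 5, 4, 3, 4, 2, 4, 3, 4, 5, 4]), (173, []), (186, [3, 4, 4, 2, 4, 5, 4, 3, 6, 5,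 4, 2, 6]), (265, [5, 6, 3, 4, 6, 4, 4, 2, 3, 4, 2]), (256, [2, 3, 4, 2, 6, 5, 4, 3, 2, 4]), (267, [5, 6, 4, 6, 3, 4, 3, 4, 4, 2]), (246, [1, 5, 4, 2, 3, 5, 4, 3, 4, 6, 4, 3, 4]), (239, [5, 6, 4, 2, 3, 4, 2, 3, 4, 4, 5, 6, 3]), (268, [2, 3, 6, 4, 3, 2, 4, 5, 6, 3, 4, 4]), (227, []), (269, [3, 4, 4, 4, 4, 2, 4, 6, 3, 4, 6, 5]), (248, [5, 5]), (249, [])]

noncomputable def coverStep6 : List (Nat × List Nat) := [(0, [5]), (1, [5]), (2, [5]), (3, [5]), (4, [5, 5]), (5, [5, 5]), (6, [5]), (7, [5]), (22, []), (25, []), (10, [5, 5]), (11, [5, 5]), (12, [5, 5]), (40, []), (43, []), (15, [5, 5]), (48, []), (51, []), (54, []), (55, []), (9, [4, 4, 5]), (8, [5]), (21, [5, 5]), (58, [5, 5]), (59, [5, 5]), (20, [4, 5, 5, 4]), (56, [4, 5, 5, 4]), (57, [4, 5, 5, 4]), (28, [5, 5]), (78, []),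 (80, []), (31, [5, 5]), (85, []), (87, []), (34, [5, 5]), (91, []), (93, []), (37, [5]), (99, []), (13, [5, 5]), (39, [5]), (102, []), (14, [5, 5]), (42, [5]), (105, []), (107, []), (111, []), (16, [5, 5]), (47, [5]), (114, []), (17, [5, 5]), (50, [5]), (19, [4, 4, 5]), (18, [5]), (53, [5, 5]), (52, [4, 5, 5, 4]), (66, [4, 4, 5]), (67, [4, 4, 5]), (60, [5]), (61, [5]), (23, []), (24, []), (120, [5, 5]), (131, []), (123, [5, 5]), (136, []), (26, []), (27, []), (116, [4, 5, 5, 4]), (146, []), (149, []), (118, [4, 5, 5, 4]), (155, []), (158, []), (74, [5, 5]), (164, []), (168, []), (29, [5, 5]), (77, [5]), (30, [5, 5]), (79, [5]), (81, [5, 5]), (165, [3, 4, 6, 5, 4, 2, 3, 4, 4, 2, 6]), (175, []), (32, [5, 5]), (84, [5]), (33, [5, 5]), (86, [5]), (177, []), (108, [2, 4, 4, 4,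 5, 6, 3, 4, 3, 4, 6]), (35, [5, 5]), (90, [5]), (36, [5, 5]), (92, [5]), (179, [5]), (181, [1, 4, 4, 4, 5, 6, 4, 2, 3, 4]), (94, [1, 4, 4, 4, 5, 6, 4, 2, 3, 4]), (184, []), (139, [4, 4, 5, 4]), (100, []), (38, []), (62, [4, 4, 4, 3, 4, 2, 4, 4, 3, 6, 4, 3]), (103, []), (41, []), (44, [5, 5]), (104, [5]), (45, [5, 5]), (106, [5]), (178, [1, 4, 2, 5, 4, 3, 4, 4, 6, 4, 6]), (186, [1, 5, 4, 5, 6, 4, 2, 3, 4, 4]), (141, [4, 4, 5, 4]), (112, []), (46, []), (64, [3, 4, 3, 4, 3, 6, 4, 3, 4, 5, 6, 4, 6]), (115, []), (49, []), (138, [4, 4, 5]), (190, [5, 4, 5, 4, 5]), (140, [4, 4, 5]), (200, [5, 4, 5, 4, 5]), (101, [4, 2, 6, 3, 5, 4, 6, 4, 4, 3, 2, 4, 3]), (193, [4, 5, 5, 4]), (188, [4, 4, 5]), (113, [4, 3, 4, 5, 4, 5, 6, 3, 4, 3, 4]), (194, [4, 4, 4, 5]), (189, [4, 4, 5]), (195, [4,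 4, 4, 5]), (203, [4, 4, 4, 5]), (191, [0, 4, 4, 2, 4, 3, 4, 2, 4, 3, 4, 6, 4]), (122, [5, 4, 3, 4, 2, 4, 6, 5, 4, 3, 4, 5, 5]), (121, [5, 5]), (132, []), (63, []), (201, [4, 3, 6, 4, 6, 4, 4, 6, 3, 4, 4]), (125, [4, 3, 4, 3, 5, 6, 4, 6, 3, 4, 4]), (124, [5, 5]), (137, []), (65, []), (68, []), (187, [5, 5, 4]), (71, []), (199, [5, 5, 4]), (204, [4, 5, 5, 4]), (221, []), (218, [2, 4, 4, 3, 6, 4, 2, 4, 3, 6, 4, 4]), (214, []), (147, []), (69, []), (117, [4, 5, 5, 4]), (150, []), (70, []), (207, [4, 5, 5, 4]), (233, []), (230, [3, 6, 4, 5, 6, 4, 6, 3]), (217, []), (156, []), (72, []), (119, [4, 5, 5, 4]), (159, []), (73, []), (196, [2, 4, 4, 4, 5, 6, 3, 4, 3, 4, 6]), (245, []), (248, []), (75, [5, 5]), (163, [5]), (172, [3, 4, 4, 3, 2, 5, 4, 6, 4, 4, 3]), (205, [1, 3, 4, 4, 6,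 4, 2, 3, 4, 2, 4, 6]), (76, [5, 5]), (167, [5]), (180, [0, 2, 4, 6, 4, 3, 4, 2, 4]), (255, []), (249, [3, 4, 6, 5, 4, 2, 3, 4, 4, 2, 6]), (82, [5, 5]), (208, [3, 4, 3, 5, 6, 4, 6, 3, 4, 4, 4]), (83, [5, 5]), (174, [5]), (88, [5, 5]), (176, [5]), (89, [5, 5]), (96, [0, 3, 5, 4, 6, 3, 4, 2, 4, 4, 6]), (252, [2, 4, 4, 6, 4, 3, 2, 5, 4, 5]), (182, [1, 6, 4, 6, 4, 4, 2, 3, 4]), (95, [4, 5, 4, 2, 3, 6, 4, 4, 6, 4]), (213, [4, 4, 5, 4]), (185, []), (97, []), (198, [0, 3, 4, 3, 6, 4, 2, 4, 6]), (98, []), (129, [4, 4, 4, 6, 4, 3, 4, 6, 4, 4, 3, 2, 4]), (134, [5, 4, 3, 4, 3, 5, 6, 4, 6, 3]), (148, [4, 4, 5, 4]), (192, []), (128, [4, 4, 4, 3, 4, 2, 4, 4, 3, 6, 4, 3]), (130, [4, 5, 5]), (135, [4, 4, 4, 4]), (210, [3, 5, 4, 3, 4, 2, 4, 3, 5, 6, 4, 3]), (242, [1, 4, 2, 5, 4, 3, 4, 4, 6,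 4, 6]), (216, [4, 4, 5, 4]), (109, []), (110, []), (157, [4, 4, 5, 4]), (202, []), (133, [3, 4, 3, 4, 3, 6, 4, 3, 4, 5, 6, 4, 6]), (211, [0, 3, 6, 4, 3, 4, 6, 3, 4, 3, 4, 4, 6]), (212, [4, 4, 5]), (251, [4, 3, 4, 5, 4, 5, 6, 4, 3, 4, 2, 6]), (145, [4, 4, 5]), (215, [4, 4, 5]), (259, [0, 1, 5, 4, 3, 4, 4, 6, 4, 3, 4, 4]), (154, [4, 4, 5]), (126, [5, 5, 4, 3, 4, 2, 4, 6, 5, 4, 3, 4]), (127, [3, 4, 4, 3, 5, 4, 6, 3, 4, 3, 4]), (142, []), (250, [4, 2, 3, 4, 6, 4, 3, 4, 6, 3, 2]), (206, [4, 5, 5, 4]), (151, []), (258, [1, 6, 4, 3, 4, 4, 6, 4, 3, 4, 5, 4, 6]), (209, [4, 5, 5, 4]), (225, [4, 3, 4, 6, 5, 4, 2, 4, 2, 3]), (227, [4, 4, 3, 5]), (265, [1, 3, 2, 4, 3, 4, 6, 4, 5, 5, 4]), (222, []), (143, []), (224, [1, 6, 4, 2, 6, 4, 3, 4, 5, 6, 4, 3]), (264, [2, 4, 4, 3, 6, 4, 2, 4, 3,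 6, 4, 4]), (144, []), (220, [2, 4, 2, 3, 6, 4, 4, 2, 3, 4, 3, 6]), (256, [3, 4, 2, 4, 6, 3, 4, 3, 4, 4, 5]), (171, [2, 3, 4, 2, 6, 5, 4, 3, 2, 4]), (257, [2, 3, 4, 2, 6, 5, 4, 3, 2, 4]), (237, [0, 1, 3, 4, 4, 6, 4, 3, 5]), (239, [4, 4, 2, 5]), (267, [0, 6, 4, 2, 4, 4, 3, 6, 4, 4, 4]), (234, []), (152, []), (236, [2, 4, 4, 3, 4, 4, 4, 6, 4, 6, 5, 6]), (266, [1, 2, 3, 4, 4, 3, 2, 4, 4, 6, 4, 2]), (153, []), (232, [0, 4, 6, 4, 3, 4, 2, 4, 6]), (246, [2, 3, 4, 4, 6, 3, 4, 2, 4, 4, 3, 5]), (162, [1, 5, 4, 2, 3, 5, 4, 3, 4, 6, 4, 3, 4]), (247, [1, 5, 4, 2, 3, 5, 4, 3, 4, 6, 4, 3, 4]), (160, [5, 5]), (263, [0, 6, 5, 4, 3, 4, 2, 4, 3, 4, 5, 4, 6]), (161, [5, 5]), (244, [5]), (231, [2, 4, 6, 3, 4, 4, 6, 4, 2, 3, 4, 6, 4]), (260, [3, 5, 4, 6, 4, 4, 4, 2, 3, 4, 3]), (240, [2, 6, 4, 3,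 6, 4, 2, 3, 4, 6, 3, 5, 4]), (228, [4, 4, 6, 5, 4, 3, 4, 6, 3, 5, 4]), (183, [2, 6, 4, 2, 3, 4, 6, 5, 4, 3, 4, 4, 3]), (166, []), (169, [5, 5]), (261, [0, 6, 4, 2, 4, 3, 4, 4, 6, 5]), (170, [5, 5]), (254, [5]), (219, [0, 6, 4, 2, 4, 3, 4, 4, 6]), (262, [4, 3, 4, 4, 4, 6, 5, 4, 3, 4, 3, 5]), (197, [4, 3, 4, 4, 3, 5, 6, 4, 3, 4, 3]), (173, []), (241, [2, 5, 4, 5, 6, 4, 2]), (269, [4, 4, 3, 6, 4, 3, 6, 4, 4, 6]), (229, [0, 1, 4, 4, 2, 4, 3, 4, 6, 5, 4, 2]), (268, [1, 4, 4, 2, 3, 4, 3, 4, 6, 4, 3, 4]), (223, [1, 3, 2, 4, 3, 4, 6, 4, 5, 5, 4]), (226, [4, 3, 4, 6, 5, 4, 2, 4, 2, 3]), (235, [3, 4, 2, 4, 3, 5, 4, 2, 6, 4, 4]), (238, [0, 1, 3, 4, 4, 6, 4, 3, 5]), (243, []), (253, [3, 4, 4, 3, 2, 5, 4, 6, 4, 4, 3])]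

noncomputable def coverStep7 : List (Nat × List Nat) := [(0, [5, 5]), (1, [5, 5]), (2, [5, 5]), (3, [5, 5]), (4, [5]), (5, [5]), (6, [5, 5]), (7, [5, 5]), (21, [5, 5]), (20, [4, 5, 5, 4]), (10, [5]), (11, [5]), (12, [5]), (39, [5]), (42, [5]), (15, [5]), (47, [5]), (50, [5]), (53, [5, 5]), (52, [4, 5, 5, 4]), (25, [4, 4, 5]), (22, [5]), (8, []), (60, []), (61, []), (9, []), (66, []), (67, []), (28, [5]), (77, [5]), (79, [5]), (31, [5]), (84, [5]), (86, [5]), (34, [5]), (90, [5]), (92, [5]), (37, [5, 5]), (100, []), (40, [5, 5]), (13, []), (103, []), (43, [5, 5]), (14, []), (104, [5]), (106, [5]), (112, []), (48, [5, 5]), (16, []), (115, []), (51, [5, 5]), (17, []), (55, [4, 4, 5]), (54, [5]), (18, []), (19, []), (26, [4, 4, 5]), (27, [4, 4, 5]), (23, [5]), (24, [5]), (58,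 [5, 5]), (59, [5, 5]), (101, [0, 4, 4, 2, 4, 3, 4, 2, 4, 3, 4, 6, 4]), (132, []), (113, [4, 3, 6, 4, 6, 4, 4, 6, 3, 4, 4]), (137, []), (56, [4, 5, 5, 4]), (57, [4, 5, 5, 4]), (138, []), (147, []), (150, []), (140, []), (156, []), (159, []), (74, [5]), (163, [5]), (167, [5]), (78, [5, 5]), (29, []), (80, [5, 5]), (30, []), (81, [5]), (172, [5]), (174, [5]), (85, [5, 5]), (32, []), (87, [5, 5]), (33, []), (176, [5]), (178, [5]), (91, [5, 5]), (35, []), (93, [5, 5]), (36, []), (96, [1, 6, 4, 6, 4, 3, 2, 4, 5, 6, 4]), (182, [1, 4, 4, 4, 5, 6, 4, 2, 3, 4, 5]), (179, [1, 4, 5, 4, 5, 6, 4, 2, 3, 4]), (185, []), (187, []), (38, []), (99, []), (120, [3, 5, 4, 3, 4, 2, 4, 3, 5, 6, 4, 3]), (41, []), (102, []), (105, [5, 5]), (44, []), (107, [5, 5]), (45, []), (89, [1, 4, 4, 2, 4, 3,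 4, 4, 6, 4, 6]), (198, []), (199, []), (46, []), (111, []), (123, [0, 3, 6, 4, 3, 4, 6, 3, 4, 3, 4, 4, 6]), (49, []), (114, []), (68, [4, 4, 5]), (148, [4, 4, 5]), (71, [4, 4, 5]), (157, [4, 4, 5]), (62, [5]), (130, [5]), (129, [5, 5, 4, 3, 4, 2, 4, 6, 5, 4, 3, 4]), (64, [5]), (135, [5]), (134, [3, 4, 4, 3, 5, 4, 6, 3, 4, 3, 4]), (210, [5, 4, 3, 4, 2, 4, 6, 5, 4, 3, 4, 5, 5]), (211, [4, 3, 4, 3, 5, 6, 4, 6, 3, 4, 4]), (192, [0, 4, 4, 2, 4, 3, 4, 2, 4, 3, 4, 6, 4]), (188, [0, 2, 5, 5, 4, 3, 4, 2, 4, 3, 4, 6, 4]), (193, [4, 4, 4, 5]), (63, []), (131, []), (202, [4, 3, 6, 4, 6, 4, 4, 6, 3, 4, 4]), (189, [3, 4, 3, 6, 4, 4, 4, 3, 4, 5]), (194, [4, 4, 4]), (65, []), (136, []), (116, [4, 5, 5, 4]), (98, [5, 5, 4]), (118, [4, 5, 5, 4]), (110, [5, 5, 4]), (212, []), (222, []), (225,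 []), (206, [4, 5, 5, 4]), (69, []), (146, []), (190, [5, 5, 4]), (70, []), (149, []), (215, []), (234, []), (237, []), (209, [4, 5, 5, 4]), (72, []), (155, []), (200, [5, 5, 4]), (73, []), (158, []), (242, [5]), (244, [5]), (240, [2, 6, 4, 3, 6, 4, 2, 3, 4, 6, 3, 5, 4]), (164, [5, 5]), (75, []), (82, [3, 5, 4, 3, 2, 4, 4, 6, 4, 3, 5]), (251, []), (168, [5, 5]), (76, []), (252, [5]), (254, [5]), (228, [0, 6, 4, 2, 4, 3, 4, 4, 5, 6]), (165, [5, 4, 3, 2, 4, 2, 4, 6, 3, 4, 3]), (259, []), (175, [5, 5]), (83, []), (177, [5, 5]), (88, []), (108, [2, 4, 4, 4, 6, 4, 4, 4, 3, 4, 6]), (94, [5, 5]), (169, [2, 5, 4, 6, 4, 4, 3, 2, 4, 5]), (95, [1, 6, 4, 6, 4, 3, 2, 4, 5, 6, 4]), (181, [1, 6, 4, 6, 4, 3, 2, 4, 6, 4, 4]), (250, [4, 3, 5, 4, 6, 4, 4, 4, 2, 3, 4, 3]), (97, []), (184, []),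 (109, [0, 3, 4, 3, 6, 4, 2, 4, 6]), (139, [4, 4, 5, 4]), (122, [4, 5, 5, 4]), (125, [4, 5, 5, 4]), (117, [4]), (128, [4, 4, 4, 3, 4, 2, 4, 4, 3, 6, 4, 3]), (191, []), (121, [4, 4, 5]), (124, [4, 5, 5]), (126, [4, 5, 5]), (160, [1, 4, 4, 2, 4, 3, 4, 4, 6, 4, 6]), (258, [3, 6, 4, 6, 4, 3, 4, 5, 6, 3, 4, 3]), (186, [1, 5, 4, 5, 6, 4, 2, 3, 4, 4]), (141, [4, 4, 5, 4]), (119, [4]), (133, [3, 4, 3, 4, 3, 6, 4, 3, 4, 5, 6, 4, 6]), (201, []), (127, [4, 5, 5]), (142, [4, 4, 5]), (166, [4, 3, 4, 5, 4, 5, 6, 4, 3, 4, 2, 6]), (214, [4, 4, 5]), (151, [4, 4, 5]), (173, [0, 1, 5, 4, 3, 4, 4, 6, 4, 3, 4, 4]), (217, [4, 4, 5]), (195, [4, 2, 6, 3, 5, 4, 6, 4, 4, 3, 2, 4, 3]), (203, [4, 3, 4, 5, 4, 5, 6, 3, 4, 3, 4]), (204, [4, 5, 5, 4]), (183, [5, 5, 4]), (145, []), (207, [4, 5, 5, 4]), (197,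 [5, 5, 4]), (154, []), (144, [4, 3, 4, 6, 5, 4, 2, 4, 2, 3]), (256, [3, 4, 2, 4, 5, 6, 4, 3, 4]), (226, [3, 4, 5, 4, 6, 4, 3, 4, 4, 2, 4]), (143, []), (221, []), (264, [4, 4, 4, 6, 4, 5, 6, 3, 4, 4, 2]), (223, [5, 6, 3, 4, 6, 4, 4, 2, 3, 4, 2]), (218, [2, 4, 4, 3, 6, 4, 2, 4, 3, 6, 4, 4]), (265, [2, 4, 4, 3, 6, 4, 2, 4, 3, 6, 4, 4]), (219, [3, 4, 5, 5, 4]), (249, [4, 4, 3, 6, 4, 3, 6, 4, 4, 6]), (262, [0, 2, 6, 4, 2, 4, 6, 3, 4, 6, 5]), (153, [0, 1, 3, 4, 4, 6, 4, 3, 5]), (246, [1, 4, 2, 3, 5, 4, 3, 4, 6, 4, 3, 4]), (238, [0, 4, 6, 4, 2, 4, 6, 4, 3, 4, 6]), (152, []), (233, []), (266, [1, 4, 4, 4, 2, 3, 4, 4, 5, 6, 4, 3]), (235, [5, 6, 4, 6, 3, 4, 3, 4, 4, 2]), (230, [3, 6, 4, 5, 6, 4, 6, 3]), (267, [3, 6, 4, 5, 6, 4, 6, 3]), (231, [2, 4, 5, 5, 4]), (248, [1, 5, 4, 2, 3, 5,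 4, 3, 4, 6, 4, 3, 4]), (260, [0, 1, 4, 2, 4, 4, 6, 4, 4, 6]), (196, [2, 4, 4, 4, 6, 4, 4, 4, 3, 4, 6]), (268, []), (245, [5, 5]), (161, []), (239, [3, 2, 4, 2, 4, 6, 3, 4, 6, 5]), (241, [2, 6, 4, 3, 6, 4, 2, 3, 4, 6, 3, 5, 4]), (162, []), (171, [3, 5, 4, 3, 2, 4, 4, 6, 4, 3, 5]), (213, [4, 3, 4, 2, 4, 4, 3, 6, 4, 3, 5]), (205, [1, 3, 4, 4, 6, 4, 2, 3, 4, 2, 4, 6]), (180, [0, 2, 4, 6, 4, 3, 4, 2, 4, 5, 5]), (269, [5, 4, 3, 2, 4, 2, 4, 6, 3, 4, 3]), (255, [5, 5]), (170, []), (227, [4, 2, 3, 6, 4, 4, 3, 2, 5, 4, 3]), (229, [0, 6, 4, 2, 4, 3, 4, 4, 5, 6]), (216, [4, 3, 4, 4, 4, 6, 5, 4, 3, 4, 3]), (208, [3, 4, 3, 5, 6, 4, 6, 3, 4, 4, 4]), (247, [2, 6, 4, 2, 3, 4, 6, 4, 4, 3, 5]), (253, [3, 4, 4, 2, 4, 4, 6, 4, 3, 4]), (257, [4, 3, 4, 4, 3, 5, 6, 4, 3, 4, 3, 4]), (243, [1, 4, 4,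 2, 3, 4, 3, 4, 6, 4, 3, 4]), (224, [4, 3, 4, 6, 5, 4, 2, 4, 2, 3]), (220, [4, 4, 4, 6, 4, 5, 6, 3, 4, 4, 2]), (236, [2, 4, 6, 4, 4, 4, 3, 2, 4, 6, 5]), (232, [0, 5, 4, 6, 3, 4, 2, 4, 2, 5, 6]), (263, [0, 6, 5, 4, 3, 4, 2, 4, 3, 4, 5, 4, 6]), (261, [4, 4, 6, 5, 4, 3, 4, 6, 3, 5, 4])]

noncomputable def coverStep8 : List (Nat × List Nat) := [(0, [6]), (4, []), (5, [0]), (10, []), (2, [0]), (1, []), (6, [2, 4, 3, 2, 4, 2, 4, 4, 4, 3, 4, 2, 4, 6]), (11, [0]), (23, []), (26, []), (7, [0]), (3, []), (37, []), (14, [4]), (16, [5, 4, 5, 4, 5]), (34, [0, 1, 2, 6]), (17, [4]), (13, [5, 4, 5, 4, 5]), (24, [0]), (27, [0]), (56, []), (58, []), (60, []), (18, [0]), (8, []), (66, []), (19, [0]), (9, []), (31, [2, 3, 4, 6, 4, 3, 4, 3, 6, 4, 6, 3, 4, 4]), (70, []), (65, []), (28, [0, 1, 6]),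 (73, []), (63, []), (15, [6, 4, 2, 3, 4, 3, 4, 4, 4, 2, 4, 3, 4]), (90, [1, 6, 4, 6, 4, 4, 2, 3, 4]), (94, []), (12, [2, 4, 2, 3, 4, 3, 4, 4, 4, 2, 4, 3, 4]), (41, [4]), (43, [4, 5, 5]), (42, [5, 4]), (46, [5, 4, 5, 4, 5]), (48, [5, 4, 5, 4]), (47, [4, 4, 4, 5]), (104, [2, 6, 4, 6, 4, 3, 4, 3, 4, 2]), (108, []), (49, [4]), (51, [4, 5, 5]), (50, [5, 4]), (38, [5, 4, 5, 4, 5]), (40, [5, 4, 5, 4]), (39, [4, 4, 4, 5]), (57, [0]), (59, [0]), (61, [0]), (67, [0]), (52, [0]), (20, []), (53, [0]), (21, []), (54, [0]), (22, []), (124, [2, 4, 6, 3, 4, 4, 6, 4, 2, 4, 3, 4, 6]), (30, []), (121, [3, 4, 3, 6, 5, 4, 3, 6, 4, 3, 4]), (33, []), (55, [0]), (25, []), (145, []), (117, [4, 4, 4]), (32, []), (154, []), (119, [4, 4, 4]), (29, []), (81, [2, 3, 4, 6, 4, 3, 4, 3, 6, 4, 6, 3, 4, 4]),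 (165, []), (167, [1, 3, 4, 4, 5, 6, 4, 3, 2, 4, 4, 2]), (149, [5, 5]), (150, []), (136, [5, 5]), (137, []), (74, [0, 1, 6]), (164, [1, 4, 4, 2, 4, 3, 4, 4, 6, 4, 4, 3]), (174, [3, 4, 3, 2, 4, 4, 6, 4, 5, 6, 3]), (158, [5, 5]), (159, []), (131, [5, 5]), (132, []), (176, [2, 4, 3, 4, 3, 2, 4, 2, 6, 5, 4]), (107, [1, 3, 2, 5, 4, 3, 4, 6, 4, 5, 4]), (35, [4, 4, 4, 2, 3, 4, 4, 3, 2, 6, 4]), (91, [1, 4, 5, 4, 5, 6, 4, 2, 3, 4]), (179, []), (96, [1, 6, 4, 6, 4, 3, 2, 4, 5, 6, 4]), (36, [2, 4, 2, 3, 4, 3, 4, 4, 4, 2, 4, 3, 4]), (182, []), (93, [0, 3, 4, 6, 3, 4, 2, 4, 4, 6]), (186, []), (188, []), (103, [4]), (102, [4]), (194, []), (112, [5, 4, 5, 4, 5]), (111, [5, 4, 5, 4, 5]), (44, [4, 2, 4, 4, 3, 4, 2, 4, 6, 4]), (105, [2, 4, 5, 4, 5, 6, 3, 4, 3, 4, 2]), (178, [4, 5, 6, 4, 3, 4,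 4, 6, 3, 4, 2]), (89, [1, 4, 4, 2, 4, 3, 4, 4, 6, 4, 6]), (45, [2, 4, 2, 4, 4, 3, 4, 4, 2, 3, 4, 3, 4]), (184, [2, 5, 4, 3, 5, 6, 4, 3, 4, 4, 2]), (189, []), (115, [4]), (114, [4]), (193, [4, 5, 4]), (100, [5, 4, 5, 4, 5]), (99, [5, 4, 5, 4, 5]), (206, []), (72, [4, 4, 4, 4]), (209, []), (69, [4, 4, 4, 4]), (135, [4, 3, 4, 2, 4, 6, 5, 4, 3, 4]), (62, [2, 4, 6, 3, 4, 4, 6, 4, 2, 4, 3, 4, 6]), (141, [5, 5]), (130, [3, 4, 3, 4, 4, 6, 3, 5, 4, 3, 4]), (64, [3, 4, 3, 6, 5, 4, 3, 6, 4, 3, 4]), (139, [5, 5]), (128, [2, 3, 4, 6, 3, 4, 2, 4, 3, 2, 4, 4, 6]), (133, [5, 4, 3, 4, 3, 5, 6, 4, 6, 3, 5]), (127, [0, 2, 5, 4, 3, 4, 2, 4, 3, 4, 6, 4]), (199, [0, 2, 5, 5, 4, 3, 4, 2, 4, 3, 4, 6, 4]), (120, [5, 4, 3, 4, 2, 4, 6, 5, 4, 3, 4, 5]), (79, [5]), (80, []), (126, [3, 4, 4, 6, 4, 3, 4,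 6, 5, 6]), (187, [3, 4, 3, 6, 4, 4, 4, 3, 4, 5]), (123, [4, 3, 4, 3, 6, 4, 4, 6, 3, 4]), (86, [5]), (87, []), (214, []), (122, [5]), (217, []), (125, [5]), (219, []), (223, []), (226, []), (68, [2, 4, 2, 4, 2, 3, 4, 2, 4, 4, 4, 3, 4]), (148, [5]), (190, [4, 4]), (155, [5, 5]), (84, [5]), (85, []), (231, []), (235, []), (238, []), (71, [2, 4, 2, 4, 3, 2, 4, 2, 4, 4, 4, 3, 4]), (157, [5]), (200, [4, 4]), (146, [5, 5]), (77, [5]), (78, []), (180, [5, 6, 4, 2, 3, 4, 2, 3, 4, 4, 3, 5]), (244, [1, 3, 4, 4, 5, 6, 4, 3, 2, 4, 4, 2]), (249, []), (172, [3, 4, 4, 3, 2, 5, 4, 5, 6, 4, 3]), (82, [3, 5, 4, 3, 2, 4, 4, 6, 4, 3, 5]), (75, [4, 2, 3, 4, 2, 3, 4, 4, 3, 2, 4, 4, 4]), (251, [1, 3, 5, 4, 6, 5, 4, 3, 2, 4, 4, 2]), (76, [3, 6, 4, 4, 6, 4, 2, 3, 4, 6, 4, 3]), (168, [1, 3, 5, 4, 6,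 5, 4, 3, 2, 4, 4, 2]), (196, [0, 1, 6, 4, 3]), (254, [3, 4, 3, 2, 4, 4, 6, 4, 5, 6, 3]), (248, [1, 4, 4, 2, 4, 3, 4, 4, 6, 4, 4, 3]), (163, [1, 4, 2, 5, 4, 3, 4, 4, 5, 6, 4, 3]), (259, [3, 4, 4, 3, 2, 4, 4, 6, 4, 4, 4, 3]), (83, [3, 5, 4, 6, 3, 4, 4, 4, 2, 4, 3, 4]), (175, [3, 4, 4, 3, 2, 4, 4, 6, 4, 4, 4, 3]), (88, [6, 4, 3, 4, 3, 4, 6, 5, 4, 6]), (177, [0, 4, 2, 5, 4, 3, 4, 4, 6, 4, 2]), (106, [6, 4, 4, 4, 3, 2, 4, 4, 6, 4, 2]), (92, [2, 4, 2, 3, 4, 3, 4, 4, 4, 2, 4, 3, 4]), (160, [4, 3, 2, 5, 4, 3, 4, 2, 4, 6, 3, 5]), (181, [1, 6, 4, 6, 4, 4, 2, 3, 4, 5, 5]), (95, [2, 4, 2, 3, 4, 3, 4, 4, 4, 2, 4, 3, 4]), (258, [4, 2, 4, 6, 3, 4, 5, 4, 5]), (109, [0, 3, 4, 3, 6, 4, 2, 4, 6]), (198, [0, 3, 4, 3, 6, 4, 2, 4, 6]), (97, [2, 4, 2, 3, 4, 2, 4, 3, 4, 4, 4, 4]), (129, [4, 4, 4,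 6, 4, 3, 4, 6, 4, 4, 3, 2, 4]), (110, []), (98, []), (156, [4, 4, 4, 4, 4]), (211, [4, 3, 4, 3, 5, 6, 4, 6, 3, 4, 5]), (203, [5, 4, 5, 4]), (101, [5, 4, 5]), (113, []), (192, [5, 4]), (169, [4, 2, 4, 4, 3, 4, 4, 2, 3, 4, 3, 6]), (250, [6, 4, 3, 4, 4, 6, 4, 3, 4, 4, 4]), (185, [2, 5, 4, 3, 5, 6, 4, 3, 4, 4, 2]), (134, [5, 4, 3, 4, 3, 5, 6, 4, 6, 3]), (147, [4, 4, 4, 4, 4]), (210, [4, 2, 4, 6, 4, 3, 4, 5, 6, 4, 3, 4]), (195, [5, 4, 5, 4]), (202, [5, 4]), (256, [3, 4, 2, 4, 4, 6, 4, 6, 3, 4, 4, 3]), (205, [5, 6, 4, 2, 6, 3, 4, 4, 6, 4, 4]), (116, [4, 2, 4, 2, 3, 4, 2, 4, 3, 4, 4, 4]), (246, [3, 4, 4, 4, 6, 4, 6, 3, 4, 2, 4, 3, 2]), (208, [1, 4, 3, 2, 4, 5, 4, 6, 4]), (118, [4, 2, 4, 3, 2, 4, 2, 4, 3, 4, 4, 4]), (191, [4, 2, 6, 3, 4, 6, 4, 4, 3, 2, 4, 3]), (201, [3, 4, 6, 3, 4,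 6, 4, 4, 3, 4]), (227, [4, 4, 3, 5]), (216, [1, 2, 4, 2, 5, 5, 4, 2, 3, 4, 2, 4, 6]), (138, [2, 4, 2, 4, 2, 3, 4, 2, 4, 4, 4, 3, 4]), (239, [4, 4, 2, 5]), (213, [6, 4, 4, 3, 2, 4, 5, 4]), (140, [2, 4, 2, 4, 3, 2, 4, 2, 4, 4, 4, 3, 4]), (265, []), (142, [2, 4, 2, 4, 2, 3, 4, 2, 4, 4, 4, 3, 4]), (225, [1, 6, 4, 2, 6, 4, 3, 4, 5, 6, 4, 3]), (264, [4, 4, 4, 6, 4, 5, 6, 3, 4, 4, 2]), (224, [1, 6, 4, 2, 6, 4, 3, 4, 5, 6, 4, 3]), (143, [2, 4, 2, 4, 2, 3, 4, 2, 4, 4, 4, 3, 4]), (222, [2, 4, 2, 3, 6, 4, 4, 2, 3, 4, 3, 6]), (220, [2, 4, 2, 3, 6, 4, 4, 2, 3, 4, 3, 6]), (144, [2, 4, 2, 4, 2, 3, 4, 2, 4, 4, 4, 3, 4]), (212, [6, 4, 3, 6, 4, 5, 6, 3, 4, 3, 2, 4]), (240, [1, 2, 4, 2, 5, 5, 4, 2, 3, 4, 2, 4, 6]), (247, [3, 5, 4, 2, 3, 4, 4, 2, 6]), (267, []), (151, [2, 4, 2, 4, 3, 2, 4, 2,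 4, 4, 4, 3, 4]), (237, [2, 4, 4, 3, 4, 4, 4, 6, 4, 6, 5, 6]), (266, [1, 4, 4, 4, 2, 3, 4, 4, 5, 6, 4, 3]), (236, [2, 4, 4, 3, 4, 4, 4, 6, 4, 6, 5, 6]), (152, [2, 4, 2, 4, 3, 2, 4, 2, 4, 4, 4, 3, 4]), (234, [0, 4, 6, 4, 3, 4, 2, 4, 6]), (232, [0, 4, 6, 4, 3, 4, 2, 4, 6]), (153, [2, 4, 2, 4, 3, 2, 4, 2, 4, 4, 4, 3, 4]), (215, [0, 6, 4, 4, 6, 3, 4, 2, 4, 4, 3, 4, 6]), (228, [6, 4, 4, 3, 2, 4, 5, 4]), (257, [6, 4, 4, 4, 3, 2, 4, 3, 6, 4, 4]), (252, [3, 4, 4, 3, 2, 5, 4, 5, 6, 4, 3]), (268, [1, 3, 5, 4, 6, 5, 4, 3, 2, 4, 4, 2]), (161, [3, 6, 4, 4, 6, 4, 2, 3, 4, 6, 4, 3]), (245, [1, 3, 5, 4, 6, 5, 4, 3, 2, 4, 4, 2]), (207, [0, 6, 4, 3, 5, 6, 4, 3, 4, 2, 4, 5]), (229, [2, 6, 4, 3, 4, 3, 2, 4, 3, 4, 5, 5]), (171, [3, 5, 4, 3, 2, 4, 4, 6, 4, 3, 5]), (162, [4, 2, 3, 4, 2, 3, 4, 4,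 3, 2, 4, 4, 4]), (197, [4, 4, 6, 3, 4, 5, 6, 4, 4, 2]), (166, [1, 3, 5, 4, 6, 5, 4, 3, 2, 4, 4, 2]), (242, [1, 4, 2, 5, 4, 3, 4, 4, 5, 6, 4, 3]), (269, [0, 1, 6]), (170, [3, 5, 4, 6, 3, 4, 4, 4, 2, 4, 3, 4]), (255, [3, 4, 4, 3, 2, 4, 4, 6, 4, 4, 4, 3]), (204, [6, 4, 5, 6, 4, 3, 4, 3, 2, 4, 3, 5]), (241, [0, 6, 5, 4, 3, 4, 2, 4, 3, 4, 5, 4]), (183, [2, 4, 6, 3, 5, 4, 2, 3, 4, 2, 3, 5, 4]), (173, [3, 4, 4, 3, 2, 4, 4, 6, 4, 4, 4, 3]), (262, [1, 2, 4, 2, 5, 5, 4, 2, 3, 4, 2, 4, 6]), (261, [4, 4, 2, 4, 3, 4, 4, 6, 4, 4, 2]), (260, [6, 4, 4, 3, 2, 4, 5, 4]), (263, [4, 2, 6, 3, 5, 4, 2, 3, 4, 4, 6]), (221, [4, 4, 4, 6, 4, 5, 6, 3, 4, 4, 2]), (218, [2, 4, 2, 4, 2, 3, 4, 2, 4, 4, 4, 3, 4]), (233, [0, 6, 4, 6, 3, 4, 2, 5, 4, 5]), (230, [2, 4, 2, 4, 3, 2, 4, 2, 4, 4, 4, 3, 4]), (243,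 [1, 3, 5, 4, 6, 5, 4, 3, 2, 4, 4, 2]), (253, [2, 3, 4, 6, 4, 3, 4, 3, 6, 4, 6, 3, 4, 4])]

noncomputable def coverStep9 : List (Nat × List Nat) := [(0, [0, 1, 6]), (5, []), (4, [0]), (11, []), (1, []), (2, [0]), (6, [2, 3, 4, 6, 4, 3, 4, 3, 6, 4, 6, 3, 4, 4]), (10, [0]), (24, []), (27, []), (3, []), (7, [0]), (37, [2, 4, 2, 3, 4, 3, 4, 4, 4, 2, 4, 3, 4]), (17, [4]), (13, [5, 4, 5, 4, 5]), (34, [2, 4, 6, 4, 3, 4, 3, 6, 4, 3, 6, 4, 4]), (14, [4]), (16, [5, 4, 5, 4, 5]), (23, [0]), (26, [0]), (57, []), (59, []), (61, []), (8, []), (18, [0]), (67, []), (9, []), (19, [0]), (31, [6]), (73, []), (63, []), (28, [2, 4, 3, 2, 4, 2, 4, 4, 4, 3, 4, 2, 4, 6]), (70, []), (65, []), (15, [2, 6]), (90, [4, 4, 4, 2, 3, 4, 4, 4, 6, 4, 4]), (94, [2, 4, 2, 3, 4, 3, 4, 4, 4, 2, 4, 3, 4]), (12,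 []), (49, [4]), (51, [4, 5, 5]), (50, [5, 4]), (38, [5, 4, 5, 4, 5]), (40, [5, 4, 5, 4]), (39, [4, 4, 4, 5]), (104, [2, 3, 4, 3, 2, 4, 6, 4, 5, 4, 6]), (108, [2, 4, 2, 4, 4, 3, 4, 4, 2, 3, 4, 3, 4]), (41, [4]), (43, [4, 5, 5]), (42, [5, 4]), (46, [5, 4, 5, 4, 5]), (48, [5, 4, 5, 4]), (47, [4, 4, 4, 5]), (56, [0]), (58, [0]), (60, [0]), (66, [0]), (20, []), (52, [0]), (21, []), (53, [0]), (22, []), (54, [0]), (121, [2, 4, 6, 3, 4, 4, 6, 4, 2, 4, 3, 4, 6]), (33, []), (124, [3, 4, 3, 6, 5, 4, 3, 6, 4, 3, 4]), (30, []), (25, []), (55, [0]), (145, [2, 4, 2, 4, 2, 3, 4, 2, 4, 4, 4, 3, 4]), (119, [4, 4, 4]), (29, []), (154, [2, 4, 2, 4, 3, 2, 4, 2, 4, 4, 4, 3, 4]), (117, [4, 4, 4]), (32, []), (81, [6]), (165, [4, 2, 3, 4, 2, 3, 4, 4, 3, 2, 4, 4, 4]), (167, [3, 6, 4, 3, 2, 4, 4, 6,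 4, 3]), (158, [5, 5]), (159, []), (131, [5, 5]), (132, []), (74, [2, 4, 3, 2, 4, 2, 4, 4, 4, 3, 4, 2, 4, 6]), (164, [3, 4, 6, 5, 4, 2, 3, 4, 4, 2, 6]), (174, [6, 4, 3, 2, 4, 2, 4, 6, 3, 4, 3]), (149, [5, 5]), (150, []), (136, [5, 5]), (137, []), (176, [4, 4, 6, 4, 6, 3, 5, 4, 6]), (107, [2, 4, 4, 4, 5, 6, 3, 4, 3, 4, 6]), (35, [1, 6, 4, 6, 4, 3, 2, 4, 6, 4, 4]), (91, [0, 3, 5, 4, 6, 3, 4, 2, 4, 4, 6]), (179, [2, 4, 2, 3, 4, 3, 4, 4, 4, 2, 4, 3, 4]), (96, [1, 4, 5, 4, 5, 6, 4, 2, 3, 4, 5]), (36, []), (182, [2, 4, 2, 3, 4, 3, 4, 4, 4, 2, 4, 3, 4]), (93, [1, 4, 4, 4, 5, 6, 4, 2, 3, 4]), (186, [2, 4, 2, 3, 4, 2, 4, 3, 4, 4, 4, 4]), (189, []), (115, [4]), (114, [4]), (193, [4, 5, 4]), (100, [5, 4, 5, 4, 5]), (99, [5, 4, 5, 4, 5]), (44, [3, 4, 4, 4, 2, 4, 3, 4, 6, 3, 4]), (105,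 [5, 4, 6, 4, 2, 3, 4, 3, 2, 4, 6]), (178, [4, 4, 6, 5, 4, 3, 4, 3, 4, 2]), (89, [4, 5, 6, 4, 6, 3, 5, 4, 2]), (45, []), (184, [1, 5, 4, 5, 6, 4, 2, 3, 4, 4]), (188, []), (103, [4]), (102, [4]), (194, []), (112, [5, 4, 5, 4, 5]), (111, [5, 4, 5, 4, 5]), (206, [4, 2, 4, 2, 3, 4, 2, 4, 3, 4, 4, 4]), (69, [4, 4, 4, 4]), (209, [4, 2, 4, 3, 2, 4, 2, 4, 3, 4, 4, 4]), (72, [4, 4, 4, 4]), (130, [4, 3, 4, 2, 4, 6, 5, 4, 3, 4]), (64, [3, 4, 3, 6, 5, 4, 3, 6, 4, 3, 4]), (139, [5, 5]), (135, [3, 4, 3, 4, 4, 6, 3, 5, 4, 3, 4]), (62, [2, 4, 6, 3, 4, 4, 6, 4, 2, 4, 3, 4, 6]), (141, [5, 5]), (133, [5, 4, 3, 4, 3, 5, 6, 4, 6, 3, 5]), (128, [2, 3, 4, 6, 3, 4, 2, 4, 3, 2, 4, 4, 6]), (126, [0, 2, 5, 4, 3, 4, 2, 4, 3, 4, 6, 4]), (187, [0, 2, 5, 5, 4, 3, 4, 2, 4, 3, 4, 6, 4]), (123, [4, 3, 4, 3,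 6, 4, 4, 6, 3, 4]), (86, [5]), (87, []), (127, [3, 4, 4, 6, 4, 3, 4, 6, 5, 6]), (199, [3, 4, 3, 6, 4, 4, 4, 3, 4, 5]), (120, [5, 4, 3, 4, 2, 4, 6, 5, 4, 3, 4, 5]), (79, [5]), (80, []), (214, [2, 4, 2, 4, 2, 3, 4, 2, 4, 4, 4, 3, 4]), (125, [5]), (217, [2, 4, 2, 4, 3, 2, 4, 2, 4, 4, 4, 3, 4]), (122, [5]), (219, [2, 4, 2, 4, 2, 3, 4, 2, 4, 4, 4, 3, 4]), (223, [2, 4, 2, 4, 2, 3, 4, 2, 4, 4, 4, 3, 4]), (226, [2, 4, 2, 4, 2, 3, 4, 2, 4, 4, 4, 3, 4]), (68, []), (157, [5]), (200, [4, 4]), (146, [5, 5]), (77, [5]), (78, []), (231, [2, 4, 2, 4, 3, 2, 4, 2, 4, 4, 4, 3, 4]), (235, [2, 4, 2, 4, 3, 2, 4, 2, 4, 4, 4, 3, 4]), (238, [2, 4, 2, 4, 3, 2, 4, 2, 4, 4, 4, 3, 4]), (71, []), (148, [5]), (190, [4, 4]), (155, [5, 5]), (84, [5]), (85, []), (180, [2, 3, 4, 6, 5, 4, 3, 4, 3, 6, 4, 5]),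 (244, [3, 6, 4, 3, 2, 4, 4, 6, 4, 3]), (249, [4, 2, 3, 4, 2, 3, 4, 4, 3, 2, 4, 4, 4]), (172, [3, 4, 6, 5, 4, 2, 6, 3, 4, 4, 2]), (82, [2, 5, 4, 2, 4, 3, 4, 6, 5, 4, 3, 4]), (75, []), (251, [3, 6, 5, 4, 3, 2, 4, 4, 6, 4, 3]), (76, [6, 4, 3, 4, 6, 3, 4, 4, 2, 6, 4, 3]), (168, [3, 6, 5, 4, 3, 2, 4, 4, 6, 4, 3]), (196, [3, 4, 3, 6, 4, 3, 6, 4, 4, 2]), (254, [6, 4, 3, 2, 4, 2, 4, 6, 3, 4, 3]), (248, [3, 4, 6, 5, 4, 2, 3, 4, 4, 2, 6]), (163, [3, 2, 4, 2, 6, 5, 4, 3, 6, 4, 3, 4]), (259, [3, 4, 3, 4, 4, 2, 4, 6, 4, 4, 3, 4]), (83, [3, 4, 5, 6, 4, 2, 3, 4, 6, 4, 6, 3]), (175, [3, 4, 3, 4, 4, 2, 4, 6, 4, 4, 3, 4]), (88, [4, 4, 6, 4, 4, 4, 3, 4, 4, 6]), (177, [4, 4, 6, 4, 5, 5, 4, 3, 4, 6]), (106, [4, 6, 4, 4, 2, 6, 3, 4, 4, 2]), (92, []), (160, [3, 4, 3, 4, 4, 4, 2, 4, 3, 4, 6, 3]),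 (181, [4, 4, 4, 2, 3, 4, 4, 4, 5, 6, 4]), (95, []), (258, [1, 3, 4, 4, 6, 4, 3, 5, 5, 4, 2, 4, 3]), (109, [2, 4, 4, 3, 4, 2, 4, 6, 4, 5, 4]), (198, [2, 4, 4, 3, 4, 2, 4, 6, 4, 5, 4]), (97, []), (134, [5, 4, 3, 4, 3, 5, 6, 4, 6, 3]), (98, []), (110, []), (147, [4, 4, 4, 4, 4]), (210, [4, 2, 4, 6, 4, 3, 4, 5, 6, 4, 3, 4]), (195, [5, 4, 5, 4]), (113, [5, 4, 5]), (101, []), (202, [5, 4]), (169, [3, 6, 4, 6, 4]), (250, [2, 4, 4, 6, 3, 4, 5, 5, 4, 3, 4]), (185, [1, 5, 4, 5, 6, 4, 2, 3, 4, 4]), (129, [4, 4, 4, 6, 4, 3, 4, 6, 4, 4, 3, 2, 4]), (156, [4, 4, 4, 4, 4]), (211, [4, 3, 4, 3, 5, 6, 4, 6, 3, 4, 5]), (203, [5, 4, 5, 4]), (192, [5, 4]), (256, [2, 3, 4, 3, 2, 4, 6, 3, 4]), (205, [1, 4, 5, 4, 2, 3, 4, 2, 3, 4, 6, 4]), (116, []), (246, [4, 5, 4, 3, 2, 4, 3, 6, 5, 4]), (208, [0,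 2, 6, 4, 6, 3, 4, 3, 5, 5, 4]), (118, []), (201, [4, 2, 6, 3, 4, 6, 4, 4, 3, 2, 4, 3]), (191, [3, 4, 6, 3, 4, 6, 4, 4, 3, 4]), (227, [4, 3, 4, 3, 4, 2, 4, 3, 4, 3, 2, 5, 4]), (216, [1, 5, 4, 3, 2, 4, 4, 5, 4, 6]), (138, []), (239, [4, 2, 3, 4, 4, 3, 6, 4, 6, 3, 4, 6, 5]), (213, [4, 2, 3, 4, 2, 3, 4, 5, 4, 5, 6]), (140, []), (265, [2, 4, 2, 4, 2, 3, 4, 2, 4, 4, 4, 3, 4]), (142, []), (225, [3, 4, 5, 4, 6, 4, 3, 4, 4, 2, 4]), (264, [1, 3, 2, 4, 3, 4, 6, 4, 5, 5, 4]), (224, [3, 4, 5, 4, 6, 4, 3, 4, 4, 2, 4]), (143, []), (222, [5, 6, 3, 4, 6, 4, 4, 2, 3, 4, 2]), (220, [5, 6, 3, 4, 6, 4, 4, 2, 3, 4, 2]), (144, []), (212, [3, 4, 5, 5, 4]), (240, [1, 5, 4, 3, 2, 4, 4, 5, 4, 6]), (247, [3, 4, 3, 2, 4, 5, 6, 3, 4, 2, 6, 4]), (267, [2, 4, 2, 4, 3, 2, 4, 2, 4, 4, 4, 3, 4]), (151, []),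 (237, [0, 4, 6, 4, 2, 4, 6, 4, 3, 4, 6]), (266, [1, 2, 4, 2, 3, 5, 4, 6, 4]), (236, [0, 4, 6, 4, 2, 4, 6, 4, 3, 4, 6]), (152, []), (234, [5, 6, 4, 6, 3, 4, 3, 4, 4, 2]), (232, [5, 6, 4, 6, 3, 4, 3, 4, 4, 2]), (153, []), (215, [2, 4, 5, 5, 4]), (228, [4, 2, 3, 4, 2, 3, 4, 5, 4, 5, 6]), (257, [0, 1, 3, 4, 3, 4, 2, 4, 3, 4, 4, 5, 6]), (252, [3, 4, 6, 5, 4, 2, 6, 3, 4, 4, 2]), (268, [3, 6, 5, 4, 3, 2, 4, 4, 6, 4, 3]), (161, [6, 4, 3, 4, 6, 3, 4, 4, 2, 6, 4, 3]), (245, [3, 6, 5, 4, 3, 2, 4, 4, 6, 4, 3]), (207, [4, 6, 4, 4, 3, 4, 2, 4, 3, 6, 4, 5]), (229, [1, 6, 4, 2, 4, 3, 5, 5, 4]), (171, [2, 5, 4, 2, 4, 3, 4, 6, 5, 4, 3, 4]), (162, []), (197, [4, 3, 4, 4, 6, 4, 4, 4, 3, 4, 6, 3]), (166, [3, 6, 5, 4, 3, 2, 4, 4, 6, 4, 3]), (242, [3, 2, 4, 2, 6, 5, 4, 3, 6, 4, 3, 4]), (269, [2,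 4, 3, 2, 4, 2, 4, 4, 4, 3, 4, 2, 4, 6]), (170, [3, 4, 5, 6, 4, 2, 3, 4, 6, 4, 6, 3]), (255, [3, 4, 3, 4, 4, 2, 4, 6, 4, 4, 3, 4]), (204, [0, 4, 2, 4, 4, 2, 6, 4, 3, 4, 5, 6]), (241, [4, 5, 5, 4, 3, 2, 4, 3, 4, 6, 4, 5]), (183, [3, 2, 4, 6, 4, 3, 5, 5, 4]), (173, [3, 4, 3, 4, 4, 2, 4, 6, 4, 4, 3, 4]), (262, [1, 5, 4, 3, 2, 4, 4, 5, 4, 6]), (261, [4, 6, 4, 4, 4, 3, 2, 4, 4, 5, 6]), (260, [4, 2, 3, 4, 2, 3, 4, 5, 4, 5, 6]), (263, [4, 5, 4, 6, 5, 4, 3, 2, 4]), (221, [1, 3, 2, 4, 3, 4, 6, 4, 5, 5, 4]), (218, []), (233, [3, 4, 2, 4, 3, 5, 4, 2, 6, 4, 4]), (230, []), (243, [3, 6, 5, 4, 3, 2, 4, 4, 6, 4, 3]), (253, [6])]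

noncomputable def coverEdge0 : List Step := [⟨6, [], []⟩,
  ⟨6, [(2, true)], []⟩,
  ⟨6, [(1, true), (2, true)], []⟩,
  ⟨6, [(3, true), (2, true)], []⟩,
  ⟨7, [], []⟩,
  ⟨7, [(1, true)], [0]⟩,
  ⟨6, [(2, true), (1, true), (2, true)], []⟩,
  ⟨6, [(3, true), (1, true), (2, true)], []⟩,
  ⟨6, [(4, true), (3, true), (2, true)], []⟩,
  ⟨6, [(2, true), (4, true), (3, true), (2, true)], [2]⟩,
  ⟨7, [(3, true)], []⟩,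
  ⟨7, [(3, true), (1, true)], [0]⟩,
  ⟨7, [(2, true)], []⟩,
  ⟨7, [(4, true)], []⟩,
  ⟨7, [(2, true), (4, true), (2, true)], []⟩,
  ⟨7, [(2, true), (1, true)], [0]⟩,
  ⟨7, [(4, true), (1, true)], [0]⟩,
  ⟨7, [(2, true), (4, true), (2, true), (1, true)], [0]⟩,
  ⟨6, [(4, true), (3, true), (1, true), (2, true)], []⟩,
  ⟨6, [(2, true), (4, true), (3, true), (1, true), (2, true)], [3]⟩,
  ⟨6, [(3, true), (4, true), (3, true), (2, true)], []⟩,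
  ⟨6, [(4, true), (4, true), (3, true), (2, true)], []⟩,
  ⟨6, [(5, true), (4, true), (3, true), (2, true)], []⟩,
  ⟨7, [(5, true), (4, true), (3, true), (2, true), (4, true), (2, true)], [4, 4, 4, 5]⟩,
  ⟨7, [(5, true), (4, true), (3, true), (2, true), (4, true), (2, true), (1, true)], [0, 4, 4, 4, 5]⟩,
  ⟨6, [(5, true), (2, true), (4, true), (3, true), (2, true)], [2]⟩,
  ⟨7, [(3, true), (4, true), (3, true), (2, true), (4, true), (2, true)], [4]⟩,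
  ⟨7, [(3, true), (4, true), (3, true), (2, true), (4, true), (2, true), (1, true)], [0, 4]⟩,
  ⟨7, [(2, true), (3, true)], []⟩,
  ⟨7, [(4, true), (3, true)], []⟩,
  ⟨7, [(2, true), (4, true), (2, true), (3, true)], []⟩,
  ⟨7, [(2, true), (3, true), (1, true)], [0]⟩,
  ⟨7, [(4, true), (3, true), (1, true)], [0]⟩,
  ⟨7, [(2, true), (4, true), (2, true), (3, true), (1, true)], [0]⟩,
  ⟨7, [(3, true), (2, true)], []⟩,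
  ⟨7, [(4, true), (2, true)], []⟩,
  ⟨7, [(2, true), (4, true)], []⟩,
  ⟨7, [(3, true), (2, true), (1, true)], [2, 4, 6, 4, 3, 4, 3, 6, 4, 6, 3, 4, 4]⟩,
  ⟨7, [(3, true), (4, true)], []⟩,
  ⟨7, [(4, true), (4, true)], []⟩,
  ⟨7, [(5, true), (4, true)], []⟩,
  ⟨7, [(3, true), (2, true), (4, true), (2, true)], []⟩,
  ⟨7, [(4, true), (5, true), (4, true)], [5]⟩,
  ⟨7, [(4, true), (4, true), (4, true)], [5, 5]⟩,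
  ⟨7, [(4, true), (2, true), (1, true)], [0]⟩,
  ⟨7, [(2, true), (4, true), (1, true)], [0]⟩,
  ⟨7, [(3, true), (4, true), (1, true)], [0]⟩,
  ⟨7, [(4, true), (4, true), (1, true)], [0]⟩,
  ⟨7, [(5, true), (4, true), (1, true)], [0]⟩,
  ⟨7, [(3, true), (2, true), (4, true), (2, true), (1, true)], [0]⟩,
  ⟨7, [(4, true), (5, true), (4, true), (1, true)], [0, 5]⟩,
  ⟨7, [(4, true), (4, true), (4, true), (1, true)], [0, 5, 5]⟩,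
  ⟨6, [(3, true), (4, true), (3, true), (1, true), (2, true)], []⟩,
  ⟨6, [(4, true), (4, true), (3, true), (1, true), (2, true)], []⟩,
  ⟨6, [(5, true), (4, true), (3, true), (1, true), (2, true)], []⟩,
  ⟨6, [(5, true), (2, true), (4, true), (3, true), (1, true), (2, true)], [3]⟩,
  ⟨7, [(2, true), (4, true), (2, true), (3, true), (4, true)], [5, 4, 5, 4, 5]⟩,
  ⟨7, [(2, true), (4, true), (2, true), (3, true), (4, true), (1, true)], [0, 5, 4, 5, 4, 5]⟩,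
  ⟨7, [(4, true), (5, true), (2, true), (3, true), (4, true), (3, true)], [4, 3, 4, 4, 2, 4, 4, 5, 6, 4, 3, 4]⟩,
  ⟨7, [(4, true), (5, true), (2, true), (3, true), (4, true), (3, true), (1, true)], [1, 5, 4, 3, 4, 4, 6, 4, 3, 4]⟩,
  ⟨7, [(4, true), (3, true), (2, true), (4, true), (2, true)], [4, 4, 4, 5]⟩,
  ⟨7, [(4, true), (3, true), (2, true), (4, true), (2, true), (1, true)], [0, 4, 4, 4, 5]⟩,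
  ⟨7, [(4, true), (2, true), (3, true), (4, true), (3, true)], [5, 4, 5, 4, 5]⟩,
  ⟨7, [(3, true), (4, true), (3, true)], [5, 4, 5, 4, 5]⟩,
  ⟨7, [(4, true), (2, true), (3, true), (4, true), (3, true), (1, true)], [0, 5, 4, 5, 4, 5]⟩,
  ⟨7, [(3, true), (4, true), (3, true), (1, true)], [0, 5, 4, 5, 4, 5]⟩,
  ⟨7, [(5, true), (2, true), (4, true), (2, true), (3, true), (4, true)], [5, 5, 4]⟩,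
  ⟨7, [(5, true), (2, true), (4, true), (2, true), (3, true), (4, true), (1, true)], [0, 5, 5, 4]⟩,
  ⟨7, [(5, true), (5, true), (4, true), (2, true), (3, true), (4, true)], [5, 5, 4]⟩,
  ⟨7, [(5, true), (3, true), (4, true), (3, true), (4, true)], [5, 4]⟩,
  ⟨7, [(3, true), (2, true), (4, true), (2, true), (3, true)], [4]⟩,
  ⟨7, [(5, true), (5, true), (4, true), (2, true), (3, true), (4, true), (1, true)], [0, 5, 5, 4]⟩,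
  ⟨7, [(5, true), (3, true), (4, true), (3, true), (4, true), (1, true)], [0, 5, 4]⟩,
  ⟨7, [(3, true), (2, true), (4, true), (2, true), (3, true), (1, true)], [0, 4]⟩,
  ⟨7, [(2, true), (3, true), (2, true)], []⟩,
  ⟨7, [(4, true), (2, true), (3, true)], []⟩,
  ⟨7, [(2, true), (4, true), (3, true)], []⟩,
  ⟨7, [(4, true), (4, true), (3, true)], []⟩,
  ⟨7, [(5, true), (4, true), (3, true)], []⟩,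
  ⟨7, [(4, true), (5, true), (4, true), (3, true)], [5]⟩,
  ⟨7, [(4, true), (4, true), (4, true), (3, true)], [5, 5]⟩,
  ⟨7, [(2, true), (3, true), (2, true), (1, true)], [0]⟩,
  ⟨7, [(4, true), (2, true), (3, true), (1, true)], [0]⟩,
  ⟨7, [(2, true), (4, true), (3, true), (1, true)], [0]⟩,
  ⟨7, [(4, true), (4, true), (3, true), (1, true)], [0]⟩,
  ⟨7, [(5, true), (4, true), (3, true), (1, true)], [0]⟩,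
  ⟨7, [(4, true), (5, true), (4, true), (3, true), (1, true)], [0, 5]⟩,
  ⟨7, [(4, true), (4, true), (4, true), (3, true), (1, true)], [0, 5, 5]⟩,
  ⟨7, [(4, true), (3, true), (2, true)], []⟩,
  ⟨7, [(3, true), (2, true), (4, true)], [4, 4, 3, 4, 6, 4, 4, 4, 2, 3, 4, 3]⟩,
  ⟨7, [(4, true), (4, true), (2, true)], []⟩,
  ⟨7, [(5, true), (4, true), (2, true)], []⟩,
  ⟨7, [(2, true), (4, true), (4, true)], []⟩,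
  ⟨7, [(5, true), (2, true), (4, true)], []⟩,
  ⟨7, [(5, true), (3, true), (2, true), (4, true), (1, true)], [3, 6, 4, 4, 3, 2, 4, 6, 3, 5, 4]⟩,
  ⟨7, [(4, true), (3, true), (2, true), (1, true)], [2, 4, 6, 4, 3, 4, 3, 6, 4, 6, 3, 4, 4]⟩,
  ⟨7, [(3, true), (2, true), (4, true), (1, true)], [4, 4, 3, 4, 6, 5, 4, 3, 2, 6, 5]⟩,
  ⟨7, [(2, true), (3, true), (4, true)], []⟩,
  ⟨7, [(4, true), (3, true), (4, true)], []⟩,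
  ⟨7, [(5, true), (3, true), (4, true)], []⟩,
  ⟨7, [(3, true), (4, true), (4, true)], [5]⟩,
  ⟨7, [(2, true), (4, true), (3, true), (2, true), (4, true), (2, true)], [4, 3, 5, 4, 2, 4, 4, 3, 6, 4, 3]⟩,
  ⟨7, [(3, true), (4, true), (4, true), (4, true)], [5, 5]⟩,
  ⟨7, [(3, true), (4, true), (5, true), (4, true)], [5, 5]⟩,
  ⟨7, [(4, true), (4, true), (2, true), (1, true)], [0]⟩,
  ⟨7, [(5, true), (4, true), (2, true), (1, true)], [0]⟩,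
  ⟨7, [(2, true), (4, true), (4, true), (1, true)], [0]⟩,
  ⟨7, [(5, true), (2, true), (4, true), (1, true)], [0]⟩,
  ⟨7, [(5, true), (3, true), (2, true), (4, true)], [0, 6, 4, 3, 4, 2, 4, 6, 3, 5, 4, 3]⟩,
  ⟨7, [(2, true), (3, true), (4, true), (1, true)], [0]⟩,
  ⟨7, [(4, true), (3, true), (4, true), (1, true)], [0]⟩,
  ⟨7, [(5, true), (3, true), (4, true), (1, true)], [0]⟩,
  ⟨7, [(3, true), (4, true), (4, true), (1, true)], [0, 5]⟩,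
  ⟨7, [(2, true), (4, true), (3, true), (2, true), (4, true), (2, true), (1, true)], [0, 4, 3, 6, 5, 4, 6, 3, 5, 4, 3, 4, 4]⟩,
  ⟨7, [(3, true), (4, true), (4, true), (4, true), (1, true)], [0, 5, 5]⟩,
  ⟨7, [(3, true), (4, true), (5, true), (4, true), (1, true)], [0, 5, 5]⟩,
  ⟨7, [(4, true), (2, true), (3, true), (4, true)], [5, 4, 5, 4, 5]⟩,
  ⟨7, [(5, true), (2, true), (3, true), (2, true), (4, true), (3, true)], [4, 3, 4, 5, 4, 5, 6, 4, 3, 4, 2, 6]⟩,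
  ⟨7, [(4, true), (2, true), (3, true), (4, true), (1, true)], [0, 5, 4, 5, 4, 5]⟩,
  ⟨7, [(5, true), (2, true), (3, true), (2, true), (4, true), (3, true), (1, true)], [1, 5, 4, 3, 4, 4, 6, 4, 3, 4, 4]⟩,
  ⟨7, [(3, true), (4, true), (3, true), (4, true), (4, true)], [4, 4, 3, 5, 4, 2, 4, 6, 5, 4, 3, 4]⟩,
  ⟨7, [(5, true), (4, true), (3, true), (4, true), (3, true)], [4, 4, 5, 4]⟩,
  ⟨7, [(5, true), (2, true), (3, true), (4, true), (3, true)], [4, 3, 4, 4, 2, 4, 4, 5, 6, 4, 3, 4]⟩,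
  ⟨7, [(3, true), (4, true), (3, true), (4, true), (4, true), (1, true)], [1, 4, 3, 4, 4, 6, 4, 3, 4]⟩,
  ⟨7, [(5, true), (4, true), (3, true), (4, true), (3, true), (1, true)], [0, 4, 4, 5, 4]⟩,
  ⟨7, [(5, true), (2, true), (3, true), (4, true), (3, true), (1, true)], [1, 5, 4, 3, 4, 4, 6, 4, 3, 4]⟩,
  ⟨7, [(4, true), (4, true), (3, true), (2, true), (4, true), (2, true)], [4, 4, 4, 5]⟩,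
  ⟨7, [(4, true), (4, true), (3, true), (2, true), (4, true), (2, true), (1, true)], [0, 4, 4, 4, 5]⟩,
  ⟨7, [(4, true), (4, true), (5, true), (3, true), (4, true)], [0, 4, 4, 2, 4, 3, 4, 2, 4, 3, 4, 6, 4]⟩,
  ⟨7, [(2, true), (3, true), (4, true), (3, true)], [5, 4, 5, 4, 5]⟩,
  ⟨7, [(4, true), (3, true), (4, true), (3, true)], [5, 4, 5, 4, 5]⟩,
  ⟨7, [(5, true), (3, true), (4, true), (3, true)], [5, 4, 5, 4, 5]⟩,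
  ⟨7, [(3, true), (4, true), (4, true), (3, true)], [4, 4, 4, 5]⟩,
  ⟨7, [(4, true), (4, true), (5, true), (3, true), (4, true), (1, true)], [0, 4, 3, 6, 4, 6, 4, 4, 6, 3, 4, 4]⟩,
  ⟨7, [(2, true), (3, true), (4, true), (3, true), (1, true)], [0, 5, 4, 5, 4, 5]⟩,
  ⟨7, [(4, true), (3, true), (4, true), (3, true), (1, true)], [0, 5, 4, 5, 4, 5]⟩,
  ⟨7, [(5, true), (3, true), (4, true), (3, true), (1, true)], [0, 5, 4, 5, 4, 5]⟩,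
  ⟨7, [(3, true), (4, true), (4, true), (3, true), (1, true)], [0, 4, 4, 4, 5]⟩,
  ⟨7, [(5, true), (4, true), (2, true), (3, true), (4, true)], [5, 5, 4]⟩,
  ⟨7, [(5, true), (4, true), (3, true), (4, true)], [5, 5, 4]⟩,
  ⟨7, [(5, true), (4, true), (2, true), (3, true), (4, true), (1, true)], [0, 5, 5, 4]⟩,
  ⟨7, [(5, true), (4, true), (3, true), (4, true), (1, true)], [0, 5, 5, 4]⟩,
  ⟨7, [(4, true), (5, true), (3, true), (2, true), (4, true), (3, true)], [4, 2, 3, 5, 6, 4, 2, 4, 3, 2, 6]⟩,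
  ⟨7, [(2, true), (3, true), (2, true), (4, true), (2, true), (3, true)], [4]⟩,
  ⟨7, [(4, true), (2, true), (3, true), (4, true), (4, true)], [4]⟩,
  ⟨7, [(4, true), (4, true), (3, true), (2, true), (4, true), (3, true), (2, true), (1, true)], [6, 3, 5, 4, 3, 2, 4, 4, 2, 6]⟩,
  ⟨7, [(4, true), (4, true), (4, true), (3, true), (4, true)], [5, 5, 4]⟩,
  ⟨7, [(3, true), (4, true), (3, true), (4, true)], [5, 4]⟩,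
  ⟨7, [(2, true), (3, true), (2, true), (4, true), (3, true)], [4, 2, 3, 4, 6, 4, 3, 4, 6, 3, 2]⟩,
  ⟨7, [(4, true), (4, true), (3, true), (4, true)], [5, 5, 4]⟩,
  ⟨7, [(4, true), (5, true), (3, true), (4, true)], [5, 5, 4]⟩,
  ⟨7, [(4, true), (5, true), (3, true), (2, true), (4, true), (3, true), (1, true)], [6, 4, 6, 3, 4, 2, 4, 4, 2, 3, 4, 2]⟩,
  ⟨7, [(2, true), (3, true), (2, true), (4, true), (2, true), (3, true), (1, true)], [0, 4]⟩,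
  ⟨7, [(4, true), (2, true), (3, true), (4, true), (4, true), (1, true)], [0, 4]⟩,
  ⟨7, [(4, true), (4, true), (3, true), (2, true), (4, true), (3, true), (2, true)], [1, 4, 4, 2, 3, 4, 3, 4, 6, 4, 3, 4]⟩,
  ⟨7, [(4, true), (4, true), (4, true), (3, true), (4, true), (1, true)], [0, 5, 5, 4]⟩,
  ⟨7, [(3, true), (4, true), (3, true), (4, true), (1, true)], [0, 5, 4]⟩,
  ⟨7, [(2, true), (3, true), (2, true), (4, true), (3, true), (1, true)], [1, 5, 4, 3, 4, 4, 5, 6, 4, 3, 4, 4, 3]⟩,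
  ⟨7, [(4, true), (4, true), (3, true), (4, true), (1, true)], [0, 5, 5, 4]⟩,
  ⟨7, [(4, true), (5, true), (3, true), (4, true), (1, true)], [0, 5, 5, 4]⟩,
  ⟨7, [(4, true), (2, true), (3, true), (2, true)], []⟩,
  ⟨7, [(2, true), (4, true), (3, true), (2, true)], []⟩,
  ⟨7, [(3, true), (4, true), (2, true), (3, true)], []⟩,
  ⟨7, [(4, true), (4, true), (2, true), (3, true)], []⟩,
  ⟨7, [(5, true), (4, true), (2, true), (3, true)], []⟩,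
  ⟨7, [(5, true), (4, true), (2, true), (3, true), (1, true)], [3, 5, 4, 2, 3, 4, 4, 6, 4, 3, 5]⟩,
  ⟨7, [(3, true), (2, true), (4, true), (3, true)], []⟩,
  ⟨7, [(2, true), (4, true), (4, true), (3, true)], []⟩,
  ⟨7, [(5, true), (2, true), (4, true), (3, true)], []⟩,
  ⟨7, [(4, true), (2, true), (3, true), (2, true), (1, true)], [0]⟩,
  ⟨7, [(2, true), (4, true), (3, true), (2, true), (1, true)], [0]⟩,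
  ⟨7, [(3, true), (4, true), (2, true), (3, true), (1, true)], [0]⟩,
  ⟨7, [(4, true), (4, true), (2, true), (3, true), (1, true)], [0]⟩,
  ⟨7, [(3, true), (2, true), (4, true), (3, true), (1, true)], [0]⟩,
  ⟨7, [(2, true), (4, true), (4, true), (3, true), (1, true)], [0]⟩,
  ⟨7, [(5, true), (2, true), (4, true), (3, true), (1, true)], [0]⟩,
  ⟨7, [(4, true), (4, true), (3, true), (2, true)], []⟩,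
  ⟨7, [(5, true), (4, true), (3, true), (2, true)], []⟩,
  ⟨7, [(3, true), (2, true), (4, true), (4, true)], [4, 4, 3, 4, 2, 4, 4, 3, 6, 4, 3, 5]⟩,
  ⟨7, [(3, true), (2, true), (4, true), (4, true), (1, true)], [2, 3, 4, 3, 6, 4, 2, 3, 4, 4, 5]⟩,
  ⟨7, [(5, true), (4, true), (2, true), (3, true), (2, true), (1, true)], [2, 5, 4, 6, 4, 4, 2, 3, 4, 5]⟩,
  ⟨7, [(5, true), (4, true), (3, true), (2, true), (1, true)], [2, 5, 4, 6, 4, 4, 2, 3, 4, 5]⟩,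
  ⟨7, [(4, true), (4, true), (3, true), (2, true), (1, true)], [2, 4, 6, 4, 4, 2, 3, 4, 5]⟩,
  ⟨7, [(2, true), (4, true), (3, true), (4, true)], []⟩,
  ⟨7, [(5, true), (2, true), (3, true), (4, true)], []⟩,
  ⟨7, [(2, true), (3, true), (4, true), (4, true)], [5]⟩,
  ⟨7, [(5, true), (2, true), (3, true), (4, true), (1, true)], [3, 4, 3, 6, 4, 2, 4, 6]⟩,
  ⟨7, [(5, true), (5, true), (4, true), (3, true), (4, true)], []⟩,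
  ⟨7, [(2, true), (3, true), (4, true), (4, true), (3, true)], [4, 5, 6, 4, 3, 4, 6, 4, 4, 3, 2, 4]⟩,
  ⟨7, [(2, true), (3, true), (4, true), (4, true), (3, true), (1, true)], [0, 4, 3, 6, 4, 6, 4, 4, 6, 3]⟩,
  ⟨7, [(4, true), (3, true), (4, true), (3, true), (4, true)], [5, 5]⟩,
  ⟨7, [(4, true), (3, true), (4, true), (4, true)], [5]⟩,
  ⟨7, [(5, true), (4, true), (3, true), (4, true), (4, true)], [5]⟩,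
  ⟨7, [(3, true), (2, true), (4, true), (3, true), (4, true), (3, true)], [4, 4, 3, 4, 2, 4, 4, 3, 6, 4, 3, 5]⟩,
  ⟨7, [(3, true), (2, true), (4, true), (3, true), (4, true), (3, true), (1, true)], [2, 4, 2, 3, 4, 5, 6, 4, 6, 3, 4, 2, 3]⟩,
  ⟨7, [(2, true), (4, true), (3, true), (4, true), (3, true)], [4, 4, 3, 4, 2, 4, 4, 3, 6, 4, 3]⟩,
  ⟨7, [(5, true), (4, true), (2, true), (3, true), (2, true)], [1, 4, 4, 2, 4, 3, 4, 4, 6, 4, 6]⟩,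
  ⟨7, [(2, true), (4, true), (3, true), (4, true), (1, true)], [0]⟩,
  ⟨7, [(2, true), (3, true), (4, true), (4, true), (1, true)], [0, 5]⟩,
  ⟨7, [(5, true), (5, true), (4, true), (3, true), (4, true), (1, true)], [0]⟩,
  ⟨7, [(4, true), (3, true), (4, true), (3, true), (4, true), (1, true)], [0, 5, 5]⟩,
  ⟨7, [(4, true), (3, true), (4, true), (4, true), (1, true)], [0, 5]⟩,
  ⟨7, [(5, true), (4, true), (3, true), (4, true), (4, true), (1, true)], [0, 5]⟩,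
  ⟨7, [(2, true), (4, true), (3, true), (4, true), (3, true), (1, true)], [0, 3, 6, 4, 6, 4, 3, 4, 6, 3, 4, 4, 3]⟩,
  ⟨7, [(3, true), (4, true), (2, true), (3, true), (4, true)], [5, 4, 5, 4, 5]⟩,
  ⟨7, [(5, true), (3, true), (2, true), (4, true), (3, true)], [4, 3, 4, 5, 4, 5, 6, 4, 3, 4, 2, 6]⟩,
  ⟨7, [(3, true), (4, true), (3, true), (4, true), (2, true), (3, true), (1, true)], [6, 3, 4, 3, 2, 4, 4, 2, 6, 4, 4, 5]⟩,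
  ⟨7, [(3, true), (4, true), (2, true), (3, true), (4, true), (1, true)], [0, 5, 4, 5, 4, 5]⟩,
  ⟨7, [(5, true), (3, true), (2, true), (4, true), (3, true), (1, true)], [1, 5, 4, 3, 4, 4, 6, 4, 3, 4, 4]⟩,
  ⟨7, [(3, true), (4, true), (3, true), (4, true), (2, true), (3, true)], [3, 4, 4, 4, 6, 4, 6, 3, 4, 2, 4, 3, 2]⟩,
  ⟨7, [(3, true), (4, true), (3, true), (4, true), (3, true)], [4, 4, 3, 5, 4, 2, 4, 6, 5, 4, 3, 4]⟩,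
  ⟨7, [(3, true), (4, true), (3, true), (4, true), (3, true), (1, true)], [1, 4, 3, 4, 4, 6, 4, 3, 4]⟩,
  ⟨7, [(2, true), (4, true), (3, true), (4, true), (4, true)], [4, 4, 3, 4, 6, 5, 4, 2, 4, 2, 3]⟩,
  ⟨7, [(5, true), (2, true), (4, true), (3, true), (4, true)], [5, 5, 4]⟩,
  ⟨7, [(2, true), (4, true), (3, true), (4, true), (2, true), (3, true), (1, true)], [0, 3, 4, 2, 4, 6, 3, 4, 3, 4, 4, 5]⟩,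
  ⟨7, [(2, true), (4, true), (3, true), (4, true), (4, true), (1, true)], [1, 4, 3, 4, 4, 6, 4, 3, 5]⟩,
  ⟨7, [(5, true), (2, true), (4, true), (3, true), (4, true), (1, true)], [0, 5, 5, 4]⟩,
  ⟨7, [(2, true), (4, true), (3, true), (4, true), (2, true), (3, true)], [2, 3, 4, 4, 6, 3, 4, 2, 4, 4, 3, 5]⟩,
  ⟨7, [(2, true), (4, true), (4, true), (4, true), (3, true), (4, true)], [3, 4, 4, 5, 4, 3, 6, 4, 2, 4, 2, 3]⟩,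
  ⟨7, [(5, true), (4, true), (3, true), (4, true), (2, true), (3, true), (1, true)], [6, 3, 4, 3, 2, 4, 4, 2, 6]⟩,
  ⟨7, [(2, true), (3, true), (4, true), (2, true), (3, true)], [4]⟩,
  ⟨7, [(2, true), (4, true), (4, true), (3, true), (4, true)], [5, 5, 4]⟩,
  ⟨7, [(2, true), (4, true), (5, true), (3, true), (4, true)], [5, 5, 4]⟩,
  ⟨7, [(4, true), (2, true), (3, true), (4, true), (2, true), (3, true)], [0, 4, 4, 3, 6, 4, 3, 4, 6, 5, 4, 3, 6]⟩,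
  ⟨7, [(3, true), (4, true), (2, true), (3, true), (4, true), (4, true)], [4]⟩,
  ⟨7, [(2, true), (3, true), (4, true), (3, true), (4, true)], [5, 4]⟩,
  ⟨7, [(2, true), (3, true), (4, true), (4, true), (2, true), (3, true)], [2, 4, 3, 4, 6, 3, 4, 3, 5]⟩,
  ⟨7, [(3, true), (2, true), (4, true), (3, true), (4, true), (2, true), (3, true), (1, true)], [0, 3, 4, 2, 4, 4, 6, 4, 6, 3, 4, 4]⟩,
  ⟨7, [(3, true), (4, true), (4, true), (2, true), (3, true), (1, true)], [6, 3, 5, 4, 3, 2, 4, 4, 2, 6]⟩,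
  ⟨7, [(4, true), (3, true), (2, true), (4, true), (3, true), (2, true), (1, true)], [6, 3, 5, 4, 3, 2, 4, 4, 2, 6]⟩,
  ⟨7, [(2, true), (4, true), (4, true), (4, true), (3, true), (4, true), (1, true)], [1, 4, 4, 3, 5, 4, 6, 4, 4, 3]⟩,
  ⟨7, [(5, true), (4, true), (3, true), (4, true), (2, true), (3, true)], [1, 4, 2, 3, 5, 4, 3, 4, 6, 4, 3, 4]⟩,
  ⟨7, [(2, true), (3, true), (4, true), (2, true), (3, true), (1, true)], [0, 4]⟩,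
  ⟨7, [(2, true), (4, true), (4, true), (3, true), (4, true), (1, true)], [0, 5, 5, 4]⟩,
  ⟨7, [(2, true), (4, true), (5, true), (3, true), (4, true), (1, true)], [0, 5, 5, 4]⟩,
  ⟨7, [(4, true), (2, true), (3, true), (4, true), (2, true), (3, true), (1, true)], [1, 4, 2, 3, 4, 2, 4, 3, 4, 2, 3, 4, 5]⟩,
  ⟨7, [(3, true), (4, true), (2, true), (3, true), (4, true), (4, true), (1, true)], [0, 4]⟩,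
  ⟨7, [(2, true), (3, true), (4, true), (3, true), (4, true), (1, true)], [0, 5, 4]⟩,
  ⟨7, [(2, true), (3, true), (4, true), (4, true), (2, true), (3, true), (1, true)], [4, 5, 6, 4, 3, 4, 2, 4, 6]⟩,
  ⟨7, [(3, true), (2, true), (4, true), (3, true), (4, true), (2, true), (3, true)], [3, 4, 4, 4, 6, 4, 6, 3, 4, 2, 4, 3]⟩,
  ⟨7, [(3, true), (4, true), (4, true), (2, true), (3, true)], [1, 4, 4, 2, 3, 4, 3, 4, 6, 4, 3, 4]⟩,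
  ⟨7, [(4, true), (3, true), (2, true), (4, true), (3, true), (2, true)], [1, 4, 4, 2, 3, 4, 3, 4, 6, 4, 3, 4]⟩,
  ⟨7, [(4, true), (4, true), (2, true), (3, true), (2, true)], []⟩,
  ⟨7, [(3, true), (2, true), (4, true), (3, true), (2, true)], []⟩,
  ⟨7, [(2, true), (4, true), (4, true), (3, true), (2, true)], []⟩,
  ⟨7, [(5, true), (2, true), (4, true), (3, true), (2, true)], []⟩,
  ⟨7, [(4, true), (3, true), (4, true), (2, true), (3, true)], []⟩,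
  ⟨7, [(3, true), (2, true), (4, true), (3, true), (4, true)], [4, 4, 3, 4, 6, 4, 4, 4, 2, 3, 4, 3]⟩,
  ⟨7, [(5, true), (3, true), (4, true), (2, true), (3, true)], []⟩,
  ⟨7, [(5, true), (3, true), (4, true), (2, true), (3, true), (1, true)], [3, 5, 4, 2, 3, 4, 4, 6, 4, 3, 5]⟩,
  ⟨7, [(4, true), (3, true), (2, true), (4, true), (3, true)], []⟩,
  ⟨7, [(3, true), (2, true), (4, true), (4, true), (3, true)], [5]⟩,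
  ⟨7, [(4, true), (4, true), (2, true), (3, true), (2, true), (1, true)], [0]⟩,
  ⟨7, [(3, true), (2, true), (4, true), (3, true), (2, true), (1, true)], [0]⟩,
  ⟨7, [(2, true), (4, true), (4, true), (3, true), (2, true), (1, true)], [0]⟩,
  ⟨7, [(5, true), (2, true), (4, true), (3, true), (2, true), (1, true)], [0]⟩,
  ⟨7, [(4, true), (3, true), (4, true), (2, true), (3, true), (1, true)], [0]⟩,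
  ⟨7, [(3, true), (2, true), (4, true), (3, true), (4, true), (1, true)], [1, 4, 3, 4, 4, 6, 4, 3, 4, 4, 4]⟩,
  ⟨7, [(4, true), (3, true), (2, true), (4, true), (3, true), (1, true)], [0]⟩,
  ⟨7, [(3, true), (2, true), (4, true), (4, true), (3, true), (1, true)], [0, 5]⟩,
  ⟨7, [(5, true), (3, true), (2, true), (4, true), (3, true), (4, true)], [5, 5, 4]⟩,
  ⟨7, [(5, true), (3, true), (2, true), (4, true), (3, true), (2, true), (1, true)], [6, 3, 5, 4, 3, 2, 4, 4, 2, 6]⟩,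
  ⟨7, [(5, true), (3, true), (2, true), (4, true), (3, true), (4, true), (1, true)], [0, 5, 5, 4]⟩,
  ⟨7, [(5, true), (3, true), (2, true), (4, true), (3, true), (2, true)], [1, 4, 4, 2, 3, 4, 3, 4, 6, 4, 3, 4]⟩,
  ⟨7, [(2, true), (4, true), (3, true), (2, true), (4, true), (3, true), (2, true)], [2, 4, 3, 6, 4, 2, 4, 4, 6, 3, 5, 4, 2]⟩,
  ⟨7, [(5, true), (2, true), (3, true), (4, true), (2, true), (3, true)], [5, 6, 4, 2, 4, 2, 6, 3, 4, 6]⟩,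
  ⟨7, [(2, true), (4, true), (3, true), (2, true), (4, true), (3, true), (2, true), (1, true)], [6, 3, 5, 4, 3, 2, 4, 4, 2, 6]⟩,
  ⟨7, [(5, true), (2, true), (3, true), (4, true), (2, true), (3, true), (1, true)], [2, 3, 5, 6, 4, 4, 3, 6, 4, 2, 6]⟩,
  ⟨7, [(3, true), (2, true), (4, true), (4, true), (3, true), (2, true)], [5]⟩,
  ⟨7, [(3, true), (2, true), (4, true), (4, true), (3, true), (2, true), (1, true)], [3, 4, 2, 3, 4, 4, 6, 4, 3, 5]⟩]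

noncomputable def coverEdge1 : List Step := [⟨47, [(124, false), (23, false)], [4, 6, 4, 3, 4, 3, 6, 4, 5, 6, 3, 4]⟩,
  ⟨8, [], []⟩,
  ⟨8, [(19, true)], []⟩,
  ⟨8, [(23, true)], [1, 3, 2]⟩,
  ⟨8, [(124, true)], [2, 3, 6, 5]⟩,
  ⟨8, [(124, true), (19, true)], [4, 5, 6, 4, 3, 4, 4, 4, 6, 4, 3, 4]⟩,
  ⟨44, [], [0, 2, 5, 5]⟩,
  ⟨8, [(23, true), (19, true)], [1, 3, 2]⟩,
  ⟨8, [(21, true), (22, true), (23, true), (20, true)], [1, 2, 4, 2, 3, 4, 2, 4, 3, 4, 4, 4]⟩,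
  ⟨8, [(22, true), (20, true), (21, true)], [0, 2, 4, 3, 4, 2, 4, 3, 4, 4, 4, 4, 4, 2]⟩,
  ⟨8, [(23, true), (124, true), (19, true)], [4, 3, 6, 5, 4, 2, 4, 3, 5, 6, 4, 2, 4]⟩,
  ⟨8, [(23, true), (124, true)], [0, 6, 5]⟩,
  ⟨47, [(23, true), (124, true), (124, false), (23, false)], [1, 2, 5, 5]⟩,
  ⟨8, [(124, true), (21, true), (22, true)], [5, 4, 3, 4, 5, 6, 4, 2, 4, 6, 3]⟩,
  ⟨8, [(22, true), (21, true)], [0, 3, 4, 5, 4, 6, 4, 6, 3, 4, 6]⟩,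
  ⟨44, [(23, true), (124, true)], [1, 5, 6]⟩,
  ⟨8, [(21, true), (22, true), (124, true)], [0, 2, 4, 3, 6, 4, 3, 5, 6]⟩,
  ⟨8, [(22, true), (21, true), (19, true)], [3, 4, 5, 4, 6, 4, 6, 3, 4, 6]⟩,
  ⟨8, [(20, true), (22, true), (23, true), (20, true)], [4, 5, 4, 2, 3, 4, 3, 2, 4, 4]⟩,
  ⟨8, [(21, true), (21, true), (22, true)], [2, 3, 4, 3, 2, 4, 4, 2, 5, 4, 3, 5, 4, 2]⟩,
  ⟨8, [(22, true), (22, true), (21, true)], [1, 4, 4, 2, 3, 5, 4, 2, 3, 4, 2, 3]⟩,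
  ⟨8, [(23, true), (21, true), (20, true)], [2, 4, 3, 4, 2, 3, 5, 4, 3, 4, 2, 5]⟩,
  ⟨8, [(20, true), (23, true), (20, true), (19, true)], [4, 5, 4, 2, 3, 4, 3, 2, 4, 4]⟩,
  ⟨8, [(124, true), (124, true), (22, true), (23, true)], [2, 4, 2, 3, 4, 3, 6, 5, 4, 2, 6]⟩,
  ⟨8, [(124, true), (124, true), (23, true), (21, true)], [4, 6, 4, 4, 3, 6, 4, 3, 6, 4, 2]⟩,
  ⟨8, [(21, true), (20, true), (19, true)], [0, 2, 4, 3, 4, 2, 4, 3, 4, 4, 4, 4, 4, 2]⟩,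
  ⟨8, [(124, true), (21, true), (19, true)], [2, 3, 6, 5, 4, 2, 3, 4, 3, 2, 4, 4, 5]⟩,
  ⟨8, [(124, true), (21, true)], [2, 5, 6, 3, 4, 2, 3]⟩,
  ⟨8, [(124, true), (23, true), (19, true)], [0, 3, 6, 5]⟩,
  ⟨8, [(20, true), (23, true), (124, true)], [6, 4, 2, 3, 4, 3, 2, 5, 4, 5]⟩,
  ⟨8, [(20, true), (22, true), (19, true)], [4, 2, 3, 4, 5, 5, 4, 3, 2]⟩,
  ⟨8, [(124, true), (23, true)], [4, 5, 6, 4, 3, 4, 4, 4, 6, 4, 3, 4, 3]⟩,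
  ⟨8, [(20, true), (23, true), (124, true), (19, true)], [1, 5, 6, 4, 4, 2, 3, 4]⟩,
  ⟨8, [(20, true), (22, true)], [4, 2, 3, 4, 5, 5, 4, 2, 3]⟩,
  ⟨44, [(124, true)], [2, 5, 6, 3]⟩,
  ⟨91, [], [2, 3, 6]⟩,
  ⟨52, [], [1, 2, 5]⟩,
  ⟨47, [(124, true), (124, false), (23, false)], [0, 4, 3, 6, 5, 4, 2, 4, 5, 6, 3, 4, 2, 4]⟩,
  ⟨8, [(20, true), (23, true), (124, true), (21, true)], [0, 5, 4, 2, 4, 3, 4, 4, 6, 4, 4, 6, 3]⟩,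
  ⟨8, [(22, true), (124, true), (20, true)], [2, 6, 3, 4, 3, 2, 4, 5, 4]⟩,
  ⟨8, [(21, true), (124, true), (21, true)], [2, 3, 6, 4, 2, 3, 4, 3, 2, 4]⟩,
  ⟨8, [(23, true), (22, true), (21, true)], [1, 2, 3, 4, 5]⟩,
  ⟨8, [(22, true), (22, true), (20, true), (21, true)], [0, 3, 4, 3, 6, 4, 6, 3, 4, 6, 4]⟩,
  ⟨8, [(21, true), (22, true), (19, true)], [3, 5, 4, 5, 4, 6, 4, 6, 3, 4, 6]⟩,
  ⟨52, [(124, true)], [4, 3, 4, 3, 6, 4, 4, 2]⟩,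
  ⟨91, [(22, true)], [4, 6, 4, 2, 4, 3, 5, 6, 4]⟩,
  ⟨8, [(23, true), (124, true), (21, true), (22, true)], [3, 6, 4, 2, 4, 3, 5, 5, 4, 2, 4]⟩,
  ⟨8, [(124, true), (22, true), (21, true)], [5, 4, 6, 4, 3, 2, 4, 6, 4, 6]⟩,
  ⟨8, [(21, true), (124, true), (21, true), (19, true)], [4, 5, 4, 2, 3, 4, 6, 4, 4, 6]⟩,
  ⟨8, [(23, true), (22, true), (21, true), (19, true)], [1, 3, 2, 4, 5]⟩,
  ⟨8, [(22, true), (21, true), (21, true), (22, true)], [3, 4, 4, 4, 6, 4, 6, 3, 4, 5, 6]⟩,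
  ⟨8, [(21, true), (22, true)], [0, 3, 5, 4, 5, 4, 6, 4, 6, 3, 4, 6]⟩,
  ⟨8, [(22, true), (22, true), (21, true), (19, true)], [1, 4, 4, 2, 3, 5, 4, 2, 3, 4, 2, 3]⟩,
  ⟨8, [(23, true), (21, true), (20, true), (19, true)], [2, 4, 3, 4, 2, 3, 5, 4, 3, 4, 2, 5]⟩,
  ⟨8, [(20, true), (23, true), (20, true)], [4, 5, 4, 2, 3, 4, 3, 2, 4, 4]⟩,
  ⟨8, [(21, true), (20, true)], [0, 2, 4, 3, 4, 2, 4, 3, 4, 4, 4, 4, 4, 2]⟩,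
  ⟨8, [(21, true), (21, true), (22, true), (124, true)], [4, 4, 3, 4, 2, 4, 3, 5, 6, 4, 6, 3]⟩,
  ⟨8, [(22, true), (20, true), (124, true), (20, true)], [0, 2, 5, 4, 3, 6, 4, 3, 6, 5, 4]⟩,
  ⟨8, [(23, true), (21, true), (20, true), (124, true)], [2, 4, 3, 4, 6, 4, 4, 4, 3, 4, 6]⟩,
  ⟨8, [(23, true), (124, true), (21, true), (21, true)], [5, 4, 6, 3, 2, 4, 6, 5]⟩,
  ⟨8, [(23, true), (124, true), (21, true), (19, true)], [4, 6, 4, 2, 4, 3, 6, 4, 3, 6, 4]⟩,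
  ⟨8, [(23, true), (124, true), (21, true)], [4, 6, 3, 2, 4, 6]⟩,
  ⟨8, [(22, true), (21, true), (21, true), (20, true)], [0, 2, 6, 4, 3, 4, 2, 4, 4, 5]⟩,
  ⟨8, [(21, true), (124, true), (20, true)], [1, 4, 6, 5, 4, 3, 4, 6, 4, 5, 4, 3]⟩,
  ⟨8, [(22, true), (22, true), (21, true), (20, true)], [4, 3, 6, 4, 2, 4, 6, 3, 4, 5, 6, 4, 4]⟩,
  ⟨8, [(21, true), (124, true), (20, true), (19, true)], [2, 4, 3, 6, 4, 3, 6, 4, 4, 4]⟩,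
  ⟨8, [(21, true), (20, true), (124, true)], [0, 2, 4, 2, 4, 3, 4, 5, 4, 6, 5, 4, 3]⟩,
  ⟨8, [(124, true), (21, true), (21, true)], [2, 6, 3, 5, 4, 2, 3]⟩,
  ⟨8, [(124, true), (20, true), (23, true), (21, true)], [5, 6, 4, 2, 4, 3, 4, 3, 2, 4, 4, 4]⟩,
  ⟨8, [(20, true), (124, true), (21, true)], [1, 6, 4, 2, 4, 2, 3, 4, 2, 4, 3]⟩,
  ⟨8, [(23, true), (20, true), (22, true)], [6, 5, 4, 3, 4, 5, 6, 4, 3, 4, 6, 3]⟩,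
  ⟨8, [(23, true), (124, true), (124, true), (21, true)], [2, 3, 6, 4, 2, 4, 4, 3, 4, 2, 4, 4, 3]⟩,
  ⟨8, [(20, true), (124, true), (21, true), (19, true)], [0, 4, 6, 4, 2, 6, 4, 4, 3, 4, 2, 4, 4]⟩,
  ⟨8, [(23, true), (20, true), (22, true), (19, true)], [4, 3, 5, 6, 4, 3, 6, 4, 3, 6, 5, 4]⟩,
  ⟨8, [(124, true), (124, true), (19, true)], [0, 5, 6, 3]⟩,
  ⟨8, [(124, true), (23, true), (20, true), (21, true)], [1, 3, 4, 4, 5, 6, 4, 3, 2, 4, 4]⟩,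
  ⟨9, [], []⟩,
  ⟨8, [(23, true), (124, true), (22, true)], [6, 4, 2, 3, 4, 3, 2, 5, 4]⟩,
  ⟨8, [(23, true), (124, true), (20, true)], [5, 6, 4, 2, 3, 4, 3, 2, 5, 4, 5]⟩,
  ⟨8, [(22, true), (19, true)], [4, 4, 6, 4, 2, 3, 6, 4, 6]⟩,
  ⟨8, [(20, true), (19, true)], [4, 2, 3, 4, 5, 5, 4, 3, 2]⟩,
  ⟨8, [(124, true), (124, true)], [3, 4, 6, 4, 3, 4, 3, 6, 4, 5, 6, 3, 4]⟩,
  ⟨8, [(124, true), (22, true), (23, true), (22, true)], [2, 4, 2, 3, 4, 5, 6, 4, 3, 2, 4, 4]⟩,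
  ⟨9, [(22, true), (21, true)], [3, 4, 3, 2, 4, 3, 6, 5, 4, 3, 6, 4]⟩,
  ⟨8, [(23, true), (124, true), (22, true), (19, true)], [0, 2, 4, 3, 6, 4, 2, 6, 5]⟩,
  ⟨8, [(23, true), (124, true), (20, true), (19, true)], [1, 6, 4, 2, 3, 5, 4]⟩,
  ⟨8, [(22, true)], [4, 4, 6, 4, 3, 2, 6, 4, 6]⟩,
  ⟨8, [(20, true)], [4, 2, 3, 4, 5, 5, 4, 2, 3]⟩,
  ⟨52, [(21, true)], [1, 6, 4, 3, 4, 2, 4, 2, 3, 5, 4, 5]⟩,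
  ⟨91, [(21, true), (21, true)], [3, 5, 4, 3, 6, 4, 4, 4, 2, 6]⟩,
  ⟨91, [(20, true), (22, true)], [2, 3, 4, 3, 5, 6, 4, 3, 4, 4, 6, 4, 6]⟩,
  ⟨91, [(21, true)], [0, 3, 5, 4, 2, 4, 3, 5, 4, 2, 4, 2, 4]⟩,
  ⟨52, [(22, true)], [1, 2, 4, 3, 2, 4, 2, 4, 3, 5, 4, 6]⟩,
  ⟨52, [(124, true), (23, true)], [2, 3, 5, 5, 4, 2, 4, 3, 4, 6, 4, 4]⟩,
  ⟨52, [(21, true), (20, true)], [4, 4, 6, 4, 4, 3, 2, 4, 5, 5, 4]⟩,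
  ⟨91, [(21, true), (22, true)], [4, 4, 4, 2, 3, 4, 4, 6, 4, 2, 3, 6]⟩,
  ⟨52, [(23, true)], [0, 2, 4, 3, 6, 4, 4, 6, 4, 4]⟩,
  ⟨8, [(124, true), (22, true), (23, true), (20, true)], [2, 4, 4, 3, 4, 6, 4, 4, 4, 3, 6, 5, 4]⟩,
  ⟨8, [(22, true), (23, true), (22, true), (124, true)], [4, 2, 6, 3, 4, 4, 6, 4, 6]⟩,
  ⟨8, [(23, true), (21, true), (124, true), (21, true), (19, true)], [3, 4, 2, 3, 4, 3, 5, 6, 4, 4, 3, 6]⟩,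
  ⟨8, [(23, true), (124, true), (22, true), (21, true)], [0, 5, 4, 2, 4, 3, 4, 4, 6, 4, 4, 6, 3]⟩,
  ⟨8, [(21, true)], [4, 4, 5, 4, 2, 3, 4, 3, 2, 4, 4]⟩,
  ⟨8, [(22, true), (23, true), (20, true)], [0, 2, 5, 4, 2, 4, 3, 5, 5, 4, 2]⟩,
  ⟨8, [(21, true), (23, true), (21, true), (20, true)], [1, 4, 2, 4, 3, 2, 4, 2, 4, 3, 5, 4]⟩,
  ⟨52, [(20, true)], [2, 5, 4, 6, 4, 3, 4, 6, 4, 4, 2]⟩,
  ⟨52, [(22, true), (20, true)], [4, 3, 5, 5, 4, 2, 4, 3, 6, 4, 2, 4]⟩,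
  ⟨91, [(20, true), (21, true)], [3, 4, 2, 4, 4, 2, 5, 6, 3, 4, 2, 4, 2]⟩,
  ⟨91, [(22, true), (21, true)], [0, 3, 4, 3, 6, 4, 3, 4, 4]⟩,
  ⟨91, [(23, true), (22, true), (21, true)], [0, 6, 5, 4, 6, 3, 4, 2, 4, 4]⟩,
  ⟨8, [(124, true), (23, true), (21, true), (22, true)], [5, 4, 6, 4, 4, 3, 4, 2, 4, 6, 3]⟩,
  ⟨8, [(23, true), (20, true), (124, true), (20, true)], [1, 4, 4, 6, 4, 3, 2, 4, 4, 4, 6]⟩,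
  ⟨8, [(23, true), (21, true), (124, true), (21, true)], [2, 3, 6, 4, 2, 3, 4, 4, 2, 3]⟩,
  ⟨8, [(23, true), (22, true), (124, true), (20, true)], [3, 4, 3, 6, 4, 4, 4, 2, 4, 3, 5, 4, 6]⟩,
  ⟨8, [(21, true), (19, true)], [4, 4, 5, 4, 2, 3, 4, 2, 3, 4, 4]⟩,
  ⟨8, [(23, true), (21, true), (22, true)], [1, 2, 3, 5, 4, 5]⟩,
  ⟨8, [(22, true), (23, true), (21, true), (20, true)], [1, 4, 2, 3, 5, 4, 2, 3, 4, 2, 3, 5, 5]⟩,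
  ⟨8, [(21, true), (124, true), (23, true)], [0, 4, 2, 4, 4, 3, 5, 4, 6, 4, 4, 3]⟩,
  ⟨8, [(20, true), (21, true), (19, true)], [2, 4, 3, 4, 4, 4, 2, 4, 4, 3, 4, 4, 2]⟩,
  ⟨8, [(124, true), (20, true), (23, true)], [4, 4, 3, 4, 5, 4, 5, 6, 4, 2, 3, 4, 3]⟩,
  ⟨8, [(20, true), (21, true)], [2, 4, 4, 4, 3, 4, 2, 4, 4, 4, 3, 4, 2]⟩,
  ⟨8, [(21, true), (21, true)], [2, 6, 4, 3, 4, 2, 5, 5, 4]⟩,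
  ⟨8, [(20, true), (124, true), (19, true)], [1, 6, 4, 5, 4, 2, 3, 4, 5]⟩,
  ⟨8, [(22, true), (23, true), (22, true)], [3, 6, 4, 3, 6, 4, 2, 6, 4]⟩,
  ⟨8, [(21, true), (21, true), (19, true)], [0, 6, 4, 5, 5, 4, 3, 4, 2, 4, 3, 4, 4]⟩,
  ⟨8, [(20, true), (124, true)], [4, 2, 3, 4, 2, 4, 3, 5, 4, 2, 6, 4]⟩,
  ⟨8, [(23, true), (20, true), (21, true)], [2, 4, 4, 4, 3, 4, 2, 4, 3, 4, 2, 3, 4]⟩,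
  ⟨8, [(23, true), (20, true), (124, true)], [2, 6, 4, 3, 4, 2, 3, 4, 4, 3, 2, 4, 2]⟩,
  ⟨8, [(23, true), (20, true), (124, true), (19, true)], [0, 3, 5, 4, 3, 6, 4, 3, 6, 5]⟩,
  ⟨8, [(20, true), (23, true), (21, true)], [6, 4, 3, 5, 6, 4, 6, 3, 4, 6]⟩,
  ⟨8, [(23, true), (22, true), (21, true), (20, true)], [4, 2, 4, 3, 5, 6, 4, 6, 3, 4, 4]⟩,
  ⟨8, [(124, true), (21, true), (20, true), (19, true)], [2, 6, 4, 2, 3, 4, 2, 4, 3, 4, 2, 3]⟩,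
  ⟨8, [(124, true), (20, true)], [2, 6, 4, 2, 3, 4, 2, 4, 4, 3, 5, 4, 2]⟩,
  ⟨8, [(124, true), (22, true)], [1, 4, 3, 4, 4, 5, 4, 6, 4, 3, 2, 4, 2]⟩,
  ⟨8, [(20, true), (22, true), (23, true)], [0, 3, 6, 5, 4, 3, 4, 2, 4, 4, 5]⟩,
  ⟨8, [(23, true), (21, true), (21, true), (20, true)], [6, 4, 4, 6, 4, 3, 4, 3, 6, 4, 6, 5]⟩,
  ⟨8, [(124, true), (21, true), (20, true)], [6, 4, 2, 4, 2, 3, 4, 3, 4, 2]⟩,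
  ⟨8, [(124, true), (20, true), (19, true)], [4, 6, 4, 2, 6, 3, 4, 4, 2, 3, 5]⟩,
  ⟨8, [(124, true), (22, true), (19, true)], [6, 4, 4, 4, 2, 3, 4, 2, 3, 5, 5]⟩,
  ⟨8, [(124, true), (23, true), (21, true)], [3, 5, 4, 2, 3, 4, 3, 6, 5, 4, 6]⟩,
  ⟨8, [(21, true), (23, true), (124, true), (20, true)], [2, 3, 6, 4, 2, 4, 3, 5, 4, 2, 4, 4]⟩,
  ⟨8, [(124, true), (22, true), (23, true)], [0, 4, 3, 6, 5, 4, 2, 4, 5, 6, 3, 4]⟩,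
  ⟨8, [(23, true), (20, true), (124, true), (21, true)], [2, 4, 3, 5, 4, 2, 5, 4, 6]⟩,
  ⟨8, [(20, true), (124, true), (124, true)], [6, 4, 2, 3, 4, 3, 2, 4, 5, 5, 4, 3]⟩,
  ⟨9, [(124, true), (124, true)], [5, 6, 4, 3, 6, 5, 4, 3, 6, 4, 2, 4]⟩,
  ⟨9, [(23, true), (21, true)], [2, 3, 4, 2, 3, 4, 3, 4, 6]⟩,
  ⟨8, [(23, true), (124, true), (22, true), (124, true)], [4, 2, 3, 4, 3, 2, 4, 5, 5, 4, 2]⟩,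
  ⟨8, [(124, true), (20, true), (21, true)], [0, 2, 5, 6, 4, 2, 4, 3, 4, 4, 2]⟩,
  ⟨8, [(20, true), (124, true), (20, true)], [6, 4, 2, 3, 4, 4, 3, 2, 4]⟩,
  ⟨8, [(22, true), (21, true), (20, true)], [1, 4, 5, 5, 4, 2, 4, 3, 4, 2, 4, 4, 3]⟩,
  ⟨8, [(23, true), (20, true)], [6, 5, 4, 3, 4, 5, 6, 4, 3, 4, 6, 3]⟩,
  ⟨8, [(23, true), (22, true)], [5, 6, 4, 3, 4, 5, 6, 4, 3, 4, 6, 3]⟩,
  ⟨8, [(124, true), (124, true), (21, true)], [0, 4, 6, 4, 4, 3, 6, 4, 3, 6, 4]⟩,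
  ⟨9, [(124, true), (21, true)], [0, 2, 6, 4, 2, 4, 3, 4, 6, 4, 4, 4]⟩,
  ⟨9, [(23, true), (124, true)], [4, 6, 4, 3, 4, 2, 4, 6]⟩,
  ⟨8, [(124, true), (23, true), (21, true), (20, true)], [1, 4, 4, 2, 3, 5, 4, 3, 2, 4, 2]⟩,
  ⟨8, [(124, true), (20, true), (21, true), (19, true)], [4, 3, 4, 4, 6, 4, 3, 4, 2, 6, 4, 4, 6]⟩,
  ⟨8, [(20, true), (124, true), (20, true), (19, true)], [1, 6, 4, 4, 2, 3, 4, 2, 3, 4, 3, 2]⟩,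
  ⟨8, [(21, true), (21, true), (20, true)], [3, 4, 3, 2, 4, 4, 6, 4, 6, 3, 4, 6]⟩,
  ⟨8, [(23, true), (20, true), (19, true)], [4, 3, 5, 6, 4, 3, 6, 4, 3, 6, 5, 4]⟩,
  ⟨8, [(23, true), (22, true), (19, true)], [4, 3, 4, 3, 6, 4, 6, 3, 4, 6, 5, 4]⟩,
  ⟨8, [(124, true), (124, true), (22, true), (21, true)], [6, 4, 2, 3, 4, 2, 4, 6, 3, 4, 3, 2]⟩,
  ⟨9, [(22, true), (20, true), (21, true)], [1, 4, 2, 3, 4, 4, 2, 3, 4, 4, 2, 3, 4, 4]⟩,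
  ⟨8, [(124, true), (20, true), (124, true), (21, true)], [2, 6, 3, 5, 4, 3, 2, 4, 4, 6, 4, 3]⟩,
  ⟨8, [(20, true), (124, true), (23, true), (21, true)], [0, 4, 3, 4, 4, 6, 4, 4, 3, 5, 4, 6, 4]⟩,
  ⟨8, [(20, true), (124, true), (23, true), (20, true)], [3, 4, 2, 4, 3, 4, 4, 6, 4, 4, 2, 4]⟩,
  ⟨8, [(124, true), (21, true), (23, true), (21, true)], [2, 4, 6, 5, 4, 2, 3, 4, 4, 5, 6]⟩,
  ⟨9, [(23, true)], [1, 4, 4, 2, 3, 4, 4, 4, 4, 4]⟩,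
  ⟨9, [(20, true), (22, true), (20, true)], [5, 5]⟩,
  ⟨9, [(22, true), (124, true), (21, true)], [4, 5, 6, 4, 3, 4, 2, 4, 5, 4, 3]⟩,
  ⟨8, [(124, true), (22, true), (124, true), (20, true)], [5, 6, 4, 3, 2, 4, 2, 4, 6, 3, 4]⟩,
  ⟨9, [(124, true), (22, true)], [3, 6, 4, 2, 4, 4, 3, 4, 5, 6]⟩,
  ⟨8, [(20, true), (21, true), (124, true), (124, true)], [1, 4, 3, 2, 4, 2, 4, 3, 4, 6, 4, 4, 4]⟩,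
  ⟨8, [(20, true), (124, true), (22, true), (23, true)], [0, 2, 6, 4, 3, 4, 5, 4, 6, 4, 3, 4, 5]⟩,
  ⟨9, [(23, true), (22, true), (21, true)], [5, 4, 2, 3, 4, 2, 3, 4, 5, 4, 6]⟩,
  ⟨9, [(21, true), (20, true), (124, true)], [0, 4, 4, 3, 6, 5, 4, 3, 6, 4, 4, 3]⟩,
  ⟨9, [(124, true), (20, true)], [2, 3, 6, 4, 3, 6, 4, 6, 3, 4, 4, 2, 6]⟩,
  ⟨52, [(21, true), (22, true)], [2, 4, 4, 3, 4, 5, 6, 4, 3, 4, 6]⟩,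
  ⟨52, [(21, true), (21, true)], [1, 4, 6, 4, 4, 4, 2, 6, 5]⟩,
  ⟨91, [(124, true)], [4, 3, 4, 4, 6, 3, 4, 3, 4, 4]⟩,
  ⟨52, [(23, true), (22, true)], [2, 4, 3, 4, 3, 6, 4, 5, 6, 4, 3, 4, 6]⟩,
  ⟨8, [(124, true), (124, true), (21, true), (22, true)], [1, 3, 2, 5, 4, 5, 4]⟩,
  ⟨91, [(20, true), (124, true)], [0, 3, 5, 4, 5, 6, 4, 3, 6, 4, 6, 5]⟩,
  ⟨91, [(21, true), (20, true), (21, true)], [3, 4, 2, 3, 4, 3, 6, 5, 4, 6, 3, 4]⟩,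
  ⟨8, [(124, true), (124, true), (22, true)], [4, 6, 4, 3, 4, 5, 6, 3, 4, 3]⟩,
  ⟨8, [(20, true), (124, true), (23, true), (22, true), (19, true)], [1, 4, 6, 4, 2, 4, 3, 4, 4, 6]⟩,
  ⟨8, [(124, true), (23, true), (22, true), (21, true)], [0, 4, 6, 3, 4, 3, 4, 4, 2, 4, 6]⟩,
  ⟨8, [(20, true), (124, true), (23, true), (22, true)], [4, 4, 2, 4, 4, 6, 4, 3, 5]⟩,
  ⟨8, [(23, true), (124, true), (20, true), (21, true), (19, true)], [2, 4, 3, 4, 6, 5, 4, 3, 4, 3, 6, 4, 6]⟩,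
  ⟨8, [(21, true), (23, true), (21, true)], [1, 4, 5, 4, 2, 3, 4, 4, 4, 5]⟩,
  ⟨8, [(21, true), (22, true), (23, true)], [4, 5, 4, 2, 3, 4, 2, 3, 4]⟩,
  ⟨8, [(22, true), (21, true), (21, true), (19, true)], [2, 3, 4, 2, 4, 3, 2, 4, 2, 4, 3, 5, 4]⟩,
  ⟨8, [(20, true), (23, true), (19, true)], [1, 2, 4, 3, 2, 4, 2, 4, 3, 4, 5]⟩,
  ⟨8, [(23, true), (21, true)], [4, 4, 3, 4, 4, 4, 6, 4, 6, 3, 4, 6, 5]⟩,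
  ⟨8, [(22, true), (124, true), (19, true)], [4, 6, 4, 3, 2, 6, 5, 4]⟩,
  ⟨8, [(22, true), (124, true)], [3, 4, 4, 5, 4, 2, 3, 4, 3, 4, 6, 4, 2]⟩,
  ⟨8, [(23, true), (22, true), (124, true)], [0, 2, 4, 3, 4, 5, 6, 3, 4, 3, 4, 6]⟩,
  ⟨8, [(124, true), (21, true), (22, true), (124, true)], [1, 4, 2, 3, 5, 4, 2, 3, 4, 2, 3, 4, 5]⟩,
  ⟨8, [(124, true), (124, true), (22, true), (19, true)], [4, 3, 5, 6, 4, 2, 6, 3, 5, 4]⟩,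
  ⟨8, [(21, true), (124, true), (23, true), (20, true)], [4, 2, 3, 4, 3, 5, 6, 4, 3, 6, 5]⟩,
  ⟨8, [(23, true), (124, true), (20, true), (21, true)], [3, 4, 3, 6, 4, 3, 6, 5]⟩,
  ⟨8, [(22, true), (21, true), (21, true)], [2, 3, 4, 2, 4, 2, 3, 4, 2, 4, 3, 5, 4]⟩,
  ⟨8, [(20, true), (23, true)], [1, 2, 4, 2, 3, 4, 2, 4, 3, 4, 5]⟩,
  ⟨8, [(22, true), (23, true)], [1, 2, 5, 5, 4, 2, 3, 4, 2, 4, 3, 4, 5]⟩,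
  ⟨8, [(21, true), (23, true), (124, true)], [2, 6, 4, 3, 2, 4, 3, 4, 2, 4, 5, 5, 4]⟩,
  ⟨8, [(22, true), (124, true), (124, true)], [0, 6, 4, 3, 4, 4, 2, 5, 4, 3, 4, 4]⟩,
  ⟨9, [(21, true), (23, true), (20, true)], [2, 3, 6, 4, 6, 4, 3, 4, 5, 6, 3, 2]⟩,
  ⟨8, [(22, true), (124, true), (23, true), (19, true)], [1, 3, 4, 3, 4, 2, 3]⟩,
  ⟨8, [(22, true), (124, true), (124, true), (19, true)], [3, 6, 5, 4, 3, 4, 3, 2]⟩,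
  ⟨9, [(23, true), (124, true), (20, true)], [3, 4, 4, 3, 6, 4, 2, 3, 4, 5, 6]⟩,
  ⟨8, [(22, true), (124, true), (23, true)], [1, 2, 4, 2, 4, 3, 2]⟩,
  ⟨8, [(23, true), (124, true), (21, true), (20, true)], [3, 6, 5, 4, 3, 4, 6, 5, 4, 2, 4]⟩,
  ⟨8, [(23, true), (124, true), (21, true), (20, true), (19, true)], [3, 4, 4, 3, 5, 4, 6, 5, 4, 2, 3]⟩,
  ⟨8, [(23, true), (124, true), (23, true), (21, true)], [4, 6, 4, 3, 2, 4, 3, 6, 4, 6, 3, 4]⟩,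
  ⟨8, [(124, true), (21, true), (124, true), (20, true)], [5, 4, 3, 2, 4, 6, 4, 4, 2, 5]⟩,
  ⟨8, [(20, true), (124, true), (23, true), (19, true)], [1, 4, 4, 2, 3, 4, 4, 4, 4, 2]⟩,
  ⟨8, [(124, true), (124, true), (21, true), (21, true)], [0, 4, 6, 4, 3, 4, 3, 6, 4, 5, 6]⟩,
  ⟨8, [(23, true), (124, true), (23, true), (20, true)], [4, 2, 3, 4, 6, 4, 4, 3, 5]⟩,
  ⟨8, [(20, true), (124, true), (23, true)], [1, 4, 4, 3, 2, 4, 4, 4, 4, 3]⟩,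
  ⟨9, [(21, true), (21, true), (23, true)], [6, 3, 4, 4, 4, 6, 5, 4, 3]⟩,
  ⟨8, [(124, true), (22, true), (124, true)], [1, 4, 5, 4, 2, 5]⟩,
  ⟨9, [(22, true), (23, true)], [3, 2, 6, 4, 3, 4, 6, 3, 4, 4, 6]⟩,
  ⟨9, [(22, true), (21, true), (20, true)], [1, 6, 4, 3, 4, 2, 4, 6, 5, 4]⟩,
  ⟨9, [(20, true), (21, true)], [0, 2, 4, 4, 2, 5, 4, 3, 6, 4, 6, 5]⟩,
  ⟨9, [(21, true), (124, true), (21, true)], [0, 4, 3, 4, 5, 6, 4, 3, 4, 3, 6, 5, 4]⟩,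
  ⟨9, [(124, true)], [3, 6, 4, 3, 4, 6, 4, 5, 4]⟩,
  ⟨9, [(20, true), (23, true)], [2, 4, 2, 3, 4, 2, 3, 4, 3, 6]⟩,
  ⟨9, [(21, true), (23, true)], [0, 4, 4, 3, 4, 2, 4, 4, 6, 4, 3]⟩,
  ⟨8, [(124, true), (124, true), (21, true), (20, true)], [0, 4, 3, 4, 3, 6, 4, 6, 3, 4, 6]⟩,
  ⟨8, [(124, true), (20, true), (124, true), (20, true), (19, true)], [5, 4, 6, 4, 2, 3, 4, 6, 4, 4, 3]⟩,
  ⟨8, [(124, true), (23, true), (22, true), (19, true)], [5, 6, 4, 3, 4, 5, 6, 4, 3, 4, 3, 2]⟩,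
  ⟨9, [(23, true), (22, true), (20, true)], [0, 2, 6, 4, 4, 4, 6, 5, 4, 3]⟩,
  ⟨8, [(124, true), (22, true), (124, true), (19, true)], [1, 4, 5, 4, 3, 5]⟩,
  ⟨9, [(21, true), (23, true), (124, true)], [4, 2, 4, 4, 3, 2, 4, 6, 5, 4]⟩,
  ⟨9, [(20, true)], [4, 2, 3, 5, 4, 2, 4, 4, 6, 4]⟩,
  ⟨9, [(20, true), (124, true)], [1, 4, 3, 2, 4, 2, 4, 3, 4, 6, 5, 4, 2]⟩,
  ⟨9, [(22, true), (124, true), (20, true)], [0, 4, 4, 3, 6, 4, 5, 6, 4, 2, 4, 3, 4]⟩,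
  ⟨9, [(21, true)], [3, 5, 4, 2, 4, 3, 5, 4, 5, 6]⟩,
  ⟨9, [(22, true), (124, true), (23, true)], [3, 4, 2, 4, 5, 4, 3, 5, 6, 4, 2, 4]⟩,
  ⟨9, [(124, true), (23, true)], [2, 5, 6, 4, 2, 3, 4, 5, 6, 4, 3]⟩,
  ⟨8, [(20, true), (124, true), (124, true), (22, true)], [5, 4, 2, 4, 2, 3, 4, 2, 4, 2, 5]⟩,
  ⟨8, [(124, true), (20, true), (124, true), (20, true)], [0, 3, 4, 4, 6, 4, 4, 4, 3, 4, 4]⟩,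
  ⟨8, [(124, true), (23, true), (22, true)], [2, 3, 4, 2, 3, 5, 4, 6, 3]⟩,
  ⟨8, [(21, true), (124, true), (124, true), (20, true)], [2, 4, 5, 4, 6, 4, 6, 5]⟩,
  ⟨9, [(20, true), (23, true), (20, true)], [0, 2, 4, 3, 6, 4, 2, 6, 4, 6]⟩,
  ⟨9, [(21, true), (124, true)], [3, 5, 4, 2, 3, 4, 3, 4, 6, 4, 5, 4]⟩,
  ⟨9, [(21, true), (20, true)], [4, 2, 4, 3, 4, 4, 2, 4, 4, 4, 3]⟩,
  ⟨8, [(21, true), (124, true), (124, true)], [0, 4, 6, 3, 4, 2, 4, 4, 4, 4]⟩,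
  ⟨8, [(124, true), (23, true), (20, true), (22, true)], [3, 4, 4, 2, 3, 4, 5, 4, 6, 5]⟩,
  ⟨8, [(124, true), (124, true), (20, true), (21, true)], [2, 4, 3, 6, 4, 3, 4, 4, 5, 6, 4, 6, 3]⟩,
  ⟨8, [(20, true), (124, true), (124, true), (20, true)], [4, 6, 5, 4, 3, 2, 6, 4, 4, 2]⟩,
  ⟨8, [(124, true), (124, true), (20, true)], [6, 3, 4, 2, 3, 4, 3, 2, 4, 5, 4, 5]⟩,
  ⟨9, [(22, true), (23, true), (20, true)], [3, 2, 4, 5, 4, 6, 4, 5]⟩,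
  ⟨8, [(124, true), (21, true), (124, true), (21, true)], [1, 3, 4, 3, 2, 4, 4, 6, 4, 6, 5]⟩,
  ⟨9, [(124, true), (23, true), (22, true)], [2, 3, 4, 2, 5, 5, 4, 3, 2, 4]⟩,
  ⟨9, [(22, true)], [5, 6, 4, 2, 3, 4, 4, 5, 4]⟩,
  ⟨9, [(22, true), (22, true), (20, true)], [6, 4, 4, 2, 3, 4, 5, 4]⟩,
  ⟨8, [(124, true), (20, true), (124, true)], [6, 4, 4, 6, 4, 2, 3, 4, 6, 4, 3]⟩,
  ⟨8, [(23, true), (124, true), (124, true), (22, true)], [6, 4, 2, 3, 4, 4, 5, 4, 2]⟩,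
  ⟨8, [(124, true), (124, true), (20, true), (19, true)], [4, 6, 3, 4, 2, 6, 4, 5, 5]⟩,
  ⟨9, [(124, true), (23, true), (21, true)], [3, 4, 6, 4, 3, 6]⟩,
  ⟨8, [(124, true), (23, true), (20, true)], [3, 6, 4, 6, 3, 4, 3, 4, 4, 6, 4, 2]⟩,
  ⟨9, [(20, true), (23, true), (124, true)], [1, 4, 3, 4, 6, 4, 3, 4, 4, 4]⟩,
  ⟨8, [(124, true), (23, true), (20, true), (19, true)], [5, 6, 4, 3, 2, 4, 6, 4, 4, 6, 3]⟩,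
  ⟨9, [(23, true), (21, true), (20, true)], [0, 6, 4, 4, 4, 3, 4, 2, 4, 5, 6]⟩,
  ⟨9, [(22, true), (20, true)], [0, 2, 6, 4, 3, 4, 4, 6, 3, 5, 4]⟩,
  ⟨9, [(23, true), (20, true)], [4, 3, 6, 4, 4, 3, 2, 6, 4, 6, 4]⟩,
  ⟨9, [(124, true), (124, true), (20, true)], [4, 3, 4, 6, 4, 5, 5, 4, 2, 4]⟩,
  ⟨9, [(21, true), (23, true), (22, true)], [1, 6, 4, 3, 2, 4, 2, 4, 4, 4, 3, 4]⟩,
  ⟨9, [(22, true), (20, true), (23, true)], [4, 4, 5, 6, 4, 6, 3, 2, 4, 4, 5]⟩,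
  ⟨9, [(23, true), (22, true)], [1, 4, 4, 4, 6, 4, 6]⟩]

noncomputable def coverEdge2 : List Step := [⟨130, [], []⟩,
  ⟨75, [], []⟩,
  ⟨75, [(24, true)], [5]⟩,
  ⟨75, [(25, true), (26, true), (24, true)], [1, 2, 3]⟩,
  ⟨14, [], []⟩,
  ⟨14, [(24, true)], [0, 5, 5]⟩,
  ⟨55, [], [3, 4, 5, 4, 5]⟩,
  ⟨75, [(25, true), (26, true)], [1, 2, 3, 5, 5]⟩,
  ⟨75, [(26, true), (25, true), (24, true)], [6, 4, 6, 4, 6, 3, 2]⟩,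
  ⟨75, [(25, true)], [1, 4, 2, 3]⟩,
  ⟨14, [(25, true), (26, true)], [1, 3, 2, 5]⟩,
  ⟨14, [(25, true), (26, true), (24, true)], [1, 2, 3]⟩,
  ⟨161, [], []⟩,
  ⟨10, [], []⟩,
  ⟨11, [], []⟩,
  ⟨154, [], [0, 1, 6]⟩,
  ⟨10, [(24, true), (24, true), (24, true)], [0]⟩,
  ⟨11, [(24, true), (24, true), (24, true)], [0]⟩,
  ⟨75, [(26, true), (25, true)], [1, 4, 5, 4, 2, 3, 5]⟩,
  ⟨75, [(25, true), (24, true)], [1, 5, 4, 2, 3]⟩,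
  ⟨75, [(24, true), (25, true), (24, true)], [1, 5, 4, 2, 3, 4, 4, 5]⟩,
  ⟨75, [(24, true), (26, true), (25, true)], [1, 4, 4, 4, 4, 4, 2, 3]⟩,
  ⟨75, [(26, true)], [6, 4, 6, 4, 6, 3, 2]⟩,
  ⟨14, [(26, true)], [2, 3, 4, 3, 2, 4, 4, 5]⟩,
  ⟨14, [(26, true), (24, true)], [2, 3, 4, 4, 2, 3, 4, 4, 4, 4]⟩,
  ⟨75, [(24, true), (24, true), (25, true)], [1, 4, 2, 3]⟩,
  ⟨14, [(24, true), (25, true)], [2, 5, 4, 3, 4, 2, 4, 4, 2, 5]⟩,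
  ⟨14, [(24, true), (25, true), (24, true)], [0, 2, 4, 3, 4, 2, 4, 4, 2, 5]⟩,
  ⟨15, [], []⟩,
  ⟨10, [(24, true), (26, true)], [1, 3, 2]⟩,
  ⟨11, [(25, true), (24, true), (24, true), (24, true)], [1, 3, 2]⟩,
  ⟨153, [], [3, 2, 4, 4, 4]⟩,
  ⟨10, [(26, true), (25, true), (24, true)], [1, 2, 3]⟩,
  ⟨11, [(25, true)], [1, 2, 3]⟩,
  ⟨154, [(26, true)], [2, 4, 4, 3, 4, 6, 4, 4, 6, 3, 4, 6]⟩,
  ⟨166, [], [0, 6, 3]⟩,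
  ⟨146, [], [2, 3, 6]⟩,
  ⟨161, [(26, true)], [0, 4, 4, 6, 3, 4, 6, 5, 4]⟩,
  ⟨10, [(25, true), (26, true), (24, true), (24, true), (24, true), (24, true)], [6, 4, 2, 3, 6, 4, 6, 4]⟩,
  ⟨10, [(24, true), (24, true), (24, true), (24, true)], [5, 5]⟩,
  ⟨10, [(24, true), (24, true)], []⟩,
  ⟨11, [(25, true), (26, true), (24, true)], [4, 6, 4, 3, 2, 6, 4, 6]⟩,
  ⟨11, [(24, true), (24, true), (24, true), (24, true)], [5, 5]⟩,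
  ⟨11, [(24, true), (24, true)], []⟩,
  ⟨101, [], [0, 6, 5]⟩,
  ⟨159, [], [0, 6, 5, 4, 6, 3, 4, 5, 5]⟩,
  ⟨10, [(25, true), (26, true), (24, true)], [6, 4, 3, 2, 6, 4, 6, 4]⟩,
  ⟨10, [(24, true)], [0, 5, 5]⟩,
  ⟨10, [(26, true), (24, true), (26, true)], [0]⟩,
  ⟨11, [(25, true), (26, true), (24, true), (24, true), (24, true), (24, true)], [4, 6, 4, 2, 3, 6, 4, 6]⟩,
  ⟨11, [(24, true)], [0, 5, 5]⟩,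
  ⟨11, [(26, true), (24, true), (26, true)], [0]⟩,
  ⟨75, [(24, true), (25, true)], [1, 4, 2, 3, 4, 4, 5]⟩,
  ⟨75, [(24, true), (26, true), (25, true), (24, true)], [1, 4, 4, 5, 4, 2, 3]⟩,
  ⟨75, [(26, true), (24, true)], [1, 4, 4, 4, 2, 3, 5]⟩,
  ⟨75, [(24, true), (24, true), (25, true), (24, true)], [1, 5, 4, 2, 3]⟩,
  ⟨14, [(25, true), (24, true)], [2, 4, 3, 5, 4, 2, 5]⟩,
  ⟨14, [(25, true)], [6, 4, 3, 2, 6, 4, 6]⟩,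
  ⟨14, [(24, true), (26, true), (25, true)], [2, 3, 4, 4, 4, 4, 3, 2, 4]⟩,
  ⟨14, [(24, true), (26, true), (25, true), (24, true)], [2, 3, 4, 2, 3, 5, 5, 4]⟩,
  ⟨14, [(26, true), (25, true), (24, true)], [2, 3, 4, 3, 2, 4, 4, 5]⟩,
  ⟨14, [(26, true), (25, true)], [2, 3, 5, 4, 2, 3, 4, 4, 5]⟩,
  ⟨11, [(25, true), (24, true), (25, true), (24, true), (24, true)], [3, 6, 5, 4, 3, 6, 4, 3, 4, 3]⟩,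
  ⟨10, [(25, true), (24, true), (24, true), (25, true), (24, true)], [2, 3, 4, 4, 3, 2, 4, 4, 4, 4]⟩,
  ⟨11, [(24, true), (24, true), (25, true), (24, true)], [2, 3, 5, 6, 4, 2, 4, 6, 3, 4, 5]⟩,
  ⟨10, [(24, true), (25, true), (24, true), (24, true)], [2, 3, 4, 4, 2, 3, 4, 4, 4, 4]⟩,
  ⟨14, [(24, true), (24, true), (25, true), (24, true)], [2, 4, 3, 4, 2, 4, 4, 2, 5]⟩,
  ⟨14, [(24, true), (24, true), (25, true)], [6, 4, 3, 2, 4, 4, 5, 4, 6, 4]⟩,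
  ⟨12, [], []⟩,
  ⟨10, [(25, true), (24, true), (24, true), (24, true)], [2, 4, 4, 3, 4, 2, 4, 4, 4, 4, 4]⟩,
  ⟨11, [(26, true), (24, true)], [2, 4, 4, 3, 4, 2, 4, 4, 4, 4, 4]⟩,
  ⟨142, [], [1, 2, 6, 4, 4, 4, 5]⟩,
  ⟨10, [(25, true)], [5, 6, 4, 3, 2, 4, 4, 5, 4, 6, 4]⟩,
  ⟨11, [(26, true), (24, true), (24, true), (24, true), (24, true)], [5, 6, 4, 3, 2, 4, 4, 5, 4, 6, 4]⟩,
  ⟨153, [(25, true), (26, true)], [1, 2, 4, 2, 4, 2, 3, 5, 4, 2, 4, 3]⟩,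
  ⟨12, [(25, true), (24, true), (25, true)], [0, 1, 3, 5, 4, 6, 5, 4, 2]⟩,
  ⟨13, [], []⟩,
  ⟨10, [(24, true), (26, true), (25, true), (24, true)], [1, 3, 2, 5, 5]⟩,
  ⟨10, [(26, true), (24, true), (24, true), (24, true)], [1, 3, 2]⟩,
  ⟨11, [(24, true), (25, true)], [1, 3, 2, 5, 5]⟩,
  ⟨11, [(25, true), (24, true), (25, true), (24, true)], [1, 3, 2]⟩,
  ⟨15, [(25, true), (26, true)], [4, 5, 4, 2, 3, 4, 4, 2, 3, 4, 3, 2, 4]⟩,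
  ⟨142, [(25, true), (24, true), (25, true)], [5, 4, 6, 3, 5, 4, 2, 4, 4]⟩,
  ⟨107, [], []⟩,
  ⟨10, [(24, true), (24, true), (26, true)], [1, 2, 3, 5, 5]⟩,
  ⟨10, [(26, true)], [1, 2, 3]⟩,
  ⟨11, [(24, true), (25, true), (24, true), (24, true), (24, true)], [1, 2, 3, 5, 5]⟩,
  ⟨11, [(24, true), (24, true), (25, true)], [1, 2, 3]⟩,
  ⟨101, [(24, true), (26, true)], [4, 3, 6, 5, 4, 2, 4, 5, 6, 3, 4, 2, 4]⟩,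
  ⟨159, [(25, true)], [2, 4, 3, 2, 5, 4, 3, 6, 5]⟩,
  ⟨166, [(24, true)], [4, 3, 6, 5, 4, 3, 4, 6, 4, 3, 4, 4, 4]⟩,
  ⟨166, [(24, true), (24, true)], [0, 6, 3]⟩,
  ⟨146, [(24, true)], [2, 3, 4, 6, 4, 3, 4, 3, 6, 4, 5, 6, 3, 4]⟩,
  ⟨146, [(24, true), (24, true)], [2, 3, 6]⟩,
  ⟨146, [(26, true)], [4, 4, 3, 5, 4, 2, 4, 3, 4, 2, 3]⟩,
  ⟨166, [(24, true), (26, true)], [0]⟩,
  ⟨146, [(25, true)], [1, 4, 2, 3, 4, 3, 4, 4, 4, 2, 4, 3, 4]⟩,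
  ⟨12, [(25, true), (24, true)], [3, 4, 4, 3, 5, 6, 4, 3, 4, 3]⟩,
  ⟨10, [(26, true), (25, true), (24, true), (24, true)], [2, 4, 3, 5, 4, 2, 5, 4]⟩,
  ⟨10, [(25, true), (26, true)], [6, 4, 2, 3, 6, 4, 6, 4]⟩,
  ⟨10, [(25, true), (26, true), (24, true), (24, true)], [6, 4, 2, 3, 6, 4, 6, 4]⟩,
  ⟨11, [(26, true), (25, true), (26, true)], [0, 4, 4, 2, 4, 3, 5, 4, 2, 5]⟩,
  ⟨11, [(25, true), (26, true), (24, true), (24, true), (24, true)], [4, 6, 4, 3, 2, 6, 4, 6]⟩,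
  ⟨11, [(26, true), (25, true), (24, true), (24, true), (25, true)], [4, 6, 4, 3, 2, 6, 4, 6]⟩,
  ⟨101, [(24, true)], [4, 6, 4, 3, 4, 3, 6, 4, 6, 3, 4, 4]⟩,
  ⟨101, [(24, true), (24, true)], [0, 6, 5]⟩,
  ⟨159, [(24, true)], [4, 4, 6, 3, 4, 3, 4, 6, 5, 4]⟩,
  ⟨159, [(24, true), (24, true)], [0, 6, 5, 4, 6, 3, 4, 5, 5]⟩,
  ⟨159, [(26, true)], [6, 4, 6, 4, 4, 3, 6, 4, 3, 6, 5]⟩,
  ⟨142, [(25, true), (24, true)], [3, 4, 2, 4, 3, 5, 6, 4, 2, 3, 6, 5]⟩,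
  ⟨10, [(24, true), (26, true), (24, true)], [0, 2, 4, 3, 5, 4, 2, 5, 4]⟩,
  ⟨10, [(25, true), (26, true), (24, true), (24, true), (24, true)], [6, 4, 3, 2, 6, 4, 6, 4]⟩,
  ⟨10, [(26, true), (25, true), (24, true), (24, true), (25, true)], [6, 4, 3, 2, 6, 4, 6, 4]⟩,
  ⟨11, [(25, true), (24, true)], [4, 4, 2, 4, 3, 5, 4, 2, 5]⟩,
  ⟨11, [(25, true), (26, true)], [4, 6, 4, 2, 3, 6, 4, 6]⟩,
  ⟨11, [(25, true), (26, true), (24, true), (24, true)], [4, 6, 4, 2, 3, 6, 4, 6]⟩,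
  ⟨12, [(24, true), (24, true)], [4, 4, 5]⟩,
  ⟨11, [(24, true), (25, true), (24, true), (24, true)], [6, 4, 2, 3, 6, 4, 6]⟩,
  ⟨142, [(24, true), (24, true)], [1, 2, 5, 6, 4, 4]⟩,
  ⟨11, [(25, true), (24, true), (24, true), (25, true), (24, true)], [6, 4, 3, 2, 6, 4, 6]⟩,
  ⟨11, [(24, true), (25, true), (24, true)], [4, 3, 5, 4, 6, 3, 4, 3, 4, 3]⟩,
  ⟨10, [(25, true), (24, true), (25, true), (24, true), (24, true)], [2, 3, 4, 4, 4, 4, 3, 2, 4]⟩,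
  ⟨11, [(26, true), (25, true), (24, true)], [2, 3, 4, 4, 4, 4, 3, 2, 4]⟩,
  ⟨11, [(25, true), (24, true), (24, true), (25, true)], [2, 3, 5, 4, 2, 4, 3, 4, 2, 6, 4, 4]⟩,
  ⟨10, [(24, true), (24, true), (25, true), (24, true)], [2, 3, 4, 4, 4, 4, 2, 3, 4]⟩,
  ⟨11, [(24, true), (26, true)], [2, 3, 4, 4, 4, 4, 2, 3, 4]⟩,
  ⟨10, [(24, true), (26, true), (25, true)], [2, 3, 4, 3, 2, 4, 4, 5]⟩,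
  ⟨10, [(25, true), (26, true), (25, true), (24, true)], [2, 3, 4, 2, 3, 4, 4, 5]⟩,
  ⟨11, [(25, true), (26, true), (25, true), (24, true)], [5, 4, 2, 4, 3, 4, 3, 5, 6, 4]⟩,
  ⟨11, [(24, true), (24, true), (26, true)], [3, 5, 6, 4, 3, 6, 4, 3, 4, 3]⟩,
  ⟨10, [(26, true), (25, true), (26, true)], [2, 3, 5, 4, 3, 2, 4, 4, 5]⟩,
  ⟨10, [(25, true), (24, true), (24, true)], [2, 3, 4, 4, 3, 2, 4, 4, 4, 4]⟩,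
  ⟨10, [(25, true), (24, true), (25, true)], [2, 3, 4, 4, 3, 2, 4, 4, 4, 4]⟩,
  ⟨11, [(24, true), (26, true), (25, true)], [4, 2, 3, 5, 5, 4, 3, 4, 6, 3, 4]⟩,
  ⟨11, [(24, true), (26, true), (25, true), (24, true)], [2, 3, 6, 4, 2, 4, 6, 3, 4, 5]⟩,
  ⟨10, [(25, true), (24, true)], [2, 3, 5, 4, 2, 3, 4, 4, 5]⟩,
  ⟨10, [(26, true), (25, true), (26, true), (24, true)], [2, 3, 4, 4, 2, 3, 4, 4, 4, 4]⟩,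
  ⟨10, [(26, true), (25, true), (26, true), (25, true)], [2, 3, 4, 4, 2, 3, 4, 4, 4, 4]⟩,
  ⟨12, [(24, true)], [2, 4, 2, 4, 3, 2, 4, 2, 4, 4, 4, 3, 4]⟩,
  ⟨10, [(26, true), (24, true)], [2, 4, 3, 4, 2, 4, 4, 2, 5]⟩,
  ⟨142, [(24, true)], [0, 4, 4, 3, 6, 4, 3, 5, 6, 4, 3, 6, 4]⟩,
  ⟨10, [(26, true), (24, true), (24, true), (24, true), (24, true)], [0, 2, 4, 3, 4, 2, 4, 4, 2, 5]⟩,
  ⟨12, [(25, true), (26, true), (24, true)], [0, 4, 4, 2, 4, 3, 4, 4, 4, 4, 2]⟩,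
  ⟨13, [(25, true), (24, true)], [4, 3, 4, 4, 3, 5, 6, 4, 3, 4, 3, 4]⟩,
  ⟨13, [(26, true)], [2, 4, 5, 6, 4, 4, 6, 3]⟩,
  ⟨12, [(24, true), (25, true)], [6, 4, 3, 2, 4, 4, 6, 4, 4, 6, 3, 4]⟩,
  ⟨10, [(25, true), (24, true), (25, true), (24, true)], [2, 4, 4, 3, 4, 2, 4, 4, 4, 4, 4]⟩,
  ⟨10, [(24, true), (25, true)], [2, 4, 4, 3, 4, 2, 4, 4, 4, 4, 4]⟩,
  ⟨11, [(26, true), (25, true), (26, true), (25, true)], [2, 5, 4, 3, 4, 2, 4, 4, 2, 5]⟩,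
  ⟨11, [(24, true), (24, true), (26, true), (24, true)], [2, 4, 4, 3, 4, 2, 4, 4, 4, 4, 4]⟩,
  ⟨11, [(26, true), (25, true), (24, true), (24, true)], [2, 4, 4, 3, 4, 2, 4, 4, 4, 4, 4]⟩,
  ⟨142, [(25, true), (26, true), (24, true)], [4, 2, 3, 4, 2, 6, 5, 4, 6, 3]⟩,
  ⟨107, [(25, true), (24, true)], [2, 6, 4, 2, 3, 4, 6, 4, 4, 3, 5]⟩,
  ⟨107, [(26, true)], [6, 5, 4, 2, 4, 3, 6, 4, 4, 5]⟩,
  ⟨142, [(24, true), (25, true)], [1, 2, 4, 4, 4, 4, 2, 3, 4, 2, 4]⟩,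
  ⟨10, [(24, true), (24, true), (25, true)], [5, 6, 4, 3, 2, 4, 4, 5, 4, 6, 4]⟩,
  ⟨10, [(24, true), (25, true), (24, true), (24, true), (24, true)], [5, 6, 4, 3, 2, 4, 4, 5, 4, 6, 4]⟩,
  ⟨11, [(25, true), (24, true), (25, true)], [6, 4, 3, 2, 4, 4, 5, 4, 6, 4]⟩,
  ⟨11, [(25, true), (26, true), (25, true)], [5, 6, 4, 3, 2, 4, 4, 5, 4, 6, 4]⟩,
  ⟨11, [(24, true), (26, true), (24, true)], [5, 6, 4, 3, 2, 4, 4, 5, 4, 6, 4]⟩,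
  ⟨142, [(26, true), (24, true), (24, true)], [3, 4, 2, 4, 5, 4, 3, 6, 4, 4, 6]⟩,
  ⟨107, [(25, true)], [1, 2, 3]⟩,
  ⟨142, [(24, true), (24, true), (26, true)], [2, 4, 2, 4, 3, 2, 4, 4, 6, 4, 4, 3, 4]⟩,
  ⟨12, [(25, true), (24, true), (24, true)], [3, 6, 4, 4, 6, 4, 4, 2, 6]⟩,
  ⟨12, [(24, true), (25, true), (24, true), (24, true)], [4, 3, 5, 6, 4, 6, 3, 5, 4, 3, 4, 4]⟩,
  ⟨142, [(24, true), (25, true), (24, true), (24, true)], [4, 4, 2, 3, 4, 6, 3, 4]⟩,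
  ⟨13, [(25, true), (26, true), (24, true)], [1, 4, 4, 3, 2, 4, 4, 4, 4, 4]⟩,
  ⟨13, [(24, true)], [4, 2, 3, 4, 2, 3, 4, 4, 2, 3, 4, 5, 5, 4]⟩,
  ⟨13, [(24, true), (24, true)], []⟩,
  ⟨12, [(26, true), (24, true), (24, true)], [2, 4, 3, 4, 2, 3, 4, 4, 2, 6, 3, 4]⟩,
  ⟨13, [(25, true)], [1, 2, 3]⟩,
  ⟨12, [(24, true), (24, true), (26, true)], [2, 4, 2, 3, 4, 4, 4, 6, 4, 3]⟩,
  ⟨142, [(25, true), (24, true), (24, true)], [5, 4, 5, 6, 3, 4, 4, 2, 5, 4]⟩,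
  ⟨107, [(25, true), (26, true), (24, true)], [1, 4, 4, 3, 2, 4, 4, 4, 4, 4]⟩,
  ⟨107, [(24, true)], [4, 2, 3, 4, 2, 3, 4, 4, 3, 2, 4, 5, 5, 4]⟩,
  ⟨107, [(24, true), (24, true)], []⟩,
  ⟨101, [(25, true), (24, true)], [2, 4, 4, 3, 4, 6, 5, 4, 6, 5]⟩,
  ⟨101, [(26, true)], [3, 2, 6, 5]⟩,
  ⟨159, [(25, true), (24, true)], [2, 6, 3, 5, 4, 2, 3, 4, 5, 6, 4]⟩,
  ⟨146, [(25, true), (24, true)], [4, 5, 4, 2, 3, 4, 2, 4, 3, 6, 4]⟩,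
  ⟨12, [(24, true), (26, true), (25, true)], [5, 6, 3, 4, 2, 3, 4, 4, 6, 4]⟩,
  ⟨166, [(26, true)], [1, 4, 5, 4, 5, 6, 4, 2, 3, 4, 5]⟩,
  ⟨166, [(25, true), (24, true)], [0, 3, 4, 6, 5, 4, 3, 6, 5, 4, 2, 4, 4]⟩,
  ⟨15, [(26, true)], [2, 4, 5, 4, 5, 6, 3, 4, 4, 3, 5]⟩,
  ⟨12, [(24, true), (24, true), (25, true), (24, true)], [3, 4, 4, 3, 5, 6, 4, 3, 4, 3]⟩,
  ⟨12, [(24, true), (25, true), (24, true)], [4, 2, 3, 4, 5, 6, 4, 3, 4]⟩,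
  ⟨142, [(24, true), (24, true), (25, true), (24, true)], [1, 3, 5, 4, 2, 3, 5, 4, 3, 4, 6, 4, 5]⟩,
  ⟨10, [(24, true), (24, true), (26, true), (24, true)], [2, 4, 3, 5, 4, 2, 5, 4]⟩,
  ⟨11, [(26, true)], [2, 3, 5, 4, 3, 2, 4, 5]⟩,
  ⟨11, [(26, true), (24, true), (24, true), (24, true)], [2, 3, 5, 4, 2, 3, 4, 5]⟩,
  ⟨11, [(26, true), (25, true), (26, true), (24, true)], [6, 4, 2, 3, 6, 4, 6, 4]⟩,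
  ⟨11, [(26, true), (25, true)], [2, 4, 3, 5, 4, 2, 5, 4]⟩,
  ⟨11, [(24, true), (24, true), (26, true), (25, true)], [2, 4, 3, 5, 4, 2, 5, 4]⟩,
  ⟨10, [(24, true), (25, true), (24, true)], [5, 4, 6, 4, 3, 2, 6, 4, 6]⟩,
  ⟨10, [(25, true), (24, true), (24, true), (25, true)], [2, 3, 5, 4, 2, 3, 5, 4]⟩,
  ⟨10, [(26, true), (25, true), (24, true), (24, true), (24, true)], [4, 6, 4, 3, 2, 6, 4, 6]⟩,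
  ⟨142, [(24, true), (26, true), (25, true)], [5, 4, 3, 4, 2, 5, 5, 4, 3, 4, 2]⟩,
  ⟨153, [(26, true)], [4, 2, 3, 6, 5, 4, 3, 4, 5]⟩,
  ⟨142, [(24, true), (25, true), (24, true)], [6, 3, 4, 3, 4, 2, 4, 3, 4, 6, 4, 5]⟩,
  ⟨10, [(25, true), (26, true), (25, true)], [0, 2, 4, 3, 5, 4, 2, 5, 4]⟩,
  ⟨11, [(25, true), (24, true), (24, true)], [6, 4, 3, 2, 6, 4, 6, 4]⟩,
  ⟨11, [(26, true), (25, true), (24, true), (24, true), (24, true)], [0, 2, 4, 3, 5, 4, 2, 5, 4]⟩,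
  ⟨11, [(26, true), (24, true), (24, true)], [0, 2, 4, 3, 5, 4, 2, 5, 4]⟩,
  ⟨10, [(26, true), (25, true)], [4, 6, 4, 2, 3, 6, 4, 6]⟩,
  ⟨12, [(25, true), (26, true)], [1, 4, 2, 3, 4, 4, 2, 3, 4, 4, 5, 4]⟩,
  ⟨13, [(25, true), (26, true)], [0, 1, 5, 4, 3, 4, 4, 6, 4, 3, 4, 4]⟩,
  ⟨12, [(24, true), (24, true), (25, true)], [6, 4, 6, 4, 3, 4, 3, 2, 4, 4, 6]⟩,
  ⟨142, [(25, true), (26, true)], [6, 3, 4, 3, 2, 4, 5, 5, 4]⟩,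
  ⟨107, [(25, true), (26, true)], [4, 3, 4, 5, 4, 5, 6, 4, 3, 4, 2, 6]⟩,
  ⟨142, [(24, true), (24, true), (25, true)], [3, 4, 2, 3, 4, 4, 3, 5, 4, 2, 4, 2, 4]⟩,
  ⟨10, [(26, true), (24, true), (24, true)], [3, 4, 6, 5, 4, 3, 6, 4, 4, 4]⟩,
  ⟨10, [(24, true), (24, true), (26, true), (25, true)], [2, 3, 6, 5, 4, 2, 4, 6, 3, 4, 5, 5]⟩,
  ⟨12, [(25, true), (26, true), (24, true), (24, true)], [1, 4, 2, 3, 4, 4, 2, 3, 4, 4, 4, 4]⟩,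
  ⟨15, [(24, true), (26, true), (25, true)], [2, 4, 5, 6, 4, 4, 6, 3]⟩,
  ⟨12, [(25, true)], [6, 4, 4, 6, 4, 3, 4, 4, 4, 2, 4, 6]⟩,
  ⟨142, [(25, true), (26, true), (24, true), (24, true)], [6, 3, 4, 3, 2, 4, 4, 5]⟩,
  ⟨153, [(24, true), (26, true), (25, true)], [1, 3, 4, 3, 4, 6, 4, 2, 4, 4, 3]⟩,
  ⟨142, [(25, true)], [3, 4, 2, 4, 4, 4, 3, 4, 4, 2]⟩,
  ⟨13, [(24, true), (24, true), (26, true)], [3, 4, 4, 2, 3, 4, 3, 4, 6, 3, 4, 5, 6]⟩,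
  ⟨12, [(24, true), (26, true), (24, true)], [1, 4, 6, 4, 2, 3, 4, 2, 3, 5, 4, 3, 4]⟩,
  ⟨107, [(26, true), (24, true), (24, true)], [0, 1, 5, 4, 5, 6, 4, 3, 4, 6]⟩,
  ⟨13, [(24, true), (24, true), (25, true), (24, true)], [4, 3, 4, 4, 3, 5, 6, 4, 3, 4, 3, 4]⟩,
  ⟨13, [(24, true), (25, true), (24, true)], [2, 5, 4, 5, 6, 4, 4, 6, 3]⟩,
  ⟨107, [(24, true), (25, true), (24, true), (24, true)], [0, 2, 4, 4, 3, 5, 6, 4, 3, 6, 4]⟩,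
  ⟨107, [(25, true), (24, true), (24, true)], [3, 5, 4, 2, 4, 6, 3, 4, 2, 4, 2, 6]⟩,
  ⟨13, [(24, true), (26, true)], [4, 3, 4, 5, 4, 6, 5, 4, 3, 4, 3, 4]⟩,
  ⟨107, [(26, true), (25, true)], [2, 3, 4, 2, 3, 4, 3, 6, 5, 4, 3, 2, 6]⟩,
  ⟨12, [(26, true), (24, true)], [6, 4, 3, 4, 2, 4, 4, 3, 4, 4, 6]⟩,
  ⟨12, [(26, true)], [2, 4, 2, 3, 4, 4, 2, 5, 4, 6, 3, 4]⟩,
  ⟨15, [(24, true), (25, true)], [4, 4, 3, 6, 4, 6, 3, 4, 4, 2, 3, 5]⟩,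
  ⟨107, [(24, true), (24, true), (26, true)], [5, 4, 5, 6, 4, 3, 4, 2, 6, 3]⟩,
  ⟨142, [(24, true), (26, true), (24, true)], [6, 5, 4, 3, 4, 6, 5, 4, 6]⟩,
  ⟨13, [(26, true), (24, true), (24, true)], [4, 2, 4, 4, 5, 6, 3, 4, 2, 4, 2, 4]⟩,
  ⟨107, [(24, true), (24, true), (25, true), (24, true)], [2, 6, 4, 2, 3, 4, 6, 4, 4, 3, 5]⟩,
  ⟨107, [(24, true), (25, true), (24, true)], [6, 4, 2, 4, 3, 6, 4, 4, 5]⟩,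
  ⟨13, [(24, true), (25, true), (24, true), (24, true)], [0, 6, 4, 3, 6, 4, 3, 4, 6, 4, 3, 5, 5]⟩,
  ⟨13, [(25, true), (24, true), (24, true)], [3, 4, 5, 6, 4, 3, 2, 4, 3, 6]⟩,
  ⟨107, [(24, true), (26, true)], [4, 2, 3, 5, 6, 4, 2, 4, 3, 2, 6]⟩,
  ⟨13, [(26, true), (25, true)], [2, 6, 4, 2, 3, 4, 4, 2, 5]⟩,
  ⟨142, [(26, true), (24, true)], [0, 1, 3, 5, 4, 2, 4, 3, 4, 4, 5]⟩,
  ⟨142, [(26, true)], [0, 4, 4, 4, 3, 6, 4, 4, 3, 6, 4, 6]⟩,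
  ⟨153, [(24, true), (25, true)], [4, 3, 6, 4, 2, 3, 4, 3, 4, 6, 4, 6]⟩,
  ⟨142, [(26, true), (25, true)], [0, 5, 4, 3, 5, 6, 4, 2, 4, 5, 4, 3]⟩,
  ⟨107, [(26, true), (24, true)], [3, 4, 4, 2, 4, 4, 4, 3, 4, 2, 4]⟩,
  ⟨107, [(24, true), (25, true)], [0, 6, 4, 4, 6, 4, 3, 4, 4, 4, 6, 4, 3, 4]⟩,
  ⟨107, [(24, true), (24, true), (25, true)], [1, 2, 3]⟩,
  ⟨142, [(25, true), (26, true), (25, true)], [4, 5, 6, 4, 3, 2, 4, 3, 6, 4, 6, 3]⟩,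
  ⟨153, [(25, true)], [1, 2, 5, 4, 3, 5, 4, 2, 4, 4, 5]⟩,
  ⟨142, [(24, true), (26, true)], [6, 5, 4, 3, 4, 3, 2, 4, 3, 6, 4, 2]⟩,
  ⟨12, [(24, true), (26, true)], [6, 3, 4, 3, 4, 2, 3, 4, 3, 4, 6, 5]⟩,
  ⟨15, [(26, true), (25, true)], [1, 5, 4, 2, 4, 4, 3, 4, 2, 4, 4, 4]⟩,
  ⟨13, [(25, true), (26, true), (24, true), (24, true)], [1, 4, 2, 4, 4, 3, 4, 2, 4, 4, 4]⟩,
  ⟨12, [(26, true), (25, true)], [0, 3, 5, 4, 5, 6, 4, 4, 3, 5]⟩,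
  ⟨13, [(26, true), (24, true)], [2, 4, 4, 3, 4, 4, 4, 2, 4, 3, 4]⟩,
  ⟨13, [(24, true), (25, true)], [6, 4, 4, 6, 4, 3, 4, 4, 4, 6, 4, 3, 4]⟩,
  ⟨13, [(24, true), (24, true), (25, true)], [1, 2, 3]⟩,
  ⟨12, [(25, true), (26, true), (25, true)], [3, 6, 4, 3, 2, 4, 6, 4, 4, 6, 3]⟩,
  ⟨15, [(25, true)], [1, 4, 4, 4, 2, 3, 4, 4, 4, 4]⟩,
  ⟨153, [(26, true), (25, true)], [1, 4, 5, 4, 2, 3, 4, 4, 4]⟩,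
  ⟨107, [(25, true), (26, true), (24, true), (24, true)], [0, 1, 4, 2, 4, 4, 3, 4, 2, 4, 4, 4]⟩,
  ⟨153, [(24, true), (24, true), (25, true)], [4, 4, 5, 4, 3, 6, 4, 2, 4, 2, 4, 3]⟩,
  ⟨13, [(25, true), (26, true), (25, true)], [3, 4, 2, 4, 3, 4, 3, 2, 4, 6, 4, 4]⟩,
  ⟨15, [(24, true), (24, true), (25, true)], [3, 4, 3, 6, 4, 4, 3, 2, 4, 6, 4]⟩,
  ⟨107, [(25, true), (26, true), (25, true)], [3, 6, 4, 3, 2, 5, 4, 3, 6]⟩,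
  ⟨107, [(25, true), (24, true), (25, true)], [3, 4, 6, 3, 4, 2, 3, 4, 4, 6, 4]⟩,
  ⟨107, [(24, true), (26, true), (25, true)], [2, 4, 2, 3, 4, 3, 5, 6, 4, 6, 3, 4]⟩,
  ⟨13, [(25, true), (24, true), (25, true)], [3, 2, 5, 4, 6, 3, 4, 2, 4, 6, 5]⟩,
  ⟨13, [(24, true), (26, true), (25, true)], [2, 3, 4, 4, 6, 4, 3, 4, 6, 3, 5, 4, 2]⟩,
  ⟨107, [(24, true), (26, true), (24, true)], [1, 4, 5, 4, 2, 3, 5, 4, 5]⟩,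
  ⟨13, [(24, true), (26, true), (24, true)], [2, 3, 4, 4, 2, 5, 4, 6, 3, 4, 2, 4]⟩]

noncomputable def coverEdge3 : List Step := [⟨131, [], [5, 5]⟩,
  ⟨496, [], [6, 3]⟩,
  ⟨496, [(30, true), (30, true)], [6, 3]⟩,
  ⟨496, [(29, true), (29, true)], [1, 2, 6]⟩,
  ⟨496, [(126, true), (30, true), (27, true)], [5, 4, 3, 6, 4, 3, 6, 5, 4, 2, 3]⟩,
  ⟨496, [(28, true), (30, true), (29, true)], [4, 2, 3, 5, 4, 3, 4, 2, 4, 3, 4, 4, 6]⟩,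
  ⟨99, [], [0, 1, 6]⟩,
  ⟨496, [(27, true)], [1, 2, 6]⟩,
  ⟨496, [(29, true), (126, true), (29, true), (27, true)], [4, 3, 6, 4, 3, 6, 4, 4, 3, 2, 4, 5]⟩,
  ⟨496, [(126, true), (29, true), (30, true), (27, true)], [6, 3, 4, 2, 4, 3, 5, 4, 2, 4]⟩,
  ⟨496, [(126, true), (126, true), (27, true)], [2, 6, 4, 4, 3, 2, 5]⟩,
  ⟨496, [(28, true), (30, true), (29, true), (27, true)], [4, 2, 3, 5, 4, 2, 4, 3, 4, 2, 4, 4, 6]⟩,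
  ⟨73, [], [3, 5, 6]⟩,
  ⟨496, [(29, true), (29, true), (29, true), (28, true)], [4, 5, 6, 4, 4, 3, 4, 2, 4, 6, 3]⟩,
  ⟨16, [], []⟩,
  ⟨73, [(30, true), (29, true)], [4, 4, 2, 3, 4, 3, 4, 4, 6, 3, 4, 5]⟩,
  ⟨496, [(28, true), (29, true)], [0, 4, 5, 6, 4, 4, 3, 4, 2, 4, 6, 3]⟩,
  ⟨16, [(30, true), (30, true)], [0]⟩,
  ⟨496, [(126, true), (126, true), (30, true), (27, true)], [0, 5, 4, 3, 6, 4, 6, 3, 4]⟩,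
  ⟨496, [(30, true), (28, true), (30, true)], [5, 6, 4, 2, 4, 3, 4, 4, 3, 5]⟩,
  ⟨496, [(30, true), (126, true), (27, true)], [4, 4, 4, 3, 4, 6, 4, 2, 4, 3, 6, 4]⟩,
  ⟨496, [(30, true), (30, true), (28, true)], [2, 5, 6, 4, 4, 2, 3, 5, 4]⟩,
  ⟨496, [(126, true), (29, true), (126, true), (27, true)], [5, 6, 4, 3, 4, 2, 4, 2, 3, 4, 3, 5]⟩,
  ⟨496, [(29, true), (30, true), (27, true)], [4, 4, 3, 6, 5, 4, 6, 3, 5, 4]⟩,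
  ⟨496, [(30, true), (126, true), (29, true), (27, true)], [1, 2, 6, 4, 2, 4, 3, 4, 2, 4, 4, 2]⟩,
  ⟨496, [(29, true), (29, true), (28, true)], [6, 4, 2, 4, 3, 4, 4, 3, 5]⟩,
  ⟨496, [(126, true), (30, true)], [3, 6, 4, 2, 4, 3, 4, 2, 4, 4, 3, 4, 4]⟩,
  ⟨496, [(30, true), (29, true), (28, true)], [1, 4, 4, 5, 4, 2, 3, 4, 3, 4, 6, 4, 2]⟩,
  ⟨17, [], []⟩,
  ⟨496, [(30, true), (28, true), (30, true), (29, true)], [0, 1, 5, 4, 6, 5, 4, 3, 4, 6, 4, 4, 2]⟩,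
  ⟨16, [(30, true), (28, true), (30, true)], [4, 2, 3, 4, 4, 3, 2, 4, 4, 4, 4]⟩,
  ⟨17, [(28, true), (30, true), (28, true)], [3, 4, 4, 3, 2, 5, 4, 5, 6, 4, 3]⟩,
  ⟨496, [(126, true), (28, true), (29, true)], [2, 5, 4, 6, 5, 4, 3, 4, 6, 3, 4, 3, 5]⟩,
  ⟨16, [(28, true), (126, true), (30, true), (126, true)], [1, 5, 4, 2, 3]⟩,
  ⟨73, [(29, true), (30, true)], [6, 4, 3, 6, 4, 5, 5, 4, 3]⟩,
  ⟨73, [(126, true), (126, true), (29, true)], [4, 5, 4, 3, 6, 4, 4, 2, 3, 4, 3, 4]⟩,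
  ⟨73, [(30, true), (27, true)], [4, 5, 6, 4, 3, 2, 4, 4, 3, 6, 4, 3, 5]⟩,
  ⟨73, [(27, true)], [1, 5]⟩,
  ⟨496, [(30, true), (30, true), (29, true), (28, true)], [2, 4, 3, 4, 3, 6, 4, 3, 5, 6, 4, 6]⟩,
  ⟨16, [(29, true), (30, true), (28, true), (27, true)], [3, 6, 4, 6, 3, 5, 4, 3, 4, 6, 4, 2]⟩,
  ⟨16, [(30, true), (126, true), (28, true), (29, true)], [1, 2, 4, 2, 4, 3, 4, 3, 2, 4, 3, 5]⟩,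
  ⟨16, [(29, true), (29, true)], [4, 6, 4, 2, 3, 6, 4, 6]⟩,
  ⟨496, [(29, true), (29, true), (126, true), (27, true)], [2, 6, 4, 4, 2, 3, 4, 5, 4]⟩,
  ⟨16, [(30, true), (126, true)], [1, 4, 4, 3, 2, 4, 5, 4]⟩,
  ⟨73, [(126, true), (126, true), (30, true)], [1, 4, 4, 4, 3, 4, 2, 4, 3, 4, 4, 6]⟩,
  ⟨73, [(29, true), (27, true)], [2, 4, 2, 3, 4, 2, 4, 5, 4]⟩,
  ⟨496, [(29, true), (28, true)], [0, 2, 4, 3, 4, 3, 6, 4, 3, 5, 6, 4, 6]⟩,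
  ⟨16, [(27, true), (126, true), (27, true)], [4, 2, 4, 3, 2, 4, 4, 5, 4, 2]⟩,
  ⟨16, [(126, true), (30, true), (27, true)], [1, 2, 4, 2, 4, 3, 4, 2, 3, 4, 3, 5]⟩,
  ⟨16, [(27, true)], [4, 6, 4, 3, 2, 6, 4, 6]⟩,
  ⟨496, [(27, true), (126, true), (27, true)], [2, 6, 4, 4, 3, 2, 4, 5, 4]⟩,
  ⟨16, [(28, true), (29, true)], [1, 2, 5, 4, 3, 4, 4, 2, 5, 4, 3, 4, 3, 4]⟩,
  ⟨496, [(30, true), (126, true), (29, true), (29, true)], [4, 4, 4, 3, 4, 6, 4, 2, 4, 3, 6, 4]⟩,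
  ⟨496, [(28, true)], [2, 5, 6, 4, 4, 2, 3, 5, 4]⟩,
  ⟨496, [(30, true), (126, true), (28, true), (27, true)], [1, 6, 4, 2, 5, 4, 3, 4, 2, 3, 5, 4]⟩,
  ⟨496, [(28, true), (27, true)], [6, 4, 2, 4, 3, 4, 4, 3, 5]⟩,
  ⟨496, [(28, true), (30, true), (28, true), (29, true)], [5, 6, 4, 4, 3, 4, 2, 4, 2, 3, 4, 4]⟩,
  ⟨496, [(29, true), (30, true)], [3, 4, 2, 4, 3, 4, 4, 5, 6, 4, 2, 6]⟩,
  ⟨496, [(30, true), (29, true)], [0, 4, 4, 6, 3, 4, 3, 4, 4, 2, 4, 6]⟩,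
  ⟨496, [(126, true), (30, true), (28, true)], [6, 3, 4, 4, 2, 3, 4, 2, 3, 4]⟩,
  ⟨496, [(30, true), (28, true), (29, true)], [6, 3, 4, 2, 4, 4, 3, 4, 2, 4, 4]⟩,
  ⟨496, [(28, true), (29, true), (30, true)], [0, 6, 3, 4, 2, 4, 4, 3, 4, 2, 4, 4]⟩,
  ⟨16, [(28, true), (27, true)], [4, 4, 3, 2, 4, 4, 4, 6, 5, 4, 3]⟩,
  ⟨496, [(28, true), (126, true), (29, true), (27, true)], [3, 4, 4, 2, 3, 5, 4, 3, 2, 4, 4, 6]⟩,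
  ⟨16, [(29, true), (29, true), (28, true)], [1, 2, 5, 4, 3, 4, 4, 5, 6, 4]⟩,
  ⟨496, [(29, true), (30, true), (28, true), (30, true)], [5, 6, 4, 3, 4, 2, 4, 4, 3, 5, 4, 5]⟩,
  ⟨496, [(29, true), (126, true), (27, true)], [2, 3, 4, 3, 2, 4, 6, 3, 5, 4, 2, 6]⟩,
  ⟨496, [(30, true), (29, true), (27, true)], [3, 2, 4, 3, 6, 4, 6, 3, 4, 4]⟩,
  ⟨18, [], []⟩,
  ⟨496, [(29, true), (29, true), (126, true), (29, true), (27, true)], [6, 5, 4, 2, 4, 3, 4, 2, 4, 5, 4, 3]⟩,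
  ⟨16, [(126, true), (29, true), (27, true)], [0, 2, 4, 4, 3, 4, 2, 4, 5, 4, 5]⟩,
  ⟨248, [], [0, 2]⟩,
  ⟨496, [(30, true), (29, true), (30, true)], [4, 3, 6, 5, 4, 3, 2, 4, 3, 5, 6, 4]⟩,
  ⟨16, [(29, true), (126, true), (126, true)], [4, 4, 2, 3, 4, 4, 2, 3, 5, 4]⟩,
  ⟨17, [(29, true), (30, true), (28, true)], [6, 4, 2, 3, 4, 2, 3, 4, 3, 2, 5, 4, 5]⟩,
  ⟨17, [(126, true), (27, true), (126, true)], [2, 4, 6, 5, 4, 3, 2, 6, 4, 4, 2, 5]⟩,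
  ⟨18, [(126, true), (126, true), (27, true)], [4, 2, 4, 3, 4, 6, 3, 4, 4, 6, 4]⟩,
  ⟨16, [(126, true), (126, true), (29, true)], [3, 4, 4, 3, 6, 5, 4, 6, 3, 4, 6, 5, 4]⟩,
  ⟨16, [(28, true), (30, true), (27, true)], [4, 4, 2, 3, 5, 4, 2, 3, 5]⟩,
  ⟨496, [(30, true), (29, true), (29, true)], [4, 2, 3, 4, 4, 6, 4, 3, 5, 4, 6]⟩,
  ⟨16, [(29, true), (29, true), (29, true)], [1, 2, 3, 5, 4, 5]⟩,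
  ⟨17, [(27, true)], [2, 4, 2, 3, 4, 3, 4, 4, 4, 2, 4, 3, 4]⟩,
  ⟨17, [(126, true), (126, true), (30, true)], [5, 4, 3, 6, 4, 3, 6, 4, 2, 6]⟩,
  ⟨248, [(126, true), (126, true), (27, true)], [6, 3, 4, 6, 4, 4, 3, 2, 5, 4, 2, 4]⟩,
  ⟨16, [(126, true), (28, true)], [4, 5, 4, 6, 4, 3, 2, 6, 4, 6]⟩,
  ⟨16, [(30, true), (126, true), (29, true), (27, true)], [1, 2, 3, 4, 2, 4, 4, 3, 4, 2, 5]⟩,
  ⟨496, [(30, true), (27, true)], [4, 3, 2, 4, 4, 6, 4, 3, 5, 4, 6]⟩,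
  ⟨16, [(29, true), (27, true)], [1, 3, 2, 5, 4, 5]⟩,
  ⟨73, [(126, true), (29, true), (126, true)], [6, 5, 4, 6, 3, 4, 4, 3, 2, 4, 6]⟩,
  ⟨73, [(29, true)], [3, 5, 4, 6, 3, 4, 2, 4, 3, 4, 6, 5]⟩,
  ⟨171, [], [1, 5, 6]⟩,
  ⟨73, [(126, true), (30, true), (126, true)], [3, 6, 4, 3, 6, 4, 3, 4, 2, 3, 4]⟩,
  ⟨73, [(30, true), (126, true)], [2, 6, 4, 2, 3, 4, 4, 5, 4]⟩,
  ⟨73, [(126, true), (29, true)], [0, 2, 5, 4, 2, 4, 3, 5, 4, 2, 4, 3, 4, 6]⟩,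
  ⟨73, [(126, true), (29, true), (27, true)], [0, 4, 4, 6, 4, 3, 4, 4, 6, 4, 6]⟩,
  ⟨73, [(30, true), (126, true), (126, true)], [0, 3, 4, 4, 3, 6, 4, 2, 6, 5, 4, 3]⟩,
  ⟨73, [(30, true)], [2, 4, 3, 4, 2, 3, 4, 4, 4, 4, 4]⟩,
  ⟨17, [(126, true), (126, true)], [2, 4, 5, 6, 3, 4, 2, 4, 4, 3, 2, 4, 5]⟩,
  ⟨16, [(126, true)], [2, 3, 4, 3, 2, 5]⟩,
  ⟨16, [(29, true), (126, true), (126, true), (29, true)], [1, 4, 2, 4, 4, 3, 4, 2, 4, 2, 3, 4, 4]⟩,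
  ⟨16, [(29, true), (30, true), (28, true)], [1, 4, 4, 4, 4, 2, 4, 3, 4, 2, 4, 4, 3]⟩,
  ⟨496, [(28, true), (30, true)], [1, 6, 5, 4, 2, 3, 4, 3, 4, 2, 4, 5, 5]⟩,
  ⟨16, [(29, true), (28, true)], [1, 2, 4, 4, 3, 4, 2, 4, 2, 3, 5, 5]⟩,
  ⟨496, [(126, true), (27, true)], [5, 6, 3]⟩,
  ⟨156, [], [3]⟩,
  ⟨73, [(126, true), (126, true), (27, true)], [4, 4, 5, 4, 3, 6, 4, 2, 6]⟩,
  ⟨73, [(126, true), (27, true)], [2, 4, 4, 4, 3, 5, 6, 4, 4, 3]⟩,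
  ⟨73, [(126, true), (30, true)], [2, 6, 4, 3, 6, 4, 2, 4, 2, 3, 4, 5]⟩,
  ⟨73, [(29, true), (126, true)], [4, 6, 4, 3, 4, 6, 3, 4, 4, 2]⟩,
  ⟨17, [(126, true), (27, true), (126, true), (30, true)], [0, 3, 4, 2, 6, 4, 4, 6, 3, 4, 4, 6]⟩,
  ⟨16, [(28, true), (29, true), (30, true)], [1, 4, 4, 2, 3, 5, 4, 5, 4]⟩,
  ⟨16, [(29, true), (126, true), (28, true)], [3, 4, 3, 6, 4, 6, 3, 4, 6, 5, 4]⟩,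
  ⟨16, [(126, true), (27, true)], [4, 5, 5]⟩,
  ⟨496, [(30, true), (30, true), (28, true), (30, true)], [1, 6, 5, 4, 3, 2, 4, 3, 4, 2, 4, 5, 5]⟩,
  ⟨16, [(126, true), (126, true), (27, true)], [4, 2, 4, 3, 4, 4, 4, 4, 2]⟩,
  ⟨496, [(126, true), (29, true), (29, true)], [0, 5, 6, 3]⟩,
  ⟨18, [(126, true), (28, true)], [6, 4, 2, 4, 6, 3, 4, 4, 6, 4, 3, 4]⟩,
  ⟨16, [(28, true), (126, true), (29, true), (27, true)], [1, 4, 4, 4, 2, 3, 4, 5, 5]⟩,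
  ⟨248, [(126, true), (28, true)], [5, 4, 5, 6, 3, 4, 2, 4, 3, 4, 3, 5]⟩,
  ⟨16, [(29, true), (30, true), (28, true), (126, true)], [1, 4, 4, 4, 3, 2, 4, 5, 5]⟩,
  ⟨16, [(126, true), (126, true)], [3, 2, 5, 4, 6, 4, 4, 3]⟩,
  ⟨496, [(29, true), (29, true), (29, true)], [3, 6, 4, 3, 2, 5, 4]⟩,
  ⟨16, [(126, true), (30, true), (126, true)], [3, 6, 4, 3, 2, 4, 3, 6, 5, 4, 2, 6]⟩,
  ⟨16, [(30, true), (29, true), (30, true), (28, true)], [0, 4, 2, 6, 4, 6, 4, 3, 4, 2, 4]⟩,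
  ⟨496, [(29, true), (27, true)], [3, 6, 4, 2, 3, 5, 4]⟩,
  ⟨16, [(126, true), (28, true), (29, true)], [3, 4, 4, 6, 3, 4, 3, 4, 4, 2, 5, 4, 6]⟩,
  ⟨496, [(30, true), (30, true), (29, true)], [1, 6, 4, 4, 3, 4, 2, 4, 5, 5]⟩,
  ⟨496, [(29, true)], [3, 6, 4, 4, 4, 3, 2, 4, 5, 5]⟩,
  ⟨16, [(126, true), (29, true)], [0, 1, 3, 5, 4, 3, 4, 2, 4, 3, 4, 6, 4]⟩,
  ⟨496, [(29, true), (126, true), (30, true), (27, true)], [5, 4, 2, 3, 4, 3, 6, 5, 4, 2, 4, 2]⟩,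
  ⟨16, [(28, true), (126, true)], [4, 2, 3, 4, 4, 2, 3, 4, 5]⟩,
  ⟨16, [(30, true), (30, true), (28, true), (30, true)], [2, 4, 3, 4, 2, 4, 3, 2, 4, 2, 5, 5]⟩,
  ⟨16, [(30, true), (29, true), (27, true)], [4, 4, 2, 3, 4, 4, 2, 3, 4, 4, 4]⟩,
  ⟨16, [(28, true)], [3, 5, 6, 4, 3, 4, 6, 5, 4, 3, 4, 3, 2]⟩,
  ⟨496, [(30, true), (28, true)], [4, 3, 4, 4, 2, 5, 4, 3, 4]⟩,
  ⟨16, [(29, true), (30, true)], [1, 5, 4, 3, 2, 5, 4]⟩,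
  ⟨16, [(28, true), (30, true)], [2, 4, 3, 4, 2, 4, 2, 3, 4, 2, 5, 5]⟩,
  ⟨16, [(28, true), (29, true), (30, true), (28, true)], [4, 4, 2, 3, 4, 4, 3, 2, 4, 4, 4]⟩,
  ⟨17, [(126, true), (29, true), (126, true)], [2, 6, 4, 2, 4, 3, 6, 4, 2, 4, 2, 5]⟩,
  ⟨496, [(29, true), (30, true), (126, true), (27, true)], [1, 6, 4, 4, 3, 4, 2]⟩,
  ⟨17, [(126, true), (28, true), (126, true)], [2, 6, 4, 3, 4, 4, 4, 6, 4, 6, 3, 4, 2]⟩,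
  ⟨496, [(126, true), (29, true), (27, true)], [3, 6, 4, 4, 4, 3, 2]⟩,
  ⟨18, [(27, true)], [1, 4, 2, 3, 4, 4, 3, 2, 4, 4, 4, 4]⟩,
  ⟨17, [(28, true), (126, true)], [0, 6, 4, 5, 6, 4, 3, 4, 6]⟩,
  ⟨18, [(30, true), (28, true)], [1, 2, 4, 4, 2, 3, 4, 4, 2, 5]⟩,
  ⟨17, [(126, true), (28, true), (126, true), (30, true)], [4, 2, 3, 4, 5, 6, 3, 4, 3, 2, 4]⟩,
  ⟨16, [(30, true), (28, true), (27, true)], [2, 5, 5, 4, 2, 3, 4, 3, 4, 2, 4]⟩,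
  ⟨16, [(27, true), (126, true)], [5, 4, 2, 3, 4, 3, 2, 5, 4]⟩,
  ⟨496, [(30, true), (28, true), (27, true)], [6, 3, 4, 4, 2, 3, 4, 2, 3]⟩,
  ⟨16, [(30, true), (126, true), (28, true)], [4, 4, 2, 3, 4, 4, 2, 3, 5]⟩,
  ⟨496, [(30, true), (30, true), (30, true)], [6, 4, 3, 2, 5, 4, 3, 4, 2, 4, 3]⟩,
  ⟨248, [(27, true)], [0, 1, 4, 4, 2, 4, 4, 3, 4, 2, 4, 4, 2]⟩,
  ⟨17, [(29, true), (126, true)], [0, 4, 3, 4, 3, 5, 6, 4, 3, 6, 4, 2]⟩,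
  ⟨248, [(30, true), (28, true)], [1, 2, 3, 4, 4, 3, 2, 4, 4, 3, 5]⟩,
  ⟨17, [(126, true), (126, true), (28, true), (27, true)], [6, 3, 4, 2, 3, 4, 6, 4, 4, 3, 5]⟩,
  ⟨16, [(30, true), (29, true), (29, true), (28, true)], [2, 5, 5, 4, 3, 2, 4, 3, 4, 2, 4]⟩,
  ⟨16, [(29, true), (28, true), (30, true)], [0, 2, 6, 4, 6, 3, 4, 6, 4, 4, 3, 4, 2]⟩,
  ⟨496, [(29, true), (126, true), (126, true), (27, true)], [1, 2, 5, 6, 4, 2, 4, 2, 3, 4, 2, 4, 2]⟩,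
  ⟨16, [(29, true)], [2, 5, 5, 4, 2, 3, 4, 2, 4, 2]⟩,
  ⟨496, [(30, true)], [6, 4, 2, 3, 5, 4, 3, 4, 2, 4, 3]⟩,
  ⟨17, [(126, true), (30, true), (126, true)], [0, 2, 4, 6, 4, 4, 6, 3, 4, 4, 2, 4]⟩,
  ⟨248, [(29, true), (27, true)], [2, 3, 4, 4, 2, 6, 4, 6, 3, 4]⟩,
  ⟨17, [(126, true), (29, true), (126, true), (28, true)], [2, 4, 3, 4, 2, 3, 5, 4, 2, 4, 3, 4]⟩,
  ⟨248, [(126, true)], [3, 6, 4, 3, 4, 2, 4, 3, 2, 4, 5, 6]⟩,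
  ⟨248, [(126, true), (28, true), (29, true)], [4, 2, 3, 4, 4, 6, 4, 3, 4, 3, 6, 4]⟩,
  ⟨18, [(126, true), (28, true), (29, true)], [0, 3, 6, 4, 2, 4, 4, 3, 4, 6]⟩,
  ⟨18, [(30, true), (126, true), (27, true)], [0, 1, 4, 3, 4, 2, 4, 3, 4, 6, 4]⟩,
  ⟨17, [(30, true), (126, true)], [1, 2, 4, 3, 5, 4, 2, 5, 4]⟩,
  ⟨248, [(30, true), (27, true)], [0, 3, 5, 5, 4, 3, 4, 2, 4, 6, 5, 4]⟩,
  ⟨17, [(27, true), (126, true), (126, true)], [1, 4, 2, 5, 4, 3, 4, 4, 6, 4, 4, 3]⟩,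
  ⟨18, [(29, true), (27, true)], [1, 3, 5, 4, 2, 3, 4, 2, 6, 5]⟩,
  ⟨17, [(126, true), (126, true), (27, true)], [1, 4, 5, 4, 2, 3, 4, 4, 6, 4, 2, 3, 4]⟩,
  ⟨18, [(126, true)], [6, 4, 6, 4, 3, 4, 3, 6, 5, 4]⟩,
  ⟨248, [(30, true), (126, true), (27, true)], [0, 2, 5, 4, 5, 6, 4, 3, 4, 5, 5]⟩,
  ⟨17, [(27, true), (126, true), (27, true)], [0, 2, 4, 6, 3, 4, 2, 6, 4, 5]⟩,
  ⟨18, [(30, true), (27, true)], [1, 2, 4, 2, 3, 4, 5, 4, 6, 4, 3]⟩,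
  ⟨156, [(28, true)], [2, 4, 3, 6, 5, 4, 3, 6, 4, 3, 6, 5, 4]⟩,
  ⟨73, [(126, true), (126, true)], [2, 3, 4, 4, 4, 4, 2, 4, 3, 4, 2, 4, 6]⟩,
  ⟨73, [(126, true)], [4, 3, 6, 4, 2, 4, 2, 4, 3, 6]⟩,
  ⟨73, [(30, true), (126, true), (27, true)], [4, 4, 4, 5, 6, 4, 3, 2, 6, 4, 4, 5]⟩,
  ⟨248, [(28, true)], [2, 5, 4, 3, 4, 3, 5, 6, 4, 3, 4, 4]⟩,
  ⟨73, [(126, true), (30, true), (126, true), (27, true)], [3, 4, 3, 4, 6, 4, 3, 4, 3, 4, 2, 6, 4]⟩,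
  ⟨171, [(28, true)], [4, 4, 4, 5, 6, 3, 4, 2, 4, 3, 5]⟩,
  ⟨17, [(30, true), (28, true), (30, true), (27, true)], [4, 6, 5, 4, 3, 4, 2, 3, 5, 4, 3, 6]⟩,
  ⟨248, [(28, true), (27, true)], [2, 4, 4, 2, 5, 6, 3, 4, 2, 4, 3, 2]⟩,
  ⟨248, [(29, true), (30, true)], [2, 6, 4, 4, 3, 6, 4, 2, 6]⟩,
  ⟨18, [(28, true), (27, true)], [2, 4, 3, 5, 6, 4, 4, 6, 3, 4, 4]⟩,
  ⟨16, [(30, true), (28, true)], [0, 6, 3, 4, 5, 6, 4, 3, 4, 2, 4, 4, 6]⟩,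
  ⟨16, [(30, true), (29, true), (30, true), (27, true)], [3, 4, 4, 4, 6, 4, 6, 3, 4, 6, 5, 4]⟩,
  ⟨16, [(28, true), (126, true), (126, true)], [4, 2, 3, 5, 4, 3, 2, 5, 4]⟩,
  ⟨16, [(30, true), (28, true), (126, true)], [5, 4, 3, 2, 6, 4, 6, 4, 6]⟩,
  ⟨16, [(28, true), (30, true), (29, true), (30, true)], [1, 2, 3, 4, 2, 3, 4, 4, 2, 3, 4, 5]⟩,
  ⟨496, [(29, true), (126, true), (30, true)], [4, 6, 3, 4, 2, 6, 4, 5]⟩,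
  ⟨16, [(30, true), (29, true), (29, true)], [1, 2, 4, 3, 4, 2, 4, 4, 3, 4, 4]⟩,
  ⟨16, [(30, true), (27, true)], [1, 3, 4, 2, 4, 3, 4, 4, 2, 5]⟩,
  ⟨16, [(30, true), (30, true), (30, true)], [1, 4, 3, 2, 5, 4, 2, 4, 3, 5, 4, 2, 4]⟩,
  ⟨18, [(28, true)], [3, 4, 4, 4, 4, 2, 4, 6, 3, 4, 2, 4, 6]⟩,
  ⟨17, [(28, true), (30, true), (27, true)], [4, 3, 4, 6, 4, 3, 4, 2, 3]⟩,
  ⟨18, [(29, true), (30, true)], [2, 3, 6, 4, 2, 4, 2, 6, 3, 4, 6]⟩,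
  ⟨16, [(30, true), (126, true), (29, true)], [4, 4, 5, 4, 2, 3, 4, 3, 2, 5, 5, 4]⟩,
  ⟨16, [(30, true), (29, true), (30, true)], [1, 2, 4, 3, 2, 4, 2, 4, 3, 4, 5, 5]⟩,
  ⟨16, [(27, true), (126, true), (126, true)], [5, 4, 5, 4]⟩,
  ⟨496, [(126, true), (28, true), (27, true)], [0, 4, 6, 3, 4, 2, 6, 4, 5]⟩,
  ⟨16, [(30, true)], [1, 4, 2, 3, 5, 4, 2, 4, 3, 5, 4, 2, 4]⟩,
  ⟨18, [(30, true), (29, true)], [4, 2, 5, 6, 4, 4, 3]⟩,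
  ⟨248, [(30, true)], [2, 4, 2, 3, 4, 2, 3, 4, 3, 6, 5]⟩,
  ⟨18, [(126, true), (27, true)], [2, 5, 4, 3, 2, 5, 4, 3, 4, 2, 4, 6]⟩,
  ⟨248, [(30, true), (29, true)], [1, 3, 5, 4, 3, 2, 5, 4, 3, 4, 6, 4, 5]⟩,
  ⟨18, [(30, true)], [4, 4, 5, 4, 2, 3, 4, 5, 6, 3]⟩,
  ⟨248, [(126, true), (27, true)], [4, 3, 5, 4, 5, 6, 4, 3, 6, 4, 3, 2]⟩,
  ⟨16, [(126, true), (28, true), (27, true)], [4, 2, 3, 5, 4, 2, 4, 4, 6, 4, 3, 4]⟩,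
  ⟨16, [(29, true), (30, true), (27, true)], [4, 3, 4, 5, 4, 6, 4, 3, 4, 4, 3, 6]⟩,
  ⟨17, [(126, true), (126, true), (30, true), (28, true)], [0, 4, 6, 3, 4, 3, 4, 4, 6, 4, 2]⟩,
  ⟨17, [(28, true)], [5, 4, 3, 4, 6, 3, 4, 2, 3, 4, 6]⟩,
  ⟨18, [(126, true), (29, true), (27, true)], [6, 5, 4, 2, 4, 3, 2, 4, 6, 4, 4, 5]⟩,
  ⟨17, [(126, true), (126, true), (28, true)], [4, 4, 3, 6, 4, 2, 3, 4, 5, 5, 4]⟩,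
  ⟨17, [(30, true), (28, true)], [2, 4, 4, 2, 3, 4, 4, 2, 3, 4, 3, 5, 5]⟩,
  ⟨248, [(126, true), (29, true), (27, true)], [1, 4, 3, 2, 4, 4, 4, 6, 5, 4, 2]⟩,
  ⟨17, [(126, true), (28, true)], [2, 3, 4, 3, 6, 4, 4, 2, 3, 4, 3, 4]⟩,
  ⟨17, [(29, true), (126, true), (126, true)], [0, 4, 6, 4, 2, 4, 3, 4, 2, 4, 3]⟩,
  ⟨17, [(28, true), (126, true), (30, true)], [3, 4, 3, 4, 2, 4, 3, 4, 4, 5, 6]⟩,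
  ⟨248, [(126, true), (126, true), (28, true)], [2, 4, 3, 4, 2, 4, 2, 3, 4, 5]⟩,
  ⟨18, [(28, true), (30, true), (28, true)], [4, 2, 6, 3, 5, 4, 2, 3, 4, 4, 6]⟩,
  ⟨18, [(28, true), (29, true)], [4, 4, 4, 2, 3, 4, 2, 4, 6, 3, 4, 3, 4]⟩,
  ⟨248, [(30, true), (28, true), (27, true)], [1, 2, 3, 4, 2, 4, 3, 2, 4, 2, 4, 5]⟩,
  ⟨248, [(29, true), (28, true)], [0, 4, 3, 6, 4, 5, 6, 4, 3, 4, 6]⟩,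
  ⟨248, [(126, true), (30, true), (27, true)], [2, 3, 6, 4, 3, 6, 4, 3, 6, 4]⟩,
  ⟨18, [(30, true), (29, true), (126, true)], [2, 3, 5, 4, 6, 3, 5, 4, 3, 2, 4, 3]⟩,
  ⟨248, [(27, true), (126, true)], [0, 6, 3, 4, 4, 2, 4, 6, 5]⟩,
  ⟨17, [(30, true), (29, true), (30, true), (28, true)], [0, 1, 4, 2, 4, 4, 3, 4, 4, 4]⟩,
  ⟨17, [(126, true), (30, true), (28, true)], [1, 4, 3, 5, 4, 6]⟩,
  ⟨17, [(28, true), (126, true), (126, true)], [6, 3, 4, 4, 6, 4, 2, 3, 4, 3, 5]⟩,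
  ⟨17, [(126, true), (28, true), (27, true)], [0, 5, 4, 2, 4, 3, 6, 4, 4, 5]⟩,
  ⟨18, [(126, true), (126, true), (28, true)], [4, 2, 4, 3, 4, 2, 3, 4, 5]⟩,
  ⟨248, [(28, true), (30, true), (28, true)], [4, 4, 4, 3, 4, 4, 6, 4, 2, 4]⟩,
  ⟨248, [(28, true), (29, true)], [4, 4, 4, 4, 3, 4, 6, 3, 4, 3, 4, 3]⟩,
  ⟨18, [(30, true), (28, true), (27, true)], [1, 2, 4, 3, 4, 2, 3, 4, 3, 4, 5]⟩,
  ⟨18, [(29, true), (28, true)], [2, 6, 4, 4, 4, 3, 6, 5]⟩,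
  ⟨18, [(126, true), (30, true), (27, true)], [0, 3, 6, 4, 3, 6, 4, 3, 6, 4]⟩,
  ⟨248, [(30, true), (29, true), (126, true)], [2, 6, 5, 4, 2, 3, 4, 2, 4, 3, 6]⟩,
  ⟨18, [(27, true), (126, true)], [0, 4, 3, 6, 4, 5, 6, 3, 4, 4, 2, 6]⟩,
  ⟨17, [(30, true), (27, true)], [4, 4, 2, 4, 3, 4, 5, 6, 4, 6, 3]⟩,
  ⟨18, [(28, true), (126, true)], [2, 5, 6, 4, 2, 3, 4, 6, 3, 5]⟩,
  ⟨248, [(29, true)], [4, 2, 4, 6, 3, 2, 4, 6, 4]⟩,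
  ⟨17, [(27, true), (126, true)], [4, 2, 5, 5, 4, 3, 2, 4, 2, 4, 3, 6]⟩,
  ⟨18, [(28, true), (30, true)], [0, 4, 3, 5, 4, 2, 4, 3, 4, 2, 6, 4]⟩,
  ⟨248, [(27, true), (126, true), (27, true)], [4, 2, 3, 4, 6, 4, 4, 6, 3, 4, 4, 2, 4]⟩,
  ⟨17, [(28, true), (30, true)], [2, 5, 5, 4, 2, 3, 4, 2, 4, 3, 6, 4]⟩,
  ⟨18, [(28, true), (126, true), (29, true), (27, true)], [0, 3, 6, 4, 6, 4, 4, 4, 2, 5]⟩,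
  ⟨248, [(28, true), (126, true), (29, true), (27, true)], [1, 6, 4, 4, 4, 3, 2, 4, 2, 6]⟩,
  ⟨17, [(30, true), (28, true), (30, true), (28, true)], [2, 4, 3, 5, 4, 2, 5, 4, 5]⟩,
  ⟨17, [(29, true), (126, true), (28, true)], [3, 4, 4, 3, 2, 5, 4, 6, 4, 4, 3, 6]⟩,
  ⟨248, [(28, true), (126, true)], [1, 2, 6, 4, 3, 4, 4, 2, 5, 4, 3, 4, 6]⟩,
  ⟨18, [(29, true)], [2, 5, 4, 2, 3, 4, 3, 6, 5]⟩,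
  ⟨17, [(126, true), (30, true)], [5, 4, 5, 4, 6, 3, 2, 4, 6, 5]⟩,
  ⟨248, [(28, true), (30, true)], [0, 2, 4, 4, 4, 5, 6, 4, 3, 6, 4, 4]⟩,
  ⟨18, [(27, true), (126, true), (27, true)], [3, 6, 4, 2, 4, 2, 3, 4, 2, 4, 5, 6]⟩,
  ⟨17, [(30, true), (28, true), (30, true)], [4, 3, 2, 4, 2, 4, 3, 4, 4, 4, 4, 2]⟩,
  ⟨17, [(30, true)], [0, 3, 4, 5, 6, 4, 3, 4, 6, 3, 4, 5]⟩,
  ⟨17, [(126, true), (27, true)], [2, 4, 3, 6, 5, 4, 3, 4, 6, 4, 3, 4, 4, 4]⟩,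
  ⟨17, [(30, true), (28, true), (27, true)], [1, 3, 5, 4, 2, 3, 4, 2, 3, 4, 3, 5]⟩,
  ⟨248, [(29, true), (126, true)], [2, 4, 2, 3, 4, 2, 4, 3, 4, 3, 6]⟩,
  ⟨17, [(28, true), (27, true)], [4, 6, 4, 3, 4, 2, 4, 2, 4, 3, 6, 5]⟩,
  ⟨18, [(29, true), (126, true)], [4, 3, 4, 4, 4, 2, 4, 6, 3, 4, 6, 4]⟩,
  ⟨17, [(29, true), (126, true), (27, true)], [3, 4, 3, 2, 5, 4, 2, 6]⟩,
  ⟨18, [(30, true), (28, true), (126, true)], [2, 4, 3, 6, 4, 2, 4, 3, 6, 4, 4, 6]⟩,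
  ⟨17, [(28, true), (126, true), (27, true)], [3, 2, 4, 6, 4, 5, 4, 6, 3, 5, 4]⟩,
  ⟨248, [(30, true), (28, true), (126, true)], [6, 4, 3, 4, 4, 2, 4, 4, 3, 6, 4, 6]⟩,
  ⟨17, [(126, true)], [4, 4, 6, 4, 3, 4, 4, 4, 6, 4, 3, 4]⟩,
  ⟨17, [(27, true), (126, true), (30, true)], [4, 3, 4, 3, 6, 4, 6, 3, 4, 4, 6, 4]⟩]

noncomputable def coverEdge4 : List Step := [⟨151, [], [0, 5, 4, 5, 4, 5]⟩,
  ⟨467, [], [5, 4, 5, 4, 2, 5]⟩,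
  ⟨463, [], [0, 2, 4, 5, 5, 4]⟩,
  ⟨343, [], [6, 4, 4, 4, 5]⟩,
  ⟨349, [], [2, 3, 6]⟩,
  ⟨343, [(86, true)], [0, 4, 4, 6, 5, 4]⟩,
  ⟨41, [], [2, 6, 5, 6]⟩,
  ⟨349, [(86, true)], [4, 2, 3, 4, 2, 4, 4, 4, 3, 4, 2, 4, 3]⟩,
  ⟨211, [], [0, 2, 5, 4, 5, 4, 5]⟩,
  ⟨233, [], [0]⟩,
  ⟨462, [], [0, 4, 5, 4, 6, 5]⟩,
  ⟨500, [], [0, 1, 6]⟩,
  ⟨81, [], [1, 4, 2, 6, 4]⟩,
  ⟨427, [], []⟩,
  ⟨317, [], [5, 6, 4, 4]⟩,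
  ⟨152, [], [0, 2, 4, 2, 5, 5, 4]⟩,
  ⟨251, [], [0, 4, 4, 4, 4]⟩,
  ⟨439, [], [5, 6, 4, 4, 2, 5]⟩,
  ⟨362, [], []⟩,
  ⟨229, [], [0, 1, 6]⟩,
  ⟨522, [], [2, 6, 5, 6]⟩,
  ⟨536, [], [1, 2, 6]⟩,
  ⟨383, [], []⟩,
  ⟨417, [], [3, 2, 5, 6]⟩,
  ⟨286, [], [0, 1, 6]⟩,
  ⟨335, [], [3, 5, 4, 5, 4]⟩,
  ⟨393, [], [1, 3]⟩,
  ⟨296, [], [1, 5, 5]⟩,
  ⟨463, [(86, true)], [1, 4, 3, 4, 2, 3, 5, 4, 3, 4, 5, 6]⟩,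
  ⟨521, [], [1]⟩,
  ⟨483, [], [0]⟩,
  ⟨467, [(86, true)], [1, 6, 4, 6, 4]⟩,
  ⟨370, [], [4, 6, 4, 2, 6]⟩,
  ⟨356, [], []⟩,
  ⟨41, [(86, true)], [3, 4, 5, 6, 4, 3, 4, 4, 4, 6, 4, 3, 4]⟩,
  ⟨68, [(86, false)], [2, 5, 4, 6, 3, 5, 4, 2, 4, 4, 3]⟩,
  ⟨58, [], [0, 5, 6, 3]⟩,
  ⟨151, [(86, true)], [2, 3, 4, 3, 4, 4, 4, 2, 4, 3, 4]⟩,
  ⟨256, [], [0, 6, 4, 3, 4, 4, 3]⟩,
  ⟨459, [], [6, 4, 6, 4, 2]⟩,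
  ⟨558, [], [0, 1, 3]⟩,
  ⟨558, [(86, true)], [3, 5, 4, 5, 6, 4, 2, 3, 4]⟩,
  ⟨519, [], [6, 5]⟩,
  ⟨376, [], [2, 6, 3, 4, 4, 2]⟩,
  ⟨175, [], [0, 1, 3]⟩,
  ⟨173, [], [4, 6, 4, 2, 3, 5]⟩,
  ⟨542, [], [6, 4, 6, 4, 6]⟩,
  ⟨473, [], [0, 4, 4, 5, 4, 3, 6]⟩,
  ⟨345, [], [0, 2, 4, 6, 4, 6]⟩,
  ⟨345, [(86, true)], [2, 4, 2, 3, 4, 4, 2, 3, 6, 4, 6]⟩,
  ⟨475, [], [1, 2, 3, 5, 5]⟩,
  ⟨364, [], [0, 1, 6]⟩,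
  ⟨425, [], [0]⟩,
  ⟨342, [], [4, 4, 5, 4, 6, 3, 4, 4, 4, 5]⟩,
  ⟨308, [], [5, 5]⟩,
  ⟨366, [], []⟩,
  ⟨391, [], []⟩,
  ⟨309, [], [1, 5, 4, 5, 4, 3]⟩,
  ⟨396, [], [0, 2, 6, 4, 5, 4]⟩,
  ⟨548, [], [1, 2, 4, 5, 4, 5]⟩,
  ⟨195, [], [4, 4, 4, 4, 4]⟩,
  ⟨267, [], [2, 5, 4, 6, 4, 6]⟩,
  ⟨432, [], [5, 5]⟩,
  ⟨492, [], [0, 1, 2, 5, 6]⟩,
  ⟨531, [], [0, 6, 4, 6, 4, 6, 3]⟩,
  ⟨297, [], [0, 6, 4, 4, 5]⟩,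
  ⟨322, [], [6, 5, 6]⟩,
  ⟨455, [], [0, 5, 4, 6, 4, 6, 5]⟩,
  ⟨471, [], [2, 5]⟩,
  ⟨407, [], []⟩,
  ⟨528, [], [0, 1, 2, 4, 4, 4, 3, 5]⟩,
  ⟨474, [], []⟩,
  ⟨405, [], [3, 4, 5, 4, 6, 4, 4, 4, 2, 3]⟩,
  ⟨243, [], [1, 4, 4, 4, 4, 3]⟩,
  ⟨462, [(86, true)], [4, 5, 4, 6, 3, 5]⟩,
  ⟨346, [], [2, 3, 4, 6, 4, 6]⟩,
  ⟨216, [], [1, 2, 3, 5, 5]⟩,
  ⟨292, [], [6, 4, 6, 4, 6]⟩,
  ⟨501, [], [1, 3, 2, 5, 5]⟩,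
  ⟨472, [], [3, 2, 5]⟩,
  ⟨549, [], [5, 4, 3, 5, 4, 2, 5]⟩,
  ⟨500, [(86, true)], [1, 2, 6]⟩,
  ⟨502, [], [3, 5, 4, 2, 6, 5]⟩,
  ⟨338, [], []⟩,
  ⟨428, [], [0, 3, 5]⟩,
  ⟨470, [], []⟩,
  ⟨277, [], [5, 6, 3, 4, 4, 3, 2]⟩,
  ⟨266, [], [2, 4, 4, 4, 3, 5]⟩,
  ⟨110, [], [3, 4, 2, 5, 5, 4]⟩,
  ⟨168, [], [1, 5, 5]⟩,
  ⟨168, [(86, true)], [1, 3, 4, 3, 2, 4, 2, 4, 4, 6, 5]⟩,
  ⟨179, [], [2, 3]⟩,
  ⟨119, [], [0, 1, 4, 5, 4, 3]⟩,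
  ⟨60, [], [4, 3, 5, 4, 5]⟩,
  ⟨175, [(86, true)], [0, 3, 4, 4, 5, 4, 3, 6, 4, 3, 4, 3]⟩,
  ⟨69, [], []⟩,
  ⟨139, [], [0, 3]⟩,
  ⟨519, [(86, true)], [5, 5, 4, 2, 3, 4, 2, 4, 3, 4, 6, 3]⟩,
  ⟨333, [], [0]⟩,
  ⟨525, [], [1, 6]⟩,
  ⟨353, [], [4, 6, 4, 6]⟩,
  ⟨372, [], [1]⟩,
  ⟨459, [(86, true)], [0, 1, 2, 4, 4, 6, 4, 4, 3, 5, 4]⟩,
  ⟨427, [(86, true)], [1, 5, 4, 5, 6, 4, 3, 2, 4]⟩,
  ⟨139, [(86, true)], [2, 4, 3, 4, 4, 6, 3, 5, 4, 3, 2, 4, 4]⟩,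
  ⟨103, [], [2, 6, 4, 6, 4]⟩,
  ⟨63, [], [0, 6, 5]⟩,
  ⟨49, [], [0, 3, 4, 5, 4, 5, 6]⟩,
  ⟨68, [(86, true), (86, false)], [0, 1, 2, 6]⟩,
  ⟨475, [(86, true)], [0, 4, 3, 6, 4, 3, 4, 4, 6, 5, 4, 2]⟩,
  ⟨490, [], [1, 2, 3, 5]⟩,
  ⟨566, [], [1, 4, 6, 4, 5, 6]⟩,
  ⟨505, [], [3, 4, 2, 6, 4, 6]⟩,
  ⟨282, [], [0, 5, 4, 5, 4, 2]⟩,
  ⟨473, [(86, true)], [3, 4, 2, 5, 6, 4, 3, 6, 5]⟩,
  ⟨251, [(86, true)], [1, 6, 4, 5, 4, 3, 2, 4, 4, 5, 6]⟩,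
  ⟨372, [(86, true)], [3, 4, 4, 5, 4, 6, 3, 4, 2, 4, 2]⟩,
  ⟨436, [], [0, 4, 5, 4, 2, 5]⟩,
  ⟨282, [(86, true)], [4, 2, 4, 3, 4, 2, 4, 3, 2, 6, 4, 4]⟩,
  ⟨293, [], [0]⟩,
  ⟨471, [(86, true)], [0, 2, 4, 3, 5, 4]⟩,
  ⟨383, [(86, true)], [0, 5, 6, 4, 3, 4, 2, 4, 3, 6, 4, 4, 3, 5]⟩,
  ⟨407, [(86, true)], [6, 4, 5, 4, 3, 2, 4, 5, 6, 4]⟩,
  ⟨474, [(86, true)], [0, 4, 4, 2, 4]⟩,
  ⟨308, [(86, true)], [3, 4, 4, 4, 6, 4, 6, 3, 4, 4]⟩,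
  ⟨405, [(86, true)], [3, 4, 2, 4, 6, 3, 4, 2, 4, 5]⟩,
  ⟨537, [], []⟩,
  ⟨201, [], [1, 5, 5]⟩,
  ⟨393, [(86, true)], [0, 1]⟩,
  ⟨217, [], [5, 4, 3]⟩,
  ⟨211, [(86, true)], [0, 3, 5, 4, 6, 5, 4, 3, 4, 6, 3, 4, 3]⟩,
  ⟨469, [], [0, 1, 2, 6, 5]⟩,
  ⟨243, [(86, true)], [3, 2, 4, 6, 3, 4, 4, 2]⟩,
  ⟨296, [(86, true)], [2, 6, 5, 6]⟩,
  ⟨509, [], [0]⟩,
  ⟨362, [(86, true)], [3, 4, 6, 3, 4, 3, 4, 5]⟩,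
  ⟨290, [], [1, 2, 4, 2, 4, 4, 4]⟩,
  ⟨528, [(86, true)], [2, 5, 4, 2, 3, 4, 4, 3, 6, 4, 4, 3]⟩,
  ⟨432, [(86, true)], [0, 3, 4, 4, 4, 4, 3]⟩,
  ⟨451, [], [2, 4, 5, 4]⟩,
  ⟨531, [(86, true)], [1, 4, 3, 4, 2, 3, 4, 4, 5, 4]⟩,
  ⟨197, [], [0, 6, 3, 5]⟩,
  ⟨417, [(86, true)], [0, 1, 2, 5, 6]⟩,
  ⟨302, [], [2, 4, 6, 5, 6, 4]⟩,
  ⟨423, [], [3, 5, 4, 6, 4, 6, 5]⟩,
  ⟨522, [(86, true)], [1, 4, 2, 3, 5, 5, 4, 2, 3, 4, 3, 2, 4]⟩,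
  ⟨375, [], [5, 6, 3]⟩,
  ⟨217, [(86, true)], [5, 4, 2, 4, 3, 4, 6, 4, 4, 4, 6, 3]⟩,
  ⟨495, [], [2, 5, 5]⟩,
  ⟨297, [(86, true)], [3, 4, 2, 3, 4, 4, 6, 4, 3, 4, 6, 5]⟩,
  ⟨290, [(86, true)], [2, 4, 4, 3, 4, 4, 5, 6, 4, 3, 4, 6]⟩,
  ⟨286, [(86, true)], [1, 2, 6]⟩,
  ⟨359, [], [3]⟩,
  ⟨272, [], [0, 4, 5, 4, 5]⟩,
  ⟨425, [(86, true)], [4, 3, 4, 2, 3, 4, 3, 4, 4, 4, 2, 4]⟩,
  ⟨398, [], [0, 3, 4, 6, 4, 6]⟩,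
  ⟨509, [(86, true)], [0, 4, 4, 6, 4, 3, 4, 2, 4, 6]⟩,
  ⟨224, [], [1, 2, 4, 5, 4, 3, 5]⟩,
  ⟨492, [(86, true)], [2, 3, 4, 2, 3, 4, 4, 6, 4, 3, 6, 4]⟩,
  ⟨469, [(86, true)], [2, 3, 5, 4, 2, 3, 4, 4, 6, 4, 3, 6, 4]⟩,
  ⟨256, [(86, true)], [0, 1, 2, 4, 4, 5, 6, 4, 3, 4, 2, 4]⟩,
  ⟨539, [], [1, 6, 5, 4, 2, 3, 4, 2, 4]⟩,
  ⟨516, [], [2, 3, 6, 4, 5, 6, 3, 2]⟩,
  ⟨293, [(86, true)], [2, 3, 6, 4, 3, 4, 4, 6, 4, 3, 4, 6]⟩,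
  ⟨224, [(86, true)], [0, 3, 6, 4, 2, 4, 3, 6, 4, 4, 2, 5]⟩,
  ⟨495, [(86, true)], [4, 6, 5, 4, 3, 4, 2, 3, 4, 4, 5]⟩,
  ⟨464, [], [0, 1]⟩,
  ⟨386, [], [2, 5, 4, 3, 4, 4, 5]⟩,
  ⟨361, [], [4, 6, 4, 2, 6]⟩,
  ⟨542, [(86, true)], [0, 6, 4, 6, 4, 4, 3]⟩,
  ⟨457, [], [0, 4, 4, 4, 5, 6, 4, 6]⟩,
  ⟨456, [], [0, 2, 6]⟩,
  ⟨436, [(86, true)], [2, 5, 6, 4, 2, 4, 2, 3, 4, 2, 4, 4]⟩,
  ⟨534, [], []⟩,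
  ⟨329, [], []⟩,
  ⟨419, [], [1, 4, 6, 5, 4]⟩,
  ⟨50, [], [0, 1, 6]⟩,
  ⟨135, [], [3, 2, 6]⟩,
  ⟨179, [(86, true)], [1, 3, 4, 6, 5, 4, 3, 4, 2, 6, 5]⟩,
  ⟨103, [(86, true)], [1, 2, 6, 5, 4, 3, 4, 4, 3]⟩,
  ⟨566, [(86, true)], [4, 2, 3, 5, 4, 2, 3, 4, 2, 3, 4, 5]⟩,
  ⟨157, [], [5, 5]⟩,
  ⟨97, [], [3]⟩,
  ⟨521, [(86, true)], [6, 4, 3, 5, 4, 2, 4, 3, 6, 5, 4, 3]⟩,
  ⟨317, [(86, true)], [3, 4, 2, 3, 4, 3, 6, 4, 4, 2, 3]⟩,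
  ⟨376, [(86, true)], [2, 4, 3, 2, 4, 4, 4, 6, 5, 4, 3, 4]⟩,
  ⟨439, [(86, true)], [0, 6, 4, 3, 6, 4, 2, 4, 4, 3, 6]⟩,
  ⟨456, [(86, true)], [4, 4, 2, 3, 4, 6, 5, 4, 2, 6, 3, 4, 4]⟩,
  ⟨375, [(86, true)], [4, 2, 5, 6, 3, 4, 3, 4, 2]⟩,
  ⟨398, [(86, true)], [0, 4, 6, 4, 3, 4, 4, 6, 4, 2, 4]⟩,
  ⟨502, [(86, true)], [3, 2, 4, 3, 4, 6, 4, 4, 4, 2, 5]⟩,
  ⟨391, [(86, true)], [0, 3, 5, 4, 2, 4, 3, 5, 6, 4, 3]⟩,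
  ⟨322, [(86, true)], [0, 5, 4, 3, 4, 2, 4, 5, 6, 3, 4, 3]⟩,
  ⟨536, [(86, true)], [4, 6, 4, 3, 4, 2, 4, 6, 3, 4, 4, 4]⟩,
  ⟨342, [(86, true)], [0, 3, 4, 3, 6, 4, 4, 3, 6, 4, 4, 6]⟩,
  ⟨327, [], [2, 6, 4, 5, 5, 4]⟩,
  ⟨525, [(86, true)], [4, 4, 6, 4, 3, 2, 4, 5, 6, 4]⟩,
  ⟨370, [(86, true)], [3, 6, 4, 2, 4, 6, 4, 3, 4, 5]⟩,
  ⟨364, [(86, true)], [5, 4, 3, 4, 2, 4, 2, 3, 4, 6, 3, 2]⟩,
  ⟨516, [(86, true)], [4, 2, 6, 4, 4, 6, 3, 4, 4, 2, 3]⟩,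
  ⟨346, [(86, true)], [4, 5, 5, 4, 3, 2, 4, 3, 4, 4, 6, 4]⟩,
  ⟨309, [(86, true)], [0, 4, 6, 5, 4, 3, 4, 2, 4, 3, 4, 5]⟩,
  ⟨455, [(86, true)], [4, 2, 3, 5, 4, 2, 4, 3, 6, 4, 2, 6]⟩,
  ⟨493, [], [0, 1, 3]⟩,
  ⟨396, [(86, true)], [2, 6, 3, 4, 3, 4, 4, 5, 4]⟩,
  ⟨498, [], [0, 6, 3, 5, 4, 6, 4]⟩,
  ⟨335, [(86, true)], [2, 4, 4, 3, 2, 4, 4, 2, 5, 4, 3, 4]⟩,
  ⟨548, [(86, true)], [0, 1, 4, 2, 4, 5, 4, 5]⟩,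
  ⟨480, [], [0, 2, 5, 4, 6, 4, 6]⟩,
  ⟨366, [(86, true)], [2, 6, 5, 6, 4, 3, 4, 2, 4, 3, 4, 4]⟩,
  ⟨384, [], [0, 2, 6, 4, 2, 4, 2, 5, 5]⟩,
  ⟨324, [], [1]⟩,
  ⟨195, [(86, true)], [0, 4, 4, 4, 4, 4, 3]⟩,
  ⟨501, [(86, true)], [2, 6, 4, 6, 3, 4, 2, 4, 3, 2, 5, 4, 3]⟩,
  ⟨233, [(86, true)], [4, 2, 4, 2, 4, 3, 4, 2, 4, 3, 2, 5, 4]⟩,
  ⟨267, [(86, true)], [0, 5, 4, 2, 6, 4, 6]⟩,
  ⟨470, [(86, true)], [2, 3, 4, 3, 4, 2, 4, 6, 4, 4, 4]⟩,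
  ⟨229, [(86, true)], [2, 5, 6, 4, 3, 4, 2, 4, 3, 4, 5, 4, 5]⟩,
  ⟨359, [(86, true)], [3, 2, 4, 4, 3, 6, 4, 6, 3, 4]⟩,
  ⟨384, [(86, true)], [4, 5, 5, 4, 2, 3, 4, 3, 4, 2, 4]⟩,
  ⟨329, [(86, true)], [6, 4, 2, 3, 4, 2, 4, 6, 3, 4, 3]⟩,
  ⟨476, [], [0, 1, 5, 6]⟩,
  ⟨272, [(86, true)], [4, 4, 3, 4, 5, 4, 6, 5, 4, 3, 4, 3]⟩,
  ⟨464, [(86, true)], [4, 4, 2, 3, 4, 2, 4, 3, 4, 2, 4, 4, 3]⟩,
  ⟨498, [(86, true)], [2, 5, 4, 6, 3, 4, 6, 4, 5, 4, 3]⟩,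
  ⟨237, [], [6, 3, 5]⟩,
  ⟨419, [(86, true)], [0, 4, 2, 4, 2, 4, 3, 6, 4, 2, 4, 4]⟩,
  ⟨537, [(86, true)], [1, 2, 3, 4, 4, 5, 6, 4]⟩,
  ⟨451, [(86, true)], [3, 4, 3, 6, 4, 2, 4, 4, 3, 5, 4, 2, 4]⟩,
  ⟨483, [(86, true)], [1, 3, 4, 3, 4, 2, 4, 3, 4, 5, 4, 6, 5]⟩,
  ⟨302, [(86, true)], [2, 4, 2, 3, 4, 3, 4, 2, 4, 2, 4, 6, 5]⟩,
  ⟨324, [(86, true)], [1, 4, 4, 2, 3, 5, 4, 5, 6, 4, 2, 3]⟩,
  ⟨386, [(86, true)], [4, 3, 4, 6, 3, 4, 4, 3, 2, 4]⟩,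
  ⟨237, [(86, true)], [0, 5, 6, 4, 2, 4, 6, 3, 4, 3, 4, 3]⟩,
  ⟨423, [(86, true)], [1, 4, 6, 5, 4, 2, 4, 3, 4, 3, 5]⟩,
  ⟨534, [(86, true)], [2, 4, 2, 4, 2, 3, 4, 2, 4, 4, 4, 3, 4]⟩,
  ⟨480, [(86, true)], [1, 2, 4, 4, 6, 4, 2, 3, 5, 4, 5]⟩,
  ⟨476, [(86, true)], [2, 4, 3, 2, 5, 4, 2, 4, 3, 6, 4]⟩,
  ⟨361, [(86, true)], [4, 3, 4, 3, 6, 4, 3, 4, 6, 4, 4, 2]⟩,
  ⟨201, [(86, true)], [1, 4, 4, 2, 3, 4, 4, 6, 4, 2, 3]⟩,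
  ⟨197, [(86, true)], [0, 2, 5, 4, 3, 6, 4, 2, 4, 6, 3, 4, 4]⟩,
  ⟨356, [(86, true)], [3, 4, 5, 6, 4, 3, 4, 2, 4, 5, 4, 3]⟩,
  ⟨353, [(86, true)], [5, 6, 3, 4, 2, 4, 3, 2, 4, 6, 4, 4, 5]⟩,
  ⟨539, [(86, true)], [2, 5, 4, 6, 5, 4, 3]⟩,
  ⟨313, [], [0, 2, 4, 3, 5, 4, 5]⟩,
  ⟨395, [], [3, 5]⟩,
  ⟨493, [(86, true)], [0, 4, 6, 4, 2, 4, 3, 4, 6, 5]⟩,
  ⟨266, [(86, true)], [3, 2, 4, 3, 4, 3, 6, 4, 3, 4, 4, 5, 4]⟩,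
  ⟨490, [(86, true)], [2, 5, 4, 5, 6, 4, 3, 4, 5, 5]⟩,
  ⟨333, [(86, true)], [4, 6, 4, 3, 4, 4, 3, 5, 6, 4, 4]⟩,
  ⟨292, [(86, true)], [3, 4, 6, 4, 3, 4, 2, 3, 4, 5, 4, 6]⟩,
  ⟨504, [], [3, 6, 5, 6]⟩,
  ⟨505, [(86, true)], [0, 3, 4, 2, 5, 6, 4, 3]⟩,
  ⟨457, [(86, true)], [0, 2, 4, 2, 4, 4, 5, 6, 3]⟩,
  ⟨323, [], [0, 2, 5, 4, 5, 4]⟩,
  ⟨450, [], [6, 4, 6, 4, 3]⟩,
  ⟨327, [(86, true)], [0, 4, 3, 4, 2, 4, 3, 4, 6, 4, 5, 6]⟩,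
  ⟨549, [(86, true)], [3, 4, 2, 3, 4, 2, 3, 4, 4, 5, 6, 3]⟩,
  ⟨428, [(86, true)], [1, 4, 5, 6, 4, 3, 4, 4, 2, 5, 4, 6]⟩,
  ⟨415, [], [0, 1, 4, 5, 4, 2, 6, 5]⟩,
  ⟨277, [(86, true)], [1, 3, 4, 3, 4, 6, 5, 4, 3, 2, 4, 4, 5]⟩,
  ⟨450, [(86, true)], [0, 3, 6, 4, 3, 4, 4, 6, 4, 4, 3, 5, 4, 2]⟩,
  ⟨472, [(86, true)], [2, 3, 4, 3, 4, 3, 6, 4, 4, 6, 3, 4]⟩,
  ⟨395, [(86, true)], [1, 4, 6, 4, 2, 3, 4, 3, 5]⟩,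
  ⟨504, [(86, true)], [0, 3, 5, 4, 3, 6, 4, 3, 4, 5, 4, 2]⟩,
  ⟨338, [(86, true)], [4, 3, 2, 5, 6, 4, 2, 4, 4, 3, 5, 4]⟩,
  ⟨415, [(86, true)], [4, 2, 4, 2, 4, 3, 5, 6, 4, 3, 6]⟩,
  ⟨216, [(86, true)], [2, 4, 2, 3, 4, 4, 3, 5, 4, 2, 5, 4, 6]⟩,
  ⟨313, [(86, true)], [4, 4, 5, 6, 4, 6, 3, 2, 5, 4, 3]⟩,
  ⟨323, [(86, true)], [2, 4, 4, 4, 5, 6, 3, 4, 2, 4, 3, 5]⟩]

noncomputable def coverEdge5 : List Step := [⟨67, [], [2, 4, 6, 4, 3, 6]⟩,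
  ⟨532, [], [1, 3, 4, 4, 5, 4]⟩,
  ⟨461, [], [5, 5]⟩,
  ⟨210, [(239, false)], [0, 1, 6, 4, 3, 4, 4, 2, 5, 4, 3, 4, 2]⟩,
  ⟨389, [], [5, 6, 3, 4, 4, 3, 5, 4]⟩,
  ⟨210, [(83, true), (239, false)], [0, 6, 4, 3, 4, 4, 2, 5, 4, 3, 4, 2, 6]⟩,
  ⟨61, [], [5, 4, 5, 4, 5]⟩,
  ⟨389, [(83, true)], [4, 2, 4, 2, 4, 3, 4, 6, 4, 4, 5]⟩,
  ⟨117, [(239, false), (239, false)], [3, 2, 5, 4, 2, 4, 6, 3, 4, 4, 2]⟩,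
  ⟨78, [(239, false)], [1, 3, 4, 2, 3, 5, 5, 4, 2, 4, 3]⟩,
  ⟨200, [], [6, 5]⟩,
  ⟨563, [], [1, 4, 4, 5, 4, 3]⟩,
  ⟨40, [], []⟩,
  ⟨438, [], []⟩,
  ⟨453, [], [6]⟩,
  ⟨82, [], [3, 5]⟩,
  ⟨227, [(83, false), (239, false)], [4, 4, 6, 4, 3, 6, 4, 2, 4, 6]⟩,
  ⟨231, [(239, false), (239, false)], [2, 6, 4, 2, 4, 3, 2, 4, 2, 4, 2, 5]⟩,
  ⟨78, [(239, true), (239, true), (239, false)], [1, 3, 2, 5, 4, 3, 4, 4, 6, 4, 4, 3, 5, 4]⟩,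
  ⟨117, [(239, true), (239, false), (239, false)], [3, 2, 4, 3, 6, 4, 4, 6, 4, 6, 3, 4]⟩,
  ⟨544, [], [0, 4, 6, 4, 6]⟩,
  ⟨208, [], [3, 4, 4, 5, 4]⟩,
  ⟨399, [], [0, 1, 6, 4, 4, 4, 2]⟩,
  ⟨204, [(239, false), (83, false)], [1, 2, 4, 4, 4, 3, 4, 6, 4, 2]⟩,
  ⟨488, [], [3, 5, 4, 3, 4, 5, 6, 4, 6]⟩,
  ⟨221, [(239, false), (83, false)], [4, 3, 2, 6, 5, 4, 3, 4, 6, 5]⟩,
  ⟨220, [], [1, 6, 4, 6, 4, 4]⟩,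
  ⟨261, [], [0, 1]⟩,
  ⟨461, [(83, true)], [0, 4, 5, 6, 4, 3, 4, 4, 4, 6, 4, 3, 4, 2]⟩,
  ⟨95, [(83, false), (239, false)], [3, 4, 6, 5, 4, 3, 4, 3, 2, 4]⟩,
  ⟨121, [(239, false)], [6, 3, 4, 4, 2, 3, 4, 3, 4, 6]⟩,
  ⟨532, [(83, true)], [3, 4, 4, 5, 4, 2, 6]⟩,
  ⟨105, [(83, false), (239, false)], [3, 4, 4, 6, 4, 3, 6, 4, 4, 3, 2]⟩,
  ⟨134, [(239, false)], [5, 4, 3, 4, 5, 6, 3, 2]⟩,
  ⟨61, [(83, true)], [2, 3, 4, 2, 3, 4, 4, 2, 3, 4, 4, 4, 6]⟩,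
  ⟨46, [(83, false)], [5, 4, 6, 3, 5, 4, 2, 4, 4, 3]⟩,
  ⟨51, [], [2]⟩,
  ⟨67, [(83, true)], [3, 4, 2, 4, 3, 6, 4, 6, 3, 4, 4, 6]⟩,
  ⟨491, [], [0, 2, 4, 6, 4, 6, 3]⟩,
  ⟨392, [], [1, 2, 3]⟩,
  ⟨255, [], [2, 6, 4, 6, 4, 3]⟩,
  ⟨255, [(83, true)], [2, 3, 5, 4, 3, 6, 4, 4, 2, 3, 5, 4]⟩,
  ⟨189, [(239, false)], [1, 2, 3, 4, 2, 3, 4, 3, 4, 4, 4, 5]⟩,
  ⟨204, [(83, true), (239, true), (239, false), (83, false)], [4, 4, 4, 4]⟩,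
  ⟨108, [], [1, 2, 4, 3, 2, 4, 4, 3]⟩,
  ⟨64, [], [0, 1, 6]⟩,
  ⟨350, [], [0, 1, 3, 4, 3, 5]⟩,
  ⟨529, [], [0, 3, 5, 4, 5, 4, 5]⟩,
  ⟨271, [], [2, 3, 4, 5, 5, 4]⟩,
  ⟨271, [(83, true)], [3, 4, 4, 3, 6, 4, 3, 4, 4, 3, 6]⟩,
  ⟨205, [(239, false), (239, false)], [2, 3, 4, 2, 4, 3, 2, 4, 4]⟩,
  ⟨488, [(83, true), (239, true)], [4, 6, 5, 4, 3, 2, 4, 6, 4]⟩,
  ⟨192, [], [1, 5, 5]⟩,
  ⟨523, [], [1, 3, 2, 5, 5]⟩,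
  ⟨269, [], [5, 4, 5, 4, 5]⟩,
  ⟨352, [], [0, 4, 6, 4, 5]⟩,
  ⟨46, [(239, true), (239, true), (83, false)], [0, 5, 4, 6, 3, 4, 3, 4, 6, 5, 4, 3]⟩,
  ⟨108, [(239, true), (239, true)], [4, 4, 4, 2, 3, 4, 3, 5, 6, 4, 2]⟩,
  ⟨392, [(239, true), (83, true)], [5, 4, 3, 5, 6, 4, 2, 4, 4, 5]⟩,
  ⟨529, [(239, true), (83, true)], [5, 4, 6, 4, 2, 6, 4, 3, 4, 3, 6]⟩,
  ⟨113, [(83, false), (239, false)], [3, 5, 6, 4, 3, 6, 4, 3, 5, 5, 4, 2]⟩,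
  ⟨150, [(83, false), (239, false)], [0, 6, 3, 4, 2, 6, 4, 4, 4, 3, 5]⟩,
  ⟨523, [(83, true), (239, true)], [1, 2, 6, 4, 3, 4, 2, 4, 3, 2, 4, 4, 6]⟩,
  ⟨453, [(239, true), (239, true)], [3, 6, 5, 4, 2, 3, 4, 6, 3, 4, 6, 5]⟩,
  ⟨208, [(83, true), (239, true)], [3, 5, 6, 4, 3, 4, 2, 4, 3, 4, 2]⟩,
  ⟨231, [(239, true), (239, true), (239, false), (239, false)], [1, 4, 5, 6, 4, 4, 3]⟩,
  ⟨438, [(239, true)], [6, 5, 4, 3, 4, 4, 2, 3, 4]⟩,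
  ⟨227, [(239, true), (83, false), (239, false)], [2, 4, 4, 3, 4, 6, 5, 4, 2, 3, 6]⟩,
  ⟨255, [(239, true), (83, true)], [4, 4, 6, 4, 3, 4, 5, 6, 4, 3, 2, 6]⟩,
  ⟨121, [(239, true), (83, true), (239, false)], [0, 1, 3, 4, 2, 4, 4, 6, 4, 3, 4, 5]⟩,
  ⟨192, [(239, true), (83, true)], [4, 4, 3, 5, 4, 6]⟩,
  ⟨271, [(239, true), (83, true)], [4, 2, 6, 5, 6, 4, 3, 4]⟩,
  ⟨134, [(239, true), (83, true), (239, false)], [3, 5, 4, 2, 5, 6, 3, 4, 3]⟩,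
  ⟨544, [(239, true), (83, true)], [2, 3, 5, 4, 3, 6, 4, 3, 6, 4, 4, 3, 2, 6]⟩,
  ⟨200, [(83, true)], [0, 6, 3, 5]⟩,
  ⟨108, [(239, true)], [4, 2, 4, 3, 6, 4, 4, 2, 3, 4, 3]⟩,
  ⟨123, [(239, false)], [2, 3, 4, 4, 6, 5, 4, 3, 4, 3, 6]⟩,
  ⟨352, [(83, true), (239, true)], [4, 4, 4, 2, 4, 4, 6, 3, 4, 4]⟩,
  ⟨271, [(83, true), (239, true)], [2, 4, 4, 4, 3, 5, 4, 2, 4, 2, 5]⟩,
  ⟨205, [(239, true), (239, true), (239, false), (239, false)], [0]⟩,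
  ⟨210, [(239, true), (83, true), (239, false)], [3, 2, 4, 3, 5, 5, 4, 3]⟩,
  ⟨563, [(83, true)], [1, 4, 4, 5, 4, 2, 3]⟩,
  ⟨46, [(239, true), (83, false)], [1, 6, 4, 2, 4, 3, 4, 5]⟩,
  ⟨79, [(239, false)], [0, 1, 4, 4, 6, 4, 4, 5]⟩,
  ⟨221, [(83, true), (239, true), (239, false), (83, false)], [0]⟩,
  ⟨255, [(83, true), (239, true)], [2, 4, 4, 3, 2, 5, 4, 6, 4, 4, 3, 5]⟩,
  ⟨189, [(239, true), (239, true), (239, false)], [2, 6, 4, 3, 6, 4, 6, 3, 5, 4, 3]⟩,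
  ⟨389, [(239, true)], [0, 4, 6, 4, 2, 6, 4, 6, 3, 4, 6]⟩,
  ⟨113, [(239, true), (83, true), (83, false), (239, false)], [5, 4, 2, 5, 4, 5]⟩,
  ⟨78, [(239, true), (239, false)], [0, 2]⟩,
  ⟨78, [(83, true), (239, true), (239, false)], [0, 2, 4, 3, 4, 3, 4, 2, 6, 4, 6, 4]⟩,
  ⟨134, [(239, true), (239, false)], [5, 5]⟩,
  ⟨105, [(239, true), (83, true), (83, false), (239, false)], [1, 3, 4, 2, 4, 2, 4, 3, 4, 4, 6]⟩,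
  ⟨123, [(239, true), (239, false)], [4, 5, 4, 2, 3, 6, 5]⟩,
  ⟨108, [(83, true)], [4, 4, 5, 6, 3, 2, 4, 2, 4, 3]⟩,
  ⟨150, [(239, true), (83, true), (83, false), (239, false)], [0, 2, 4, 5, 5, 4]⟩,
  ⟨117, [(239, true), (239, true), (239, false), (239, false)], [5, 5]⟩,
  ⟨189, [(83, true), (239, false)], [0, 3, 4, 6, 4, 3, 4, 3, 6, 4, 4, 2]⟩,
  ⟨56, [(83, false), (239, false)], [2, 6, 4, 3, 4, 2, 4, 6, 3, 5, 4, 6, 5]⟩,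
  ⟨523, [(239, true), (239, true)], [2, 5, 4, 3, 6, 5, 4, 3, 2, 4, 5]⟩,
  ⟨269, [(239, true)], [4, 2, 3, 4, 3, 4, 6, 3, 5, 4]⟩,
  ⟨61, [(239, true), (239, true)], [6, 3, 5, 4, 2, 3, 4, 2, 3, 4, 6]⟩,
  ⟨392, [(83, true)], [2, 3, 4, 4, 6, 4, 3, 2, 4]⟩,
  ⟨438, [(83, true)], [1, 5, 4, 5, 6, 4, 3, 2, 4]⟩,
  ⟨117, [(239, true), (83, true), (239, false), (239, false)], [3, 4, 3, 2, 4, 5, 4, 6, 4, 3, 4, 2, 4]⟩,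
  ⟨121, [(239, true), (239, false)], [0, 1, 6]⟩,
  ⟨95, [(239, true), (83, true), (83, false), (239, false)], [2, 3, 5]⟩,
  ⟨79, [(239, true), (239, false)], [3]⟩,
  ⟨46, [(83, true), (83, false)], [0, 1, 6]⟩,
  ⟨205, [(83, true), (239, false), (239, false)], [3, 4, 3, 6, 4, 2, 4, 5, 4, 6, 3, 4]⟩,
  ⟨109, [(83, false), (239, false)], [0, 2, 5, 4, 3, 4, 5, 6, 4, 3, 4, 4, 3]⟩,
  ⟨208, [(239, true), (239, true)], [2, 4, 2, 3, 6, 4, 5, 6, 4, 2]⟩,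
  ⟨399, [(239, true)], [6, 4, 6, 3, 4, 6, 4, 5, 4]⟩,
  ⟨67, [(239, true), (239, true)], [4, 2, 3, 4, 4, 2, 3, 4, 4, 5, 6, 3]⟩,
  ⟨529, [(83, true)], [1, 2, 3, 5, 4, 5, 6, 4, 3, 4, 3, 4, 6]⟩,
  ⟨227, [(83, true), (83, false), (239, false)], [3, 4, 3, 4, 5, 6, 4, 3, 4, 2, 3, 4, 5]⟩,
  ⟨61, [(239, true), (83, true)], [3, 4, 2, 4, 4, 6, 4, 3, 6, 5, 6, 4]⟩,
  ⟨491, [(83, true), (239, true)], [1, 5, 4, 3, 4, 3, 2, 5, 4, 6]⟩,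
  ⟨67, [(239, true), (83, true)], [2, 4, 2, 3, 4, 6, 3, 4, 4, 2, 3, 4, 5]⟩,
  ⟨350, [(83, true), (239, true)], [0, 2, 6, 4, 3, 5, 6, 4]⟩,
  ⟨255, [(239, true), (239, true)], [4, 5, 6, 3, 4, 3, 2, 4, 6, 4]⟩,
  ⟨399, [(83, true)], [5, 5, 4, 3, 4, 2, 4, 3, 4, 4, 4, 6]⟩,
  ⟨121, [(239, true), (239, true), (239, false)], [3, 4, 2, 3, 4, 2, 3, 5, 4, 3, 4, 3]⟩,
  ⟨271, [(239, true), (239, true)], [1, 4, 2, 3, 5, 4, 3, 4, 3, 2, 5, 4]⟩,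
  ⟨269, [(83, true)], [3, 5, 4, 3, 6, 4, 6, 3, 4, 4]⟩,
  ⟨134, [(239, true), (239, true), (239, false)], [4, 4, 6, 3, 5, 4, 6, 5, 4, 2]⟩,
  ⟨563, [(239, true)], [1, 2, 6, 4, 4, 3, 2, 4, 3, 4, 4, 2, 4]⟩,
  ⟨200, [(239, true)], [1, 2, 4, 4, 3, 4, 5, 6, 4, 6, 5]⟩,
  ⟨220, [(83, true)], [0, 1, 6, 4, 6, 4, 4, 3]⟩,
  ⟨227, [(239, true), (83, true), (83, false), (239, false)], [5, 4, 5]⟩,
  ⟨117, [(83, true), (239, false), (239, false)], [5, 6, 3, 4, 2, 3, 4, 5, 6, 4, 6]⟩,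
  ⟨61, [(83, true), (239, true)], [0, 6, 4, 2, 4, 3, 6, 4, 4, 4, 5]⟩,
  ⟨544, [(239, true), (239, true)], [1, 6, 4, 3, 4, 2, 4, 4, 3, 4, 6]⟩,
  ⟨261, [(83, true)], [1, 2]⟩,
  ⟨438, [(239, true), (83, true)], [5, 4, 3, 4, 6, 3, 4, 4, 3, 2]⟩,
  ⟨78, [(239, true), (83, true), (239, false)], [2, 3, 4, 4, 4, 6, 4, 3, 4, 6, 4, 4, 4]⟩,
  ⟨67, [(83, true), (239, true)], [5, 4, 3, 5, 6, 4, 3, 6]⟩,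
  ⟨192, [(239, true), (239, true)], [4, 2, 4, 2, 4, 3, 4, 2, 4, 6, 5]⟩,
  ⟨523, [(239, true)], [0, 3, 6, 4, 4, 6, 3, 4, 4, 6, 4]⟩,
  ⟨220, [(239, true), (83, true)], [0, 2, 4, 2, 4, 4, 3, 6, 4, 6]⟩,
  ⟨208, [(239, true)], [2, 6, 4, 3, 4, 4, 2, 3, 4, 3, 4, 3]⟩,
  ⟨261, [(239, true), (83, true)], [5, 4, 3, 4, 4, 2, 6, 4, 6, 4, 3, 4]⟩,
  ⟨204, [(83, true), (239, false), (83, false)], [4, 4, 2, 4, 4, 3, 2, 6, 4]⟩,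
  ⟨231, [(239, true), (239, false), (239, false)], [3, 4, 5, 4, 2, 5, 4, 3, 4, 2]⟩,
  ⟨43, [(83, false), (239, false)], [0, 6, 4, 3, 5, 6, 4, 4, 6, 4, 3, 6]⟩,
  ⟨544, [(83, true)], [2, 6, 4, 2, 3, 4, 2, 4, 4, 4, 3, 4]⟩,
  ⟨532, [(239, true)], [1, 2, 4, 5, 6, 4, 3, 4, 5, 6]⟩,
  ⟨227, [(239, true), (239, true), (83, false), (239, false)], [0, 5, 4, 2, 4, 3, 4, 6, 3, 4, 3, 5]⟩,
  ⟨189, [(239, true), (239, false)], [3, 4, 4, 5, 4]⟩,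
  ⟨231, [(239, true), (83, true), (239, false), (239, false)], [3, 4, 2, 3, 5, 4, 2, 4, 4, 3]⟩,
  ⟨67, [(239, true)], [3, 4, 2, 4, 4, 4, 3, 4, 6, 4]⟩,
  ⟨488, [(83, true)], [0, 3, 5, 4, 3, 4, 5, 6, 4, 2, 6]⟩,
  ⟨453, [(239, true)], [0, 2, 5, 4, 2, 4, 3, 6, 4, 5]⟩,
  ⟨111, [(83, false), (239, false)], [5, 4, 2, 3, 4, 4, 3, 5, 4, 2, 4, 3]⟩,
  ⟨192, [(83, true)], [1, 3, 4, 2, 3, 5, 5, 4, 2, 3, 4, 2, 3, 4]⟩,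
  ⟨461, [(239, true)], [0, 3, 5, 6, 4, 3, 4, 2, 4, 3, 5, 5]⟩,
  ⟨438, [(239, true), (239, true)], [0, 6, 4, 2, 4, 3, 4, 4, 2, 5, 6]⟩,
  ⟨205, [(239, true), (239, false), (239, false)], [5, 4, 2, 4, 3, 4, 5, 5, 4, 2]⟩,
  ⟨453, [(239, true), (83, true)], [4, 3, 5, 6, 4, 4, 3]⟩,
  ⟨61, [(239, true)], [1, 4, 2, 6, 4, 3, 4, 6, 4, 3, 4, 3]⟩,
  ⟨491, [(83, true)], [0, 4, 3, 4, 2, 6, 4, 6, 4, 3, 4, 2, 4]⟩,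
  ⟨544, [(239, true)], [3, 6, 5, 4, 3, 4, 2, 4, 3, 4, 4, 2]⟩,
  ⟨532, [(239, true), (239, true)], [2, 4, 4, 6, 3, 5, 4, 2, 4, 4, 3, 4]⟩,
  ⟨350, [(239, true)], [4, 4, 2, 4, 6, 3, 5, 4, 6]⟩,
  ⟨205, [(83, true), (239, true), (239, false), (239, false)], [2, 3, 4, 2, 4, 6, 4, 3, 4, 6]⟩,
  ⟨189, [(83, true), (239, true), (239, false)], [3, 6, 4, 4, 3, 2, 4, 3, 4, 4, 2, 4, 6]⟩,
  ⟨350, [(239, true), (239, true)], [2, 6, 4, 3, 4, 2, 4, 2, 3, 4, 4, 5]⟩,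
  ⟨204, [(239, true), (83, true), (239, false), (83, false)], [0, 6, 3, 4, 3, 4, 2, 4, 3, 5, 5]⟩,
  ⟨392, [(239, true)], [3, 4, 2, 3, 4, 2, 3, 5, 4, 3, 6, 4, 4, 5]⟩,
  ⟨350, [(83, true)], [0, 3, 4, 3, 5, 6, 4, 3]⟩,
  ⟨192, [(239, true)], [2, 4, 4, 4, 4, 3, 4, 2, 4, 4, 3]⟩,
  ⟨461, [(239, true), (239, true)], [3, 5, 4, 2, 4, 2, 4, 6, 4, 3, 4, 5]⟩,
  ⟨491, [(239, true)], [2, 3, 4, 2, 3, 5, 6, 4, 2, 4, 3, 4]⟩,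
  ⟨491, [(239, true), (239, true)], [0, 2, 5, 4, 3, 4, 4, 5, 6, 4, 3, 4]⟩,
  ⟨488, [(239, true), (83, true)], [5, 4, 3, 6, 5, 6, 4]⟩,
  ⟨529, [(239, true)], [2, 3, 5, 6, 4, 3, 2, 4, 6, 3, 4, 2]⟩,
  ⟨56, [(239, true), (83, true), (83, false), (239, false)], [0]⟩,
  ⟨43, [(239, true), (83, true), (83, false), (239, false)], [6, 3]⟩,
  ⟨134, [(83, true), (239, true), (239, false)], [1, 6, 4, 4, 3, 2, 5, 4, 3, 4]⟩,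
  ⟨121, [(83, true), (239, true), (239, false)], [0, 4, 6, 5, 4, 3, 4, 4, 3]⟩,
  ⟨208, [(239, true), (83, true)], [4, 4, 3, 2, 5, 4, 2, 4, 6, 5, 4]⟩,
  ⟨111, [(239, true), (83, true), (83, false), (239, false)], [4, 4, 4, 4, 4, 3]⟩,
  ⟨109, [(239, true), (83, true), (83, false), (239, false)], [2, 3, 5, 4, 5, 4, 5]⟩,
  ⟨95, [(83, true), (83, false), (239, false)], [0, 3, 5, 4, 6, 3, 4, 6, 4, 4, 6]⟩,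
  ⟨453, [(83, true)], [5, 4, 2, 3, 4, 2, 4, 3, 4, 6, 3]⟩,
  ⟨204, [(239, true), (239, false), (83, false)], [3, 2, 4, 3, 6, 4, 3, 4, 6, 4, 6]⟩,
  ⟨231, [(83, true), (239, false), (239, false)], [0, 2, 4, 3, 4, 2, 4, 2, 4, 3, 5, 4]⟩,
  ⟨461, [(239, true), (83, true)], [2, 4, 4, 4, 3, 6, 5, 4, 3, 4, 4, 6, 4]⟩,
  ⟨532, [(83, true), (239, true)], [1, 4, 4, 2, 6, 4, 4, 4]⟩,
  ⟨461, [(83, true), (239, true)], [2, 6, 5, 4, 3, 4, 3, 6, 4, 2, 3, 6, 5]⟩,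
  ⟨46, [(83, true), (239, true), (83, false)], [3, 4, 6, 3, 4, 2, 4, 6, 4, 3, 5]⟩,
  ⟨46, [(239, true), (83, true), (83, false)], [6, 4, 2, 3, 5, 5, 4, 3, 4]⟩,
  ⟨438, [(83, true), (239, true)], [4, 4, 2, 3, 4, 4, 6, 4, 3, 4, 4]⟩,
  ⟨208, [(83, true)], [2, 4, 3, 4, 3, 6, 4, 3, 6, 4, 4, 6]⟩,
  ⟨523, [(83, true)], [2, 5, 4, 3, 6, 4, 3, 4, 4, 4, 5]⟩,
  ⟨82, [(239, true)], [1, 4, 4, 3, 4, 2, 4, 2, 3, 4, 3, 5]⟩,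
  ⟨523, [(239, true), (83, true)], [2, 4, 3, 5, 6, 4, 3, 4, 4, 6, 4, 4, 5]⟩,
  ⟨105, [(83, true), (83, false), (239, false)], [0, 2, 4, 3, 4, 5, 4, 2, 6, 5]⟩,
  ⟨488, [(239, true)], [5, 4, 3, 4, 2, 4, 3, 2, 4, 2, 4]⟩,
  ⟨532, [(239, true), (83, true)], [2, 6, 4, 3, 6, 4, 3, 4, 2, 5, 4]⟩,
  ⟨108, [(83, true), (239, true)], [6, 5, 4, 6, 3, 4, 6, 4, 4, 2]⟩,
  ⟨108, [(239, true), (83, true)], [2, 5, 4, 3, 5, 6, 4, 3, 6, 4, 3]⟩,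
  ⟨227, [(83, true), (239, true), (83, false), (239, false)], [2, 4, 3, 4, 6, 4, 3, 6, 5, 6, 4]⟩,
  ⟨40, [(239, true)], [1, 4, 2, 4, 3, 5, 4, 2, 4, 2, 5, 5]⟩,
  ⟨392, [(239, true), (239, true)], [3, 4, 3, 6, 4, 2, 4, 6, 3, 4, 4, 3, 5]⟩,
  ⟨210, [(239, true), (239, false)], [0]⟩,
  ⟨221, [(83, true), (239, false), (83, false)], [0, 2, 4, 2, 4, 3, 4, 5, 4, 6, 4, 3]⟩,
  ⟨529, [(239, true), (239, true)], [0, 4, 6, 4, 4, 3, 4, 6, 4, 2]⟩,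
  ⟨389, [(239, true), (83, true)], [2, 4, 3, 6, 4, 2, 3, 4, 3, 5]⟩,
  ⟨352, [(83, true)], [2, 4, 3, 5, 6, 4, 3, 2, 4, 4, 3, 5]⟩,
  ⟨563, [(239, true), (239, true)], [3, 6, 4, 3, 4, 6, 4, 3, 5, 5, 4]⟩,
  ⟨200, [(239, true), (239, true)], [0, 4, 3, 5, 4, 6, 4, 2]⟩,
  ⟨113, [(83, true), (83, false), (239, false)], [2, 3, 4, 4, 6, 4, 6, 3, 2, 5, 4, 6]⟩,
  ⟨271, [(239, true)], [0, 4, 2, 4, 4, 6, 3, 4, 2, 5, 4]⟩,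
  ⟨78, [(83, true), (239, false)], [2, 5, 4, 2, 3, 4, 3, 5, 5, 4]⟩,
  ⟨150, [(83, true), (83, false), (239, false)], [0, 6, 3, 4, 6, 4, 4, 2, 4, 3, 5]⟩,
  ⟨255, [(239, true)], [2, 5, 4, 3, 4, 2, 6, 5, 6, 4]⟩,
  ⟨117, [(83, true), (239, true), (239, false), (239, false)], [0, 6, 3, 4, 2, 4, 4, 3, 4, 5, 4]⟩,
  ⟨453, [(83, true), (239, true)], [4, 3, 4, 3, 2, 4, 5, 6, 4, 3, 4, 2]⟩,
  ⟨563, [(239, true), (83, true)], [2, 4, 6, 5, 4, 6, 3, 4, 5]⟩,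
  ⟨488, [(239, true), (239, true)], [1, 2, 5, 6, 4, 2, 4, 3, 4]⟩,
  ⟨399, [(239, true), (83, true)], [2, 4, 6, 5, 4, 2, 3, 4, 3, 4]⟩,
  ⟨111, [(83, true), (83, false), (239, false)], [2, 6, 5, 4, 3, 4, 2, 4, 6]⟩,
  ⟨350, [(239, true), (83, true)], [1, 6, 5, 4, 2, 4, 4, 2, 3]⟩,
  ⟨210, [(83, true), (239, true), (239, false)], [0, 6, 5, 4, 2, 4, 3, 6, 4, 2]⟩,
  ⟨269, [(239, true), (239, true)], [2, 6, 5, 4, 2, 4, 2, 3, 4, 6, 4]⟩,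
  ⟨529, [(83, true), (239, true)], [4, 6, 3, 4, 2, 3, 4, 2, 3, 4, 4, 2]⟩,
  ⟨563, [(83, true), (239, true)], [3, 4, 3, 4, 5, 4, 5, 6, 4, 3, 4, 5]⟩,
  ⟨220, [(239, true), (239, true)], [3, 2, 4, 2, 5, 6, 4, 4, 6]⟩,
  ⟨121, [(83, true), (239, false)], [3, 5, 4, 2, 3, 4, 3, 4, 4, 6, 4]⟩,
  ⟨231, [(83, true), (239, true), (239, false), (239, false)], [0, 5, 4, 2, 4, 4, 3, 4, 5, 4, 6]⟩,
  ⟨200, [(239, true), (83, true)], [1, 4, 5, 5, 4, 3, 2, 4, 3, 4]⟩,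
  ⟨204, [(239, true), (239, true), (239, false), (83, false)], [1, 3, 4, 3, 4, 5, 4, 2, 5, 4, 3, 4, 5]⟩,
  ⟨269, [(239, true), (83, true)], [0, 5, 4, 3, 6, 4, 2, 4, 3, 6, 4, 2, 5]⟩,
  ⟨43, [(83, true), (83, false), (239, false)], [6, 4, 3, 6, 4, 2, 3, 4, 4, 3, 5]⟩,
  ⟨491, [(239, true), (83, true)], [0, 3, 5, 4, 3, 6, 4, 2, 4, 4, 6]⟩,
  ⟨389, [(239, true), (239, true)], [1, 6, 4, 2, 4, 3, 4, 3, 4, 6]⟩,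
  ⟨399, [(239, true), (239, true)], [6, 4, 3, 6, 4, 3, 4, 3, 2, 4]⟩,
  ⟨392, [(83, true), (239, true)], [0, 3, 6, 4, 2, 4, 4, 2, 6, 5]⟩,
  ⟨200, [(83, true), (239, true)], [1, 4, 3, 4, 2, 3, 4, 4, 3, 5, 4, 5]⟩,
  ⟨261, [(239, true), (239, true)], [1, 4, 5, 4, 3, 5, 4, 2, 4, 2, 3, 5]⟩,
  ⟨134, [(83, true), (239, false)], [1, 2, 5, 4, 3, 4, 6, 4, 3, 4, 6, 5]⟩,
  ⟨269, [(83, true), (239, true)], [2, 4, 2, 4, 2, 6, 3, 4, 6, 4]⟩,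
  ⟨544, [(83, true), (239, true)], [4, 5, 6, 4, 3, 2, 4, 2, 4]⟩,
  ⟨220, [(239, true)], [0, 3, 4, 3, 4, 2, 4, 3, 4, 4]⟩,
  ⟨221, [(239, true), (239, true), (239, false), (83, false)], [6, 4, 6, 4, 3, 4, 3, 2, 5, 4, 6, 3, 5]⟩,
  ⟨40, [(83, true), (239, true)], [4, 2, 3, 5, 6, 4, 4, 3, 6, 4, 3, 2]⟩,
  ⟨389, [(83, true), (239, true)], [3, 4, 4, 2, 3, 4, 3, 4, 2, 4, 6, 4, 4]⟩,
  ⟨109, [(83, true), (83, false), (239, false)], [0, 2, 4, 3, 6, 4, 3, 4, 3, 6, 4]⟩,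
  ⟨56, [(83, true), (83, false), (239, false)], [0, 6, 4, 2, 4, 4, 3, 4, 2, 6, 4]⟩,
  ⟨352, [(239, true)], [1, 4, 4, 6, 4, 3, 4, 6, 4, 5, 4, 3]⟩,
  ⟨64, [(239, true)], [2, 3, 4, 6, 3, 4, 3, 4, 4, 2, 6]⟩,
  ⟨399, [(83, true), (239, true)], [0, 3, 6, 4, 5, 4, 6, 5]⟩,
  ⟨192, [(83, true), (239, true)], [1, 6, 4, 2, 3, 4, 2, 4, 4, 3, 4, 4]⟩,
  ⟨261, [(239, true)], [0, 4, 3, 6, 4, 6, 4, 4, 6]⟩,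
  ⟨352, [(239, true), (239, true)], [3, 2, 4, 4, 6, 3, 4, 3, 5, 5, 4, 2]⟩,
  ⟨82, [(83, true), (239, true)], [3, 2, 4, 3, 4, 4, 6, 4, 3, 5, 5]⟩,
  ⟨210, [(239, true), (239, true), (239, false)], [3, 4, 4, 2, 3, 4, 2, 3, 4, 4, 4, 6]⟩,
  ⟨221, [(239, true), (239, false), (83, false)], [1, 3, 4, 2, 3, 4, 3, 4, 5, 4, 2, 5, 4]⟩,
  ⟨51, [(239, true)], [3, 4, 4, 6, 3, 5, 4, 2, 4, 4, 3]⟩,
  ⟨189, [(239, true), (83, true), (239, false)], [2, 4, 6, 3, 5, 4, 3, 2, 4, 2, 4, 4]⟩,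
  ⟨352, [(239, true), (83, true)], [2, 4, 3, 2, 4, 3, 4, 4, 2, 4, 4, 3]⟩,
  ⟨205, [(239, true), (83, true), (239, false), (239, false)], [3, 4, 6, 3, 4, 4, 4, 6, 4, 3, 4]⟩,
  ⟨221, [(239, true), (83, true), (239, false), (83, false)], [0, 3, 5, 4, 6, 4, 4, 3, 4, 5, 6]⟩,
  ⟨64, [(83, true), (239, true)], [0, 1, 3, 4, 4, 6, 4, 3, 4, 4, 2, 4]⟩,
  ⟨79, [(83, true), (239, false)], [4, 3, 4, 3, 2, 4, 6, 3, 4, 2, 5, 5]⟩,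
  ⟨51, [(83, true), (239, true)], [2, 5, 5, 4, 3, 2, 4, 3, 4, 2, 4, 6]⟩,
  ⟨123, [(83, true), (239, false)], [6, 4, 2, 3, 5, 4, 2, 4, 3, 2, 4]⟩,
  ⟨220, [(83, true), (239, true)], [1, 4, 5, 4, 5, 6, 4, 3, 4, 4, 5]⟩,
  ⟨261, [(83, true), (239, true)], [2, 4, 2, 4, 2, 3, 4, 2, 4, 4, 5, 6]⟩]

noncomputable def coverEdge6 : List Step := [⟨176, [], [0, 3]⟩,
  ⟨374, [], [5, 4, 5, 4, 5]⟩,
  ⟨191, [], [0, 5]⟩,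
  ⟨226, [], []⟩,
  ⟨442, [], [3, 2]⟩,
  ⟨245, [], [0, 1, 6, 4, 6, 4, 3]⟩,
  ⟨102, [], [4, 4, 4, 4, 4]⟩,
  ⟨285, [], [1, 3, 2]⟩,
  ⟨374, [(31, true)], [0, 4, 2, 4, 3, 4, 2, 4, 4, 2]⟩,
  ⟨287, [], [0, 2]⟩,
  ⟨225, [], [2, 3, 5, 4, 2, 4, 4, 5]⟩,
  ⟨219, [], [1, 3, 5, 4, 3, 4, 4, 6]⟩,
  ⟨80, [], [2]⟩,
  ⟨340, [], [2]⟩,
  ⟨188, [], [2, 3, 6]⟩,
  ⟨100, [], [4, 4, 5, 4, 3, 2]⟩,
  ⟨494, [], [2, 5, 5]⟩,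
  ⟨287, [(31, true), (85, true), (31, true)], [3, 4, 6, 4, 3, 4, 3, 6, 4, 6, 3, 4, 4]⟩,
  ⟨191, [(31, true)], [2, 3, 4, 2, 3, 4, 4, 5]⟩,
  ⟨188, [(31, true), (85, true), (31, true)], [1, 3, 2]⟩,
  ⟨285, [(31, true)], [6, 4, 2, 3, 6, 4, 6]⟩,
  ⟨287, [(31, true)], [2, 4, 4, 2, 3, 4, 2, 3, 4]⟩,
  ⟨240, [], [0, 1, 6]⟩,
  ⟨385, [], [6, 4, 3, 6, 5]⟩,
  ⟨265, [], [1, 2, 3]⟩,
  ⟨240, [(31, true)], [1, 4, 4, 5, 6, 4, 2, 3, 4, 4, 6, 4, 6]⟩,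
  ⟨219, [(31, true)], [5, 4, 3, 4, 3, 2, 4, 6, 4, 3]⟩,
  ⟨225, [(31, true)], [0, 3, 5, 4, 2, 4, 3, 4, 2, 5, 4]⟩,
  ⟨284, [], [2, 5, 5]⟩,
  ⟨494, [(31, true)], [2, 5, 4, 2, 3, 4, 4, 3, 2, 5, 4]⟩,
  ⟨379, [], []⟩,
  ⟨207, [], [6, 4, 6, 4, 2, 6]⟩,
  ⟨340, [(31, true)], [4, 4, 4, 2, 3, 4, 3, 4, 4, 2, 4]⟩,
  ⟨247, [], [1, 2, 3, 5]⟩,
  ⟨100, [(31, true)], [3, 6, 4, 4, 6, 4, 4, 6, 3]⟩,
  ⟨138, [], [2]⟩,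
  ⟨176, [(85, true)], [2, 6, 4, 2, 3, 4, 3, 6, 4, 3, 4, 3, 5]⟩,
  ⟨80, [(31, true)], [4, 4, 4, 6, 4, 4, 3, 4, 2, 4, 2, 3, 6]⟩,
  ⟨226, [(85, true), (31, true)], [0, 3, 4, 3, 6, 4, 4, 3, 5, 4, 2]⟩,
  ⟨265, [(85, true), (31, true)], [2, 3, 4, 2, 4, 3, 6, 4, 4, 6, 3, 4, 2]⟩,
  ⟨337, [], [0]⟩,
  ⟨207, [(31, true), (85, true)], [4, 5, 4, 6, 3, 2, 4, 4]⟩,
  ⟨445, [], [1, 5, 4, 2, 4, 3, 2, 5]⟩,
  ⟨294, [], [6, 3]⟩,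
  ⟨71, [], [3]⟩,
  ⟨102, [(85, true)], [1, 2, 3, 4, 5, 6, 4, 4, 3, 4, 2]⟩,
  ⟨285, [(85, true), (31, true)], [3, 4, 4, 6, 3, 5, 4, 2, 4, 5, 6]⟩,
  ⟨385, [(85, true), (31, true)], [0, 4, 3, 4, 4, 3, 6, 5, 4]⟩,
  ⟨546, [], [1]⟩,
  ⟨284, [(31, true), (85, true)], [1, 4, 3, 4, 3, 4, 2, 4, 3, 4, 6, 4, 2, 4]⟩,
  ⟨507, [], [2, 3]⟩,
  ⟨214, [], [1, 6]⟩,
  ⟨226, [(31, true)], [6, 4, 6, 4, 6, 3, 2]⟩,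
  ⟨188, [(85, true), (31, true)], [1, 2, 3, 4, 4, 2, 3, 4, 2, 3, 4]⟩,
  ⟨416, [], [0, 6, 3, 4, 6, 4, 5]⟩,
  ⟨416, [(31, true)], [4, 6, 5, 4, 3, 6, 4, 4, 2, 3, 4, 3]⟩,
  ⟨416, [(85, true)], [3, 2, 4, 6, 3, 4, 3, 4, 4, 6, 4]⟩,
  ⟨240, [(85, true)], [1, 4, 2, 4, 6, 4, 5, 4, 3]⟩,
  ⟨240, [(31, true), (85, true)], [3, 4, 2, 3, 4, 6, 3, 5, 4, 2, 4]⟩,
  ⟨416, [(31, true), (85, true)], [0, 4, 6, 4, 3, 4, 2, 4, 2, 6]⟩,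
  ⟨442, [(31, true)], [1, 2, 4, 4, 3, 4, 2, 5]⟩,
  ⟨245, [(31, true)], [6, 4, 6, 4, 4, 4, 3, 4, 2, 5]⟩,
  ⟨507, [(85, true)], [0, 3, 6, 4, 3, 6, 4, 3, 4, 4, 2]⟩,
  ⟨226, [(31, true), (85, true), (31, true)], [0, 3, 4, 6, 3, 4, 3, 4, 5]⟩,
  ⟨445, [(85, true)], [3, 4, 6, 5, 4, 3, 6, 4, 3, 4, 2, 4]⟩,
  ⟨285, [(31, true), (85, true), (31, true)], [2, 4, 6, 3, 5, 4, 2, 4, 2, 4, 3, 4, 2]⟩,
  ⟨265, [(31, true)], [1, 4, 5, 4, 3, 2]⟩,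
  ⟨385, [(31, true)], [0, 4, 4, 2, 4, 5, 6, 4, 3, 6]⟩,
  ⟨485, [], [1, 6]⟩,
  ⟨487, [], [0, 4, 6, 4, 6, 3, 5]⟩,
  ⟨507, [(31, true), (85, true)], [0, 6, 3, 4, 4, 6, 4, 3, 4, 3, 4, 6]⟩,
  ⟨203, [], [3, 4, 6, 4, 3, 6]⟩,
  ⟨394, [], [0, 6, 4, 6, 4, 6]⟩,
  ⟨445, [(31, true), (85, true)], [3, 5, 4, 6, 4, 3]⟩,
  ⟨240, [(85, true), (31, true)], [3, 4, 4, 3, 5, 4, 6, 5, 4, 3, 2, 6]⟩,
  ⟨487, [(85, true), (31, true)], [4, 3, 2, 5, 4, 5, 6, 4, 3, 6, 4]⟩,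
  ⟨374, [(31, true), (85, true), (31, true)], [0, 3, 6]⟩,
  ⟨340, [(85, true), (31, true)], [0, 4, 4, 6, 4, 3, 4, 2, 5]⟩,
  ⟨379, [(85, true)], [3, 6, 5, 4, 2, 3, 4, 2, 4, 3, 4]⟩,
  ⟨219, [(85, true)], [0, 4, 3, 4, 2, 4, 2, 4, 6, 3, 4, 2]⟩,
  ⟨374, [(85, true)], [2, 6, 4, 2, 3, 4, 3, 4, 2]⟩,
  ⟨416, [(85, true), (31, true)], [2, 3, 4, 4, 4, 6, 4, 6, 3, 5, 4, 2]⟩,
  ⟨394, [(85, true), (31, true)], [3, 4, 4, 6, 4, 2, 3, 4, 6, 4]⟩,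
  ⟨191, [(31, true), (85, true), (31, true)], [4, 3, 4, 2, 4, 3, 2, 5, 4, 2, 4, 6]⟩,
  ⟨494, [(85, true), (31, true)], [5, 4, 3, 6, 4, 2, 4, 3, 2, 4, 4]⟩,
  ⟨247, [(85, true)], [1, 6, 4, 2, 4, 2, 3, 4, 3, 4, 3]⟩,
  ⟨225, [(85, true)], [4, 2, 4, 3, 2, 6, 5, 4, 2, 4, 4, 6]⟩,
  ⟨191, [(85, true)], [4, 2, 3, 4, 6, 4, 4, 4, 6, 4]⟩,
  ⟨71, [(31, true)], [3, 2, 4, 3, 6, 4, 3, 6, 4, 6]⟩,
  ⟨102, [(31, true), (85, true)], [0, 2, 4, 6, 4, 3, 4, 5, 6, 4, 3, 4]⟩,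
  ⟨38, [], []⟩,
  ⟨158, [], [3, 2, 5, 4, 5, 4, 5]⟩,
  ⟨66, [], [1, 5, 4, 3, 5, 4, 2, 5]⟩,
  ⟨155, [], [1, 5, 4, 6, 4, 6, 5]⟩,
  ⟨70, [], [0, 2]⟩,
  ⟨138, [(31, true)], [1, 4, 2, 4, 4, 4, 3, 4, 2, 4, 3, 4, 6]⟩,
  ⟨176, [(31, true), (85, true)], [1, 2, 3, 4, 3, 4, 4, 4, 2, 4, 4]⟩,
  ⟨215, [], [3, 5, 6, 4, 4]⟩,
  ⟨265, [(31, true), (85, true), (31, true)], [4, 2, 3, 4, 6, 4, 4, 2, 3, 6, 4]⟩,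
  ⟨215, [(85, true), (31, true)], [3, 6, 4, 6, 4, 3, 4, 3, 6, 4, 4, 3, 6]⟩,
  ⟨284, [(85, true), (31, true)], [2, 3, 4, 2, 3, 5, 6]⟩,
  ⟨294, [(31, true), (85, true), (31, true)], [3, 4, 4, 3, 2, 5, 6, 4, 6, 5]⟩,
  ⟨235, [], [3, 4, 4, 4, 4, 4, 2]⟩,
  ⟨219, [(31, true), (85, true)], [1, 2, 4, 3, 4, 3, 2, 4, 3, 4, 6, 4, 5]⟩,
  ⟨114, [], [1, 2, 4, 2, 4, 2, 5]⟩,
  ⟨155, [(85, true)], [0, 4, 6, 4, 3, 4, 2, 6, 4, 4, 4]⟩,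
  ⟨42, [], [0, 1, 6]⟩,
  ⟨158, [(85, true)], [4, 2, 3, 4, 2, 3, 4, 2, 3, 4, 2, 6]⟩,
  ⟨104, [], []⟩,
  ⟨235, [(85, true), (31, true)], [1, 4, 4, 4, 2, 3, 4, 2, 3, 4, 3]⟩,
  ⟨385, [(31, true), (85, true), (31, true)], [0, 3, 6, 4, 4, 6, 4, 3, 4, 4, 4, 2, 4]⟩,
  ⟨235, [(31, true), (85, true)], [4, 3, 4, 6, 4, 4, 2, 3, 5]⟩,
  ⟨207, [(85, true), (31, true)], [0, 6, 3, 4, 3, 4, 6, 4, 4, 4, 3, 4]⟩,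
  ⟨214, [(31, true), (85, true), (31, true)], [5, 6, 4, 4, 6, 4, 3, 2, 4]⟩,
  ⟨215, [(31, true), (85, true)], [4, 3, 6, 5, 4, 3, 4, 4, 6, 4, 6]⟩,
  ⟨225, [(31, true), (85, true)], [3, 4, 4, 3, 2, 4, 3, 6, 4, 4, 2, 6, 4]⟩,
  ⟨400, [], [0]⟩,
  ⟨284, [(85, true)], [0, 4, 3, 4, 4, 2, 4, 4, 6, 3, 4, 3]⟩,
  ⟨318, [], [1, 6, 4, 6, 4, 3]⟩,
  ⟨207, [(85, true)], [3, 4, 3, 2, 4, 6, 4, 3, 4, 3, 6, 4, 5]⟩,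
  ⟨235, [(31, true)], [6, 4, 2, 3, 4, 6, 5, 4, 3, 4, 4]⟩,
  ⟨337, [(85, true)], [0, 3, 4, 3, 4, 4, 5, 6, 4, 3, 4, 4]⟩,
  ⟨287, [(85, true), (31, true)], [3, 6, 4, 2, 3, 4, 4, 2, 3, 4, 4, 3, 2]⟩,
  ⟨215, [(85, true)], [0, 4, 5, 4, 2, 5, 4, 3, 4, 5]⟩,
  ⟨546, [(85, true)], [6, 4, 2, 3, 4, 6, 4, 4, 3, 2, 5]⟩,
  ⟨188, [(31, true)], [3, 2, 6, 4, 2, 4, 3, 4, 2, 4, 4, 2]⟩,
  ⟨394, [(31, true)], [1, 4, 4, 2, 3, 4, 3, 2, 4, 5, 4]⟩,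
  ⟨487, [(31, true)], [6, 3, 5, 4, 2, 4, 3, 2, 4, 5, 4]⟩,
  ⟨247, [(31, true)], [0, 3, 6, 4, 6, 3, 4, 2, 4, 2]⟩,
  ⟨294, [(85, true), (31, true)], [1, 6, 4, 2, 4, 4, 3, 2, 4, 4]⟩,
  ⟨340, [(31, true), (85, true), (31, true)], [0, 4, 3, 4, 6, 5, 4, 2, 4, 2, 4]⟩,
  ⟨442, [(31, true), (85, true), (31, true)], [4, 4, 4, 2, 3, 4, 4, 6, 4, 5, 6]⟩,
  ⟨518, [], [0, 3, 5, 5]⟩,
  ⟨379, [(31, true)], [5, 4, 3, 2, 4, 4, 5, 6, 4, 2]⟩,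
  ⟨214, [(85, true), (31, true)], [2, 6, 4, 3, 4, 4, 3, 2, 4, 4]⟩,
  ⟨494, [(31, true), (85, true), (31, true)], [1, 2, 5, 4, 6, 4, 4, 3, 2, 4]⟩,
  ⟨245, [(31, true), (85, true), (31, true)], [3, 5, 4, 5, 6, 3, 4, 2, 3, 4]⟩,
  ⟨223, [], [0, 2, 4, 5, 5, 4]⟩,
  ⟨188, [(31, true), (85, true)], [4, 5, 4, 2, 3, 4, 2, 4, 6, 3, 4]⟩,
  ⟨546, [(31, true), (85, true)], [4, 2, 4, 4, 5, 6, 3, 4, 4, 3, 5]⟩,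
  ⟨287, [(85, true)], [3, 5, 4, 3, 4, 4, 2, 4, 4, 6, 3, 4]⟩,
  ⟨337, [(31, true), (85, true)], [2, 3, 4, 4, 4, 6, 4, 4, 4, 3, 2, 4]⟩,
  ⟨203, [(31, true), (85, true), (31, true)], [2, 4, 2, 4, 4, 3, 4, 4, 2, 3, 4, 3, 4]⟩,
  ⟨377, [], [0, 3, 6]⟩,
  ⟨518, [(31, true), (85, true)], [2, 4, 6, 4, 3, 4, 3, 6, 4, 5, 6, 3, 2]⟩,
  ⟨385, [(31, true), (85, true)], [2, 4, 4, 6, 4, 5, 6, 3, 2]⟩,
  ⟨247, [(31, true), (85, true)], [1, 5, 6, 4, 3, 2, 4, 5, 4]⟩,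
  ⟨284, [(31, true), (85, true), (31, true)], [2, 3, 5, 4, 2, 4, 3, 6, 4, 3]⟩,
  ⟨487, [(31, true), (85, true)], [0, 4, 4, 5, 6, 3, 4, 2, 4, 4, 5, 4]⟩,
  ⟨518, [(31, true), (85, true), (31, true)], [3, 6, 5, 4, 3, 2, 4, 5]⟩,
  ⟨507, [(31, true)], [1, 2, 3, 5, 4, 2, 3]⟩,
  ⟨485, [(31, true), (85, true), (31, true)], [2, 6, 4, 6, 3]⟩,
  ⟨533, [], [1, 5, 5]⟩,
  ⟨223, [(31, true), (85, true)], [0, 2, 5, 6, 4, 3, 6]⟩,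
  ⟨265, [(31, true), (85, true)], [2, 3, 5, 4, 2, 3, 4, 5, 6, 4, 3]⟩,
  ⟨379, [(31, true), (85, true)], [3, 4, 3, 6, 5, 4, 3, 2, 4, 2, 5, 6]⟩,
  ⟨207, [(31, true), (85, true), (31, true)], [2, 4, 2, 3, 4, 2, 4, 6, 3, 5, 4]⟩,
  ⟨394, [(31, true), (85, true)], [4, 6, 5, 4, 2, 3, 4, 6]⟩,
  ⟨223, [(31, true), (85, true), (31, true)], [4, 6, 4, 4, 4, 6, 4, 3, 2, 4, 2]⟩,
  ⟨445, [(31, true)], [0, 2, 4, 4, 6, 4, 3, 6, 4, 6, 4]⟩,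
  ⟨394, [(31, true), (85, true), (31, true)], [0, 5, 4, 6, 4, 3, 4, 2, 4, 3, 6, 4, 4]⟩,
  ⟨247, [(31, true), (85, true), (31, true)], [4, 3, 2, 4, 2, 4, 4, 4, 3, 4, 2, 4, 5]⟩,
  ⟨235, [(31, true), (85, true), (31, true)], [3, 4, 6, 4, 4, 3, 2, 4, 2, 4]⟩,
  ⟨400, [(85, true)], [2, 3, 6, 4, 6, 4, 4, 3, 2, 4, 3, 6, 4]⟩,
  ⟨485, [(85, true), (31, true)], [1, 3, 4, 5, 6, 4, 2, 3, 4, 4, 2]⟩,
  ⟨203, [(85, true), (31, true)], [4, 4, 2, 4, 4, 3, 4, 6, 4, 4, 4]⟩,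
  ⟨340, [(31, true), (85, true)], [3, 5, 4, 3, 5, 6, 4, 3, 6, 4, 6]⟩,
  ⟨199, [], [1, 6, 4, 4, 2, 4]⟩,
  ⟨442, [(85, true)], [2, 4, 2, 4, 3, 4, 6, 3, 2, 5, 4]⟩,
  ⟨487, [(31, true), (85, true), (31, true)], [1, 3, 5, 4, 2, 4, 3, 2, 5, 4, 6]⟩,
  ⟨379, [(31, true), (85, true), (31, true)], [1, 4, 2, 3, 4, 2, 4, 4, 4, 3, 4, 2, 4]⟩,
  ⟨215, [(31, true)], [2, 4, 3, 4, 4, 2, 6, 4, 6, 4, 4, 3]⟩,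
  ⟨318, [(85, true)], [3, 2, 4, 4, 5, 6, 4, 3, 4, 2, 4, 2]⟩,
  ⟨494, [(31, true), (85, true)], [3, 4, 2, 3, 4, 4, 2, 3, 4, 3, 5]⟩,
  ⟨288, [], []⟩,
  ⟨245, [(85, true)], [3, 4, 6, 4, 4, 3, 2, 4, 3, 4, 4, 2]⟩,
  ⟨80, [(85, true), (31, true)], [4, 2, 4, 3, 6, 4, 2, 3, 4, 2, 6, 5]⟩,
  ⟨155, [(31, true), (85, true)], [2, 3, 5, 4, 2, 3, 4, 3, 2, 5, 4, 6, 5]⟩,
  ⟨138, [(85, true), (31, true)], [2, 6, 4, 2, 3, 4, 4, 3, 6, 5, 4, 3, 4]⟩,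
  ⟨71, [(85, true), (31, true)], [0, 3, 4, 6, 3, 4, 3, 4, 4, 2, 4, 5]⟩,
  ⟨203, [(31, true), (85, true)], [5, 4, 3, 2, 4, 4, 6, 4, 3, 6, 4]⟩,
  ⟨158, [(31, true)], [4, 2, 4, 6, 3, 2, 4, 4, 6, 4, 6]⟩,
  ⟨100, [(85, true), (31, true)], [3, 4, 3, 2, 4, 2, 4, 4, 3]⟩,
  ⟨546, [(31, true), (85, true), (31, true)], [2, 5, 6, 3, 4, 3, 4, 2, 4, 4, 6]⟩,
  ⟨275, [], [1]⟩,
  ⟨280, [], [0, 3, 4, 6, 4]⟩,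
  ⟨206, [], [4, 6, 4, 6, 3]⟩,
  ⟨442, [(85, true), (31, true)], [1, 5, 4, 5, 6, 4, 4, 2, 3]⟩,
  ⟨374, [(31, true), (85, true)], [2, 3, 6, 4, 2, 3, 4, 5, 5, 4, 2, 3]⟩,
  ⟨191, [(31, true), (85, true)], [4, 4, 3, 2, 4, 4, 6, 4, 5]⟩,
  ⟨223, [(85, true), (31, true)], [4, 3, 6, 4, 2, 4, 2, 3, 4, 6, 4]⟩,
  ⟨294, [(31, true)], [6, 3, 4, 2, 3, 4, 3, 2, 4, 5, 4, 5]⟩,
  ⟨487, [(85, true)], [6, 4, 2, 4, 3, 4, 6, 5, 4, 2, 3, 4]⟩,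
  ⟨235, [(85, true)], [0, 5, 4, 3, 4, 2, 4, 2, 4, 3, 6, 4]⟩,
  ⟨215, [(31, true), (85, true), (31, true)], [6, 4, 4, 3, 6, 4, 2, 3, 4, 3, 6, 4, 4]⟩,
  ⟨546, [(31, true)], [2, 6, 4, 3, 6, 4, 3, 6, 4]⟩,
  ⟨485, [(31, true), (85, true)], [4, 3, 4, 2, 6, 5, 6, 4, 3, 4]⟩,
  ⟨337, [(31, true), (85, true), (31, true)], [6, 4, 6, 3, 4, 2, 4, 2, 4, 3, 5, 4]⟩,
  ⟨429, [], [1]⟩,
  ⟨245, [(85, true), (31, true)], [2, 5, 4, 3, 6, 4, 4, 2, 3, 5, 4]⟩,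
  ⟨518, [(85, true), (31, true)], [0, 4, 6, 3, 4, 2, 5, 6]⟩,
  ⟨214, [(31, true)], [1, 4, 4, 5, 4, 2, 3, 4, 3, 2, 4, 6]⟩,
  ⟨394, [(85, true)], [0, 5, 6, 4, 4]⟩,
  ⟨337, [(31, true)], [2, 6, 4, 3, 6, 4, 6, 3, 4]⟩,
  ⟨429, [(31, true)], [3, 4, 4, 5, 6, 4, 6, 3, 4, 5]⟩,
  ⟨445, [(85, true), (31, true)], [0, 4, 2, 4, 3, 4, 4, 6, 4, 6, 3]⟩,
  ⟨318, [(31, true), (85, true), (31, true)], [3, 5, 6, 4, 3, 4, 3, 6, 4, 6, 3]⟩,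
  ⟨280, [(31, true)], [2, 4, 3, 4, 6, 5, 4, 3, 2, 4, 5, 5]⟩,
  ⟨507, [(85, true), (31, true)], [6, 4, 3, 4, 3, 2, 5, 4, 6, 3, 4, 4]⟩,
  ⟨400, [(31, true), (85, true), (31, true)], [0, 4, 3, 5, 6, 4, 2, 4, 5, 4, 6, 3]⟩,
  ⟨223, [(31, true)], [3, 4, 6, 3, 4, 4, 2, 4, 6]⟩,
  ⟨518, [(31, true)], [4, 5, 5, 4, 3, 2, 4, 3, 4, 6, 4, 5]⟩,
  ⟨385, [(85, true)], [5, 4, 6, 3, 4, 6, 4, 4, 4, 3]⟩,
  ⟨214, [(85, true)], [0, 4, 2, 5, 4, 3, 5, 4, 6]⟩,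
  ⟨485, [(85, true)], [1, 3, 4, 2, 3, 4, 2, 3, 4, 5, 5, 4, 2]⟩,
  ⟨265, [(85, true)], [0, 4, 3, 4, 4, 4, 6, 4, 3, 4, 2, 5, 6]⟩,
  ⟨294, [(85, true)], [1, 4, 5, 4, 2, 3, 5, 4, 6]⟩,
  ⟨203, [(85, true)], [2, 3, 4, 5, 6, 3, 4, 2, 4, 4, 3, 2]⟩,
  ⟨377, [(31, true)], [0, 6, 4, 3, 5, 4, 2, 5, 4, 5]⟩,
  ⟨188, [(85, true)], [3, 5, 4, 2, 4, 6, 3, 4, 5, 6, 4, 4]⟩,
  ⟨377, [(31, true), (85, true), (31, true)], [4, 2, 4, 4, 3, 6, 4, 2, 4, 4, 6]⟩,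
  ⟨219, [(31, true), (85, true), (31, true)], [6, 4, 6, 3, 4, 2, 4, 3, 2, 4, 5, 4]⟩,
  ⟨507, [(31, true), (85, true), (31, true)], [1, 2, 4, 3, 2, 4, 2, 4, 5, 6]⟩,
  ⟨340, [(85, true)], [2, 3, 6, 4, 3, 6, 4, 4, 6, 3, 4]⟩,
  ⟨226, [(85, true)], [1, 4, 6, 4, 4, 3, 4, 2, 4, 3, 4, 4]⟩,
  ⟨191, [(85, true), (31, true)], [4, 4, 6, 4, 2, 5, 6, 3, 4, 3]⟩,
  ⟨442, [(31, true), (85, true)], [4, 4, 2, 6, 3, 4, 5, 6, 4, 2]⟩,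
  ⟨206, [(31, true)], [1, 4, 3, 4, 2, 4, 3, 4, 2, 4, 6]⟩,
  ⟨400, [(85, true), (31, true)], [4, 2, 3, 4, 4, 3, 5, 4, 2, 6]⟩,
  ⟨416, [(31, true), (85, true), (31, true)], [1, 3, 2, 4, 5, 6, 4, 4, 6, 4]⟩,
  ⟨533, [(31, true)], [4, 4, 4, 2, 3, 5, 4, 5]⟩,
  ⟨287, [(31, true), (85, true)], [4, 2, 3, 6, 4, 4, 3, 6, 4, 2, 3, 4]⟩,
  ⟨533, [(31, true), (85, true), (31, true)], [2, 4, 3, 6, 5, 4, 2, 4, 3, 4, 4]⟩,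
  ⟨225, [(31, true), (85, true), (31, true)], [1, 3, 5, 4, 3, 2, 4, 6, 5, 4, 3, 4, 6]⟩,
  ⟨445, [(31, true), (85, true), (31, true)], [0, 2, 4, 2, 4, 4, 3, 5, 4, 6, 5]⟩,
  ⟨494, [(85, true)], [3, 4, 4, 3, 2, 4, 2, 6, 5]⟩,
  ⟨285, [(85, true)], [0, 4, 2, 4, 3, 6, 4, 6]⟩,
  ⟨374, [(85, true), (31, true)], [2, 3, 5, 4, 3, 4, 3, 6, 4, 3, 4, 3, 5]⟩,
  ⟨245, [(31, true), (85, true)], [2, 4, 2, 4, 4, 4, 3, 5, 4, 2, 4, 3, 6]⟩,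
  ⟨275, [(31, true)], [4, 4, 6, 3, 4, 3, 2, 4, 5, 5, 4]⟩,
  ⟨318, [(85, true), (31, true)], [3, 2, 4, 3, 4, 5, 4, 2, 5]⟩,
  ⟨240, [(31, true), (85, true), (31, true)], [1, 6, 4, 3, 5, 5]⟩,
  ⟨400, [(31, true)], [4, 4, 3, 4, 4, 6, 4, 3, 4, 4, 4]⟩,
  ⟨219, [(85, true), (31, true)], [2, 4, 5, 5, 4, 3, 4, 6, 4, 2, 4]⟩,
  ⟨377, [(85, true)], [0, 6, 4, 3, 4, 4, 6, 3, 5, 4, 6]⟩,
  ⟨518, [(85, true)], [6, 4, 5, 6, 4, 3, 4, 6, 3, 4, 3, 5]⟩,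
  ⟨400, [(31, true), (85, true)], [0, 5, 6, 4, 4, 6, 3, 4, 4, 6]⟩,
  ⟨294, [(31, true), (85, true)], [3, 4, 4, 3, 2, 4, 2, 4, 3, 6, 4, 6]⟩,
  ⟨485, [(31, true)], [0, 5, 6, 4, 3, 4, 2, 5, 6, 4]⟩,
  ⟨203, [(31, true)], [1, 5, 4, 2, 3, 4, 4, 6, 4, 2, 3]⟩,
  ⟨284, [(31, true)], [4, 4, 3, 4, 2, 5, 4, 5]⟩,
  ⟨533, [(31, true), (85, true)], [0, 6, 4, 4, 2, 4, 3, 6, 5, 4, 2]⟩,
  ⟨318, [(31, true)], [0, 2, 4, 3, 5, 6, 4, 3, 6, 4, 2, 4, 4]⟩,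
  ⟨225, [(85, true), (31, true)], [2, 5, 4, 3, 4, 2, 4, 3, 4, 4, 2]⟩,
  ⟨533, [(85, true)], [3, 4, 2, 4, 6, 5, 4, 3, 2, 4, 4, 5]⟩,
  ⟨223, [(85, true)], [2, 4, 2, 3, 6, 4, 4, 3, 6]⟩,
  ⟨318, [(31, true), (85, true)], [0, 3, 4, 4, 3, 5, 6, 4, 2, 4, 4, 3]⟩,
  ⟨214, [(31, true), (85, true)], [0, 3, 6, 4, 2, 4, 5, 6, 3, 4]⟩,
  ⟨207, [(31, true)], [3, 6, 4, 2, 6, 4, 6]⟩,
  ⟨377, [(31, true), (85, true)], [4, 2, 3, 5, 4, 2, 3, 4, 4, 6, 4, 3]⟩,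
  ⟨337, [(85, true), (31, true)], [2, 6, 4, 3, 5, 4, 2, 4, 5, 6, 3]⟩,
  ⟨226, [(31, true), (85, true)], [1, 4, 3, 4, 2, 3, 4, 2, 4, 5]⟩,
  ⟨546, [(85, true), (31, true)], [0, 5, 6, 4, 4, 3, 6, 4, 2, 6, 4]⟩,
  ⟨285, [(31, true), (85, true)], [0, 3, 4, 2, 4, 4, 2, 5, 4, 3, 4]⟩,
  ⟨377, [(85, true), (31, true)], [4, 3, 2, 5, 4, 6, 4, 4, 2]⟩,
  ⟨379, [(85, true), (31, true)], [2, 4, 4, 6, 4, 3, 4, 3, 6, 5, 4, 3]⟩,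
  ⟨533, [(85, true), (31, true)], [3, 4, 2, 4, 3, 6, 4, 2, 5, 5, 4]⟩,
  ⟨247, [(85, true), (31, true)], [0, 4, 4, 4, 3, 5, 6, 4, 6, 3, 4, 5, 5]⟩,
  ⟨288, [(31, true)], [2, 3, 4, 3, 2, 4, 4, 5, 4]⟩,
  ⟨199, [(31, true)], [0, 2, 5, 4, 3, 4, 3, 6, 4, 5, 5]⟩]

noncomputable def coverEdge7 : List Step := [⟨133, [], []⟩,
  ⟨552, [], [0, 1, 4, 3, 5]⟩,
  ⟨253, [], [2, 3, 5, 5]⟩,
  ⟨253, [(32, true)], [1, 5, 5]⟩,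
  ⟨552, [(84, true), (32, true)], [1, 4, 2, 5, 6]⟩,
  ⟨253, [(84, true), (32, true)], [0, 4, 3, 6, 5, 4, 2, 4, 3, 5, 6, 4, 2, 4]⟩,
  ⟨37, [], [2, 6, 5]⟩,
  ⟨552, [(32, true)], [0, 4, 2, 5]⟩,
  ⟨550, [], [6, 3]⟩,
  ⟨387, [], []⟩,
  ⟨552, [(32, true), (84, true), (32, true)], [4, 5, 6, 3]⟩,
  ⟨253, [(32, true), (84, true), (32, true)], [0, 4, 5, 6, 4, 3, 4, 4, 4, 6, 4, 3, 4]⟩,
  ⟨133, [(32, true), (84, true)], [2, 3, 6]⟩,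
  ⟨246, [], [0, 1, 5]⟩,
  ⟨499, [], [1]⟩,
  ⟨37, [(32, true), (84, true)], [4, 4, 2, 5, 4, 3, 4, 2, 3, 5, 4, 3, 4]⟩,
  ⟨486, [], [1, 5, 5]⟩,
  ⟨278, [], [0, 4, 5, 4, 3]⟩,
  ⟨380, [], [5]⟩,
  ⟨319, [], []⟩,
  ⟨550, [(32, true)], [3, 4, 4, 3, 2, 4, 5, 4, 6, 5]⟩,
  ⟨198, [], [1, 2, 3, 5, 5]⟩,
  ⟨387, [(32, true)], [2, 3, 4, 4, 2, 3, 5]⟩,
  ⟨448, [], [3, 5]⟩,
  ⟨512, [], []⟩,
  ⟨198, [(32, true)], [1, 4, 4, 4, 4, 4, 3, 2]⟩,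
  ⟨230, [], []⟩,
  ⟨325, [], [1, 4, 5, 4, 2, 5]⟩,
  ⟨552, [(84, true)], [1, 4, 5, 6]⟩,
  ⟨556, [], [2, 5, 4, 5, 4, 5]⟩,
  ⟨444, [], [5, 5]⟩,
  ⟨253, [(84, true)], [0, 2, 4, 5, 6, 4, 3, 4, 4, 4, 6, 4, 3, 4]⟩,
  ⟨465, [], [0, 2, 6]⟩,
  ⟨564, [], [2, 5, 4, 6, 4, 3, 6, 5]⟩,
  ⟨37, [(84, true)], [3, 6, 5, 6]⟩,
  ⟨57, [(84, false), (32, false)], [4, 2, 4, 4, 2, 3, 4, 6, 5, 4, 2, 4]⟩,
  ⟨92, [], [2, 3]⟩,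
  ⟨133, [(84, true)], [1, 2]⟩,
  ⟨246, [(32, true)], [1, 2, 4, 4, 3, 4, 2, 5, 4]⟩,
  ⟨506, [], [1, 5, 4, 2, 6, 4, 6, 5]⟩,
  ⟨278, [(84, true), (32, true)], [3, 4, 3, 2, 4, 5, 4, 6, 4, 3, 4, 6]⟩,
  ⟨278, [(32, true)], [5, 4, 3, 2, 4, 4, 3]⟩,
  ⟨486, [(32, true), (84, true)], [1, 3, 4, 6, 4, 3, 4, 3, 4, 2, 4, 5]⟩,
  ⟨447, [], [0, 5, 4, 5, 4, 3]⟩,
  ⟨177, [], [0, 1, 2]⟩,
  ⟨59, [], [5, 5]⟩,
  ⟨486, [(32, true)], [6, 5, 4, 2, 6, 3, 4, 6, 4]⟩,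
  ⟨447, [(84, true), (32, true)], [0, 4, 6, 4, 2, 4, 3, 4, 6, 4, 4, 6]⟩,
  ⟨499, [(84, true), (32, true)], [2, 3, 4, 2, 4, 6, 3, 4, 2, 4, 6]⟩,
  ⟨499, [(32, true)], [4, 6, 4, 2, 6, 3, 4, 6]⟩,
  ⟨246, [(32, true), (84, true)], [0, 2, 4, 3, 4, 3, 5, 6, 4, 2]⟩,
  ⟨506, [(32, true), (84, true)], [4, 2, 3, 5, 4, 2, 4, 2, 5, 5]⟩,
  ⟨380, [(32, true)], [2, 4, 2, 3, 4, 4, 5, 4, 2]⟩,
  ⟨194, [], [1, 3, 2]⟩,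
  ⟨319, [(32, true)], [2, 3, 4, 4, 2, 3, 5]⟩,
  ⟨194, [(32, true)], [1, 4, 4, 5, 4, 2, 3]⟩,
  ⟨512, [(32, true)], [5, 6, 4, 3, 2, 4, 4, 5, 4, 6]⟩,
  ⟨448, [(32, true)], [4, 3, 2, 4, 4, 5, 4, 3]⟩,
  ⟨381, [], [0, 1, 5]⟩,
  ⟨553, [], [0, 4, 6, 4, 6]⟩,
  ⟨325, [(32, true)], [1, 3, 4, 3, 4, 2, 3]⟩,
  ⟨230, [(32, true)], [2, 3, 4, 4, 2, 3, 5]⟩,
  ⟨325, [(32, true), (84, true)], [1, 5, 4, 2, 3, 4, 4, 5]⟩,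
  ⟨465, [(32, true)], [1, 2, 5, 6, 4, 3, 2, 4, 4, 5]⟩,
  ⟨230, [(32, true), (84, true)], [4, 4, 3, 4, 2, 4, 4, 4, 4]⟩,
  ⟨556, [(32, true)], [1, 2, 4, 2, 3, 4, 4, 4, 4]⟩,
  ⟨553, [(32, true)], [2, 6, 5, 4, 2, 3, 4, 3, 4, 2]⟩,
  ⟨381, [(32, true)], [1, 2, 3, 4, 5, 5, 4, 3, 2]⟩,
  ⟨512, [(32, true), (84, true)], [2, 4, 4, 2, 3, 4, 4, 4, 4, 4]⟩,
  ⟨390, [], [0, 2, 4, 4, 4, 5]⟩,
  ⟨444, [(32, true)], [1, 3, 5, 4, 3, 4, 2, 4, 4, 2, 5]⟩,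
  ⟨448, [(32, true), (84, true)], [4, 3, 2, 4, 4, 5, 4]⟩,
  ⟨477, [], [6, 4, 6, 4, 2, 3]⟩,
  ⟨564, [(32, true)], [5, 6, 3, 4, 2, 4, 2, 4, 5]⟩,
  ⟨253, [(32, true), (84, true)], [1, 2, 6, 5]⟩,
  ⟨315, [], [0, 6, 4, 6, 4, 6, 3]⟩,
  ⟨440, [], [0, 1, 4, 6, 4, 2, 6]⟩,
  ⟨444, [(32, true), (84, true), (32, true)], [0, 4, 6, 3, 4, 2, 4, 3, 4, 6, 5, 4, 2]⟩,
  ⟨517, [], [5, 5]⟩,
  ⟨517, [(32, true), (84, true), (32, true)], [3, 4, 2, 4, 3, 2, 6, 4, 6, 4, 4, 2]⟩,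
  ⟨556, [(32, true), (84, true), (32, true)], [2, 4, 3, 4, 2, 4, 3, 6, 4, 4, 2]⟩,
  ⟨552, [(32, true), (84, true)], [0, 3, 6, 4, 3, 6, 4, 5, 6, 3, 4, 6, 5]⟩,
  ⟨365, [], [0, 3]⟩,
  ⟨258, [], [6, 4, 5, 4]⟩,
  ⟨564, [(32, true), (84, true), (32, true)], [2, 4, 4, 3, 2, 4, 3, 4, 6, 5, 4, 6, 3]⟩,
  ⟨557, [], [0]⟩,
  ⟨557, [(32, true), (84, true), (32, true)], [3, 4, 4, 2, 3, 4, 4, 5, 6, 3, 4, 3]⟩,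
  ⟨465, [(32, true), (84, true), (32, true)], [3, 4, 2, 3, 4, 5, 6, 4, 2, 3, 6, 4]⟩,
  ⟨90, [], [6, 3, 2]⟩,
  ⟨59, [(32, true)], [2, 6, 4, 4, 6, 3, 4, 6, 5, 4]⟩,
  ⟨59, [(84, true), (32, true)], [3, 4, 6, 4, 3, 4, 3, 4, 2, 4, 5]⟩,
  ⟨140, [], [5, 4, 6, 4]⟩,
  ⟨148, [], [1, 4, 4, 4, 5, 6, 4]⟩,
  ⟨177, [(32, true), (84, true)], [1, 2, 4, 4, 6, 4, 2, 3, 4, 6]⟩,
  ⟨177, [(84, true)], [2, 3, 4, 4, 5, 4, 6, 3, 4, 3, 4]⟩,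
  ⟨118, [], [1, 2]⟩,
  ⟨92, [(32, true)], [1, 4, 5, 6, 4, 2, 3, 4, 2, 4, 4, 4]⟩,
  ⟨246, [(32, true), (84, true), (32, true)], [5, 4, 3, 5, 4, 6, 4, 4, 3]⟩,
  ⟨562, [], [6, 3]⟩,
  ⟨278, [(32, true), (84, true), (32, true)], [2, 4, 4, 3, 2, 4, 4, 6, 4, 3, 4, 4]⟩,
  ⟨506, [(32, true)], [0, 3, 6, 4, 5, 4, 2]⟩,
  ⟨381, [(32, true), (84, true), (32, true)], [2, 5, 5, 4, 3, 4, 2, 4, 3, 4, 6, 4, 2]⟩,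
  ⟨506, [(84, true)], [3, 4, 3, 4, 2]⟩,
  ⟨246, [(84, true)], [1, 2, 4, 3, 4, 2, 6, 4, 4, 2]⟩,
  ⟨92, [(84, true), (32, true)], [1, 4, 2, 3, 4, 4, 4, 6, 4]⟩,
  ⟨148, [(84, true), (32, true)], [1, 6, 4, 2, 4, 4, 3, 4, 2, 4, 6]⟩,
  ⟨140, [(32, true), (84, true)], [3, 6, 4, 4, 2, 5, 4, 6, 3, 4, 2, 4, 2]⟩,
  ⟨57, [(32, true), (84, true), (84, false), (32, false)], [3]⟩,
  ⟨57, [(84, true), (84, false), (32, false)], [0, 2, 4, 2, 4, 5, 4, 3, 6, 4, 6, 5]⟩,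
  ⟨486, [(32, true), (84, true), (32, true)], [0, 3, 4, 2, 4, 4, 6, 3, 4, 3, 4]⟩,
  ⟨369, [], [1, 6]⟩,
  ⟨499, [(32, true), (84, true), (32, true)], [2, 4, 4, 6, 4, 3, 4, 2, 6]⟩,
  ⟨447, [(32, true), (84, true), (32, true)], [4, 3, 4, 5, 6, 3, 4, 2, 3, 4, 4]⟩,
  ⟨553, [(32, true), (84, true), (32, true)], [4, 4, 3, 6, 4, 4, 6, 4, 3, 4, 6, 3]⟩,
  ⟨447, [(32, true)], [4, 4, 3, 2, 5, 4, 3, 5]⟩,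
  ⟨486, [(84, true)], [4, 5, 6, 4, 3, 2, 4]⟩,
  ⟨553, [(32, true), (84, true)], [0, 2, 6, 4, 2, 4, 4, 3]⟩,
  ⟨477, [(32, true), (84, true)], [3, 5, 4, 3, 6, 4, 3, 6, 5, 4, 6, 5]⟩,
  ⟨381, [(32, true), (84, true)], [1, 3, 4, 4, 2, 3, 5]⟩,
  ⟨390, [(32, true), (84, true)], [4, 3, 6, 4, 2, 4, 2, 3, 4, 4, 5]⟩,
  ⟨448, [(32, true), (84, true), (32, true)], [3, 4, 5, 4, 2]⟩,
  ⟨387, [(84, true), (32, true)], [2, 3, 4, 6, 5, 4, 6, 3, 2, 4, 4]⟩,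
  ⟨390, [(84, true)], [2, 4, 4, 2, 6, 3, 4, 6, 4, 5]⟩,
  ⟨512, [(32, true), (84, true), (32, true)], [4, 4, 4, 3]⟩,
  ⟨319, [(84, true), (32, true)], [2, 4, 2, 6, 5, 4, 3, 6, 4, 3, 4, 3]⟩,
  ⟨477, [(84, true)], [2, 6, 4, 5, 6, 4, 3, 4, 3, 6, 5]⟩,
  ⟨387, [(32, true), (84, true), (32, true)], [2, 5, 4, 3, 4, 3, 5, 6, 4, 6, 3, 5]⟩,
  ⟨319, [(32, true), (84, true), (32, true)], [2, 4, 6, 3, 4, 2, 4, 3, 2, 4, 4, 6]⟩,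
  ⟨230, [(84, true)], [0, 1, 4, 4, 4, 2, 4, 3, 4, 2, 4, 4]⟩,
  ⟨562, [(84, true), (32, true)], [3, 6, 4, 2, 6, 4, 6, 4, 3, 4, 2, 4, 6]⟩,
  ⟨550, [(84, true)], [0, 5, 4, 5, 4, 6, 4, 3, 4]⟩,
  ⟨557, [(32, true)], [1, 4, 4, 3, 2, 4, 4, 4, 4]⟩,
  ⟨564, [(84, true), (32, true)], [1, 6, 4, 3, 4, 4, 6, 4, 3, 2, 4]⟩,
  ⟨325, [(84, true)], [4, 2, 3, 4, 2, 3, 4, 5, 5, 4, 2, 3]⟩,
  ⟨369, [(84, true), (32, true)], [2, 5, 4, 3, 2, 4, 2, 4, 3, 4, 6, 3, 5]⟩,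
  ⟨380, [(84, true)], [6, 5, 4, 3, 4, 2, 4, 3, 6, 4, 4, 3]⟩,
  ⟨517, [(32, true)], [1, 5, 4, 2, 3, 4, 4, 5]⟩,
  ⟨444, [(84, true), (32, true)], [6, 4, 4, 4, 6, 3, 2, 4, 6]⟩,
  ⟨230, [(32, true), (84, true), (32, true)], [4, 4, 2, 5]⟩,
  ⟨390, [(32, true)], [0, 4, 2, 4, 3, 4, 4, 2, 5, 4, 5]⟩,
  ⟨325, [(32, true), (84, true), (32, true)], [1, 2, 4, 2, 4, 3]⟩,
  ⟨477, [(32, true)], [2, 4, 3, 6, 4, 5, 6, 4, 6, 3, 4, 2]⟩,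
  ⟨512, [(84, true)], [4, 3, 4, 2, 4, 4, 3, 4, 4, 2, 3, 4]⟩,
  ⟨264, [], [4, 3, 4, 3, 6, 5, 6]⟩,
  ⟨511, [], []⟩,
  ⟨380, [(84, true), (32, true)], [2, 4, 2, 3, 4, 4, 5, 4]⟩,
  ⟨365, [(32, true), (84, true), (32, true)], [3, 6, 4, 3, 4, 6, 5, 4, 3, 4, 3, 6]⟩,
  ⟨562, [(32, true)], [6, 4, 3, 4, 4, 2, 5, 4, 3, 4, 3]⟩,
  ⟨369, [(32, true), (84, true), (32, true)], [5, 4, 2, 6, 3, 5, 4, 6, 5]⟩,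
  ⟨556, [(84, true), (32, true)], [1, 6, 4, 4, 6, 4, 3, 4, 2, 4, 5, 5]⟩,
  ⟨517, [(84, true), (32, true)], [6, 4, 3, 6, 5, 4, 3, 6, 4, 2, 4]⟩,
  ⟨448, [(84, true)], [6, 4, 3, 2, 4, 3, 6, 5, 4, 3, 6, 4, 2]⟩,
  ⟨334, [], [1, 4, 4, 5, 4, 6]⟩,
  ⟨421, [], [2, 5, 5]⟩,
  ⟨550, [(84, true), (32, true)], [5, 6, 4, 2, 3, 4, 4, 5, 4]⟩,
  ⟨315, [(32, true), (84, true), (32, true)], [4, 2, 3, 4, 5, 6, 4, 2, 6, 3]⟩,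
  ⟨369, [(32, true)], [0, 3, 6, 4, 3, 4, 4, 2, 5, 4, 3, 4, 3]⟩,
  ⟨562, [(32, true), (84, true), (32, true)], [6, 3, 4, 4, 6, 4, 3, 2, 4]⟩,
  ⟨465, [(84, true), (32, true)], [4, 4, 6, 3, 4, 3, 4, 6, 5, 4, 3, 4]⟩,
  ⟨557, [(84, true), (32, true)], [2, 4, 4, 4, 3, 4, 6, 4, 3, 4, 3, 4]⟩,
  ⟨486, [(84, true), (32, true)], [2, 6, 3, 4, 2, 3, 4, 4, 2, 3, 4, 3, 5]⟩,
  ⟨401, [], []⟩,
  ⟨365, [(32, true)], [0, 4, 2, 4, 4, 3, 4, 4, 4, 2, 4]⟩,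
  ⟨477, [(32, true), (84, true), (32, true)], [4, 4, 4, 4, 2, 4, 6, 3, 4, 5]⟩,
  ⟨369, [(32, true), (84, true)], [6, 5, 4, 2, 3, 4, 5, 6, 4, 2]⟩,
  ⟨562, [(32, true), (84, true)], [2, 4, 2, 3, 4, 4, 3, 2, 6, 4, 6, 4, 3]⟩,
  ⟨440, [(32, true)], [2, 4, 2, 4, 2, 6, 3, 4, 6, 4, 4, 6]⟩,
  ⟨264, [(84, true), (32, true)], [3, 2, 4, 6, 3, 4, 4, 4, 6, 5, 4, 3]⟩,
  ⟨421, [(32, true), (84, true), (32, true)], [4, 3, 4, 4, 5, 6, 3, 4, 4, 5]⟩,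
  ⟨246, [(84, true), (32, true)], [3, 5, 4, 3, 6, 4, 3, 6, 4, 4, 3]⟩,
  ⟨478, [], [5, 4, 5, 4, 5]⟩,
  ⟨315, [(32, true)], [0, 1, 2, 4, 4, 3, 4, 4, 4, 2, 4]⟩,
  ⟨390, [(32, true), (84, true), (32, true)], [1, 6, 4, 3, 4, 2, 4, 3, 2, 4]⟩,
  ⟨258, [(32, true)], [1, 4, 4, 4, 2, 3, 4, 6, 4, 4, 6]⟩,
  ⟨334, [(84, true), (32, true)], [1, 5, 4, 2, 3, 4, 4, 6, 4, 3, 2, 4, 5]⟩,
  ⟨511, [(32, true), (84, true), (32, true)], [1, 6, 4, 2, 6, 4, 3, 4, 5, 6, 4, 3]⟩,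
  ⟨39, [], [6, 3, 5]⟩,
  ⟨122, [], [2, 6, 4, 2, 6]⟩,
  ⟨140, [(84, true)], [4, 4, 6, 4, 3, 4, 3, 4, 2, 4, 3, 6]⟩,
  ⟨148, [(32, true)], [4, 3, 6, 4, 4, 2, 5, 4]⟩,
  ⟨278, [(32, true), (84, true)], [2, 4, 2, 4, 3, 2, 5]⟩,
  ⟨74, [], [5, 4, 5, 4, 5]⟩,
  ⟨112, [], [0, 1, 2]⟩,
  ⟨465, [(84, true)], [3, 6, 4, 3, 5, 6, 4, 4, 3, 6, 4, 4, 6]⟩,
  ⟨278, [(84, true)], [0, 2, 6, 4, 4, 3, 6, 4, 2, 4, 4, 5]⟩,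
  ⟨506, [(32, true), (84, true), (32, true)], [4, 3, 4, 6, 4, 3, 4, 2, 5, 6, 3]⟩,
  ⟨499, [(84, true)], [4, 4, 3, 5, 4, 6, 4, 4, 3]⟩,
  ⟨365, [(84, true), (32, true)], [2, 3, 4, 6, 5, 4, 2, 3, 6]⟩,
  ⟨365, [(32, true), (84, true)], [3, 4, 3, 6, 4, 3, 2, 4, 3, 6, 4, 2]⟩,
  ⟨315, [(32, true), (84, true)], [0, 4, 3, 4, 2, 4, 3, 6, 4, 4, 2, 5]⟩,
  ⟨315, [(84, true)], [0, 5, 4, 2, 4, 3, 5, 4, 2, 6, 5]⟩,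
  ⟨512, [(84, true), (32, true)], [2, 4, 5, 6, 4, 3, 4, 3, 5, 5]⟩,
  ⟨553, [(84, true), (32, true)], [6, 4, 4, 6, 4, 6, 3, 2, 4, 5, 5, 4]⟩,
  ⟨198, [(84, true)], [2, 4, 5, 6, 4, 4, 6, 4, 3, 6, 4]⟩,
  ⟨194, [(84, true)], [0, 3, 5, 4, 3, 4, 2, 4, 3, 4, 6, 4, 2]⟩,
  ⟨198, [(32, true), (84, true)], [1, 3, 5, 4, 5, 6, 4, 3, 4, 3, 4]⟩,
  ⟨499, [(32, true), (84, true)], [1, 2, 3, 4, 3, 2]⟩,
  ⟨556, [(84, true)], [4, 5, 6, 4, 3, 4, 4, 6, 4, 4, 3]⟩,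
  ⟨447, [(84, true)], [2, 4, 4, 3, 6, 4, 2, 3, 4, 6, 4, 4]⟩,
  ⟨315, [(84, true), (32, true)], [3, 2, 6, 4, 3, 5, 6, 4, 6, 3, 4, 3]⟩,
  ⟨365, [(84, true)], [2, 3, 4, 2, 4, 2, 3, 4, 2, 4, 3, 5, 6]⟩,
  ⟨448, [(84, true), (32, true)], [4, 2, 3, 4, 2, 4, 4, 3, 6, 4, 3]⟩,
  ⟨381, [(84, true), (32, true)], [3, 5, 5, 4, 3, 4, 2, 4, 3, 4, 6, 4, 2]⟩,
  ⟨194, [(32, true), (84, true)], [2, 5, 4, 3, 6, 4, 2, 4, 6, 3, 2]⟩,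
  ⟨553, [(84, true)], [3, 4, 2, 4, 4, 2, 3, 6, 4, 5, 4, 6, 4]⟩,
  ⟨421, [(84, true), (32, true)], [1, 4, 5, 4, 6, 4, 3, 4, 4, 5, 6]⟩,
  ⟨194, [(84, true), (32, true)], [1, 3, 4, 4, 4, 4, 2, 3]⟩,
  ⟨381, [(84, true)], [4, 4, 3, 4, 4, 2, 5, 4, 3, 4, 4, 2, 3]⟩,
  ⟨511, [(84, true), (32, true)], [3, 4, 2, 4, 4, 3, 2, 5, 6, 4, 2]⟩,
  ⟨198, [(84, true), (32, true)], [1, 2, 4, 2, 3, 5, 5]⟩,
  ⟨550, [(32, true), (84, true)], [1, 4, 6, 5, 4, 2, 3, 4, 4]⟩,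
  ⟨380, [(32, true), (84, true)], [4, 3, 2, 4, 2, 4, 6, 3, 4]⟩,
  ⟨230, [(84, true), (32, true)], [1, 4, 2, 3, 4, 4, 3, 2, 4, 4, 5, 4, 2]⟩,
  ⟨557, [(84, true)], [1, 4, 2, 4, 4, 6, 4, 3, 4, 2, 4, 3]⟩,
  ⟨319, [(84, true)], [4, 4, 2, 5]⟩,
  ⟨325, [(84, true), (32, true)], [3, 6, 4, 2, 6, 4, 6, 4, 3, 4, 2, 3, 4]⟩,
  ⟨517, [(84, true)], [2, 3, 6, 4, 6, 4, 4, 3, 2, 5, 4, 3]⟩,
  ⟨387, [(84, true)], [0, 4, 4, 3, 5]⟩,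
  ⟨334, [(84, true)], [0, 4, 3, 6, 4, 4, 3, 5, 4, 6, 4, 3, 4]⟩,
  ⟨380, [(32, true), (84, true), (32, true)], [0, 3, 5]⟩,
  ⟨334, [(32, true)], [2, 3, 4, 4, 2, 3, 5, 4, 6, 3, 2]⟩,
  ⟨440, [(32, true), (84, true)], [0, 3, 5, 4, 3, 6, 4, 2, 4, 2, 5, 6]⟩,
  ⟨421, [(84, true)], [0, 1, 3, 4, 4, 6, 4, 2, 4]⟩,
  ⟨440, [(84, true), (32, true)], [5, 6, 4, 3, 2, 4, 4, 3, 5]⟩,
  ⟨421, [(32, true)], [4, 2, 4, 3, 2, 5, 4, 2, 4, 3, 4, 5]⟩,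
  ⟨258, [(32, true), (84, true), (32, true)], [2, 3, 4, 2, 4, 4, 3, 6, 4, 6]⟩,
  ⟨511, [(32, true), (84, true)], [3, 4, 3, 6, 4, 2, 4, 4, 6, 4, 4]⟩,
  ⟨319, [(32, true), (84, true)], [0, 4, 4, 2, 4, 3, 4, 4, 4, 4, 2]⟩,
  ⟨477, [(84, true), (32, true)], [2, 3, 4, 6, 4, 3, 4, 3, 6, 4, 6, 5]⟩,
  ⟨564, [(84, true)], [0, 3, 5, 4, 2, 4, 2, 6, 5, 4]⟩,
  ⟨264, [(84, true)], [4, 3, 4, 2, 3, 4, 4, 6, 3, 5]⟩,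
  ⟨550, [(32, true), (84, true), (32, true)], [6, 3, 2]⟩,
  ⟨264, [(32, true)], [1, 2, 3, 4, 4, 6, 4, 3, 4, 4, 5, 4, 6]⟩,
  ⟨258, [(32, true), (84, true)], [1, 4, 2, 3, 5, 4, 2, 4, 3, 5, 4, 2, 4]⟩,
  ⟨511, [(84, true)], [3, 5, 4, 2, 3, 4, 6, 4, 4, 2]⟩,
  ⟨258, [(84, true), (32, true)], [3, 6, 5, 4, 3, 2, 4, 2, 4, 2]⟩,
  ⟨511, [(32, true)], [4, 4, 2, 4, 4, 3, 4, 2, 4, 3, 2, 4]⟩,
  ⟨440, [(32, true), (84, true), (32, true)], [4, 4, 5, 4, 3, 2, 4, 3, 6, 5]⟩,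
  ⟨421, [(32, true), (84, true)], [3, 4, 3, 2, 5, 6, 4, 4, 6, 4]⟩,
  ⟨387, [(32, true), (84, true)], [4, 4, 2, 4, 3, 4, 4, 4, 4, 2]⟩,
  ⟨390, [(84, true), (32, true)], [4, 3, 4, 3, 2, 5, 4, 6, 3, 5, 4]⟩,
  ⟨444, [(84, true)], [1, 5, 4, 3, 4, 2, 3, 4, 3, 4, 5, 6]⟩,
  ⟨447, [(32, true), (84, true)], [4, 3, 5, 4, 6, 4, 4, 2, 3, 6, 4, 4]⟩,
  ⟨401, [(32, true)], [0, 2, 4, 3, 5, 4, 2, 5, 4, 5]⟩,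
  ⟨406, [], [0, 1]⟩,
  ⟨520, [], [3]⟩,
  ⟨198, [(32, true), (84, true), (32, true)], [6, 4, 6, 3, 4, 2, 3, 4, 4, 3, 2, 5, 4]⟩,
  ⟨556, [(32, true), (84, true)], [1, 2, 3, 4, 2, 3, 4, 3, 4, 5, 5]⟩,
  ⟨562, [(84, true)], [6, 5, 4, 3, 4, 5, 6, 3, 4, 2, 3]⟩,
  ⟨369, [(84, true)], [2, 5, 4, 3, 2, 4, 2, 4, 3, 4, 6, 3, 5]⟩,
  ⟨564, [(32, true), (84, true)], [2, 3, 4, 3, 4, 6, 4, 4, 4, 3, 2, 4]⟩,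
  ⟨264, [(32, true), (84, true), (32, true)], [3, 6, 4, 2, 4, 3, 4, 3, 6, 4, 3, 6, 4]⟩,
  ⟨506, [(84, true), (32, true)], [4, 3, 2, 4, 3, 4, 2, 4, 3, 6, 4, 5, 5, 4]⟩,
  ⟨478, [(32, true)], [0, 2, 6, 4, 3, 6, 4, 6, 3]⟩,
  ⟨466, [], [0, 4, 6, 4, 6]⟩,
  ⟨422, [], [0, 6, 5]⟩,
  ⟨194, [(32, true), (84, true), (32, true)], [4, 6, 4, 2, 3, 4, 4, 6, 5, 4, 3]⟩,
  ⟨465, [(32, true), (84, true)], [2, 4, 2, 4, 2, 3, 4, 5, 4, 6, 4, 4]⟩,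
  ⟨444, [(32, true), (84, true)], [5, 6, 3, 4, 2, 6, 4]⟩,
  ⟨334, [(32, true), (84, true), (32, true)], [4, 2, 3, 5, 5, 4, 2, 4, 6, 3, 4, 3]⟩,
  ⟨517, [(32, true), (84, true)], [6, 4, 3, 4, 6, 3, 4, 6, 5]⟩,
  ⟨422, [(32, true)], [0, 4, 2, 4, 3, 4, 3, 4, 2, 6, 4, 6, 4]⟩,
  ⟨557, [(32, true), (84, true)], [0, 4, 4, 4, 3, 6, 4, 4, 2, 4]⟩,
  ⟨520, [(32, true)], [3, 5, 4, 3, 6, 4, 2, 3, 5]⟩,
  ⟨264, [(32, true), (84, true)], [0, 4, 3, 4, 4, 4, 2, 6, 5]⟩,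
  ⟨258, [(84, true)], [4, 2, 3, 6, 4, 2, 4, 3, 4, 6, 5, 4, 2]⟩,
  ⟨334, [(32, true), (84, true)], [4, 4, 5, 4, 2]⟩,
  ⟨440, [(84, true)], [1, 3, 4, 2, 4, 3, 4, 4, 4, 4, 2, 4]⟩,
  ⟨406, [(32, true)], [6, 4, 6, 3, 2, 4, 6, 4, 5]⟩,
  ⟨466, [(32, true)], [1, 4, 4, 2, 3, 4, 5, 6, 4]⟩]

noncomputable def coverEdge8 : List Step := [⟨144, [], [6, 4, 6, 4, 3, 4, 4, 5, 4, 6]⟩,
  ⟨144, [(181, true), (88, true)], [0, 6, 4, 2, 5, 4, 3, 4, 4, 5, 4]⟩,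
  ⟨53, [(181, false), (88, false)], [2, 4, 2, 3, 6, 4]⟩,
  ⟨144, [(88, true), (181, true)], [6, 4, 6, 4, 3, 4, 4, 5, 4, 6]⟩,
  ⟨53, [(88, true), (181, true), (88, true), (181, false), (88, false)], [1, 5, 4, 6, 5, 4, 3, 4, 6, 4, 4]⟩,
  ⟨144, [(181, true)], [0, 4, 4, 5, 4, 6, 3, 4, 4, 4, 5]⟩,
  ⟨53, [(88, true), (181, true), (181, false), (88, false)], [1, 3, 4, 6, 4, 2]⟩,
  ⟨53, [(181, true), (88, true), (181, false), (88, false)], [1, 3, 4, 6, 4, 2]⟩,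
  ⟨144, [(88, true), (241, true)], [6, 4, 3, 6, 4, 6, 3, 5, 4, 2, 4, 6]⟩,
  ⟨53, [(241, true), (88, true), (181, false), (88, false)], [2, 4, 4, 3, 6, 4, 2, 6, 3, 5]⟩,
  ⟨129, [(88, false), (181, false)], [0, 2, 5, 4, 5, 4, 5]⟩,
  ⟨115, [(88, false), (181, false)], [2, 6, 3]⟩,
  ⟨129, [(181, true), (88, true), (88, false), (181, false)], [0, 2, 5, 4, 5, 4, 5]⟩,
  ⟨65, [(181, false), (88, false)], [4, 4, 3, 4, 6, 4, 4, 4, 3, 2, 4, 3]⟩,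
  ⟨65, [(88, true), (181, true), (88, true), (181, false), (88, false)], [1, 4, 6, 5, 4, 3, 4, 4, 2, 3, 4, 2, 6]⟩,
  ⟨115, [(181, true), (88, true), (88, false), (181, false)], [2, 6, 3]⟩,
  ⟨98, [(33, false), (33, false), (181, false)], [2, 5, 4, 5, 6, 4, 4, 3, 4, 2]⟩,
  ⟨98, [(88, true), (181, true), (88, true), (33, false), (33, false), (181, false)], [0, 4, 4, 3, 5, 6, 4, 3, 6, 4, 4, 3]⟩,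
  ⟨53, [(88, true), (33, true), (241, true), (181, false), (88, false)], [3, 4, 6, 4, 4, 4, 3, 5, 4, 5]⟩,
  ⟨144, [(33, true), (241, true), (88, true)], [2, 3, 4, 2, 4, 3, 2, 4, 5, 4, 6]⟩,
  ⟨53, [(241, true), (181, true), (181, false), (88, false)], [1, 4, 6, 4, 4, 2, 3, 4, 3, 4]⟩,
  ⟨144, [(88, true), (241, true), (181, true), (88, true)], [1, 5, 6, 4, 2, 4, 2, 3, 4, 3]⟩,
  ⟨144, [(88, true), (33, true), (241, true)], [6, 4, 3, 6, 4, 6, 3, 5, 4, 2, 4, 6]⟩,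
  ⟨89, [(33, false), (181, false), (241, false)], [1, 4, 3, 4, 2, 4, 3, 4, 3, 4, 2, 6]⟩,
  ⟨77, [(33, false), (181, false), (241, false)], [2, 4, 2, 4, 4, 4, 3, 4, 6, 3]⟩,
  ⟨53, [(33, true), (241, true), (88, true), (181, false), (88, false)], [2, 4, 4, 3, 6, 4, 2, 6, 3, 5]⟩,
  ⟨89, [(181, true), (33, true), (33, false), (181, false), (241, false)], [4, 3, 4, 3, 2, 4, 3, 4, 4, 2, 6]⟩,
  ⟨77, [(181, true), (33, true), (33, false), (181, false), (241, false)], [4, 4, 5, 6, 4, 6, 3, 4, 3, 5]⟩,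
  ⟨53, [(88, true), (181, false), (88, false)], [1, 5, 4, 6, 5, 4, 3, 4, 6, 4, 4]⟩,
  ⟨98, [(88, true), (33, true), (241, true), (33, false), (33, false), (181, false)], [4, 2, 3, 4, 6, 3]⟩,
  ⟨98, [(33, true), (241, true), (181, true), (33, false), (33, false), (181, false)], [3, 4, 4, 6, 4, 4, 2, 5, 4, 6, 3, 4]⟩,
  ⟨144, [(88, true), (181, true), (88, true)], [0, 4, 4, 5, 4, 6, 3, 4, 4, 4]⟩,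
  ⟨65, [(88, true), (33, true), (241, true), (181, false), (88, false)], [6, 4, 2, 3, 6, 4, 4, 3, 4]⟩,
  ⟨65, [(33, true), (241, true), (181, true), (181, false), (88, false)], [6, 5, 4, 6, 3, 4, 4, 2, 3, 4, 3, 5]⟩,
  ⟨53, [(181, true), (181, false), (88, false)], [1, 5, 4, 6, 5, 4, 3, 4, 6, 4, 4, 5]⟩,
  ⟨65, [(181, true), (33, true), (33, true), (181, false), (88, false)], [3, 5, 4, 2, 3, 4, 2, 4, 4, 5, 6]⟩,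
  ⟨137, [], [2, 5, 5]⟩,
  ⟨144, [(88, true)], [4, 4, 3, 4, 5, 4, 5, 6, 4, 3, 4, 2]⟩,
  ⟨137, [(88, true), (181, true)], [2, 5, 5]⟩,
  ⟨65, [(33, true), (33, true), (181, false), (88, false)], [2, 6, 4, 3, 2, 4, 6, 5, 4, 3, 4, 4, 3]⟩,
  ⟨65, [(33, true), (181, false), (88, false)], [4, 4, 3, 4, 6, 4, 4, 4, 3, 2, 4, 3]⟩,
  ⟨65, [(88, true), (181, false), (88, false)], [3, 5, 4, 2, 3, 4, 2, 4, 4, 5, 6]⟩,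
  ⟨65, [(181, true), (88, true), (181, true), (33, true), (181, false), (88, false)], [4, 5, 6, 4, 4, 2, 3, 6, 4, 3, 6, 4]⟩,
  ⟨65, [(181, true), (88, true), (181, true), (181, false), (88, false)], [1, 4, 6, 5, 4, 3, 4, 4, 2, 3, 4, 2, 6]⟩,
  ⟨98, [(181, true), (33, true), (33, true), (33, false), (33, false), (181, false)], [0, 5, 4, 5, 4, 3, 5]⟩,
  ⟨174, [], [0, 1, 4, 5, 4, 6, 5]⟩,
  ⟨174, [(88, true), (181, true)], [0, 1, 4, 5, 4, 6, 5]⟩,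
  ⟨98, [(33, true), (33, true), (33, false), (33, false), (181, false)], [2, 5, 4, 2, 4, 2, 6, 3, 4, 6, 5]⟩,
  ⟨98, [(33, true), (33, false), (33, false), (181, false)], [2, 5, 4, 5, 6, 4, 4, 3, 4, 2]⟩,
  ⟨98, [(88, true), (33, false), (33, false), (181, false)], [0, 5, 4, 5, 4, 3, 5]⟩,
  ⟨98, [(181, true), (88, true), (181, true), (33, true), (33, false), (33, false), (181, false)], [0, 4, 4, 3, 6, 4, 4, 3, 6, 4, 3]⟩,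
  ⟨98, [(181, true), (88, true), (181, true), (33, false), (33, false), (181, false)], [0, 4, 4, 3, 5, 6, 4, 3, 6, 4, 4, 3]⟩,
  ⟨144, [(241, true), (88, true)], [2, 6, 3, 4, 2, 4, 3, 2, 4, 2, 4]⟩,
  ⟨53, [(88, true), (241, true), (181, false), (88, false)], [3, 4, 5, 6, 3, 4, 3, 4, 4, 5, 4]⟩,
  ⟨53, [(88, true), (241, true), (181, true), (88, true), (181, false), (88, false)], [3, 4, 6, 3, 4, 3, 4, 5, 4]⟩,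
  ⟨144, [(241, true), (181, true)], [2, 6, 3, 4, 2, 4, 3, 2, 4, 2, 4, 3]⟩,
  ⟨89, [(88, true), (241, true), (33, false), (181, false), (241, false)], [5, 6, 4, 6, 3, 4, 2, 4, 3]⟩,
  ⟨77, [(88, true), (241, true), (33, false), (181, false), (241, false)], [3, 4, 2, 4, 3, 4, 5, 6, 3, 4]⟩,
  ⟨89, [(33, true), (33, false), (181, false), (241, false)], [1, 4, 3, 4, 2, 4, 3, 4, 3, 4, 2, 6, 5]⟩,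
  ⟨77, [(33, true), (33, false), (181, false), (241, false)], [2, 4, 2, 3, 5, 5, 4, 3, 4, 6, 3]⟩,
  ⟨89, [(33, true), (33, true), (33, false), (181, false), (241, false)], [1, 4, 3, 4, 2, 4, 3, 4, 3, 4, 2, 6]⟩,
  ⟨77, [(33, true), (33, true), (33, false), (181, false), (241, false)], [2, 4, 2, 4, 4, 4, 3, 4, 6, 3]⟩,
  ⟨89, [(88, true), (181, true), (88, true), (33, false), (181, false), (241, false)], [4, 3, 4, 6, 4, 3, 4, 2, 3, 6, 4]⟩,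
  ⟨137, [(241, true)], [1, 3, 4, 5, 5, 4, 2, 4, 3, 4, 4]⟩,
  ⟨77, [(88, true), (181, true), (88, true), (33, false), (181, false), (241, false)], [4, 5, 4, 6, 5, 4, 3, 4, 5]⟩,
  ⟨174, [(241, true)], [0, 1, 4, 4, 3, 4, 2, 4, 4, 2, 6, 4]⟩,
  ⟨89, [(181, true), (33, false), (181, false), (241, false)], [4, 3, 4, 3, 2, 4, 3, 4, 4, 2, 6]⟩,
  ⟨77, [(181, true), (33, false), (181, false), (241, false)], [4, 4, 5, 6, 4, 6, 3, 4, 3, 5]⟩,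
  ⟨89, [(33, true), (241, true), (33, true), (33, false), (181, false), (241, false)], [2, 4, 4, 3, 2, 4, 4, 6, 4, 6, 3]⟩,
  ⟨98, [(241, true), (181, true), (88, true), (33, false), (33, false), (181, false)], [4, 6, 4, 3, 2, 4, 3, 6]⟩,
  ⟨174, [(88, true), (33, true), (241, true)], [3, 2, 4, 5, 6, 3, 4, 4, 6, 4]⟩,
  ⟨77, [(33, true), (241, true), (33, true), (33, false), (181, false), (241, false)], [3, 4, 6, 3, 4, 2, 3, 4, 4, 6, 4, 5]⟩,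
  ⟨65, [(241, true), (181, true), (88, true), (181, false), (88, false)], [2, 4, 6, 3, 4, 3, 4, 3, 2, 4, 6, 5]⟩,
  ⟨137, [(88, true), (33, true), (241, true)], [2, 4, 2, 4, 6, 3, 4, 4, 6]⟩,
  ⟨129, [(88, true), (88, false), (181, false)], [2, 4, 4, 5, 4, 3]⟩,
  ⟨174, [(181, true), (241, true)], [3, 2, 4, 5, 6, 3, 4, 4, 6]⟩,
  ⟨137, [(241, true), (88, true), (181, true)], [1, 2, 3, 5, 5, 4, 3, 2, 4, 3]⟩,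
  ⟨98, [(88, true), (241, true), (33, false), (33, false), (181, false)], [4, 2, 3, 4, 5, 6, 3]⟩,
  ⟨98, [(88, true), (33, true), (33, true), (241, true), (33, false), (33, false), (181, false)], [4, 2, 3, 4, 6, 3]⟩,
  ⟨98, [(241, true), (181, true), (33, false), (33, false), (181, false)], [6, 3, 4, 2, 4, 6, 4, 3, 4, 3, 4]⟩,
  ⟨98, [(241, true), (88, true), (181, true), (88, true), (33, false), (33, false), (181, false)], [3, 4, 4, 6, 4, 4, 2, 5, 4, 6, 3, 4]⟩,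
  ⟨115, [(88, true), (88, false), (181, false)], [6, 3, 5]⟩,
  ⟨137, [(181, true), (241, true)], [5, 4, 6, 3, 4, 4, 2, 3, 4, 6]⟩,
  ⟨174, [(241, true), (88, true), (181, true)], [1, 4, 2, 6, 5, 4, 3, 2, 4, 4, 6]⟩,
  ⟨65, [(88, true), (241, true), (181, false), (88, false)], [0, 2, 4, 3, 4, 5, 4, 2, 6, 4]⟩,
  ⟨65, [(88, true), (33, true), (33, true), (241, true), (181, false), (88, false)], [6, 4, 2, 3, 6, 4, 4, 3, 4]⟩,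
  ⟨65, [(241, true), (181, true), (181, false), (88, false)], [6, 5, 4, 6, 3, 4, 4, 2, 3, 4, 3]⟩,
  ⟨65, [(241, true), (88, true), (181, true), (88, true), (181, false), (88, false)], [6, 5, 4, 6, 3, 4, 4, 2, 3, 4, 3, 5]⟩,
  ⟨89, [(241, true), (181, true), (33, true), (33, false), (181, false), (241, false)], [2]⟩,
  ⟨65, [(88, true), (181, true), (181, false), (88, false)], [0]⟩,
  ⟨65, [(181, true), (33, true), (181, false), (88, false)], [0, 4, 3, 4, 3, 4, 2, 6, 4, 6, 4]⟩,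
  ⟨65, [(181, true), (181, false), (88, false)], [3, 5, 4, 2, 3, 4, 2, 4, 4, 5, 6]⟩,
  ⟨137, [(33, true), (33, true)], [2, 5]⟩,
  ⟨137, [(33, true)], [2, 5, 5]⟩,
  ⟨98, [(88, true), (181, true), (33, true), (33, false), (33, false), (181, false)], [3, 4, 4, 3, 5, 6, 4, 3, 6, 4, 4, 4]⟩,
  ⟨77, [(241, true), (181, true), (33, true), (33, false), (181, false), (241, false)], [2, 6, 3]⟩,
  ⟨98, [(88, true), (181, true), (33, false), (33, false), (181, false)], [4, 3, 6, 5, 4, 2, 4, 6, 3, 4, 2]⟩,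
  ⟨65, [(181, true), (88, true), (181, false), (88, false)], [4, 4, 3, 4, 6, 4, 4, 4, 3, 2, 4, 3]⟩,
  ⟨65, [(181, true), (241, true), (181, true), (181, false), (88, false)], [1, 3, 4, 4, 3, 5, 4, 6, 4, 4, 4, 2]⟩,
  ⟨137, [(88, true), (181, true), (33, true)], [2, 5, 5]⟩,
  ⟨137, [(181, true), (88, true), (181, true)], [1, 3, 4, 2, 4, 3, 4, 6, 4, 2, 4]⟩,
  ⟨89, [(181, true), (33, true), (241, true), (33, false), (181, false), (241, false)], [4, 2, 4, 2, 3, 5, 4, 3, 4, 2, 4]⟩,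
  ⟨65, [(88, true), (33, true), (181, false), (88, false)], [3, 5, 4, 2, 3, 4, 2, 4, 4, 5, 6]⟩,
  ⟨65, [(88, true), (33, true), (33, true), (181, false), (88, false)], [3, 5, 4, 2, 3, 4, 2, 4, 4, 5, 6]⟩,
  ⟨98, [(181, true), (33, true), (33, false), (33, false), (181, false)], [0, 5, 4, 5, 4, 3]⟩,
  ⟨98, [(181, true), (33, false), (33, false), (181, false)], [0, 5, 4, 5, 4, 3, 5]⟩,
  ⟨174, [(33, true), (33, true)], [0, 1, 4, 5, 4, 6]⟩,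
  ⟨174, [(33, true)], [0, 1, 4, 5, 4, 6, 5]⟩,
  ⟨65, [(88, true), (181, true), (33, true), (181, false), (88, false)], [0, 1, 4, 4, 2, 4, 3, 4, 4, 6, 4, 6]⟩,
  ⟨98, [(181, true), (88, true), (33, false), (33, false), (181, false)], [2, 5, 4, 5, 6, 4, 4, 3, 4, 2]⟩,
  ⟨98, [(181, true), (241, true), (181, true), (33, false), (33, false), (181, false)], [2, 4, 2, 3, 4, 3, 2, 5, 6, 4, 4]⟩,
  ⟨174, [(88, true), (181, true), (33, true)], [0, 1, 4, 5, 4, 6, 5]⟩,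
  ⟨174, [(181, true), (88, true), (181, true)], [0, 5, 4, 3, 6, 4, 4, 6, 3, 4, 3]⟩,
  ⟨77, [(181, true), (33, true), (241, true), (33, false), (181, false), (241, false)], [2, 4, 2, 3, 4, 2, 3, 4, 2, 3, 5, 4]⟩,
  ⟨98, [(88, true), (33, true), (33, false), (33, false), (181, false)], [0, 5, 4, 5, 4, 3, 5]⟩,
  ⟨98, [(88, true), (33, true), (33, true), (33, false), (33, false), (181, false)], [0, 5, 4, 5, 4, 3, 5]⟩,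
  ⟨89, [(181, true), (88, true), (33, false), (181, false), (241, false)], [1, 4, 3, 4, 2, 4, 3, 4, 3, 4, 2, 6]⟩,
  ⟨137, [(241, true), (33, true)], [4, 4, 4, 3, 5, 4, 6, 3, 5, 4, 3, 4, 4]⟩,
  ⟨77, [(181, true), (88, true), (33, false), (181, false), (241, false)], [2, 4, 2, 4, 4, 4, 3, 4, 6, 3]⟩,
  ⟨174, [(241, true), (33, true)], [1, 3, 4, 2, 4, 2, 3, 4, 3, 4, 5, 5]⟩,
  ⟨89, [(181, true), (241, true), (33, false), (181, false), (241, false)], [2, 4, 4, 2, 3, 4, 6, 4, 4, 3]⟩,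
  ⟨144, [(241, true), (181, true), (88, true)], [4, 3, 5, 4, 2, 4, 4, 6, 3, 4, 6, 5]⟩,
  ⟨98, [(181, true), (33, true), (241, true), (33, false), (33, false), (181, false)], [2, 4, 4, 3, 5, 4, 6, 4, 4, 5]⟩,
  ⟨77, [(181, true), (241, true), (33, false), (181, false), (241, false)], [3, 4, 2, 4, 3, 4, 6, 3, 4, 4]⟩,
  ⟨53, [(241, true), (181, false), (88, false)], [3, 5, 4, 3, 6, 4, 5, 5]⟩,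
  ⟨65, [(181, true), (33, true), (241, true), (181, false), (88, false)], [2, 3, 4, 2, 3, 4, 3, 2, 4, 5, 5]⟩,
  ⟨115, [(88, true), (241, true), (88, true), (88, false), (181, false)], [4, 6, 4, 4, 3, 4, 2, 4, 4, 4, 3, 5]⟩,
  ⟨129, [(88, true), (241, true), (88, true), (88, false), (181, false)], [5, 4, 2, 4, 3, 4, 5, 6, 4, 3, 4, 4]⟩,
  ⟨89, [(241, true), (33, false), (181, false), (241, false)], [4, 3, 4, 2, 4, 3, 6, 4, 2, 3, 5]⟩,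
  ⟨98, [(181, true), (241, true), (33, false), (33, false), (181, false)], [1, 4, 3, 2, 4, 3, 4, 6, 4, 6]⟩,
  ⟨144, [(33, true), (241, true)], [2, 4, 4, 4, 3, 6, 4, 4]⟩,
  ⟨137, [(33, true), (241, true)], [1, 3, 4, 5, 5, 4, 2, 4, 3, 4, 4]⟩,
  ⟨137, [(241, true), (181, true)], [6, 4, 3, 6, 4, 4, 2, 5, 4, 6, 4]⟩,
  ⟨77, [(241, true), (33, false), (181, false), (241, false)], [3, 2, 4, 2, 4, 3, 4, 6, 3, 4, 5]⟩,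
  ⟨65, [(181, true), (241, true), (181, false), (88, false)], [6, 4, 2, 3, 6, 4, 4, 3]⟩,
  ⟨53, [(241, true), (181, true), (88, true), (181, false), (88, false)], [3, 4, 4, 4, 6, 4, 3, 5, 4, 5]⟩,
  ⟨174, [(33, true), (241, true)], [0, 1, 4, 4, 3, 4, 2, 4, 4, 2, 6, 4]⟩,
  ⟨174, [(241, true), (181, true)], [0, 4, 4, 3, 6, 4, 2, 4, 3, 4, 4, 4]⟩,
  ⟨89, [(241, true), (33, true), (33, false), (181, false), (241, false)], [2, 4, 4, 3, 2, 4, 4, 6, 4, 6, 3]⟩,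
  ⟨65, [(88, true), (241, true), (88, true), (181, false), (88, false)], [4, 2, 5, 6, 4, 3, 2, 4, 6, 5]⟩,
  ⟨77, [(241, true), (33, true), (33, false), (181, false), (241, false)], [3, 4, 6, 3, 4, 2, 3, 4, 4, 6, 4, 5]⟩,
  ⟨98, [(88, true), (241, true), (88, true), (33, false), (33, false), (181, false)], [1, 2, 4, 4, 6, 4, 2, 3, 5]⟩,
  ⟨89, [(88, true), (33, true), (33, true), (33, false), (181, false), (241, false)], [4, 3, 4, 3, 2, 4, 3, 4, 4, 2, 6]⟩,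
  ⟨98, [(33, true), (241, true), (88, true), (33, true), (33, false), (33, false), (181, false)], [3, 6, 4, 2, 4, 4, 6, 4, 3, 6, 4, 5]⟩,
  ⟨65, [(181, true), (241, true), (181, true), (33, true), (181, false), (88, false)], [1, 4, 4, 4, 3, 4, 2, 4, 4, 6]⟩,
  ⟨53, [(88, true), (33, true), (241, true), (88, true), (181, false), (88, false)], [0, 3, 4, 4, 6, 4, 6, 3, 4, 5, 5]⟩,
  ⟨98, [(241, true), (33, true), (33, false), (33, false), (181, false)], [4, 6, 4, 3, 2, 4, 3, 6]⟩,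
  ⟨98, [(33, true), (241, true), (33, true), (33, false), (33, false), (181, false)], [4, 6, 4, 3, 2, 4, 3, 6]⟩,
  ⟨137, [(241, true), (181, true), (33, true)], [1, 4, 4, 3, 5, 4, 6, 4, 4]⟩,
  ⟨174, [(88, true), (241, true), (181, true)], [0, 2, 5, 4, 6, 4, 4, 4, 3, 4, 4]⟩,
  ⟨174, [(88, true), (241, true)], [3, 2, 4, 5, 6, 3, 4, 4, 6, 4]⟩,
  ⟨77, [(88, true), (33, true), (33, true), (33, false), (181, false), (241, false)], [4, 4, 5, 6, 4, 6, 3, 4, 3, 5]⟩,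
  ⟨65, [(33, true), (241, true), (88, true), (33, true), (181, false), (88, false)], [3, 6, 4, 3, 4, 2, 3, 4, 4, 6, 3, 2]⟩,
  ⟨98, [(181, true), (241, true), (181, true), (33, true), (33, false), (33, false), (181, false)], [0, 5, 4, 2, 6, 4, 4, 3, 6, 4, 3, 4]⟩,
  ⟨144, [(88, true), (241, true), (181, true)], [1, 2, 6, 4, 2, 3, 5, 4, 3, 4, 2, 4]⟩,
  ⟨65, [(241, true), (33, true), (181, false), (88, false)], [2, 4, 6, 3, 4, 3, 4, 3, 2, 4, 6, 5]⟩,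
  ⟨65, [(33, true), (241, true), (33, true), (181, false), (88, false)], [2, 4, 6, 3, 4, 3, 4, 3, 2, 4, 6, 5]⟩,
  ⟨174, [(241, true), (181, true), (33, true)], [6, 5, 4, 3, 6, 5, 6, 4, 2, 4, 3]⟩,
  ⟨137, [(88, true), (241, true), (181, true)], [0, 3, 4, 3, 4, 6, 4, 2, 4, 2]⟩,
  ⟨137, [(88, true), (241, true)], [2, 4, 2, 4, 6, 3, 4, 4, 6]⟩,
  ⟨137, [(181, true), (33, true)], [2, 6, 4, 2, 3, 4, 3, 2, 4, 4, 3, 5]⟩,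
  ⟨89, [(181, true), (241, true), (88, true), (33, false), (181, false), (241, false)], [0, 3, 6, 4, 3, 6, 4, 3, 6, 4, 4, 2, 6]⟩,
  ⟨98, [(241, true), (181, true), (33, true), (33, false), (33, false), (181, false)], [3, 4, 4, 6, 4, 4, 2, 5, 4, 6, 3, 4]⟩,
  ⟨174, [(181, true), (241, true), (181, true)], [0, 2, 5, 4, 5, 6, 3, 4, 3, 4]⟩,
  ⟨174, [(181, true), (33, true), (241, true)], [3, 2, 4, 5, 6, 3, 4, 4, 6]⟩,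
  ⟨137, [(181, true), (33, true), (241, true)], [1, 4, 2, 5, 5, 4, 3, 4, 3, 2, 4, 4]⟩,
  ⟨98, [(181, true), (241, true), (181, true), (88, true), (33, false), (33, false), (181, false)], [4, 2, 3, 4, 6, 3]⟩,
  ⟨137, [(241, true), (33, true), (33, true)], [1, 2, 3, 4, 4, 3, 2, 4, 4, 3, 5]⟩,
  ⟨137, [(241, true), (181, true), (33, true), (33, true)], [6, 4, 3, 5, 6, 4, 2, 4, 4, 6, 4, 5]⟩,
  ⟨174, [(181, true), (33, true)], [0, 6, 4, 6, 4, 6, 3]⟩,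
  ⟨77, [(181, true), (241, true), (88, true), (33, false), (181, false), (241, false)], [3, 4, 2, 4, 6, 5, 4, 3, 4, 3, 6, 5, 4, 3]⟩,
  ⟨65, [(241, true), (181, true), (33, true), (181, false), (88, false)], [6, 5, 4, 6, 3, 4, 4, 2, 3, 4, 3, 5]⟩,
  ⟨137, [(181, true), (241, true), (181, true)], [0, 2, 4, 6, 4, 3, 4, 5, 4, 6]⟩,
  ⟨65, [(181, true), (241, true), (181, true), (88, true), (181, false), (88, false)], [6, 4, 2, 3, 6, 4, 4, 3, 4]⟩,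
  ⟨174, [(241, true), (33, true), (33, true)], [4, 4, 6, 3, 4, 2, 4, 6, 4, 5]⟩,
  ⟨174, [(241, true), (181, true), (33, true), (33, true)], [2, 3, 6, 4, 3, 2, 4, 4, 6, 3, 4, 5]⟩,
  ⟨89, [(33, true), (241, true), (88, true), (33, false), (181, false), (241, false)], [2, 5, 5]⟩,
  ⟨89, [(241, true), (88, true), (33, false), (181, false), (241, false)], [2]⟩,
  ⟨65, [(88, true), (181, true), (33, true), (33, true), (181, false), (88, false)], [0, 5, 5]⟩,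
  ⟨98, [(88, true), (181, true), (33, true), (33, true), (33, false), (33, false), (181, false)], [2, 6, 3, 4, 4, 6, 4, 3, 2, 4, 2, 4, 6]⟩,
  ⟨174, [(181, true), (33, true), (33, true)], [2, 3, 6, 4, 3, 4, 6, 3, 4, 3, 4, 5, 5]⟩,
  ⟨77, [(241, true), (88, true), (33, false), (181, false), (241, false)], [4, 3, 2, 5, 4, 6, 5, 4, 6]⟩,
  ⟨77, [(33, true), (241, true), (88, true), (33, false), (181, false), (241, false)], [5, 4, 3, 2, 5, 4, 6, 5, 4, 6]⟩,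
  ⟨98, [(33, true), (33, true), (241, true), (33, false), (33, false), (181, false)], [3, 2, 5, 4, 3, 6, 5, 4, 2]⟩,
  ⟨65, [(181, true), (88, true), (33, true), (181, false), (88, false)], [4, 4, 3, 4, 6, 4, 4, 4, 3, 2, 4, 3]⟩,
  ⟨65, [(181, true), (88, true), (33, true), (33, true), (181, false), (88, false)], [4, 4, 3, 4, 6, 4, 4, 4, 3, 2, 4, 3]⟩,
  ⟨98, [(181, true), (88, true), (33, true), (33, false), (33, false), (181, false)], [1, 4, 3, 2, 4, 3, 4, 2, 4, 3, 4, 4, 4]⟩,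
  ⟨65, [(88, true), (33, true), (241, true), (88, true), (181, false), (88, false)], [1, 3, 4, 4, 3, 5, 4, 6, 4, 4, 4, 2]⟩,
  ⟨98, [(88, true), (241, true), (181, true), (88, true), (33, false), (33, false), (181, false)], [2, 4, 4, 3, 5, 4, 6]⟩,
  ⟨65, [(88, true), (241, true), (181, true), (88, true), (181, false), (88, false)], [2, 3, 4, 2, 3, 4, 3, 2, 5]⟩,
  ⟨137, [(33, true), (241, true), (33, true)], [2, 6, 4, 4, 2, 3, 4, 2, 3, 4, 3]⟩,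
  ⟨89, [(33, true), (241, true), (33, false), (181, false), (241, false)], [3, 2, 4, 2, 6, 5]⟩,
  ⟨89, [(33, true), (33, true), (241, true), (33, false), (181, false), (241, false)], [3, 2, 4, 2, 6, 5]⟩,
  ⟨144, [(241, true)], [2, 4, 4, 4, 3, 6, 4, 5, 5, 4]⟩,
  ⟨53, [(33, true), (241, true), (181, false), (88, false)], [3, 5, 4, 3, 6, 4, 4, 4, 5]⟩,
  ⟨115, [(88, true), (241, true), (181, true), (88, true), (88, false), (181, false)], [2, 4, 2, 3, 4, 6, 5, 4, 3, 4, 4, 3]⟩,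
  ⟨137, [(181, true), (33, true), (33, true)], [0, 1, 4, 5, 6, 4, 3, 4, 2, 4]⟩,
  ⟨65, [(33, true), (33, true), (241, true), (181, false), (88, false)], [0, 5, 6, 4, 2, 4, 3, 6, 4, 3, 6]⟩,
  ⟨98, [(181, true), (88, true), (33, true), (33, true), (33, false), (33, false), (181, false)], [2, 5, 4, 5, 6, 4, 4, 3, 4, 2]⟩,
  ⟨98, [(88, true), (33, true), (241, true), (88, true), (33, false), (33, false), (181, false)], [2, 4, 2, 3, 4, 3, 2, 5, 6, 4, 4]⟩,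
  ⟨174, [(33, true), (241, true), (33, true)], [1, 2, 3, 5, 4, 3, 2, 5, 4, 3]⟩,
  ⟨77, [(33, true), (241, true), (33, false), (181, false), (241, false)], [2, 3, 4, 3, 2, 4, 3, 6, 4, 6, 3, 4, 5]⟩,
  ⟨77, [(33, true), (33, true), (241, true), (33, false), (181, false), (241, false)], [2, 3, 4, 3, 2, 4, 3, 6, 4, 6, 3, 4, 5]⟩,
  ⟨129, [(88, true), (241, true), (181, true), (88, true), (88, false), (181, false)], [4, 4, 3, 5, 6, 4, 2, 4, 3]⟩,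
  ⟨89, [(88, true), (33, false), (181, false), (241, false)], [4, 3, 4, 6, 4, 3, 4, 2, 3, 6, 4]⟩,
  ⟨98, [(181, true), (241, true), (33, true), (33, false), (33, false), (181, false)], [2, 4, 4, 3, 4, 5, 6, 4, 6, 5]⟩,
  ⟨53, [(88, true), (241, true), (88, true), (181, false), (88, false)], [0, 3, 4, 5, 6, 3, 4, 4, 3, 5]⟩,
  ⟨77, [(88, true), (33, false), (181, false), (241, false)], [4, 5, 4, 6, 5, 4, 3, 4, 5]⟩,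
  ⟨65, [(181, true), (241, true), (33, true), (181, false), (88, false)], [2, 3, 4, 2, 3, 4, 3, 2, 4, 5, 5, 4]⟩,
  ⟨144, [(88, true), (33, true), (241, true), (88, true)], [1, 6, 4, 2, 3, 5, 4, 2, 3, 4, 4]⟩,
  ⟨115, [(88, true), (241, true), (88, false), (181, false)], [3, 4, 3, 6, 4, 2, 4, 6, 3, 4, 2, 5]⟩,
  ⟨129, [(88, true), (241, true), (88, false), (181, false)], [2, 3, 4, 2, 4, 2, 3, 4, 4, 6, 5]⟩,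
  ⟨89, [(88, true), (33, true), (33, false), (181, false), (241, false)], [4, 3, 4, 3, 2, 4, 3, 4, 4, 2, 6]⟩,
  ⟨98, [(241, true), (33, false), (33, false), (181, false)], [1, 5, 4, 6, 4, 3, 4, 2, 4, 4, 4]⟩,
  ⟨53, [(88, true), (241, true), (181, true), (181, false), (88, false)], [0, 3, 4, 5, 6, 3, 4, 4, 5]⟩,
  ⟨77, [(88, true), (33, true), (33, false), (181, false), (241, false)], [4, 4, 5, 6, 4, 6, 3, 4, 3, 5]⟩,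
  ⟨65, [(241, true), (181, false), (88, false)], [2, 6, 4, 3, 4, 6, 4, 3, 4, 4, 4, 2]⟩,
  ⟨144, [(88, true), (241, true), (88, true)], [3, 6, 4, 3, 4, 2, 4, 3, 2, 4, 3]⟩,
  ⟨65, [(181, true), (241, true), (88, true), (181, false), (88, false)], [0, 4, 3, 4, 2, 4, 3, 4, 4, 5, 4, 6, 4]⟩,
  ⟨115, [(241, true), (88, true), (88, false), (181, false)], [0, 2, 6, 4, 6, 3, 5, 4, 3, 4, 6]⟩,
  ⟨174, [(181, true), (241, true), (181, true), (33, true)], [0, 2, 5, 4, 6, 4, 4, 4, 3, 4, 4]⟩,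
  ⟨98, [(241, true), (181, true), (33, true), (33, true), (33, false), (33, false), (181, false)], [3, 6, 4, 2, 4, 4, 6, 4, 3, 6, 4, 5]⟩,
  ⟨98, [(241, true), (88, true), (33, true), (33, false), (33, false), (181, false)], [3, 6, 4, 2, 4, 4, 6, 4, 3, 6, 4, 5]⟩,
  ⟨98, [(241, true), (33, true), (33, true), (33, false), (33, false), (181, false)], [3, 4, 4, 4, 6, 4, 6, 3, 4, 2]⟩,
  ⟨98, [(241, true), (88, true), (181, true), (33, false), (33, false), (181, false)], [4, 6, 4, 3, 2, 4, 3, 6]⟩,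
  ⟨65, [(181, true), (33, true), (241, true), (88, true), (181, false), (88, false)], [1, 4, 4, 4, 3, 4, 2, 4, 4, 6]⟩,
  ⟨174, [(181, true), (33, true), (241, true), (33, true)], [1, 5, 4, 2, 3, 5, 4, 3, 4, 3, 2, 4]⟩,
  ⟨115, [(241, true), (181, true), (88, true), (88, false), (181, false)], [0, 5, 6, 4, 6, 3, 5, 4, 3, 4, 6]⟩,
  ⟨65, [(33, true), (241, true), (88, true), (181, false), (88, false)], [4, 2, 4, 4, 3, 2, 4, 6, 4, 4, 3, 6]⟩,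
  ⟨98, [(88, true), (241, true), (181, true), (33, false), (33, false), (181, false)], [4, 4, 3, 5, 4, 2, 4, 3, 4, 6, 4, 2]⟩,
  ⟨98, [(181, true), (241, true), (88, true), (33, false), (33, false), (181, false)], [2, 4, 2, 4, 3, 2, 4, 3, 5]⟩,
  ⟨129, [(241, true), (88, true), (88, false), (181, false)], [3, 6, 4, 3, 4, 4, 4, 2, 5, 4, 6]⟩,
  ⟨137, [(181, true), (241, true), (181, true), (33, true)], [0, 3, 4, 3, 4, 6, 4, 2, 4, 2]⟩,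
  ⟨65, [(241, true), (181, true), (33, true), (33, true), (181, false), (88, false)], [3, 6, 4, 3, 4, 2, 3, 4, 4, 6, 3, 2]⟩,
  ⟨65, [(241, true), (88, true), (33, true), (181, false), (88, false)], [3, 6, 4, 3, 4, 2, 3, 4, 4, 6, 3, 2]⟩,
  ⟨65, [(241, true), (33, true), (33, true), (181, false), (88, false)], [0, 4, 3, 5, 4, 2, 4, 4, 3, 6, 4, 3, 5]⟩,
  ⟨65, [(241, true), (88, true), (181, true), (181, false), (88, false)], [2, 4, 6, 3, 4, 3, 4, 3, 2, 4, 6, 5]⟩,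
  ⟨98, [(181, true), (33, true), (241, true), (88, true), (33, false), (33, false), (181, false)], [0, 5, 4, 2, 6, 4, 4, 3, 6, 4, 3, 4]⟩,
  ⟨137, [(181, true), (33, true), (241, true), (33, true)], [2, 4, 4, 3, 6, 4, 3, 6, 4, 4, 6]⟩,
  ⟨129, [(241, true), (181, true), (88, true), (88, false), (181, false)], [1, 4, 2, 5, 6, 4, 4, 2, 6]⟩,
  ⟨98, [(33, true), (241, true), (88, true), (33, false), (33, false), (181, false)], [3, 4, 4, 5, 6, 4, 3, 4, 3, 6, 4]⟩,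
  ⟨65, [(88, true), (241, true), (181, true), (181, false), (88, false)], [1, 2, 6, 4, 4, 4, 3, 4]⟩,
  ⟨137, [(181, true)], [2, 6, 4, 2, 3, 4, 3, 2, 4, 4, 3]⟩,
  ⟨89, [(88, true), (241, true), (181, true), (33, false), (181, false), (241, false)], [3, 4, 4, 3, 6, 4, 5, 5, 4, 3, 2]⟩,
  ⟨89, [(241, true), (181, true), (33, false), (181, false), (241, false)], [3, 4, 2, 4, 4, 3, 6, 4, 4, 6, 4, 3]⟩,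
  ⟨89, [(241, true), (88, true), (181, true), (88, true), (33, false), (181, false), (241, false)], [2, 4, 3, 5, 4, 2, 4, 4, 3, 6, 4, 3]⟩,
  ⟨129, [(241, true), (88, false), (181, false)], [2, 5, 4, 2, 3, 4, 2, 4, 3, 4, 5, 6, 4]⟩,
  ⟨65, [(241, true), (88, true), (241, true), (181, false), (88, false)], [1, 4, 4, 6, 4, 3, 2, 4, 5, 4, 6, 4]⟩,
  ⟨98, [(241, true), (88, true), (33, false), (33, false), (181, false)], [3, 4, 4, 6, 4, 4, 2, 5, 4, 6, 3, 4]⟩,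
  ⟨65, [(241, true), (88, true), (181, false), (88, false)], [3, 6, 4, 2, 4, 5, 6]⟩,
  ⟨98, [(33, true), (241, true), (33, false), (33, false), (181, false)], [2, 3, 4, 3, 6, 4, 3, 6, 5, 4, 2, 3, 6]⟩,
  ⟨98, [(181, true), (33, true), (241, true), (33, true), (33, false), (33, false), (181, false)], [4, 2, 3, 4, 6, 3]⟩,
  ⟨174, [(181, true)], [1, 5, 4, 5, 4, 3]⟩,
  ⟨77, [(88, true), (241, true), (181, true), (33, false), (181, false), (241, false)], [0, 2, 5, 4, 5, 6, 3, 4, 2, 6, 5]⟩,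
  ⟨77, [(241, true), (181, true), (33, false), (181, false), (241, false)], [6, 4, 6, 4, 3, 4, 4, 3, 5]⟩,
  ⟨77, [(241, true), (88, true), (181, true), (88, true), (33, false), (181, false), (241, false)], [4, 4, 5, 4, 6, 3, 4, 3]⟩,
  ⟨115, [(241, true), (88, false), (181, false)], [2, 3, 5, 4, 6, 4, 3, 4, 6, 3, 4, 4, 3]⟩,
  ⟨98, [(241, true), (88, true), (241, true), (33, false), (33, false), (181, false)], [2, 3, 4, 2, 4, 3, 2, 4, 4, 6, 3, 4]⟩,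
  ⟨65, [(33, true), (241, true), (181, false), (88, false)], [6, 4, 6, 4, 2, 3, 4, 4, 2, 5, 4]⟩,
  ⟨65, [(181, true), (33, true), (241, true), (33, true), (181, false), (88, false)], [6, 4, 2, 3, 6, 4, 4, 3, 4]⟩,
  ⟨65, [(33, true), (241, true), (88, true), (241, true), (181, false), (88, false)], [4, 2, 5, 6, 4, 3, 2, 4, 6, 5]⟩,
  ⟨77, [(241, true), (88, true), (241, true), (33, false), (181, false), (241, false)], [6, 4, 2, 4, 2, 3, 4, 2, 4, 3, 4]⟩,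
  ⟨98, [(33, true), (241, true), (88, true), (241, true), (33, false), (33, false), (181, false)], [1, 2, 4, 4, 6, 4, 2, 3, 5]⟩,
  ⟨89, [(241, true), (88, true), (241, true), (33, false), (181, false), (241, false)], [2, 6, 4, 4, 3, 2, 4, 3, 4, 2, 4, 3]⟩,
  ⟨98, [(241, true), (181, true), (88, true), (33, true), (33, false), (33, false), (181, false)], [3, 4, 4, 4, 4, 3, 4, 6, 4, 3, 4, 4]⟩,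
  ⟨174, [(181, true), (241, true), (33, true)], [2, 4, 2, 3, 5, 4, 6, 4, 5, 4, 6]⟩,
  ⟨65, [(241, true), (181, true), (88, true), (33, true), (181, false), (88, false)], [6, 4, 2, 4, 4, 3, 2, 4, 6]⟩,
  ⟨137, [(181, true), (241, true), (33, true)], [0, 2, 4, 5, 6, 3, 4, 3, 4, 6, 5, 4]⟩,
  ⟨89, [(241, true), (88, true), (33, true), (33, false), (181, false), (241, false)], [2]⟩,
  ⟨77, [(241, true), (88, true), (33, true), (33, false), (181, false), (241, false)], [5, 5, 4, 2, 4, 3, 4, 6, 5, 4, 3, 4]⟩]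

noncomputable def coverEdge9 : List Step := [⟨62, [(87, false), (34, false)], [5, 6, 3]⟩,
  ⟨182, [], []⟩,
  ⟨183, [], [2, 5, 5]⟩,
  ⟨183, [(34, true)], [0, 1, 3]⟩,
  ⟨182, [(87, true), (34, true)], [2, 3, 5, 6]⟩,
  ⟨183, [(87, true), (34, true)], [2, 4, 6, 4, 3, 4, 3, 6, 4, 3, 6, 4, 4]⟩,
  ⟨45, [], [5, 4, 5]⟩,
  ⟨182, [(34, true)], [1, 3, 2, 5]⟩,
  ⟨238, [], [6, 5, 6]⟩,
  ⟨238, [(34, true), (34, true), (34, true), (34, true), (34, true)], [6, 4, 6, 3, 2, 4, 6, 5]⟩,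
  ⟨182, [(34, true), (87, true), (34, true)], [6, 5]⟩,
  ⟨183, [(34, true), (87, true), (34, true)], [3, 4, 4, 6, 4, 3, 4, 4, 4, 6, 4, 3, 4]⟩,
  ⟨62, [(34, true), (87, true), (87, false), (34, false)], [1, 2]⟩,
  ⟨212, [], [6, 4, 6, 4, 2, 3, 4, 4, 2, 5, 4]⟩,
  ⟨193, [], [1, 4, 4, 5, 4, 3, 2, 4, 4, 4, 5]⟩,
  ⟨45, [(34, true), (87, true)], [2, 3, 4, 4, 2, 3, 4, 2, 3, 4, 6]⟩,
  ⟨193, [(87, true), (34, true)], [3, 6, 4, 2, 3, 4, 2, 4, 3, 4, 5, 5, 4]⟩,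
  ⟨212, [(87, true), (34, true), (87, true), (34, true)], [0, 2, 4, 2, 4, 4, 3, 4, 4, 6, 4, 2]⟩,
  ⟨331, [], [0, 5, 6, 4, 6]⟩,
  ⟨331, [(34, true), (34, true), (34, true), (34, true), (34, true)], [1, 4, 6, 4, 3, 2, 4, 4, 5, 6]⟩,
  ⟨238, [(34, true), (34, true), (34, true)], [1, 6, 4, 2, 3, 4, 4, 5, 4, 6]⟩,
  ⟨238, [(34, true), (34, true), (34, true), (34, true)], [0, 1]⟩,
  ⟨238, [(34, true), (34, true)], [6, 5, 6]⟩,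
  ⟨388, [], [0, 6, 4, 6, 4, 2, 6]⟩,
  ⟨460, [], [5, 4, 5, 4, 5]⟩,
  ⟨238, [(34, true)], [6, 4, 6, 3, 2, 4, 6, 5]⟩,
  ⟨460, [(34, true)], [0, 2, 5, 4, 2, 4, 3, 4, 4, 2, 5]⟩,
  ⟨388, [(34, true)], [4, 3, 4, 2, 6, 5, 6]⟩,
  ⟨182, [(87, true)], [0, 3, 6]⟩,
  ⟨404, [], [0, 2, 5, 6]⟩,
  ⟨404, [(87, true), (34, true), (87, true)], [4, 3, 4, 2, 5, 5, 4, 3, 4, 6]⟩,
  ⟨183, [(87, true)], [4, 3, 6, 5, 4, 2, 4, 3, 5, 6, 4, 2, 4]⟩,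
  ⟨260, [], [1, 3, 2, 4, 5, 4, 5]⟩,
  ⟨260, [(87, true), (34, true), (87, true)], [2, 4, 4, 3, 2, 5, 4, 5, 6, 4, 3, 4]⟩,
  ⟨45, [(87, true)], [5, 4, 2, 5, 6, 3]⟩,
  ⟨76, [(87, false), (34, false)], [3, 4, 2, 3, 5, 4, 3, 4, 6, 3, 4, 3, 5]⟩,
  ⟨48, [], []⟩,
  ⟨62, [(87, true), (87, false), (34, false)], [2, 3, 5, 6]⟩,
  ⟨212, [(34, true), (34, true), (34, true)], [2, 4, 6, 4, 5, 6, 3, 4, 6]⟩,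
  ⟨212, [(34, true), (34, true), (34, true), (34, true)], [4, 4, 2, 3, 5, 4, 6, 4, 3, 4, 4, 5]⟩,
  ⟨212, [(34, true), (34, true)], [6, 4, 6, 4, 2, 3, 4, 4, 2, 5, 4]⟩,
  ⟨212, [(87, true), (34, true), (34, true)], [0, 1, 3, 4, 2, 4, 4, 3, 4, 4, 6, 4, 3]⟩,
  ⟨193, [(34, true), (34, true), (34, true), (34, true)], [1, 4, 4, 5, 4, 3, 2, 4, 4, 4]⟩,
  ⟨193, [(34, true), (34, true)], [1, 4, 4, 5, 4, 3, 2, 4, 4, 4, 5]⟩,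
  ⟨48, [(34, true), (87, true), (34, true)], [2, 3, 5, 4, 3, 6, 4, 3, 4, 6, 4, 2]⟩,
  ⟨76, [(34, true), (87, true), (87, false), (34, false)], [1, 3, 5]⟩,
  ⟨193, [(87, true), (34, true), (87, true)], [2, 6, 3, 4, 2, 3, 4, 3, 2, 5, 4, 5]⟩,
  ⟨193, [(34, true), (87, true), (34, true), (87, true)], [4, 4, 6, 5, 4, 3, 4, 6, 3, 4, 2, 6]⟩,
  ⟨193, [(87, true), (34, true), (34, true), (34, true)], [3, 6, 4, 2, 3, 4, 2, 4, 3, 4, 5, 5, 4]⟩,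
  ⟨193, [(34, true), (34, true), (34, true)], [1, 5, 4, 2, 3, 5]⟩,
  ⟨212, [(34, true), (87, true), (34, true), (34, true)], [2, 4, 6, 4, 4, 3, 6, 4, 2, 4, 6]⟩,
  ⟨212, [(34, true), (87, true)], [0, 2, 4, 2, 4, 4, 3, 4, 4, 6, 4, 2]⟩,
  ⟨331, [(34, true), (34, true), (34, true)], [4, 6, 4, 2, 3, 6, 4, 4, 4, 6, 5]⟩,
  ⟨331, [(34, true), (34, true), (34, true), (34, true)], [0, 5, 6, 4, 6, 5]⟩,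
  ⟨331, [(34, true), (34, true)], [0, 5, 6, 4, 6]⟩,
  ⟨331, [(34, true)], [1, 4, 6, 4, 3, 2, 4, 4, 5, 6]⟩,
  ⟨460, [(34, true), (34, true), (34, true)], [4, 4, 2, 3, 4, 4, 4, 4, 3, 2]⟩,
  ⟨388, [(34, true), (34, true), (34, true)], [4, 3, 4, 2, 5, 4, 6, 5, 6]⟩,
  ⟨388, [(34, true), (34, true)], [1, 4, 4, 5, 4, 2]⟩,
  ⟨460, [(34, true), (34, true)], [4, 4, 5, 4]⟩,
  ⟨388, [(34, true), (34, true), (34, true), (34, true)], [0, 6, 4, 6, 4, 2, 6]⟩,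
  ⟨460, [(34, true), (34, true), (34, true), (34, true)], [5, 4, 5, 4, 5]⟩,
  ⟨388, [(87, true), (34, true), (87, true)], [1, 4, 2, 4, 5, 5]⟩,
  ⟨260, [(34, true), (34, true), (34, true)], [2, 3, 4, 4, 3, 2, 4, 5, 5]⟩,
  ⟨460, [(87, true), (34, true), (87, true)], [5, 5, 4, 3]⟩,
  ⟨404, [(34, true), (34, true), (34, true)], [1, 2, 6, 5, 4, 3, 2, 4, 4, 5]⟩,
  ⟨460, [(34, true), (34, true), (34, true), (34, true), (34, true)], [0, 2, 5, 4, 2, 4, 3, 4, 4, 2, 5]⟩,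
  ⟨388, [(34, true), (34, true), (34, true), (34, true), (34, true)], [4, 3, 4, 2, 6, 5, 6]⟩,
  ⟨460, [(34, true), (87, true), (34, true), (34, true)], [4, 4, 2, 3, 4, 4, 4, 4, 3]⟩,
  ⟨508, [], [2, 6, 4, 4, 4, 5, 6]⟩,
  ⟨404, [(87, true), (34, true)], [0, 2, 4, 3, 6, 5, 4, 6, 3, 4, 2, 4]⟩,
  ⟨388, [(34, true), (87, true), (34, true), (34, true)], [4, 2, 4, 3, 5, 4, 2, 6, 5, 6]⟩,
  ⟨503, [], [0]⟩,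
  ⟨260, [(87, true), (34, true)], [0, 4, 2, 4, 4, 6, 4, 3, 4, 3, 6]⟩,
  ⟨183, [(34, true), (87, true)], [6, 3, 2]⟩,
  ⟨503, [(34, true), (87, true), (34, true)], [3, 4, 6, 5, 4, 2, 4, 3, 2, 4, 4, 5]⟩,
  ⟨515, [], [2, 6, 3, 4, 2, 4, 5, 5]⟩,
  ⟨404, [(34, true), (34, true), (34, true), (34, true)], [0, 2, 6, 5]⟩,
  ⟨404, [(34, true), (34, true)], [0, 2, 5, 6]⟩,
  ⟨404, [(34, true), (87, true), (34, true)], [4, 3, 4, 2, 4, 4, 3, 4, 4, 6]⟩,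
  ⟨404, [(87, true), (34, true), (87, true), (34, true), (34, true)], [4, 3, 4, 2, 5, 5, 4, 3, 4, 6]⟩,
  ⟨182, [(34, true), (87, true)], [3, 4, 6, 4, 3, 4, 3, 6, 4, 5, 6, 3, 4]⟩,
  ⟨508, [(34, true), (87, true), (34, true)], [4, 3, 4, 2, 4, 2, 6, 3, 5, 4, 6]⟩,
  ⟨560, [], [0, 4, 6, 4, 3, 5, 6]⟩,
  ⟨260, [(34, true), (34, true), (34, true), (34, true)], [1, 3, 2, 4, 5, 4]⟩,
  ⟨260, [(34, true), (34, true)], [1, 3, 2, 4, 5, 4, 5]⟩,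
  ⟨260, [(34, true), (87, true), (34, true)], [4, 3, 6, 4, 6, 4, 4, 6, 3, 4, 4, 2]⟩,
  ⟨260, [(87, true), (34, true), (87, true), (34, true), (34, true)], [2, 4, 4, 3, 2, 5, 4, 5, 6, 4, 3, 4]⟩,
  ⟨93, [], [3, 4, 4, 4, 4, 4]⟩,
  ⟨76, [(87, true), (34, true), (87, false), (34, false)], [2, 4, 3, 4, 2, 3, 5, 4, 3, 4, 4, 6, 4]⟩,
  ⟨76, [(34, true), (87, false), (34, false)], [2, 4, 6, 3, 4, 3, 2, 5]⟩,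
  ⟨76, [(34, true), (34, true), (87, false), (34, false)], [3, 4, 2, 3, 5, 4, 3, 4, 6, 3, 4, 3, 5]⟩,
  ⟨48, [(34, true), (34, true), (34, true), (34, true)], [5, 5]⟩,
  ⟨48, [(34, true), (34, true)], []⟩,
  ⟨48, [(87, true), (34, true), (87, true), (34, true)], [5, 6, 4, 3, 2, 4, 4, 5, 6, 4, 6]⟩,
  ⟨54, [], [0, 6, 3]⟩,
  ⟨48, [(34, true), (34, true), (34, true)], [0, 4, 3, 4, 4, 6, 4, 4, 4, 3, 4, 6]⟩,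
  ⟨212, [(87, true), (34, true), (87, true), (34, true), (34, true)], [2, 4, 3, 6, 4, 4, 2, 3, 4, 6, 3, 4]⟩,
  ⟨508, [(34, true)], [5, 4, 5, 6, 4, 3, 6, 5, 4, 2, 4, 5]⟩,
  ⟨212, [(34, true), (34, true), (34, true), (34, true), (34, true)], [2, 4, 6, 4, 5, 6, 3, 4, 6]⟩,
  ⟨212, [(34, true)], [2, 4, 6, 4, 5, 6, 3, 4, 6]⟩,
  ⟨388, [(34, true), (87, true), (34, true)], [0, 4, 3, 5, 5, 4, 2, 4, 3, 4, 6, 4, 2]⟩,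
  ⟨212, [(87, true), (34, true), (34, true), (34, true), (34, true)], [0, 1, 3, 4, 2, 4, 4, 3, 4, 4, 6, 4, 3]⟩,
  ⟨212, [(87, true)], [0, 1, 3, 4, 2, 4, 4, 3, 4, 4, 6, 4, 3]⟩,
  ⟨48, [(87, true), (34, true), (34, true), (34, true)], [0, 2, 4, 4, 3, 4, 4, 6, 3, 4, 2]⟩,
  ⟨48, [(87, true), (34, true)], [4, 6, 4, 2, 3, 4, 4, 6, 4, 6]⟩,
  ⟨76, [(34, true), (87, true), (34, true), (87, false), (34, false)], [0, 4, 4, 6, 4, 3, 4, 5, 6, 4, 3, 6]⟩,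
  ⟨76, [(34, true), (87, true), (34, true), (34, true), (87, false), (34, false)], [1, 3, 5]⟩,
  ⟨76, [(87, true), (87, false), (34, false)], [2, 4, 6, 3, 4, 5, 5, 4, 3, 2]⟩,
  ⟨193, [(87, true), (34, true), (34, true), (34, true), (34, true)], [3, 6, 4, 4, 3, 6, 4, 4, 2, 3]⟩,
  ⟨503, [(34, true)], [5, 5, 4, 2, 3, 4, 3, 2, 4]⟩,
  ⟨193, [(87, true), (34, true), (87, true), (34, true), (34, true)], [2, 6, 3, 4, 2, 3, 4, 3, 2, 5, 4, 5]⟩,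
  ⟨193, [(34, true), (87, true), (34, true)], [2, 6, 3, 4, 2, 3, 4, 3, 2, 5, 4, 5]⟩,
  ⟨460, [(34, true), (87, true), (34, true)], [2, 6, 4, 3, 4, 2, 4, 3, 2, 4, 3, 5]⟩,
  ⟨193, [(34, true), (34, true), (34, true), (34, true), (34, true)], [1, 5, 4, 2, 3, 5]⟩,
  ⟨193, [(34, true)], [1, 5, 4, 2, 3, 5]⟩,
  ⟨460, [(87, true), (34, true), (87, true), (34, true)], [2, 5, 4, 2, 4, 2, 3]⟩,
  ⟨503, [(34, true), (87, true), (34, true), (34, true)], [4, 2, 4, 4, 6, 4, 3, 4, 2, 5, 5]⟩,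
  ⟨388, [(87, true), (34, true), (87, true), (34, true)], [1, 4, 2, 4, 2, 3, 4, 4, 5, 4, 2]⟩,
  ⟨508, [(34, true), (87, true), (34, true), (34, true)], [0, 3, 4, 4, 3, 5, 6, 4, 3, 6, 4, 2]⟩,
  ⟨388, [(87, true), (34, true), (87, true), (34, true), (34, true)], [1, 4, 2, 4]⟩,
  ⟨238, [(87, true), (34, true), (34, true)], [0, 3, 4, 4, 4, 6, 4, 3, 6, 4, 4]⟩,
  ⟨508, [(87, true)], [0, 4, 2, 4, 3, 5, 6, 4, 6, 3]⟩,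
  ⟨460, [(87, true), (34, true), (87, true), (34, true), (34, true)], [4, 4, 3]⟩,
  ⟨331, [(87, true), (34, true), (34, true)], [1, 2, 3, 4, 2, 4, 3, 2, 4, 2, 4, 2]⟩,
  ⟨503, [(87, true)], [6, 4, 5, 4, 2, 3, 4, 5, 6, 4]⟩,
  ⟨238, [(87, true), (34, true), (87, true), (34, true)], [4, 4, 4, 6, 4, 3, 2, 6, 5]⟩,
  ⟨331, [(87, true), (34, true), (87, true), (34, true)], [0, 2, 4, 3, 4, 2, 4, 4, 4, 3, 5, 4, 2]⟩,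
  ⟨460, [(87, true), (34, true)], [3, 4, 3, 2, 4, 3, 4, 5, 4, 2, 5, 4]⟩,
  ⟨508, [(87, true), (34, true), (34, true), (34, true), (34, true)], [0, 2, 4, 3, 5, 6, 4, 3, 6, 4, 5]⟩,
  ⟨238, [(87, true)], [0, 3, 6, 4, 4, 4, 6, 4, 3, 4]⟩,
  ⟨260, [(34, true), (34, true), (34, true), (34, true), (34, true)], [2, 3, 4, 4, 3, 2, 4, 5, 5]⟩,
  ⟨260, [(34, true)], [2, 3, 4, 4, 3, 2, 4, 5, 5]⟩,
  ⟨388, [(87, true), (34, true)], [3, 5, 4, 2, 4, 3, 2, 4, 4, 2, 5]⟩,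
  ⟨503, [(87, true), (34, true), (34, true), (34, true), (34, true)], [1, 4, 5, 4, 6, 4, 4, 3, 2, 4, 3]⟩,
  ⟨331, [(87, true)], [1, 2, 3, 4, 2, 4, 3, 2, 4, 2, 4, 2, 5, 5]⟩,
  ⟨404, [(34, true), (34, true), (34, true), (34, true), (34, true)], [1, 2, 6, 5, 4, 3, 2, 4, 4, 5]⟩,
  ⟨404, [(34, true)], [1, 2, 6, 5, 4, 3, 2, 4, 4, 5]⟩,
  ⟨460, [(34, true), (87, true)], [4, 4, 2, 3, 4, 4, 4, 4, 3]⟩,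
  ⟨508, [(34, true), (34, true), (34, true)], [3, 4, 3, 2, 5, 4, 3, 4, 6, 3, 4, 3]⟩,
  ⟨388, [(34, true), (87, true)], [4, 2, 4, 3, 5, 4, 2, 6, 5, 6]⟩,
  ⟨503, [(34, true), (34, true), (34, true)], [0, 5, 4, 2, 4, 4, 3, 4, 2, 4, 4]⟩,
  ⟨460, [(87, true)], [3, 4, 2, 4, 4, 3, 4, 4, 2, 3, 4]⟩,
  ⟨515, [(34, true), (87, true)], [0, 1, 2, 4, 2, 4, 2, 6]⟩,
  ⟨560, [(34, true), (87, true), (34, true)], [2, 4, 6, 5, 4, 3, 2, 6, 4, 4, 6]⟩,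
  ⟨331, [(87, true), (34, true), (34, true), (34, true)], [0, 3, 6, 5, 4, 3, 4, 2, 4, 4, 5, 6]⟩,
  ⟨508, [(34, true), (34, true)], [2, 6, 4, 4, 4, 5, 6]⟩,
  ⟨508, [(34, true), (34, true), (34, true), (34, true)], [2, 6, 4, 4, 4, 5, 6]⟩,
  ⟨503, [(34, true), (87, true)], [4, 2, 4, 2, 3, 4, 6, 3, 5, 4, 2, 4]⟩,
  ⟨404, [(87, true), (34, true), (34, true), (34, true)], [0, 2, 4, 3, 6, 5, 4, 6, 3, 4, 2, 4]⟩,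
  ⟨404, [(34, true), (87, true), (34, true), (87, true)], [0, 2, 4, 3, 6, 5, 4, 6, 3, 4, 2, 4]⟩,
  ⟨388, [(87, true)], [4, 2, 3, 4, 2, 4, 3, 4, 2, 4, 4, 3]⟩,
  ⟨560, [(34, true), (87, true)], [1, 3, 4, 4, 2, 3, 4, 3, 4, 2, 4, 5]⟩,
  ⟨515, [(34, true), (87, true), (34, true)], [6, 4, 6, 4, 2, 4, 3, 2]⟩,
  ⟨238, [(87, true), (34, true), (34, true), (34, true)], [1, 3, 5, 4, 3, 2, 4, 4, 5, 4]⟩,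
  ⟨503, [(34, true), (34, true)], [0]⟩,
  ⟨503, [(34, true), (34, true), (34, true), (34, true)], [0]⟩,
  ⟨508, [(34, true), (87, true)], [2, 4, 2, 4, 3, 6, 4, 4, 3, 6, 4, 3, 4]⟩,
  ⟨260, [(87, true), (34, true), (34, true), (34, true)], [0, 4, 2, 4, 4, 6, 4, 3, 4, 3, 6]⟩,
  ⟨260, [(34, true), (87, true), (34, true), (87, true)], [0, 4, 2, 4, 4, 6, 4, 3, 4, 3, 6]⟩,
  ⟨193, [(34, true), (87, true)], [2, 5, 4, 3, 4, 5, 6, 4, 3, 4, 3, 4]⟩,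
  ⟨202, [], [0, 1, 5, 4, 5, 4, 2]⟩,
  ⟨508, [(34, true), (87, true), (34, true), (87, true)], [1, 3, 4, 6, 4, 4, 2, 3, 4, 3, 5]⟩,
  ⟨503, [(87, true), (34, true), (87, true), (34, true), (34, true)], [3, 4, 6, 5, 4, 2, 4, 3, 2, 4, 4]⟩,
  ⟨503, [(87, true), (34, true), (87, true)], [3, 4, 6, 5, 4, 2, 4, 3, 2, 4, 4, 5]⟩,
  ⟨508, [(87, true), (34, true), (87, true)], [0, 3, 4, 3, 5, 6, 4, 6, 3, 4, 5]⟩,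
  ⟨515, [(34, true), (34, true), (34, true)], [3, 2, 6, 5, 4, 2, 4, 3, 4, 2, 4, 2, 5]⟩,
  ⟨515, [(34, true), (34, true), (34, true), (34, true)], [2, 6, 3, 4, 2, 4, 5]⟩,
  ⟨515, [(34, true), (34, true)], [2, 6, 3, 4, 2, 4, 5, 5]⟩,
  ⟨212, [(87, true), (34, true), (34, true), (34, true)], [4, 4, 6, 3, 4, 4, 3, 2, 4, 2, 4, 6]⟩,
  ⟨412, [], [5, 6, 3]⟩,
  ⟨503, [(34, true), (87, true), (34, true), (87, true)], [2, 4, 3, 6, 4, 3, 4, 3, 5, 5]⟩,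
  ⟨508, [(87, true), (34, true), (87, true), (34, true), (34, true)], [4, 3, 6, 4, 2, 4, 2, 3, 4, 2]⟩,
  ⟨560, [(34, true), (34, true), (34, true)], [5, 6, 4, 2, 3, 4, 3, 2, 4, 3]⟩,
  ⟨560, [(34, true), (34, true), (34, true), (34, true)], [0, 4, 6, 4, 3, 6, 5]⟩,
  ⟨560, [(34, true), (34, true)], [0, 4, 6, 4, 3, 5, 6]⟩,
  ⟨93, [(34, true)], [6, 4, 2, 4, 4, 2, 3, 4, 2, 4, 3, 6]⟩,
  ⟨93, [(34, true), (34, true)], [3, 4, 4, 4, 4, 4]⟩,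
  ⟨76, [(87, true), (34, true), (34, true), (87, false), (34, false)], [0, 1, 2, 5, 4, 6, 4, 3, 4, 4, 6]⟩,
  ⟨48, [(34, true)], [4, 4, 6, 3, 4, 5, 5, 4, 2, 3, 4]⟩,
  ⟨212, [(34, true), (87, true), (34, true), (87, true)], [1, 4, 2, 4, 4, 3, 4, 4, 6, 4, 3, 4, 3]⟩,
  ⟨54, [(34, true), (34, true)], [2, 4, 2, 3, 5, 4, 6, 5, 4, 6]⟩,
  ⟨54, [(34, true)], [0, 5, 4, 5, 4, 2, 5, 4, 3, 6]⟩,
  ⟨260, [(87, true)], [2, 6, 4, 4, 6, 3, 4, 2, 3, 4, 6]⟩,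
  ⟨212, [(34, true), (87, true), (34, true)], [2, 4, 3, 6, 4, 4, 2, 3, 4, 6, 3, 4]⟩,
  ⟨212, [(87, true), (34, true), (87, true)], [2, 4, 3, 6, 4, 4, 2, 3, 4, 6, 3, 4]⟩,
  ⟨193, [(87, true)], [4, 2, 4, 3, 2, 6, 4, 4, 3]⟩,
  ⟨508, [(34, true), (34, true), (34, true), (34, true), (34, true)], [5, 4, 5, 6, 4, 3, 6, 5, 4, 2, 4, 5]⟩,
  ⟨508, [(87, true), (34, true), (34, true)], [0, 6, 4, 4, 6, 4, 3, 4, 2, 4, 6]⟩,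
  ⟨503, [(87, true), (34, true), (34, true)], [6, 4, 4, 2, 6, 3, 4, 4, 2, 3]⟩,
  ⟨503, [(87, true), (34, true), (87, true), (34, true)], [4, 2, 4, 2, 3, 4, 5, 6, 3, 4, 4, 2]⟩,
  ⟨460, [(87, true), (34, true), (34, true), (34, true)], [2, 6, 4, 2, 4, 3, 4, 4, 3, 5]⟩,
  ⟨460, [(34, true), (87, true), (34, true), (87, true)], [2, 6, 4, 2, 4, 3, 4, 4, 3, 5]⟩,
  ⟨238, [(87, true), (34, true), (34, true), (34, true), (34, true)], [0, 3, 4, 4, 4, 6, 4, 3, 6, 5, 4]⟩,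
  ⟨331, [(87, true), (34, true), (34, true), (34, true), (34, true)], [1, 2, 3, 4, 2, 4, 3, 4, 2, 5, 5, 4, 2]⟩,
  ⟨238, [(34, true), (87, true)], [1, 2, 4, 4, 6, 4, 3, 4, 3, 4]⟩,
  ⟨193, [(34, true), (87, true), (34, true), (34, true)], [1, 5, 4, 2, 3, 5, 4]⟩,
  ⟨404, [(87, true)], [3, 2, 4, 6, 5, 4, 2, 4, 3, 4, 4, 5]⟩,
  ⟨193, [(87, true), (34, true), (34, true)], [3, 6, 4, 4, 3, 6, 4, 4, 2, 3]⟩,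
  ⟨503, [(34, true), (34, true), (34, true), (34, true), (34, true)], [5, 5, 4, 2, 3, 4, 3, 2, 4]⟩,
  ⟨508, [(87, true), (34, true), (87, true), (34, true)], [0, 3, 4, 4, 3, 5, 6, 4, 3, 6, 4, 2, 4]⟩,
  ⟨388, [(87, true), (34, true), (34, true), (34, true)], [6, 3, 4, 2, 4, 2, 3, 4, 4, 2, 3, 5]⟩,
  ⟨388, [(34, true), (87, true), (34, true), (87, true)], [6, 3, 4, 2, 4, 2, 3, 4, 4, 2, 3, 5]⟩,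
  ⟨331, [(34, true), (87, true)], [1, 4, 3, 4, 4, 4, 2, 4, 3, 4, 2]⟩,
  ⟨460, [(87, true), (34, true), (34, true)], [3, 4, 2, 3, 4, 2, 3, 4, 4, 2, 5, 4]⟩,
  ⟨515, [(34, true), (34, true), (34, true), (34, true), (34, true)], [3, 4, 2, 3, 4, 2, 3, 4, 4, 6, 3, 5]⟩,
  ⟨331, [(87, true), (34, true)], [4, 4, 2, 4, 6, 4, 4, 3, 2]⟩,
  ⟨388, [(87, true), (34, true), (34, true)], [2, 3, 4, 3, 4, 3, 6, 4, 3, 6, 4, 6, 5]⟩,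
  ⟨560, [(34, true), (34, true), (34, true), (34, true), (34, true)], [1, 4, 3, 4, 3, 4, 6, 4, 3, 4, 4, 2, 5]⟩,
  ⟨238, [(87, true), (34, true)], [1, 3, 4, 4, 4, 4, 3, 2]⟩,
  ⟨238, [(34, true), (87, true), (34, true), (34, true)], [3, 4, 4, 5, 6, 4, 3, 2, 6, 4, 4]⟩,
  ⟨331, [(34, true), (87, true), (34, true), (34, true)], [4, 3, 4, 2, 4, 2, 4, 3, 4, 6, 4, 5]⟩,
  ⟨460, [(87, true), (34, true), (34, true), (34, true), (34, true)], [3, 4, 2, 4, 4, 3, 4, 4, 2, 3, 4]⟩,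
  ⟨260, [(87, true), (34, true), (34, true)], [0, 3, 5, 4, 5, 6, 4, 3, 4, 2, 4, 3]⟩,
  ⟨331, [(34, true), (87, true), (34, true), (87, true)], [0, 3, 6, 5, 4, 3, 4, 2, 4, 4, 5, 6]⟩,
  ⟨388, [(87, true), (34, true), (34, true), (34, true), (34, true)], [4, 2, 3, 4, 2, 4, 3, 4, 2, 4, 4, 3]⟩,
  ⟨404, [(87, true), (34, true), (34, true)], [3, 4, 6, 4, 4, 2, 3, 5, 4, 3]⟩,
  ⟨238, [(34, true), (87, true), (34, true), (87, true)], [1, 3, 5, 4, 3, 2, 4, 4, 5, 4]⟩,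
  ⟨560, [(87, true), (34, true), (87, true)], [3, 4, 4, 3, 6, 4, 5, 5, 4, 2, 4, 3, 4]⟩,
  ⟨331, [(87, true), (34, true), (87, true), (34, true), (34, true)], [5, 6, 4, 6, 3]⟩,
  ⟨560, [(87, true), (34, true), (34, true), (34, true), (34, true)], [4, 2, 3, 5, 4, 2]⟩,
  ⟨515, [(34, true), (87, true), (34, true), (34, true)], [0, 1, 2, 4, 2, 4, 2, 6]⟩,
  ⟨515, [(87, true), (34, true), (87, true), (34, true)], [0, 1, 2, 4, 2, 4, 2, 6]⟩,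
  ⟨515, [(87, true), (34, true), (34, true), (34, true)], [3, 6, 4, 5, 5, 4, 2, 3, 4, 3, 4, 4]⟩,
  ⟨515, [(34, true), (87, true), (34, true), (87, true)], [1, 3, 4, 5, 4, 6, 4, 3, 4, 2, 4, 5, 6]⟩,
  ⟨560, [(87, true), (34, true), (87, true), (34, true), (34, true)], [2, 4, 6, 5, 4, 3, 2, 6, 4, 4, 6]⟩,
  ⟨560, [(87, true), (34, true), (34, true)], [1, 2, 3, 4, 2, 3, 4, 4, 6, 4, 3, 5]⟩,
  ⟨331, [(34, true), (87, true), (34, true)], [4, 4, 4, 6, 5, 4]⟩,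
  ⟨503, [(87, true), (34, true), (34, true), (34, true)], [4, 3, 2, 5, 4, 3, 4, 2, 4, 3, 5, 6, 4]⟩,
  ⟨260, [(34, true), (87, true)], [1, 4, 2, 4, 4, 6, 4, 3, 4, 2, 3]⟩,
  ⟨515, [(87, true), (34, true), (87, true)], [0, 2, 4, 2, 4, 6, 4, 6, 3]⟩,
  ⟨238, [(87, true), (34, true), (87, true), (34, true), (34, true)], [2, 6, 5, 6]⟩,
  ⟨515, [(87, true), (34, true), (34, true), (34, true), (34, true)], [5, 4, 3, 4, 2, 3, 4, 4, 6, 3, 2, 5]⟩,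
  ⟨560, [(34, true), (87, true), (34, true), (34, true)], [1, 3, 4, 4, 2, 3, 4, 3, 4, 2, 4, 5]⟩,
  ⟨560, [(87, true), (34, true), (87, true), (34, true)], [1, 3, 4, 4, 2, 3, 4, 3, 4, 2, 4, 5]⟩,
  ⟨560, [(87, true), (34, true), (34, true), (34, true)], [6, 4, 5, 4, 2, 3, 4, 4, 2, 5]⟩,
  ⟨560, [(34, true), (87, true), (34, true), (87, true)], [4, 4, 2, 4, 3, 4, 6, 4, 4, 4, 5]⟩,
  ⟨515, [(87, true), (34, true), (87, true), (34, true), (34, true)], [6, 4, 6, 4, 2, 4, 3, 2]⟩,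
  ⟨515, [(87, true), (34, true), (34, true)], [3, 4, 3, 6, 4, 4, 2, 6]⟩,
  ⟨238, [(34, true), (87, true), (34, true)], [0, 1, 4, 4, 5, 4]⟩,
  ⟨508, [(87, true), (34, true), (34, true), (34, true)], [1, 5, 4, 3, 5, 4, 2, 4, 2, 3, 4, 3, 5]⟩,
  ⟨404, [(34, true), (87, true)], [5, 4, 6, 4, 2, 3, 5, 4, 5]⟩,
  ⟨193, [(87, true), (34, true), (87, true), (34, true)], [2, 5, 4, 3, 4, 6, 3, 4, 3, 4, 5, 4]⟩,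
  ⟨202, [(87, true)], [5, 6, 4, 2, 4, 3, 2, 4, 4, 6, 4]⟩,
  ⟨202, [(87, true), (34, true)], [2, 4, 4, 3, 4, 2, 4, 5, 4, 6, 3, 5]⟩,
  ⟨202, [(34, true), (34, true)], [0, 1, 5, 4, 5, 4, 2]⟩,
  ⟨238, [(87, true), (34, true), (87, true)], [2, 4, 2, 4, 3, 4, 5, 6, 4, 3, 4, 5, 4]⟩,
  ⟨404, [(34, true), (87, true), (34, true), (34, true)], [4, 2, 4, 5, 4, 6, 4, 3, 4, 2, 4, 6, 3]⟩,
  ⟨508, [(87, true), (34, true)], [1, 3, 4, 6, 4, 4, 2, 3, 4, 3, 5]⟩,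
  ⟨503, [(87, true), (34, true)], [1, 4, 5, 4, 6, 4, 4, 3, 2, 4, 3]⟩,
  ⟨260, [(87, true), (34, true), (34, true), (34, true), (34, true)], [4, 4, 3, 4, 2, 4, 3, 4, 3, 2, 4]⟩,
  ⟨515, [(34, true)], [3, 2, 6, 5, 4, 2, 4, 3, 4, 2, 4, 2, 5]⟩,
  ⟨212, [(87, true), (34, true)], [5, 4, 5, 6, 4, 6, 3, 4, 2, 4, 6]⟩,
  ⟨412, [(87, true)], [3, 6, 4, 3, 6, 4, 6, 3, 5, 4, 2]⟩,
  ⟨412, [(87, true), (34, true)], [3, 4, 2, 4, 3, 4, 6, 5, 4, 2, 4, 4, 3]⟩,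
  ⟨412, [(34, true), (34, true)], [5, 6, 3]⟩,
  ⟨331, [(87, true), (34, true), (87, true)], [0, 5, 6, 4, 3, 4, 2, 4, 3, 4, 4, 6]⟩,
  ⟨260, [(34, true), (87, true), (34, true), (34, true)], [0, 4, 4, 4, 3, 4, 4, 2, 4, 5]⟩,
  ⟨404, [(87, true), (34, true), (34, true), (34, true), (34, true)], [0, 4, 3, 4, 4, 2, 5, 4, 6, 3, 5, 4]⟩,
  ⟨560, [(34, true)], [5, 6, 4, 2, 3, 4, 3, 2, 4, 3]⟩,
  ⟨404, [(87, true), (34, true), (87, true), (34, true)], [0, 2, 4, 3, 4, 3, 6, 4, 6, 5]⟩,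
  ⟨412, [(87, true), (34, true), (34, true)], [1, 4, 3, 2, 5, 4, 6, 4, 4, 3]⟩,
  ⟨260, [(87, true), (34, true), (87, true), (34, true)], [4, 6, 4, 2, 3, 4, 6, 3]⟩,
  ⟨202, [(87, true), (34, true), (34, true)], [4, 5, 4, 6, 4, 3, 4, 3, 6, 4, 2, 3]⟩,
  ⟨515, [(87, true), (34, true)], [0, 2, 4, 3, 4, 6, 4, 3, 6]⟩,
  ⟨560, [(87, true)], [4, 2, 3, 6, 5, 4, 2, 4, 6, 3, 4, 6]⟩,
  ⟨560, [(87, true), (34, true)], [3, 4, 4, 6, 4, 3, 4, 6, 3, 5, 4]⟩,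
  ⟨515, [(87, true)], [3, 4, 4, 4, 2, 4, 3, 4, 6, 4, 4, 4, 3]⟩,
  ⟨202, [(34, true)], [1, 4, 3, 4, 2, 5, 4, 5]⟩,
  ⟨412, [(34, true)], [4, 2, 6, 4, 4, 6, 4, 3, 4, 2, 4, 3]⟩]

noncomputable def coverEdge10 : List Step := [⟨172, [], [0, 5, 6, 3, 4, 4, 3, 5, 4]⟩,
  ⟨276, [], [3]⟩,
  ⟨545, [], [0, 1, 2, 6]⟩,
  ⟨545, [(127, true)], [2, 6, 4, 3, 2, 5, 5]⟩,
  ⟨431, [], [1]⟩,
  ⟨232, [], [0, 3, 6, 5]⟩,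
  ⟨132, [], [0, 2]⟩,
  ⟨276, [(127, true)], [1, 3, 4, 2, 3, 5, 5]⟩,
  ⟨186, [(127, false), (249, false)], [4, 3, 6, 4, 3, 4, 3, 2, 4, 4, 3]⟩,
  ⟨545, [(127, true), (127, true)], [0, 6, 3, 5]⟩,
  ⟨320, [], [3]⟩,
  ⟨430, [], [1, 4, 4, 4, 4]⟩,
  ⟨164, [], [0, 2]⟩,
  ⟨397, [], []⟩,
  ⟨320, [(127, true), (127, true)], [2, 6, 5, 6]⟩,
  ⟨262, [], [1, 5, 4, 5, 4, 2, 3]⟩,
  ⟨263, [], [5, 4, 5, 4, 5]⟩,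
  ⟨430, [(127, true), (127, true)], [5, 4, 2, 3, 5]⟩,
  ⟨273, [], [0, 5, 4, 5, 4, 2]⟩,
  ⟨276, [(127, true), (127, true)], [0, 1, 2, 5]⟩,
  ⟨186, [(127, true), (127, false), (249, false)], [4, 3, 6, 4, 2, 4, 3, 2, 5, 5, 4, 3]⟩,
  ⟨186, [(127, true), (127, true), (127, false), (249, false)], [3, 2, 5, 5, 4, 2, 4, 3, 4, 2, 4, 6]⟩,
  ⟨484, [], []⟩,
  ⟨164, [(249, true), (127, true)], [4, 3, 5, 6, 4, 3, 2, 4, 2, 4, 4, 5]⟩,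
  ⟨262, [(249, true), (127, true)], [4, 6, 3, 4, 3, 4, 3, 2, 4, 4, 5]⟩,
  ⟨468, [], [1]⟩,
  ⟨524, [], [3]⟩,
  ⟨213, [(127, false), (249, false)], [4, 3, 2, 4, 5, 4, 6, 4, 4, 3]⟩,
  ⟨291, [], [0, 1, 4, 6, 4, 2, 6]⟩,
  ⟨397, [(249, true), (127, true), (127, true)], [1, 3, 4, 2, 4, 3, 5, 4, 5, 4]⟩,
  ⟨431, [(127, true), (127, true)], [3, 2, 5, 5]⟩,
  ⟨435, [], [1, 3, 5, 5]⟩,
  ⟨263, [(249, true), (127, true), (127, true)], [1, 5, 4, 2, 4, 3, 4, 3, 2, 5, 4]⟩,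
  ⟨232, [(127, true), (127, true)], [2, 6]⟩,
  ⟨497, [], [0, 4, 5, 5, 4, 3]⟩,
  ⟨167, [], [2, 4, 4, 6, 5, 4]⟩,
  ⟨270, [], [0, 4, 6, 4, 2, 6, 5]⟩,
  ⟨270, [(127, true)], [1, 4, 6, 4, 2, 3, 5]⟩,
  ⟨397, [(127, true)], [2, 4, 4, 3, 4, 2, 5, 4]⟩,
  ⟨273, [(249, true), (127, true)], [3, 5, 4, 3, 2, 4, 4, 3, 6, 4, 5, 4]⟩,
  ⟨551, [], []⟩,
  ⟨312, [], [0, 6, 4, 6, 4, 3]⟩,
  ⟨190, [], [3]⟩,
  ⟨527, [], [0, 4, 4, 5, 4]⟩,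
  ⟨543, [], [3, 4, 2, 5, 4, 5]⟩,
  ⟨497, [(127, true), (127, true)], [1, 2, 4, 3, 4, 3, 2, 5, 4, 3, 4]⟩,
  ⟨263, [(127, true)], [4, 4, 2, 3, 5, 4, 2, 3]⟩,
  ⟨186, [(249, true), (127, true), (127, false), (249, false)], [1, 2, 3, 5, 5]⟩,
  ⟨312, [(127, true), (127, true)], [1, 3, 5, 5, 4, 3, 2, 4, 2, 4, 6]⟩,
  ⟨551, [(127, true)], [4, 4, 2, 4, 3, 5, 4, 2, 5]⟩,
  ⟨259, [], [1, 6, 4, 6, 4]⟩,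
  ⟨373, [], [6, 5, 6]⟩,
  ⟨273, [(127, true)], [2, 3, 4, 4, 5, 4, 2]⟩,
  ⟨273, [(127, true), (127, true)], [0, 4, 4, 4, 3, 4, 4, 2]⟩,
  ⟨298, [], [5, 4, 3, 2, 5]⟩,
  ⟨348, [], [0]⟩,
  ⟨551, [(127, true), (127, true)], [6, 4, 2, 3, 6, 4, 6]⟩,
  ⟨312, [(127, true)], [2, 3, 4, 3, 6, 4, 3, 5, 6, 4, 6, 3, 4]⟩,
  ⟨307, [], [0, 3, 4, 4, 4, 4, 4]⟩,
  ⟨408, [], [0, 6, 4, 6, 4, 6, 3]⟩,
  ⟨232, [(249, true), (127, true), (127, true)], [4, 6, 4, 3, 4, 4, 6, 4, 4, 3, 4, 2]⟩,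
  ⟨431, [(249, true), (127, true), (127, true)], [2, 3, 4, 6, 4, 3, 4, 2, 6, 5]⟩,
  ⟨378, [], []⟩,
  ⟨263, [(249, true)], [4, 3, 6, 4, 6, 4, 4, 6, 3, 4, 6]⟩,
  ⟨242, [], [1, 2, 5, 6]⟩,
  ⟨397, [(249, true)], [3, 4, 2, 4, 3, 4, 3, 2, 4, 4, 4, 4]⟩,
  ⟨242, [(127, true)], [4, 6, 4, 3, 4, 6, 3, 4, 3, 4, 3, 2, 5]⟩,
  ⟨378, [(127, true)], [2, 3, 4, 3, 4, 6, 5, 4, 2, 4, 3, 4, 6]⟩,
  ⟨320, [(249, true)], [4, 2, 3, 4, 3, 6, 4, 4, 3, 2, 6, 4]⟩,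
  ⟨397, [(127, true), (127, true)], [2, 5, 4, 3, 4, 2, 4, 4, 2, 5]⟩,
  ⟨262, [(249, true)], [5, 4, 3, 2, 4, 6, 3, 5, 4, 2, 4]⟩,
  ⟨430, [(249, true)], [6, 4, 3, 6, 4, 2, 4, 4, 6, 3, 2, 4]⟩,
  ⟨263, [(127, true), (127, true)], [4, 5, 4, 2, 3, 4, 4, 2, 3, 5, 4]⟩,
  ⟨164, [(249, true)], [2, 5, 4, 2, 3, 4, 6, 3, 4, 3, 4]⟩,
  ⟨368, [], [2, 4, 3, 2, 4, 4, 3]⟩,
  ⟨435, [(249, true), (127, true)], [1, 2, 5, 4, 3, 4, 2, 4, 5, 5, 4, 3]⟩,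
  ⟨458, [], [0, 1, 6]⟩,
  ⟨312, [(249, true)], [2, 4, 5, 6, 3, 4, 2, 4, 4, 3, 4, 5, 4]⟩,
  ⟨262, [(249, true), (127, true), (127, true)], [0, 4, 3, 6, 4, 3, 5]⟩,
  ⟨170, [], [0]⟩,
  ⟨541, [], [0, 1, 2, 4, 6, 4, 6]⟩,
  ⟨458, [(127, true)], [4, 5, 6, 4, 3, 4, 4, 4, 6, 4, 3, 4]⟩,
  ⟨291, [(249, true), (127, true)], [3, 6, 5, 4, 2, 4, 3, 2, 4, 2, 4]⟩,
  ⟨368, [(127, true), (127, true)], [4, 3, 4, 2, 4, 3, 4, 2, 5, 4, 5, 4]⟩,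
  ⟨551, [(249, true), (127, true)], [6, 5, 4, 3, 4, 3, 6, 4, 4, 2]⟩,
  ⟨164, [(249, true), (127, true), (127, true)], [4, 5, 6, 3, 4, 2, 3, 4, 3, 4, 4, 5, 4]⟩,
  ⟨283, [], [1]⟩,
  ⟨418, [], [0, 5, 4, 5, 4, 5]⟩,
  ⟨484, [(249, true)], [0, 2, 4, 4, 3, 5, 6, 4, 3, 4, 6]⟩,
  ⟨262, [(127, true), (127, true)], [5, 4, 2, 3, 4, 4, 2, 3, 4, 3, 2, 4]⟩,
  ⟨141, [], [2]⟩,
  ⟨164, [(127, true)], [5, 4, 2, 4, 4, 3, 4, 2, 4, 6, 3, 4, 2]⟩,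
  ⟨145, [], [2, 3, 6]⟩,
  ⟨141, [(127, true), (127, true)], [4, 2, 3, 4, 3, 2, 4, 6, 3, 5, 4, 2]⟩,
  ⟨145, [(127, true)], [0, 3, 4, 4, 3, 6, 4, 3, 6, 5, 4, 2, 6]⟩,
  ⟨298, [(249, true)], [3, 4, 4, 3, 2, 4, 4, 6, 4, 3, 5, 4, 6]⟩,
  ⟨164, [(127, true), (127, true)], [6, 3, 2, 5]⟩,
  ⟨213, [(249, true), (127, true), (127, false), (249, false)], [4, 6, 4, 2, 6, 5]⟩,
  ⟨170, [(127, true), (127, true)], [1, 4, 5, 4, 3, 2, 5, 4]⟩,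
  ⟨431, [(127, true)], [6, 4, 6, 3, 2, 4, 6, 4]⟩,
  ⟨527, [(127, true)], [4, 4, 2, 3, 5, 4, 3, 2]⟩,
  ⟨373, [(127, true), (127, true)], [6, 4, 4, 4, 2, 3, 5, 4, 6]⟩,
  ⟨259, [(127, true)], [1, 4, 4, 4, 4, 4, 2, 3, 4, 6]⟩,
  ⟨186, [(249, true), (127, true), (127, true), (127, false), (249, false)], [5, 4, 2, 3, 6, 4, 6, 4, 6]⟩,
  ⟨136, [], [1, 3, 2]⟩,
  ⟨262, [(127, true)], [4, 2, 4, 3, 4, 4, 6, 3, 4, 3]⟩,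
  ⟨143, [], [1, 3]⟩,
  ⟨136, [(127, true), (127, true)], [0, 5, 4, 2, 5, 4, 3, 4, 4, 6, 3, 4, 3]⟩,
  ⟨143, [(127, true)], [0, 2, 4, 2, 4, 5, 4, 6, 3, 4, 6, 5]⟩,
  ⟨524, [(249, true), (127, true)], [3, 5, 6, 4, 3, 6, 4, 2, 4, 4, 6, 3]⟩,
  ⟨283, [(127, true), (127, true)], [4, 5, 4, 2, 3, 5, 4]⟩,
  ⟨232, [(127, true)], [1, 6, 4, 4, 2, 4, 3, 5, 4]⟩,
  ⟨373, [(127, true)], [6, 5, 4, 2, 6, 3, 4, 6, 4]⟩,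
  ⟨527, [(127, true), (127, true)], [0, 4, 4, 4, 2, 4, 4, 3, 4, 2, 5]⟩,
  ⟨190, [(127, true)], [2, 4, 3, 2, 5, 4, 5, 4, 5]⟩,
  ⟨273, [(249, true), (127, true), (127, true)], [2, 6, 3, 4, 2, 4, 2, 3, 4, 3, 4, 6]⟩,
  ⟨276, [(249, true), (127, true), (127, true)], [3, 4, 3, 2, 4, 3, 6, 4, 4, 6, 3, 4, 4, 6]⟩,
  ⟨408, [(127, true), (127, true)], [1, 2, 5, 5, 4, 2, 3, 4, 3, 4]⟩,
  ⟨545, [(249, true), (127, true), (127, true)], [1, 5, 4, 3, 4, 6, 5, 4, 3, 2, 4, 5, 5]⟩,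
  ⟨307, [(127, true), (127, true)], [3, 5, 4, 2, 3, 4, 4, 3, 2, 5]⟩,
  ⟨551, [(249, true)], [6, 4, 3, 5, 4, 6, 5, 4, 3, 6, 4]⟩,
  ⟨268, [], [0, 5, 5]⟩,
  ⟨213, [(127, true), (127, true), (127, false), (249, false)], [2, 6, 4, 3, 2, 6, 4, 4, 5]⟩,
  ⟨312, [(249, true), (127, true), (127, true)], [2, 6, 4, 2, 3, 4, 4, 2, 3, 5, 4]⟩,
  ⟨538, [], [1, 2, 3, 4, 4, 4, 5]⟩,
  ⟨524, [(127, true), (127, true)], [2, 5, 5, 4, 2, 3]⟩,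
  ⟨263, [(249, true), (127, true)], [3, 4, 6, 4, 4, 4, 3, 5, 4, 6, 4, 4, 2]⟩,
  ⟨397, [(249, true), (127, true)], [3, 4, 2, 4, 4, 4, 3, 4, 2, 4, 5, 5]⟩,
  ⟨431, [(249, true), (127, true)], [1, 4, 6, 5, 4, 3, 4, 2, 4, 4, 3, 5, 4]⟩,
  ⟨458, [(249, true), (127, true), (127, true)], [2, 3, 6, 4, 4, 6, 4, 6, 3, 4, 2, 4, 5]⟩,
  ⟨259, [(127, true), (127, true)], [0, 2, 6, 4, 3, 5, 6, 4, 2, 4, 4, 2]⟩,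
  ⟨430, [(127, true)], [4, 4, 5, 4, 3, 2, 4, 5, 5]⟩,
  ⟨418, [(127, true)], [1, 4, 2, 3, 4, 4, 4, 4]⟩,
  ⟨232, [(249, true), (127, true)], [2, 4, 2, 3, 4, 3, 6, 4, 3, 4, 5, 6]⟩,
  ⟨368, [(249, true), (127, true)], [0, 2, 4, 3, 5, 4, 6, 4, 4, 2]⟩,
  ⟨190, [(127, true), (127, true)], [2, 5, 4, 3, 2, 4, 4, 5]⟩,
  ⟨320, [(127, true)], [1, 3, 4, 4, 3, 2, 4, 4, 4, 4]⟩,
  ⟨541, [(127, true)], [5, 4, 6, 3, 4, 2, 6, 5]⟩,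
  ⟨167, [(249, true)], [0, 4, 2, 4, 3, 6, 4, 4, 3, 6, 4, 2, 4]⟩,
  ⟨172, [(249, true)], [2, 4, 3, 6, 5, 4, 2, 4, 2, 3, 4]⟩,
  ⟨543, [(249, true)], [4, 4, 6, 4, 3, 4, 3, 2, 4, 3, 6]⟩,
  ⟨132, [(249, true)], [3, 6, 4, 3, 5, 6, 4, 2, 3, 4, 6, 5]⟩,
  ⟨411, [], [1, 6, 4, 4, 6]⟩,
  ⟨378, [(249, true), (127, true)], [1, 3, 4, 2, 4, 2, 4, 3, 5]⟩,
  ⟨527, [(249, true), (127, true), (127, true)], [3, 6, 4, 2, 4, 2, 4, 3, 4, 2, 4]⟩,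
  ⟨435, [(249, true)], [6, 3, 4, 3, 4, 3, 2, 4, 3, 4, 5, 4]⟩,
  ⟨242, [(127, true), (127, true)], [1, 3, 5, 4, 5, 6, 4, 2, 4, 3]⟩,
  ⟨368, [(249, true)], [2, 4, 4, 6, 3, 2, 4, 6, 4, 3, 4]⟩,
  ⟨541, [(127, true), (127, true)], [1, 4, 4, 3, 4, 2, 5, 4, 6, 5]⟩,
  ⟨170, [(127, true)], [1, 4, 4, 4, 3, 2, 4, 4, 4, 4, 4]⟩,
  ⟨312, [(249, true), (127, true)], [2, 5, 4, 2, 4, 3, 6, 4, 3, 2, 4, 2]⟩,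
  ⟨305, [], []⟩,
  ⟨242, [(249, true), (127, true)], [0, 5, 4, 6, 4, 6, 3, 5, 4, 2]⟩,
  ⟨373, [(249, true), (127, true), (127, true)], [1, 5, 4, 6, 4, 4, 3, 4, 2, 4, 3, 4, 3]⟩,
  ⟨291, [(249, true)], [3, 6, 4, 4, 2, 5, 4, 6, 3, 4, 5]⟩,
  ⟨378, [(127, true), (127, true)], [2, 3, 6, 5, 4, 2, 4, 3, 6, 4, 4, 3]⟩,
  ⟨458, [(249, true), (127, true)], [4, 3, 6, 5, 4, 2, 3, 4, 3, 2, 5, 4]⟩,
  ⟨418, [(127, true), (127, true)], [1, 4, 4, 3, 2, 4, 4, 4, 4, 4]⟩,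
  ⟨283, [(127, true)], [4, 4, 4, 2, 3, 4, 4, 4, 4, 4]⟩,
  ⟨551, [(249, true), (127, true), (127, true)], [4, 2, 3, 4, 3, 2, 5, 5, 4, 2, 4, 3, 6]⟩,
  ⟨524, [(249, true)], [0, 4, 4, 3, 5, 4, 6, 4, 6]⟩,
  ⟨435, [(127, true), (127, true)], [4, 3, 4, 4, 5, 6, 4, 6, 3, 4, 6, 4, 4]⟩,
  ⟨291, [(249, true), (127, true), (127, true)], [0, 3, 5, 6, 4, 3]⟩,
  ⟨489, [], [1, 2, 6]⟩,
  ⟨141, [(249, true), (127, true)], [1, 6, 4, 4, 3, 4, 6, 4, 4, 2, 3, 5, 4]⟩,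
  ⟨136, [(249, true), (127, true)], [1, 4, 3, 4, 2, 3, 4, 3, 2, 4, 2]⟩,
  ⟨141, [(249, true), (127, true), (127, true)], [3, 5, 4, 3, 2, 4, 3, 4, 4, 6, 4, 2]⟩,
  ⟨276, [(249, true)], [4, 2, 3, 4, 4, 3, 6, 4, 6]⟩,
  ⟨378, [(249, true), (127, true), (127, true)], [4, 3, 2, 6, 5, 4, 2, 4, 3, 4, 3, 6]⟩,
  ⟨213, [(249, true), (127, false), (249, false)], [2, 4, 3, 2, 5, 4, 3, 4, 6, 4, 3, 6, 5]⟩,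
  ⟨291, [(127, true), (127, true)], [0, 3, 5, 4, 2, 4, 3, 5, 6, 4, 2, 4, 3, 6]⟩,
  ⟨435, [(249, true), (127, true), (127, true)], [0, 1, 4, 2, 4, 5, 4]⟩,
  ⟨437, [], [0, 4, 4, 4, 4, 4]⟩,
  ⟨136, [(249, true), (127, true), (127, true)], [2, 4, 3, 4, 6, 4, 3, 4, 6, 5, 6]⟩,
  ⟨545, [(249, true)], [2, 6, 4, 2, 3, 4, 3, 4, 6, 4, 6]⟩,
  ⟨242, [(249, true), (127, true), (127, true)], [4, 3, 4, 2, 3, 4, 6, 3, 4, 6]⟩,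
  ⟨143, [(127, true), (127, true)], [1, 2, 5, 4, 6, 4, 3, 4, 4, 5, 6]⟩,
  ⟨497, [(127, true)], [0, 4, 3, 4, 6, 5, 4, 3, 4, 3, 6, 4, 5]⟩,
  ⟨136, [(127, true)], [6, 4, 2, 6, 4, 4, 2, 3, 4, 2]⟩,
  ⟨141, [(127, true)], [2, 5, 4, 2, 4, 2, 6, 3, 4, 6, 5, 4]⟩,
  ⟨408, [(249, true), (127, true), (127, true)], [1, 3, 4, 2, 3, 4, 4, 3, 2, 4, 4, 3]⟩,
  ⟨270, [(127, true), (127, true)], [5, 5, 4, 3, 4, 2, 3, 4, 6, 3, 4]⟩,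
  ⟨145, [(127, true), (127, true)], [2, 3, 4, 6, 5, 4, 6, 3, 5, 4, 2, 4, 4]⟩,
  ⟨408, [(249, true), (127, true)], [0, 4, 6, 4, 4, 3, 6, 4, 2, 6]⟩,
  ⟨458, [(127, true), (127, true)], [3, 4, 6, 4, 3, 4, 3, 5, 6, 4, 3]⟩,
  ⟨299, [], [0, 6, 3, 4, 4, 4, 5]⟩,
  ⟨368, [(127, true)], [0, 3, 6, 5, 4, 3, 6, 4, 2, 4, 2]⟩,
  ⟨524, [(127, true)], [3, 5, 5, 4, 2, 3, 4, 3, 2, 4]⟩,
  ⟨145, [(249, true)], [2, 4, 6, 5, 4, 3, 4, 4, 2, 3, 4, 6, 5]⟩,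
  ⟨143, [(249, true)], [4, 4, 3, 5, 6, 4, 6, 3, 2, 5, 4]⟩,
  ⟨273, [(249, true)], [2, 4, 4, 3, 6, 4, 3, 4, 6, 4, 2, 4, 4]⟩,
  ⟨368, [(249, true), (127, true), (127, true)], [3, 4, 4, 2, 3, 4, 4, 2, 3, 5, 4, 3, 6]⟩,
  ⟨143, [(249, true), (127, true), (127, true)], [0, 4, 4, 3, 6, 4, 2, 4, 6, 3, 4, 3]⟩,
  ⟨232, [(249, true)], [0, 3, 4, 6, 3, 4, 6, 4, 4, 3, 4, 6, 5]⟩,
  ⟨431, [(249, true)], [0, 5, 4, 6, 3, 4, 5, 4, 2]⟩,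
  ⟨307, [(127, true)], [3, 4, 2, 4, 4, 3, 4, 2, 4, 4, 4]⟩,
  ⟨307, [(249, true), (127, true), (127, true)], [2, 4, 4, 2, 3, 4, 2, 4, 2]⟩,
  ⟨307, [(249, true), (127, true)], [3, 2, 4, 3, 5, 6, 4, 4, 3, 6, 4, 4, 3]⟩,
  ⟨363, [], [3, 6, 4, 4, 5]⟩,
  ⟨213, [(127, true), (127, false), (249, false)], [4, 3, 4, 2, 3, 4, 6, 4, 4, 6, 3, 4]⟩,
  ⟨186, [(249, true), (127, false), (249, false)], [6, 4, 6, 4, 6, 3, 2, 4]⟩,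
  ⟨458, [(249, true)], [1, 2, 4, 6, 4, 3, 5]⟩,
  ⟨145, [(249, true), (127, true), (127, true)], [0, 3, 4, 5, 6, 4, 3, 4, 6, 4, 2, 6]⟩,
  ⟨408, [(127, true)], [0, 1, 4, 3, 4, 4, 4, 2, 4, 3, 4, 4, 4]⟩,
  ⟨527, [(249, true)], [0, 4, 3, 6, 4, 6, 3, 5, 4, 2, 4, 3]⟩,
  ⟨276, [(249, true), (127, true)], [5, 6, 4, 3, 4, 2, 3, 4, 3, 4, 5, 5]⟩,
  ⟨270, [(249, true), (127, true)], [3, 4, 4, 5, 6, 4, 3, 4, 4, 4, 6, 4]⟩,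
  ⟨373, [(249, true)], [2, 3, 4, 3, 2, 4, 2, 4, 4, 6]⟩,
  ⟨545, [(249, true), (127, true)], [1, 3, 4, 3, 4, 2, 4, 3, 4, 5, 4]⟩,
  ⟨497, [(249, true)], [4, 3, 4, 3, 2, 4, 6, 3, 4, 4, 3, 5]⟩,
  ⟨145, [(249, true), (127, true)], [4, 2, 3, 5, 4, 3, 5, 6, 4, 6, 5]⟩,
  ⟨143, [(249, true), (127, true)], [4, 3, 4, 2, 3, 4, 3, 4, 6, 5, 4, 6]⟩,
  ⟨213, [(249, true), (127, true), (127, true), (127, false), (249, false)], [5, 4, 2, 4, 3, 4, 5, 5, 4, 2, 4, 6]⟩,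
  ⟨411, [(127, true), (127, true)], [0, 2, 4, 3, 4, 4, 6, 5, 4, 3, 4, 4, 2]⟩,
  ⟨259, [(249, true), (127, true), (127, true)], [0, 6, 4, 4, 6, 4, 2, 4, 6, 4, 3, 4, 2]⟩,
  ⟨524, [(249, true), (127, true), (127, true)], [3, 4, 6, 3, 5, 4, 3, 4, 2, 3, 4, 5]⟩,
  ⟨305, [(127, true), (127, true)], [1, 4, 2, 3, 4, 4, 2, 3, 4, 4, 4, 4]⟩,
  ⟨190, [(249, true), (127, true), (127, true)], [0, 3, 5, 6, 4, 3, 6, 5, 4, 3, 6]⟩,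
  ⟨270, [(249, true), (127, true), (127, true)], [4, 4, 2, 3, 4, 4, 4, 5, 6, 3, 4, 4]⟩,
  ⟨348, [(249, true)], [0, 4, 4, 4, 2, 4, 4, 3, 4, 4, 6]⟩,
  ⟨373, [(249, true), (127, true)], [0, 5, 4, 2, 4, 4, 6, 3, 4, 2, 4, 3]⟩,
  ⟨259, [(249, true)], [4, 5, 4, 2, 5, 4, 3, 4, 3]⟩,
  ⟨170, [(249, true), (127, true), (127, true)], [4, 6, 4, 3, 4, 4, 3, 6, 4]⟩,
  ⟨305, [(127, true)], [2, 6, 4, 3, 4, 4, 6, 3, 4, 3, 4, 4]⟩,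
  ⟨437, [(127, true), (127, true)], [2, 3, 6, 4, 3, 6, 5, 4, 3, 6, 5, 4, 3]⟩,
  ⟨363, [(249, true)], [6, 4, 2, 4, 2, 3, 4, 3, 2, 4, 5]⟩,
  ⟨497, [(249, true), (127, true), (127, true)], [4, 4, 3, 4, 2, 4, 2, 3, 4, 4, 2]⟩,
  ⟨363, [(249, true), (127, true), (127, true)], [2, 3, 5, 5, 4, 2, 4, 3, 4, 3]⟩,
  ⟨378, [(249, true)], [5, 4, 2, 4, 2, 3, 6, 5, 4, 6, 3]⟩,
  ⟨363, [(249, true), (127, true)], [2, 4, 3, 2, 4, 4, 6, 4, 3, 6, 4, 6, 4]⟩,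
  ⟨497, [(249, true), (127, true)], [4, 4, 2, 3, 4, 5, 6, 3, 4, 4, 6, 4]⟩,
  ⟨468, [(249, true)], [5, 6, 4, 4, 3, 2, 5, 4, 3, 4, 4]⟩,
  ⟨527, [(249, true), (127, true)], [2, 3, 4, 4, 3, 6, 4, 2, 3, 4]⟩,
  ⟨190, [(249, true)], [1, 5, 6, 4, 2, 4, 4, 3, 4, 2, 4]⟩,
  ⟨283, [(249, true), (127, true), (127, true)], [2, 4, 4, 4, 5, 6, 3, 4, 4, 4]⟩,
  ⟨411, [(127, true)], [2, 5, 4, 2, 4, 3, 4, 2, 4, 3, 5, 4, 6]⟩,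
  ⟨489, [(127, true), (127, true)], [4, 3, 4, 6, 3, 4, 2, 4, 3, 5]⟩,
  ⟨299, [(249, true)], [1, 2, 6, 4, 3, 4, 2, 4, 2, 3, 4, 4, 5]⟩,
  ⟨270, [(249, true)], [4, 6, 3, 4, 6, 4, 4, 3, 4, 2]⟩,
  ⟨299, [(249, true), (127, true), (127, true)], [0, 3, 4, 3, 6, 5, 4, 6, 3, 5, 4, 3]⟩,
  ⟨242, [(249, true)], [5, 4, 2, 4, 3, 4, 4, 4, 2, 4]⟩,
  ⟨299, [(249, true), (127, true)], [1, 2, 4, 3, 4, 5, 4, 6, 5, 4, 3, 4]⟩,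
  ⟨283, [(249, true)], [3, 4, 2, 4, 3, 4, 2, 3, 5, 4, 5]⟩,
  ⟨307, [(249, true)], [6, 3, 4, 2, 3, 4, 4, 4, 6]⟩,
  ⟨437, [(249, true), (127, true), (127, true)], [3, 2, 4, 6, 5, 4, 6, 3, 4, 6, 5]⟩,
  ⟨363, [(127, true), (127, true)], [2, 4, 3, 4, 4, 4, 2, 5, 4, 3, 5]⟩,
  ⟨437, [(249, true), (127, true)], [2, 4, 3, 2, 4, 3, 5, 5, 4, 2, 4, 3]⟩,
  ⟨136, [(249, true)], [1, 3, 4, 2, 4, 6, 4, 3, 4]⟩,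
  ⟨435, [(127, true)], [1, 4, 2, 3, 4, 3, 4, 2, 5, 4, 5]⟩,
  ⟨291, [(127, true)], [2, 3, 4, 5, 4, 6, 3]⟩,
  ⟨320, [(249, true), (127, true), (127, true)], [2, 6, 5, 4, 3, 6, 4, 4, 3, 6, 4, 3]⟩,
  ⟨489, [(127, true)], [2, 4, 4, 5, 4, 2, 3, 4, 2, 3, 4, 6]⟩,
  ⟨170, [(249, true)], [1, 2, 4, 3, 4, 2, 4, 3, 2, 5, 4, 5]⟩,
  ⟨408, [(249, true)], [0, 3, 4, 3, 5, 6, 4, 2, 4, 5, 6]⟩,
  ⟨489, [(249, true), (127, true), (127, true)], [3, 4, 2, 4, 4, 3, 2, 5, 4, 6, 5, 4]⟩,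
  ⟨299, [(127, true), (127, true)], [4, 2, 5, 4, 3, 4, 2, 4, 6, 3, 2]⟩,
  ⟨489, [(249, true), (127, true)], [3, 2, 4, 6, 5, 4, 3, 4, 6, 4, 3]⟩,
  ⟨141, [(249, true)], [4, 3, 6, 4, 2, 4, 3, 5, 4, 6, 5, 4]⟩,
  ⟨430, [(249, true), (127, true), (127, true)], [6, 4, 3, 4, 4, 5, 4, 2, 3]⟩,
  ⟨437, [(127, true)], [1, 2, 4, 3, 5, 5, 4, 3, 2, 4, 2]⟩,
  ⟨190, [(249, true), (127, true)], [3, 4, 2, 3, 4, 3, 6, 5, 4, 2, 6, 5]⟩,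
  ⟨489, [(249, true)], [4, 2, 6, 4, 3, 4, 6, 4, 4, 2, 4]⟩,
  ⟨259, [(249, true), (127, true)], [0, 5, 4, 3, 4, 2, 4, 2, 4, 5]⟩,
  ⟨437, [(249, true)], [1, 4, 3, 4, 4, 6, 4, 3, 2, 4, 2]⟩,
  ⟨363, [(127, true)], [5, 4, 6, 5, 4, 3, 2, 4, 5, 4, 5]⟩,
  ⟨430, [(249, true), (127, true)], [0, 4, 6, 4, 3, 4, 3, 6, 4, 3, 5, 5]⟩,
  ⟨299, [(127, true)], [0, 2, 4, 4, 3, 6, 4, 2, 5, 5, 4]⟩,
  ⟨320, [(249, true), (127, true)], [2, 3, 5, 4, 3, 6, 4, 6, 3, 4, 4, 5]⟩,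
  ⟨283, [(249, true), (127, true)], [4, 3, 4, 2, 4, 3, 2, 5, 4, 2]⟩,
  ⟨170, [(249, true), (127, true)], [1, 4, 4, 5, 6, 4, 3, 4, 2, 3, 4, 6]⟩]

noncomputable def coverEdge11 : List Step := [⟨125, [], []⟩,
  ⟨234, [], [1, 3, 2, 5, 5]⟩,
  ⟨316, [], [0, 1, 6, 4, 6, 4, 3]⟩,
  ⟨316, [(35, true), (35, true)], [0, 6, 4, 6, 4, 2]⟩,
  ⟨344, [], [0, 2]⟩,
  ⟨228, [], [0, 5]⟩,
  ⟨72, [], [1, 4, 4, 4, 2, 3, 5]⟩,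
  ⟨234, [(35, true), (35, true)], [0, 5, 5]⟩,
  ⟨274, [], [0, 3, 5]⟩,
  ⟨424, [], [1, 6]⟩,
  ⟨344, [(35, true), (35, true)], [0, 1, 3]⟩,
  ⟨228, [(35, true), (35, true)], [1, 3, 2, 5]⟩,
  ⟨530, [], [5, 4, 5, 4, 5]⟩,
  ⟨185, [], []⟩,
  ⟨301, [], [0, 1, 6]⟩,
  ⟨303, [], [0, 1, 6, 4, 6, 4]⟩,
  ⟨414, [], [0, 5, 4, 3, 5]⟩,
  ⟨304, [], [0, 1, 2, 6]⟩,
  ⟨441, [], [0, 5, 4, 5, 4, 5]⟩,
  ⟨357, [], [3, 4, 6, 4, 2, 5, 6]⟩,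
  ⟨274, [(35, true), (35, true)], [4, 2, 3, 4, 4, 5, 4, 3]⟩,
  ⟨513, [], [0, 4, 6, 4]⟩,
  ⟨424, [(35, true), (35, true)], [2, 3, 6, 4, 4, 3, 2, 5]⟩,
  ⟨426, [], [6, 3, 4, 5, 4]⟩,
  ⟨244, [], [2, 3, 5]⟩,
  ⟨513, [(35, true), (35, true)], [2, 3, 4, 6, 5]⟩,
  ⟨304, [(35, true), (35, true), (35, true)], [2, 3, 4, 3, 4, 6, 5, 4, 3, 6, 5, 4, 2]⟩,
  ⟨301, [(35, true), (35, true), (35, true)], [3, 4, 3, 4, 6, 5, 4, 3, 6, 5, 4, 2]⟩,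
  ⟨559, [], []⟩,
  ⟨433, [], []⟩,
  ⟨510, [], [6, 4, 5, 4, 6, 5, 6]⟩,
  ⟨409, [], [0, 2]⟩,
  ⟨358, [], [1, 6, 4, 4, 4, 5]⟩,
  ⟨567, [], [3, 4, 4, 4, 4, 3, 4]⟩,
  ⟨303, [(35, true), (35, true)], [2, 3, 4, 3, 4, 4, 4, 2, 4, 3, 4, 6, 3]⟩,
  ⟨160, [], [4, 5, 4]⟩,
  ⟨163, [], [3, 5]⟩,
  ⟨530, [(35, true), (35, true)], [0, 6, 4, 6, 4, 3]⟩,
  ⟨185, [(35, true), (35, true)], [6, 4, 3, 2, 6, 4, 6, 4]⟩,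
  ⟨433, [(35, true), (35, true), (35, true)], [4, 3, 2, 4, 3, 5, 6, 4, 3, 6, 4, 6, 3]⟩,
  ⟨441, [(35, true), (35, true), (35, true)], [1, 2, 5, 4, 3, 5, 4, 2, 4, 2, 3, 4]⟩,
  ⟨304, [(35, true), (35, true)], [0, 6, 4, 2, 6, 4, 6, 3, 4, 6]⟩,
  ⟨257, [], [1, 3, 5, 5]⟩,
  ⟨479, [], [1, 3, 2]⟩,
  ⟨178, [], [1, 2, 3, 4, 4, 4, 4, 4]⟩,
  ⟨149, [], []⟩,
  ⟨414, [(35, true), (35, true)], [2, 4, 2, 4, 3, 5, 5, 4]⟩,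
  ⟨358, [(35, true), (35, true), (35, true)], [2, 6, 4, 3, 4, 6, 4, 4, 4, 3, 5, 4, 6]⟩,
  ⟨274, [(35, true), (35, true), (35, true)], [1, 2, 5, 4, 2, 3, 4, 2, 3, 5, 5, 4]⟩,
  ⟨301, [(35, true), (35, true)], [6, 4, 6, 4, 6, 3, 2, 4, 6]⟩,
  ⟨367, [], [1, 2]⟩,
  ⟨321, [], [2, 6, 3, 4, 2, 6]⟩,
  ⟨441, [(35, true), (35, true)], [4, 4, 2, 3, 4, 4, 4, 4, 2, 3]⟩,
  ⟨360, [], [3, 2, 6, 4, 6, 4, 6]⟩,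
  ⟨357, [(35, true), (35, true)], [1, 6, 4, 3, 4, 4, 2]⟩,
  ⟨360, [(35, true), (35, true)], [1, 2, 5, 4, 2, 3, 4, 2, 4, 3]⟩,
  ⟨244, [(35, true), (35, true)], [2, 4, 3, 2, 4, 4, 5, 4, 3]⟩,
  ⟨426, [(35, true), (35, true)], [6, 4, 2, 3, 4, 2, 4, 3, 4, 4, 5]⟩,
  ⟨567, [(35, true)], [1, 3, 4, 2, 4, 2, 3, 4, 2, 4, 5, 5]⟩,
  ⟨510, [(35, true)], [2, 6, 4, 4, 3, 4, 2, 4, 2, 3, 5, 5]⟩,
  ⟨301, [(35, true)], [0, 3, 4, 6, 3, 4, 6, 4, 4, 3, 4, 2]⟩,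
  ⟨304, [(35, true)], [0, 4, 6, 4, 3, 6, 4, 2, 4, 3, 4, 2]⟩,
  ⟨426, [(35, true)], [3, 4, 6, 4, 5, 5, 4, 2]⟩,
  ⟨358, [(35, true), (35, true)], [2, 4, 6, 3, 4, 2, 6, 5]⟩,
  ⟨244, [(35, true)], [1, 5, 4, 5, 4, 3, 2, 4, 6, 5, 4, 2]⟩,
  ⟨433, [(35, true), (35, true)], [1, 4, 4, 2, 3, 4, 4, 4, 4]⟩,
  ⟨510, [(35, true), (35, true), (35, true)], [3, 4, 4, 4, 6, 4, 3, 5, 4, 6]⟩,
  ⟨567, [(35, true), (35, true), (35, true)], [4, 3, 4, 4, 3, 6, 4, 6, 3, 4, 6]⟩,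
  ⟨300, [], [0, 3, 5]⟩,
  ⟨279, [], [3, 4, 6, 4, 6, 3]⟩,
  ⟨510, [(35, true), (35, true)], [6, 4, 2, 3, 4, 4, 4, 4, 4]⟩,
  ⟨561, [], [5, 4, 5, 4, 3, 5]⟩,
  ⟨540, [], [0, 1, 2, 6]⟩,
  ⟨567, [(35, true), (35, true)], [1, 4, 4, 3, 2, 4, 4, 4, 4, 2]⟩,
  ⟨409, [(35, true), (35, true)], [4, 2, 3, 4, 3, 4, 4, 4, 2, 4, 3, 4]⟩,
  ⟨402, [], []⟩,
  ⟨482, [], [0, 1, 4, 5, 4, 5]⟩,
  ⟨540, [(35, true)], [6, 4, 2, 4, 4, 3, 5, 4, 2, 4, 3]⟩,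
  ⟨513, [(35, true)], [0, 3, 4, 3, 4, 6, 5, 4, 3, 4, 2, 6]⟩,
  ⟨479, [(35, true), (35, true), (35, true)], [2, 3, 4, 2, 4, 3, 2, 4, 2, 4, 3, 5]⟩,
  ⟨295, [], [1, 5, 4, 5, 4, 3, 2]⟩,
  ⟨559, [(35, true), (35, true)], [2, 4, 2, 3, 4, 3, 4, 4, 4, 2, 4, 3, 4]⟩,
  ⟨535, [], [3]⟩,
  ⟨449, [], [4, 5, 4, 5]⟩,
  ⟨279, [(35, true)], [0, 6, 4, 4, 2, 5, 4, 3, 4, 2]⟩,
  ⟨360, [(35, true)], [2, 4, 2, 3, 4, 3, 4, 2, 4, 5, 5]⟩,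
  ⟨321, [(35, true), (35, true), (35, true)], [5, 4, 2, 3, 4, 3, 6, 4, 3, 4, 6, 5]⟩,
  ⟨443, [], [1, 4, 4, 4, 5]⟩,
  ⟨178, [(35, true)], [3, 5, 4, 3, 4, 3, 6, 4, 4, 3, 5]⟩,
  ⟨149, [(35, true), (35, true)], [2, 3, 4, 6, 4, 3, 4, 4, 6, 5]⟩,
  ⟨413, [], [6, 3, 2, 5]⟩,
  ⟨165, [], [0, 3, 4, 4, 4, 4, 4]⟩,
  ⟨163, [(35, true)], [1, 2, 4, 4, 3, 2, 4, 5, 5, 4, 2, 4]⟩,
  ⟨303, [(35, true), (35, true), (35, true)], [1, 3, 4, 3, 2, 5, 4, 2, 4, 4]⟩,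
  ⟨303, [(35, true)], [0, 3, 6, 4, 2, 5, 5, 4, 2]⟩,
  ⟨160, [(35, true)], [3, 4, 4, 6, 4, 5, 4, 3, 2, 4, 4]⟩,
  ⟨163, [(35, true), (35, true)], [0, 6, 4, 6, 4, 3, 4, 3, 5, 6, 4, 6]⟩,
  ⟨328, [], [6, 5, 6]⟩,
  ⟨185, [(35, true)], [0, 3, 4, 2, 4, 3, 5, 6, 4, 6, 3, 4, 6]⟩,
  ⟨441, [(35, true)], [6, 4, 6, 3, 4, 5, 6, 4, 2, 4, 3]⟩,
  ⟨433, [(35, true)], [1, 2, 4, 3, 5, 5, 4, 2, 3, 4, 3]⟩,
  ⟨295, [(35, true)], [3, 6, 4, 3, 6, 4, 2, 6, 4]⟩,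
  ⟨321, [(35, true), (35, true)], [3, 5, 4, 2, 5, 4, 5, 4, 3, 6, 4, 6]⟩,
  ⟨367, [(35, true), (35, true)], [5, 4, 2, 6, 4, 6, 3, 4, 6]⟩,
  ⟨169, [], []⟩,
  ⟨165, [(35, true)], [2, 3, 4, 4, 5, 6, 4, 3, 4, 4, 5]⟩,
  ⟨149, [(35, true)], [1, 3, 4, 2, 4, 2, 3, 5, 4, 3, 4, 4]⟩,
  ⟨530, [(35, true), (35, true), (35, true)], [3, 5, 5, 4, 3, 4, 2, 4, 2, 6, 3]⟩,
  ⟨530, [(35, true)], [2, 3, 5, 4, 2, 4, 4, 6, 4]⟩,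
  ⟨311, [], [0, 4, 4, 5, 4, 3, 6]⟩,
  ⟨414, [(35, true)], [1, 2, 4, 4, 2, 3, 4, 3, 4, 4, 2, 4, 4]⟩,
  ⟨274, [(35, true)], [0, 6, 4, 6, 3, 4, 6, 4, 4, 2, 4, 3]⟩,
  ⟨358, [(35, true)], [4, 2, 3, 4, 3, 4, 5, 4, 6, 4, 3, 5]⟩,
  ⟨443, [(35, true)], [6, 4, 4, 6, 4, 3, 4, 4, 4, 6, 4, 3]⟩,
  ⟨479, [(35, true), (35, true)], [4, 2, 3, 6, 4, 6, 4, 6]⟩,
  ⟨257, [(35, true), (35, true)], [2, 4, 3, 2, 6, 4, 6, 4, 6]⟩,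
  ⟨446, [], [0, 4, 4, 4, 3, 5]⟩,
  ⟨228, [(35, true), (35, true), (35, true)], [1, 4, 3, 4, 4, 4, 2, 4, 3, 4, 2, 5, 5]⟩,
  ⟨403, [], [6, 5, 6, 4]⟩,
  ⟨344, [(35, true), (35, true), (35, true)], [4, 5, 6, 4, 3, 6, 4, 3, 6, 4, 4, 3]⟩,
  ⟨367, [(35, true), (35, true), (35, true)], [6, 4, 3, 4, 2, 4, 3, 4, 6, 4, 6, 5]⟩,
  ⟨314, [], [4, 5, 4, 2, 5]⟩,
  ⟨344, [(35, true)], [4, 3, 2, 4, 2, 4, 4, 3, 5, 4, 2]⟩,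
  ⟨257, [(35, true), (35, true), (35, true)], [2, 3, 5, 4, 5, 6, 4, 3, 4, 2, 3]⟩,
  ⟨454, [], [1, 5, 5]⟩,
  ⟨228, [(35, true)], [0, 2, 4, 3, 4, 4, 2, 5, 4, 3, 4, 2, 5]⟩,
  ⟨314, [(35, true), (35, true)], [2, 4, 4, 4, 3, 6, 5, 4, 3, 6, 4, 6, 5]⟩,
  ⟨454, [(35, true), (35, true)], [1, 4, 5, 4, 2, 3, 4, 4, 2, 3, 4, 5, 5]⟩,
  ⟨244, [(35, true), (35, true), (35, true)], [2, 3, 4, 6, 3, 5, 4, 3, 4, 2, 4, 4, 5]⟩,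
  ⟨351, [], [0, 4, 6, 4, 6]⟩,
  ⟨454, [(35, true)], [0, 4, 3, 6, 5, 4, 3, 6, 4, 6, 3, 5]⟩,
  ⟨360, [(35, true), (35, true), (35, true)], [2, 5, 4, 3, 4, 2, 4, 2, 3, 4, 2, 5]⟩,
  ⟨279, [(35, true), (35, true), (35, true)], [3, 6, 4, 4, 6, 4, 6, 3, 4, 5, 6]⟩,
  ⟨426, [(35, true), (35, true), (35, true)], [0, 2, 4, 4, 6, 3, 4, 5, 6, 4, 3, 4]⟩,
  ⟨347, [], [5, 5]⟩,
  ⟨314, [(35, true)], [3, 4, 2, 4, 2, 3, 4, 2, 3, 4]⟩,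
  ⟨513, [(35, true), (35, true), (35, true)], [0, 2, 5, 4, 3, 4, 3, 6, 4, 4, 3]⟩,
  ⟨540, [(35, true), (35, true), (35, true)], [2, 4, 4, 4, 3, 5, 4, 6, 3, 4, 3]⟩,
  ⟨514, [], [1]⟩,
  ⟨279, [(35, true), (35, true)], [2, 6, 5, 4, 3, 4, 2, 4, 3, 4, 2, 3]⟩,
  ⟨434, [], [0, 2, 5, 4, 5, 4, 5]⟩,
  ⟨540, [(35, true), (35, true)], [4, 2, 3, 4, 6, 3, 5, 4, 2, 6]⟩,
  ⟨300, [(35, true), (35, true)], [1, 4, 2, 4, 3, 5, 4, 2, 4, 4, 3]⟩,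
  ⟨434, [(35, true)], [0, 2, 4, 3, 4, 2, 4, 6, 3]⟩,
  ⟨339, [], [0]⟩,
  ⟨281, [], [1, 2, 4, 6, 4, 6]⟩,
  ⟨424, [(35, true), (35, true), (35, true)], [1, 4, 4, 3, 4, 4, 4, 6, 4, 3, 4, 4, 6]⟩,
  ⟨185, [(35, true), (35, true), (35, true)], [1, 4, 3, 2, 4, 2, 4, 3, 5, 4, 2, 5]⟩,
  ⟨347, [(35, true), (35, true)], [0, 4, 4, 6, 4, 2, 4, 3, 6, 4, 4, 5]⟩,
  ⟨295, [(35, true), (35, true)], [4, 5, 4, 2, 3, 4, 4, 3, 2, 5, 4]⟩,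
  ⟨479, [(35, true)], [4, 5, 4, 2, 3, 4, 2, 3, 4, 5]⟩,
  ⟨561, [(35, true), (35, true)], [1, 4, 2, 4, 4, 3, 4, 2, 4, 4, 3]⟩,
  ⟨514, [(35, true)], [3, 4, 4, 3, 2, 4, 4, 6, 3]⟩,
  ⟨289, [], [0, 6, 5]⟩,
  ⟨554, [], [1, 6]⟩,
  ⟨357, [(35, true), (35, true), (35, true)], [2, 4, 4, 2, 3, 5, 4, 2, 4, 3, 4, 5, 6]⟩,
  ⟨414, [(35, true), (35, true), (35, true)], [0, 1, 2, 4, 4, 3, 4, 2, 4, 2, 5]⟩,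
  ⟨351, [(35, true), (35, true)], [2, 6, 4, 4, 6, 4, 4, 6, 3]⟩,
  ⟨443, [(35, true), (35, true)], [4, 3, 2, 4, 4, 5, 4]⟩,
  ⟨321, [(35, true)], [6, 4, 3, 5, 6, 4, 3, 2, 4, 4]⟩,
  ⟨311, [(35, true), (35, true)], [4, 3, 6, 4, 3, 2, 6, 5, 4]⟩,
  ⟨481, [], [0, 5, 5]⟩,
  ⟨535, [(35, true), (35, true)], [4, 2, 4, 4, 3, 4, 4, 4, 2, 4]⟩,
  ⟨565, [], [1]⟩,
  ⟨300, [(35, true)], [3, 4, 2, 4, 3, 5, 6, 4, 2, 6, 3, 5]⟩,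
  ⟨561, [(35, true)], [5, 4, 2, 4, 3, 6, 4, 4, 6, 3, 4, 3, 2]⟩,
  ⟨482, [(35, true), (35, true)], [2, 4, 3, 5, 5, 4, 3, 2, 4, 2]⟩,
  ⟨311, [(35, true)], [3, 4, 4, 3, 2, 5, 4, 3, 6, 5, 4, 3]⟩,
  ⟨526, [], [4, 4, 4, 4, 4]⟩,
  ⟨328, [(35, true), (35, true)], [3, 6, 4, 6, 4, 3, 4, 4, 3, 5]⟩,
  ⟨382, [], [5, 4, 5, 4, 2, 5]⟩,
  ⟨402, [(35, true), (35, true)], [2, 4, 3, 4, 4, 2, 4, 4, 4, 3, 4]⟩,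
  ⟨330, [], [0, 5, 4, 5, 4, 3, 5]⟩,
  ⟨449, [(35, true), (35, true)], [1, 2, 4, 3, 5, 5, 4, 3, 2, 4, 2]⟩,
  ⟨328, [(35, true)], [1, 5, 5, 4, 2, 4, 3, 4, 2, 4, 2, 3, 5]⟩,
  ⟨371, [], [2, 3]⟩,
  ⟨413, [(35, true)], [2, 3, 4, 3, 2, 4, 2, 4, 5, 4]⟩,
  ⟨254, [], [2, 5, 4, 5, 4, 5]⟩,
  ⟨149, [(35, true), (35, true), (35, true)], [2, 6, 4, 3, 6, 4, 2, 4, 4]⟩,
  ⟨163, [(35, true), (35, true), (35, true)], [6, 4, 6, 4, 3, 4, 3, 2, 4, 6, 5]⟩,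
  ⟨306, [], [0, 1, 3, 5]⟩,
  ⟨254, [(35, true)], [0, 4, 4, 3, 6, 4, 2, 4, 6, 4, 5]⟩,
  ⟨169, [(35, true)], [2, 3, 4, 5, 4, 6, 4, 4, 3, 6, 4]⟩,
  ⟨410, [], [0, 2, 5, 4, 3, 4, 5, 6, 4, 6]⟩,
  ⟨306, [(35, true), (35, true)], [1, 4, 4, 4, 6, 4, 3, 2, 4, 2, 4, 4, 6]⟩,
  ⟨289, [(35, true)], [4, 2, 4, 4, 3, 4, 4, 2, 4, 4, 3, 6]⟩,
  ⟨336, [], [0, 2, 4, 3, 5, 6, 4, 3, 4, 3]⟩,
  ⟨424, [(35, true)], [2, 6, 5, 4, 2, 3, 4, 3, 4, 2, 4, 3, 2]⟩,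
  ⟨347, [(35, true)], [3, 4, 3, 4, 5, 6, 4, 2, 6, 5, 4, 3]⟩,
  ⟨351, [(35, true)], [2, 4, 3, 4, 2, 3, 4, 4, 6, 3, 2, 4]⟩,
  ⟨351, [(35, true), (35, true), (35, true)], [1, 2, 3, 5, 4, 5, 6, 4, 3]⟩,
  ⟨257, [(35, true)], [5, 4, 2, 5, 4, 3, 4, 4, 2, 3, 4, 5]⟩,
  ⟨443, [(35, true), (35, true), (35, true)], [2, 4, 3, 5, 5, 4, 3, 2, 4, 3]⟩,
  ⟨316, [(35, true), (35, true), (35, true)], [2, 3, 4, 2, 5, 6, 4, 3, 2, 4, 6, 3]⟩,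
  ⟨234, [(35, true), (35, true), (35, true)], [4, 3, 4, 3, 6, 4, 6, 3, 4, 6, 4]⟩,
  ⟨316, [(35, true)], [2, 4, 6, 4, 3, 4, 2, 3, 4, 4, 6, 3]⟩,
  ⟨336, [(35, true), (35, true)], [6, 4, 3, 6, 5, 4, 3, 4, 6, 4, 3, 4, 5]⟩,
  ⟨547, [], [0, 1, 3, 5]⟩,
  ⟨339, [(35, true)], [2, 3, 4, 3, 5, 5, 4, 2, 4, 2, 3, 4, 3]⟩,
  ⟨357, [(35, true)], [2, 6, 4, 3, 4, 2, 4, 2, 3]⟩,
  ⟨347, [(35, true), (35, true), (35, true)], [2, 5, 4, 3, 2, 4, 4, 6, 4, 5, 5]⟩,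
  ⟨367, [(35, true)], [4, 2, 3, 4, 2, 4, 3, 4, 4, 4, 5]⟩,
  ⟨295, [(35, true), (35, true), (35, true)], [4, 2, 4, 2, 3, 4, 2, 4, 4, 4, 3, 4, 2]⟩,
  ⟨234, [(35, true)], [1, 4, 4, 3, 2, 4, 2, 4, 4, 3, 4, 2, 5]⟩,
  ⟨446, [(35, true), (35, true)], [1, 2, 3, 4, 2, 3, 4, 4, 3, 5]⟩,
  ⟨526, [(35, true), (35, true)], [0, 3, 6, 4, 4, 6, 3, 4, 4, 3, 5]⟩,
  ⟨371, [(35, true), (35, true), (35, true)], [1, 4, 4, 4, 2, 5, 4, 3, 4, 2, 3, 5]⟩,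
  ⟨403, [(35, true), (35, true)], [2, 5, 4, 3, 2, 4, 3, 4, 2, 4, 5]⟩,
  ⟨371, [(35, true), (35, true)], [5, 4, 3, 4, 2, 4, 6, 3, 4, 4, 2, 3, 4]⟩,
  ⟨526, [(35, true), (35, true), (35, true)], [4, 3, 6, 4, 6, 3, 4, 5, 6, 4, 2, 3]⟩,
  ⟨454, [(35, true), (35, true), (35, true)], [1, 4, 2, 3, 4, 2, 3, 4, 6, 4, 4, 2]⟩,
  ⟨314, [(35, true), (35, true), (35, true)], [1, 4, 6, 4, 2, 4, 2]⟩,
  ⟨514, [(35, true), (35, true)], [4, 2, 3, 4, 4, 3, 2, 4, 4, 4, 4]⟩,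
  ⟨410, [(35, true), (35, true), (35, true)], [1, 6, 4, 2, 6, 4, 4, 2, 5]⟩,
  ⟨306, [(35, true)], [5, 6, 4, 3, 4, 4, 6, 4, 3, 2, 4, 5]⟩,
  ⟨434, [(35, true), (35, true)], [1, 3, 4, 4, 3, 2, 4, 4, 4, 4]⟩,
  ⟨547, [(35, true), (35, true), (35, true)], [2, 5, 4, 3, 2, 4, 3, 4, 2]⟩,
  ⟨336, [(35, true), (35, true), (35, true)], [3, 4, 2, 3, 4, 3, 4, 4, 4, 6, 4]⟩,
  ⟨554, [(35, true)], [4, 2, 6, 4, 4, 6, 4, 3, 4, 2, 4]⟩,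
  ⟨281, [(35, true), (35, true)], [1, 2, 4, 6, 5, 4, 3, 2, 4, 6, 5]⟩,
  ⟨514, [(35, true), (35, true), (35, true)], [0, 3, 4, 6, 4, 3, 4, 5, 6, 4, 3, 4]⟩,
  ⟨382, [(35, true), (35, true), (35, true)], [0, 3, 6, 4, 5, 6, 4, 3, 4, 5, 6]⟩,
  ⟨330, [(35, true), (35, true), (35, true)], [0, 3, 4, 4, 4, 6, 4, 3, 4, 5, 6, 4, 2]⟩,
  ⟨449, [(35, true), (35, true), (35, true)], [0, 4, 4, 4, 6, 4, 3, 4, 4, 2, 4, 4, 6]⟩,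
  ⟨289, [(35, true), (35, true)], [6, 4, 2, 4, 3, 5, 4, 2, 4, 3, 2, 4]⟩,
  ⟨482, [(35, true)], [4, 5, 4, 6, 4, 3, 6, 4, 6]⟩,
  ⟨565, [(35, true)], [0, 4, 3, 5, 4, 5, 6, 4, 3, 6, 4, 5, 5]⟩,
  ⟨306, [(35, true), (35, true), (35, true)], [2, 3, 5, 4, 2, 4, 3, 5, 6, 4, 2, 4]⟩,
  ⟨565, [(35, true), (35, true)], [4, 4, 4, 3, 4, 6, 4, 3, 4, 2, 3]⟩,
  ⟨559, [(35, true), (35, true), (35, true)], [2, 4, 3, 4, 3, 6, 4, 2, 4, 3, 5]⟩,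
  ⟨281, [(35, true)], [2, 6, 4, 6, 4, 3, 4, 6, 3, 4, 3, 5, 5]⟩,
  ⟨554, [(35, true), (35, true)], [1, 4, 4, 4, 3, 2, 5, 4, 6, 5]⟩,
  ⟨434, [(35, true), (35, true), (35, true)], [6, 4, 2, 3, 5, 4, 3, 4, 6, 3, 4, 4]⟩,
  ⟨481, [(35, true), (35, true), (35, true)], [2, 5, 4, 6, 4, 3, 5]⟩,
  ⟨565, [(35, true), (35, true), (35, true)], [2, 6, 4, 4, 3, 2, 4, 2, 4, 4, 3, 4]⟩,
  ⟨482, [(35, true), (35, true), (35, true)], [0, 1, 6, 5, 4, 2, 4, 3, 4, 2, 4, 2]⟩,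
  ⟨339, [(35, true), (35, true)], [4, 4, 2, 4, 4, 3, 4, 2, 4, 2, 3, 4]⟩,
  ⟨449, [(35, true)], [1, 4, 3, 4, 2, 4, 2, 4, 5, 4, 3]⟩,
  ⟨330, [(35, true)], [3, 4, 2, 3, 4, 4, 6, 4, 6, 3, 4, 2]⟩,
  ⟨336, [(35, true)], [2, 4, 2, 4, 4, 6, 4, 3, 4, 2, 4, 6]⟩,
  ⟨330, [(35, true), (35, true)], [3, 2, 4, 2, 4, 3, 4, 6, 3, 4, 4]⟩,
  ⟨409, [(35, true), (35, true), (35, true)], [4, 2, 4, 6, 3, 4, 2, 4, 3, 5]⟩,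
  ⟨339, [(35, true), (35, true), (35, true)], [4, 4, 6, 5, 4, 3, 4, 2, 4, 3, 2, 6]⟩,
  ⟨481, [(35, true), (35, true)], [2, 4, 4, 3, 4, 2, 5, 4, 5]⟩,
  ⟨402, [(35, true), (35, true), (35, true)], [4, 3, 4, 5, 6, 4, 3, 4, 3, 4, 6]⟩,
  ⟨446, [(35, true), (35, true), (35, true)], [2, 4, 3, 4, 3, 2, 6]⟩,
  ⟨526, [(35, true)], [2, 3, 6, 5, 4, 2, 4, 4, 3, 4, 2, 4]⟩,
  ⟨547, [(35, true), (35, true)], [2, 5, 4, 3, 6, 4, 3, 4, 2, 4, 6, 3, 5]⟩,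
  ⟨561, [(35, true), (35, true), (35, true)], [3, 2, 4, 2, 4, 3, 6, 4, 4, 2, 5, 4]⟩,
  ⟨300, [(35, true), (35, true), (35, true)], [4, 6, 5, 4, 3, 4, 3, 6, 4, 2, 3]⟩,
  ⟨559, [(35, true)], [3, 4, 3, 6, 4, 2, 5, 5, 4, 2, 3, 4]⟩,
  ⟨311, [(35, true), (35, true), (35, true)], [1, 4, 2, 4, 5, 4, 5, 6, 4, 3, 2, 4]⟩,
  ⟨289, [(35, true), (35, true), (35, true)], [0, 4, 3, 4, 2, 6, 5, 4, 2, 4, 4]⟩,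
  ⟨382, [(35, true), (35, true)], [0, 3, 5, 4, 2, 5, 4, 5]⟩,
  ⟨535, [(35, true), (35, true), (35, true)], [3, 4, 4, 4, 6, 3, 2, 4, 5]⟩,
  ⟨403, [(35, true), (35, true), (35, true)], [1, 2, 5, 4, 3, 2, 4, 4, 6]⟩,
  ⟨371, [(35, true)], [2, 3, 4, 2, 3, 4, 4, 6, 4, 6, 5]⟩,
  ⟨410, [(35, true), (35, true)], [6, 4, 2, 4, 3, 4, 4, 6, 4, 3, 4]⟩,
  ⟨409, [(35, true)], [1, 4, 6, 4, 5, 5, 4, 2, 3, 4, 3]⟩,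
  ⟨328, [(35, true), (35, true), (35, true)], [1, 2, 3, 4, 3, 4, 4, 4, 2, 5, 4]⟩,
  ⟨547, [(35, true)], [2, 3, 4, 2, 3, 5, 4, 2, 3]⟩,
  ⟨403, [(35, true)], [0, 3, 4, 6, 4, 4, 3, 6, 4, 4, 4, 2, 4]⟩,
  ⟨410, [(35, true)], [2, 4, 3, 4, 2, 4, 3, 4, 4, 4, 6, 4, 5]⟩,
  ⟨446, [(35, true)], [3, 2, 4, 3, 4, 4, 2, 5, 4, 3, 6]⟩,
  ⟨281, [(35, true), (35, true), (35, true)], [2, 4, 3, 2, 4, 3, 5, 6, 4, 6, 3, 4, 2]⟩,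
  ⟨481, [(35, true)], [1, 2, 4, 2, 3, 4, 6, 4, 4, 2, 5]⟩,
  ⟨554, [(35, true), (35, true), (35, true)], [6, 4, 3, 6, 4, 3, 5, 6]⟩,
  ⟨382, [(35, true)], [0, 5, 6, 4, 4, 2, 5]⟩,
  ⟨402, [(35, true)], [4, 3, 4, 3, 6, 4, 2, 4, 5, 4, 6]⟩,
  ⟨535, [(35, true)], [4, 2, 3, 4, 3, 4, 2, 4, 6, 4, 4, 4]⟩]

noncomputable def coverEdge12 : List Step := [⟨420, [], [1, 6, 4, 6, 4]⟩,
  ⟨326, [], [0, 1, 5, 4, 5, 4]⟩,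
  ⟨147, [(250, false), (250, false), (36, false)], [4, 4, 2, 4, 5, 6, 4, 4]⟩,
  ⟨555, [], []⟩,
  ⟨420, [(250, true)], [4, 2, 3, 5, 4, 3, 4, 3, 2, 4, 4, 5]⟩,
  ⟨120, [(250, false), (250, false)], [0, 5, 4, 2, 4, 3, 4, 4, 4, 6, 4, 3, 4]⟩,
  ⟨120, [(250, true), (250, true), (250, false), (250, false)], [5, 4, 5, 4, 5]⟩,
  ⟨162, [(36, false), (250, false), (128, false), (128, false)], [5, 4, 3, 6, 4, 3, 6, 5, 4, 2, 3, 4, 3]⟩,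
  ⟨326, [(36, true)], [1, 4, 4, 5, 4, 2, 3, 4, 2, 3, 4, 4, 5]⟩,
  ⟨354, [], [1, 3, 2, 4, 4, 4, 4, 2, 4]⟩,
  ⟨120, [(128, true), (128, true), (250, false), (250, false)], [0, 6, 4, 4, 2, 6, 4, 3, 6, 4, 4]⟩,
  ⟨420, [(128, true), (128, true), (250, true)], [1, 3, 4, 3, 4, 2, 3, 4, 3, 2, 4, 4, 4]⟩,
  ⟨162, [(128, true), (128, true), (250, true), (36, true), (36, false), (250, false), (128, false), (128, false)], [0, 1, 2]⟩,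
  ⟨96, [(250, false), (250, false)], [0, 3, 6, 4, 4, 6, 4, 3, 6, 4, 5]⟩,
  ⟨162, [(128, true), (250, true), (36, false), (250, false), (128, false), (128, false)], [0, 6, 4, 3, 4, 2, 4, 4, 4, 6]⟩,
  ⟨555, [(128, true), (128, true), (250, true), (36, true)], [3, 4, 2, 3, 4, 4, 3, 2, 5, 4, 6, 5]⟩,
  ⟨116, [(250, false), (250, false)], [4, 4, 3, 2, 4, 6, 5, 4, 3, 6, 4]⟩,
  ⟨555, [(128, true), (250, true)], [1, 4, 2, 4, 3, 4, 2, 3, 4, 4, 6]⟩,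
  ⟨147, [(36, true), (250, false), (250, false), (36, false)], [6, 3, 2, 4, 3, 4, 6, 4, 2, 5]⟩,
  ⟨94, [(128, false), (250, false), (128, false)], [0, 3, 5, 4, 3, 6, 4, 3, 4, 4, 4, 2]⟩,
  ⟨162, [(36, true), (36, false), (250, false), (128, false), (128, false)], [2, 6, 3, 4, 4, 2, 3, 4, 3, 2, 4, 4, 4]⟩,
  ⟨354, [(36, true)], [3, 6, 4, 2, 6, 4, 6, 4, 3, 4, 2, 3, 4]⟩,
  ⟨252, [], []⟩,
  ⟨341, [], [1]⟩,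
  ⟨355, [], [0, 6, 4, 5, 4, 6, 3, 5]⟩,
  ⟨252, [(36, true)], [5, 4, 2, 4, 2, 3, 4, 2, 4, 2, 5, 5]⟩,
  ⟨420, [(250, true), (250, true)], [4, 4, 4, 2, 3, 4, 3, 2, 4, 5]⟩,
  ⟨120, [(250, true), (250, false), (250, false)], [5, 4, 3, 4, 5, 6, 4, 2, 4, 6, 3, 4, 6]⟩,
  ⟨555, [(128, true), (250, true), (128, true), (36, true)], [0, 3, 5, 4, 3, 5, 6, 4, 6, 3, 5, 4]⟩,
  ⟨116, [(36, true), (250, false), (250, false)], [2, 4, 3, 6, 4, 2, 4, 3, 4, 5, 4, 2]⟩,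
  ⟨354, [(250, true), (36, true)], [0, 6, 4, 4, 3, 4, 6, 5, 4, 3, 4, 6]⟩,
  ⟨162, [(128, true), (250, true), (128, true), (36, true), (36, false), (250, false), (128, false), (128, false)], [4, 2, 3, 5, 4, 3, 6, 4, 4, 6, 3, 4]⟩,
  ⟨96, [(36, true), (250, false), (250, false)], [5, 6, 4, 2, 3, 4, 3, 4, 4, 6]⟩,
  ⟨94, [(250, true), (36, true), (128, false), (250, false), (128, false)], [0, 4, 4, 6, 4, 2, 4, 3, 4, 2, 4, 3]⟩,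
  ⟨555, [(250, true), (250, true), (128, true)], [0, 3, 4, 4, 5, 4, 2, 6, 4, 6]⟩,
  ⟨162, [(250, true), (36, true), (36, false), (250, false), (128, false), (128, false)], [0, 2, 4, 3, 4, 6, 5, 4, 3, 4, 2, 4]⟩,
  ⟨162, [(128, true), (36, true), (250, true), (36, true), (36, false), (250, false), (128, false), (128, false)], [4, 2, 3, 4, 3, 4, 4, 4, 6, 4, 5]⟩,
  ⟨162, [(250, true), (250, true), (128, true), (36, false), (250, false), (128, false), (128, false)], [2, 4, 3, 4, 6, 5, 4, 3, 4, 6, 4, 3, 4]⟩,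
  ⟨354, [(250, true), (128, true), (36, true)], [4, 3, 2, 4, 6, 3, 4, 3, 4]⟩,
  ⟨94, [(128, true), (128, true), (36, true), (128, false), (250, false), (128, false)], [4, 2, 3, 5, 6, 4, 3, 6, 4, 3]⟩,
  ⟨354, [(250, true), (250, true), (128, true)], [3, 6, 4, 3, 4, 6, 4, 5, 5, 4]⟩,
  ⟨96, [(128, true), (128, true), (250, false), (250, false)], [2, 3, 6, 5, 4, 3, 2, 4, 6, 3, 4, 2, 5]⟩,
  ⟨555, [(250, true), (128, true), (250, true), (36, true)], [0, 4, 3, 4, 3, 4, 5, 6, 4, 2, 6, 5]⟩,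
  ⟨555, [(128, true)], [2, 3, 4, 2, 4, 3, 4, 2, 5, 5, 4, 3]⟩,
  ⟨555, [(250, true), (36, true)], [2, 5, 6, 4, 6, 3, 4, 3, 4, 4]⟩,
  ⟨555, [(128, true), (36, true), (250, true), (36, true)], [0, 4, 2, 6, 4, 4, 6, 4, 3, 4, 5]⟩,
  ⟨94, [(250, true), (128, true), (36, true), (128, false), (250, false), (128, false)], [3, 6, 4, 2, 5, 5, 4, 3, 4, 2, 4, 4, 3]⟩,
  ⟨354, [(128, true), (128, true), (36, true)], [2, 5, 5, 4, 3, 4, 3, 2, 4, 4, 3, 5]⟩,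
  ⟨94, [(250, true), (250, true), (128, true), (128, false), (250, false), (128, false)], [2, 4, 3, 4, 2, 4, 6, 4, 6]⟩,
  ⟨116, [(128, true), (128, true), (250, false), (250, false)], [6, 4, 3, 4, 2, 3, 5, 4, 6, 3, 2, 5, 4]⟩,
  ⟨162, [(250, true), (128, true), (250, true), (36, true), (36, false), (250, false), (128, false), (128, false)], [3, 4, 3, 5, 6, 4, 3, 2, 4, 4, 2, 5]⟩,
  ⟨162, [(128, true), (36, false), (250, false), (128, false), (128, false)], [0, 3, 4, 3, 6, 4, 5, 6, 3, 4, 4, 4]⟩,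
  ⟨555, [(36, true)], [6, 4, 6, 4, 6, 3, 2]⟩,
  ⟨94, [(36, true), (128, false), (250, false), (128, false)], [0, 4, 4, 3, 4, 4, 5, 6, 4, 3]⟩,
  ⟨452, [], []⟩,
  ⟨452, [(36, true)], [5, 4, 2, 4, 2, 3, 4, 2, 4, 2, 5, 5]⟩,
  ⟨120, [(128, true), (36, true), (250, false), (250, false)], [4, 4, 4, 3, 4, 2, 4, 3, 4, 3, 6, 4, 5]⟩,
  ⟨420, [(128, true), (36, true), (250, true)], [3, 4, 4, 3, 5, 4, 2, 4, 4]⟩,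
  ⟨420, [(128, true), (250, true)], [2, 4, 4, 2, 5, 4, 3, 4, 3, 2]⟩,
  ⟨120, [(128, true), (250, false), (250, false)], [3, 4, 5, 6, 3, 4, 3, 4, 6, 4, 2, 5]⟩,
  ⟨420, [(36, true), (250, true)], [1, 4, 2, 3, 5, 4, 3, 4, 5, 5]⟩,
  ⟨120, [(36, true), (250, false), (250, false)], [2, 4, 2, 4, 3, 5, 4, 6, 4, 5, 4]⟩,
  ⟨332, [], [1, 3, 4, 2, 3, 5]⟩,
  ⟨354, [(128, true), (250, true), (36, true)], [0, 6, 4, 3, 4, 4, 6, 4, 6, 3, 4, 4]⟩,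
  ⟨310, [], []⟩,
  ⟨94, [(128, true), (250, true), (36, true), (128, false), (250, false), (128, false)], [3, 4, 5, 6, 4, 2, 3, 4, 4, 6, 3, 4]⟩,
  ⟨355, [(36, true)], [6, 4, 4, 2, 6, 4, 4, 6, 3]⟩,
  ⟨341, [(36, true)], [0, 1, 2, 4, 3, 5, 4, 2]⟩,
  ⟨96, [(250, true), (128, true), (250, true), (250, false), (250, false)], [2, 4, 6, 4, 4, 3, 4, 2, 4, 5, 4, 3, 6]⟩,
  ⟨162, [(250, true), (250, true), (128, true), (36, true), (36, false), (250, false), (128, false), (128, false)], [3, 5, 4, 6, 4, 4, 4, 2, 3, 4, 3, 4]⟩,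
  ⟨332, [(36, true)], [6, 3, 4, 6, 4, 5, 5, 4, 3, 4, 6]⟩,
  ⟨116, [(250, true), (128, true), (250, true), (250, false), (250, false)], [2, 3, 4, 2, 3, 4, 5, 5, 4, 2, 3, 4, 3, 2]⟩,
  ⟨555, [(250, true), (250, true), (128, true), (36, true)], [0, 4, 6, 4, 4, 3, 4, 2, 4, 3, 4, 6]⟩,
  ⟨310, [(36, true)], [4, 2, 4, 2, 3, 4, 6, 4, 4, 3, 6]⟩,
  ⟨147, [(128, true), (36, true), (250, true), (250, false), (250, false), (36, false)], [1, 6, 4, 3, 5, 4, 2, 6, 5, 4]⟩,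
  ⟨162, [(250, true), (128, true), (128, true), (36, true), (36, false), (250, false), (128, false), (128, false)], [5, 4, 6, 4, 4, 2, 3, 6, 4, 4, 4]⟩,
  ⟨94, [(128, true), (250, true), (128, false), (250, false), (128, false)], [3, 6, 4, 3, 2, 4, 3, 6, 4, 4, 2]⟩,
  ⟨555, [(128, true), (128, true)], [1, 2, 3, 4, 2, 3, 4, 2, 3, 4, 4]⟩,
  ⟨310, [(128, true), (128, true), (36, true)], [4, 4, 3, 2, 4, 6, 4, 4, 6, 3, 4, 2]⟩,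
  ⟨555, [(250, true), (128, true)], [3, 6, 4, 6, 3, 4, 2, 4, 2, 5, 5]⟩,
  ⟨452, [(128, true), (36, true)], [1, 4, 4, 3, 2, 5, 4, 2, 4, 4, 3, 4, 2]⟩,
  ⟨326, [(128, true), (36, true), (250, true)], [1, 3, 4, 6, 5, 4, 2, 4, 4, 3]⟩,
  ⟨555, [(250, true), (128, true), (128, true), (36, true)], [0, 2, 4, 3, 4, 2, 4, 6, 5, 4, 3, 4]⟩,
  ⟨354, [(128, true), (250, true)], [2, 4, 4, 4, 4, 2, 4, 6]⟩,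
  ⟨162, [(128, true), (128, true), (36, false), (250, false), (128, false), (128, false)], [2, 3, 4, 3, 4, 5, 6, 4, 3, 4, 6, 3, 4]⟩,
  ⟨332, [(128, true), (128, true), (36, true)], [4, 3, 4, 5, 4, 6, 4, 4, 3, 6, 4]⟩,
  ⟨162, [(250, true), (128, true), (36, false), (250, false), (128, false), (128, false)], [4, 3, 6, 5, 4, 3, 4, 2, 4, 4, 5]⟩,
  ⟨252, [(128, true), (36, true)], [1, 4, 4, 2, 3, 5, 4, 2, 4, 4, 3, 4, 2]⟩,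
  ⟨555, [(36, true), (250, true), (36, true)], [0, 4, 4, 3, 5, 4, 2, 4, 6, 3, 4, 4, 3]⟩,
  ⟨555, [(128, true), (250, true), (36, true)], [2, 4, 3, 4, 4, 4, 2, 4, 3, 4, 4, 6]⟩,
  ⟨94, [(250, true), (128, true), (128, false), (250, false), (128, false)], [2, 3, 4, 6, 4, 4, 3, 4, 2]⟩,
  ⟨147, [(36, true), (250, true), (250, true), (250, false), (250, false), (36, false)], [2]⟩,
  ⟨94, [(128, true), (128, true), (250, true), (128, true), (128, false), (250, false), (128, false)], [6, 4, 3, 5, 5, 4, 2, 4, 3, 4, 6, 3]⟩,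
  ⟨96, [(250, true), (250, true), (250, false), (250, false)], [6, 3, 2]⟩,
  ⟨94, [(128, true), (250, true), (128, true), (128, false), (250, false), (128, false)], [0, 6, 3]⟩,
  ⟨162, [(36, true), (250, true), (36, true), (36, false), (250, false), (128, false), (128, false)], [6, 4, 2, 3, 6, 4, 4, 4, 3]⟩,
  ⟨162, [(128, true), (250, true), (36, true), (36, false), (250, false), (128, false), (128, false)], [1, 4, 3, 4, 2, 4, 4, 4, 3, 4, 2, 4, 6]⟩,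
  ⟨162, [(250, true), (250, true), (36, false), (250, false), (128, false), (128, false)], [1, 3, 2, 4, 3, 4, 2, 4, 3, 4, 4, 4, 6]⟩,
  ⟨94, [(128, true), (128, true), (128, false), (250, false), (128, false)], [6, 4, 2, 4, 4, 3, 5, 4, 5, 6, 4, 6]⟩,
  ⟨162, [(250, true), (36, false), (250, false), (128, false), (128, false)], [0, 4, 2, 4, 5, 4, 5, 6, 4, 6, 3]⟩,
  ⟨326, [(128, true), (128, true)], [2, 4, 2, 4, 2, 3, 4, 2, 4, 4, 4, 3, 4]⟩,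
  ⟨162, [(128, true), (128, true), (250, true), (128, true), (36, false), (250, false), (128, false), (128, false)], [5, 4, 2, 4, 3, 5, 6, 4, 3, 2, 4]⟩,
  ⟨354, [(128, true), (36, true)], [1, 4, 5, 5, 4, 2, 3, 4, 3, 4, 4, 2]⟩,
  ⟨555, [(36, true), (250, true), (128, true)], [0, 4, 4, 3, 4, 4, 2, 4, 4, 6, 3, 4]⟩,
  ⟨354, [(250, true), (128, true)], [3, 4, 4, 6, 3, 5, 4, 6, 4, 4, 3]⟩,
  ⟨326, [(36, true), (250, true), (250, true)], [2, 4, 3, 6, 4, 5, 6, 4, 3, 4, 2, 6, 3]⟩,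
  ⟨354, [(128, true), (128, true), (250, true), (128, true)], [2, 4, 5, 6, 3, 4, 2, 3, 4, 4, 3, 5]⟩,
  ⟨116, [(250, true), (250, true), (250, false), (250, false)], []⟩,
  ⟨354, [(128, true), (250, true), (128, true)], [2, 3, 4, 3, 5, 6, 4, 3, 2, 4, 4, 6]⟩,
  ⟨555, [(250, true), (250, true)], [2, 4, 3, 4, 6, 4, 2, 6, 4, 4, 3]⟩,
  ⟨354, [(128, true), (128, true)], [0, 4, 3, 4, 4, 4, 2, 4, 4, 4, 4, 3]⟩,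
  ⟨555, [(250, true)], [4, 5, 4, 3, 6, 5, 4, 2, 4, 3]⟩,
  ⟨147, [(128, true), (128, true), (250, false), (250, false), (36, false)], [2, 3, 6, 5, 4, 3, 4, 2, 3, 4, 3, 4, 6]⟩,
  ⟨555, [(128, true), (128, true), (250, true), (128, true)], [2, 6, 5, 4, 2, 3, 4, 5, 6, 4, 3, 4]⟩,
  ⟨94, [(128, true), (36, true), (128, false), (250, false), (128, false)], [5, 6, 4, 3, 4, 5, 4, 2, 6]⟩,
  ⟨162, [(36, true), (250, true), (128, true), (36, false), (250, false), (128, false), (128, false)], [0, 6, 4, 2, 4, 4, 4, 3, 4, 4, 6, 4]⟩,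
  ⟨555, [(250, true), (250, true), (128, true), (128, true)], [0, 1, 5, 4, 5, 6, 4, 3, 4, 2, 4, 2, 5]⟩,
  ⟨116, [(128, true), (128, true), (36, true), (250, false), (250, false)], [4, 4, 3, 2, 4, 4, 3, 5, 4, 6, 5, 4]⟩,
  ⟨162, [(250, true), (250, true), (128, true), (128, true), (36, false), (250, false), (128, false), (128, false)], [2, 4, 4, 6, 4, 3, 2, 4, 6, 4, 4, 3]⟩,
  ⟨96, [(128, true), (128, true), (36, true), (250, false), (250, false)], [6, 4, 4, 6, 3, 4, 6, 4, 4, 3]⟩,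
  ⟨354, [(128, true)], [3, 4, 6, 5, 4, 2, 4, 3, 4, 6]⟩,
  ⟨332, [(128, true)], [5, 4, 6, 3, 4, 3, 2, 5, 5, 4, 3]⟩,
  ⟨555, [(128, true), (36, true), (250, true)], [3, 4, 4, 6, 4, 2, 3, 4, 3, 5, 6]⟩,
  ⟨94, [(128, true), (128, false), (250, false), (128, false)], [1, 5, 4, 3, 4, 2, 3, 5, 4, 6]⟩,
  ⟨310, [(128, true)], [4, 6, 3, 4, 2, 4, 4, 4, 6]⟩,
  ⟨162, [(128, true), (36, true), (250, true), (36, false), (250, false), (128, false), (128, false)], [3, 5, 4, 3, 2, 5, 6, 4, 4, 2]⟩,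
  ⟨555, [(128, true), (128, true), (250, true)], [1, 5, 6, 4, 3, 4, 2, 5, 6]⟩,
  ⟨162, [(128, true), (128, true), (250, true), (36, false), (250, false), (128, false), (128, false)], [3, 2, 5, 4, 6, 4, 4, 3, 4, 5, 4]⟩,
  ⟨94, [(36, true), (250, true), (36, true), (128, false), (250, false), (128, false)], [4, 4, 3, 2, 5, 6, 4, 3, 6, 4, 3]⟩,
  ⟨162, [(250, true), (250, true), (128, true), (128, true), (36, true), (36, false), (250, false), (128, false), (128, false)], [0, 5, 5, 4, 3, 4, 2, 4, 4, 3, 5, 4]⟩,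
  ⟨555, [(128, true), (128, true), (36, true)], [1, 2, 4, 3, 5, 4, 2, 4, 2, 3, 5, 5, 4]⟩,
  ⟨116, [(128, true), (36, true), (250, false), (250, false)], [2, 3, 4, 6, 4, 4, 3, 2, 4, 3]⟩,
  ⟨452, [(128, true), (128, true), (36, true)], [1, 3, 4, 3, 4, 2, 4, 3, 4, 4, 4, 4, 4, 2]⟩,
  ⟨354, [(36, true), (250, true), (36, true)], [2, 5, 4, 5, 6, 4, 4, 3, 4]⟩,
  ⟨555, [(250, true), (250, true), (128, true), (128, true), (36, true)], [4, 2, 4, 3, 5, 4, 2, 4, 4, 3, 6, 4, 5]⟩,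
  ⟨162, [(128, true), (128, true), (36, true), (36, false), (250, false), (128, false), (128, false)], [5, 4, 6, 4, 3, 4, 3, 6, 4, 6, 3, 5]⟩,
  ⟨96, [(128, true), (36, true), (250, false), (250, false)], [0, 4, 3, 4, 5, 4, 6, 4, 5]⟩,
  ⟨252, [(128, true), (128, true), (36, true)], [1, 2, 4, 2, 4, 3, 4, 2, 4, 4, 4, 4, 4, 3]⟩,
  ⟨452, [(36, true), (250, true), (36, true)], [4, 3, 5, 6, 4, 3, 4, 2, 4, 2, 3]⟩,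
  ⟨310, [(128, true), (36, true)], [0, 2, 6, 5, 4, 2, 4, 6, 3, 4, 2, 5]⟩,
  ⟨252, [(36, true), (250, true), (36, true)], [3, 4, 3, 5, 6, 4, 2, 3, 4, 4, 2, 3]⟩,
  ⟨332, [(128, true), (36, true)], [0, 3, 4, 5, 6, 4, 6, 3, 4, 3, 4]⟩,
  ⟨252, [(36, true), (250, true), (128, true)], [4, 4, 4, 5, 6, 3, 4, 3, 2, 4]⟩,
  ⟨252, [(250, true), (250, true), (36, true)], [0, 3, 4, 5, 6, 4, 2, 4, 6, 4, 6, 3]⟩,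
  ⟨96, [(128, true), (128, true), (250, true), (128, true), (250, false), (250, false)], [1, 6, 4, 2, 3, 5, 5, 4, 2, 3, 4]⟩,
  ⟨555, [(250, true), (128, true), (250, true), (128, true)], [2, 3, 4, 5, 6, 4, 3, 4, 3, 2, 6]⟩,
  ⟨332, [(128, true), (128, true)], [0, 5, 4, 6, 5, 4, 2, 4, 4, 3, 4, 4]⟩,
  ⟨326, [(128, true), (128, true), (36, true)], [3, 6, 4, 3, 6, 4, 6, 3, 4, 4]⟩,
  ⟨332, [(36, true), (250, true), (36, true)], [0, 4, 3, 4, 4, 2, 5, 4, 6]⟩,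
  ⟨147, [(128, true), (250, false), (250, false), (36, false)], [0, 3, 4, 4, 3, 6, 4, 3, 6, 5, 4, 2, 6]⟩,
  ⟨162, [(128, true), (250, true), (128, true), (36, false), (250, false), (128, false), (128, false)], [2, 4, 6, 3, 4, 4, 3, 2, 5, 4, 3, 4]⟩,
  ⟨452, [(36, true), (250, true), (128, true)], [3, 4, 6, 4, 2, 4, 4, 6, 3]⟩,
  ⟨452, [(250, true), (250, true), (36, true)], [5, 4, 6, 4, 3, 4, 2, 4, 2, 3, 4, 4]⟩,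
  ⟨116, [(128, true), (128, true), (250, true), (128, true), (250, false), (250, false)], [1, 2, 3, 4, 2, 3, 5, 5, 4, 2, 3, 4]⟩,
  ⟨162, [(250, true), (128, true), (250, true), (128, true), (36, false), (250, false), (128, false), (128, false)], [0, 5, 4, 3, 4, 3, 6, 4, 4, 5]⟩,
  ⟨310, [(128, true), (128, true)], [3, 6, 4, 6, 3, 2, 5]⟩,
  ⟨147, [(128, true), (128, true), (36, true), (250, false), (250, false), (36, false)], [3, 4, 3, 4, 2, 3, 4, 4, 3, 6, 4, 6]⟩,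
  ⟨310, [(36, true), (250, true), (36, true)], [3, 6, 4, 6, 3, 4, 4, 6, 4, 3]⟩,
  ⟨326, [(128, true)], [2, 4, 2, 3, 4, 2, 4, 3, 4, 4, 4, 5]⟩,
  ⟨555, [(128, true), (250, true), (128, true)], [2, 6, 3, 4, 6, 4, 4, 3, 4, 5]⟩,
  ⟨555, [(128, true), (250, true), (250, true)], [0, 2, 4, 3, 4, 3, 4, 6, 5, 4, 3, 4]⟩,
  ⟨116, [(128, true), (36, true), (250, true), (250, false), (250, false)], [5, 6, 4, 2, 4, 3, 6, 4, 2, 4, 2]⟩,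
  ⟨555, [(36, true), (250, true), (250, true)], [6, 4, 2, 6, 3, 4, 5, 4, 5]⟩,
  ⟨147, [(250, true), (36, true), (250, false), (250, false), (36, false)], [0, 6, 4, 3, 4, 3, 4, 2, 4, 6, 3, 4, 5]⟩,
  ⟨452, [(250, true), (128, true)], [3, 6, 5, 4, 3, 4, 2, 4, 3, 4, 5, 4, 2]⟩,
  ⟨252, [(250, true), (128, true)], [1, 2, 4, 4, 3, 4, 4, 4, 2, 4, 3, 4, 4, 5]⟩,
  ⟨252, [(250, true), (128, true), (128, true)], [1, 4, 6, 5, 4, 3, 4, 4, 2, 3, 4, 3]⟩,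
  ⟨116, [(250, true), (250, false), (250, false)], [5, 6, 4, 2, 3, 4, 2, 3, 4, 4, 6, 3, 5]⟩,
  ⟨310, [(250, true), (128, true), (128, true)], [1, 3, 4, 2, 3, 4, 6, 4, 4, 3, 2, 4, 5]⟩,
  ⟨162, [(128, true), (250, true), (250, true), (36, false), (250, false), (128, false), (128, false)], [1, 4, 4, 5, 6, 4, 3, 2, 4, 4, 5]⟩,
  ⟨96, [(128, true), (36, true), (250, true), (250, false), (250, false)], [3, 5, 4, 5, 6, 4, 3, 4]⟩,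
  ⟨162, [(36, true), (250, true), (250, true), (36, false), (250, false), (128, false), (128, false)], [2, 3, 6, 4, 4, 2, 5, 4, 6, 3, 4, 2, 4]⟩,
  ⟨326, [(250, true), (36, true)], [3, 6, 5, 4, 3, 6, 4, 3, 4, 3, 2]⟩,
  ⟨452, [(250, true), (128, true), (128, true)], [3, 2, 4, 6, 3, 4, 2, 4, 5]⟩,
  ⟨96, [(250, true), (250, false), (250, false)], [1, 4, 2, 4, 2, 3, 4, 3, 2, 4, 5, 4, 6]⟩,
  ⟨332, [(250, true), (128, true), (128, true)], [1, 3, 4, 2, 4, 4, 6, 4, 6]⟩,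
  ⟨116, [(250, true), (128, true), (250, true), (128, true), (250, false), (250, false)], [0, 2, 4, 6, 4, 4, 3, 4, 5]⟩,
  ⟨326, [(250, true), (250, true)], [1, 4, 2, 4, 2, 4, 3, 4, 3, 2, 4, 4]⟩,
  ⟨116, [(128, true), (250, true), (250, true), (250, false), (250, false)], [3, 4, 2, 4, 2, 4, 3, 4, 2, 4, 4, 4]⟩,
  ⟨96, [(128, true), (250, true), (250, true), (250, false), (250, false)], [2, 4, 3, 6, 4, 2, 3, 4, 3, 2, 4, 3, 6]⟩,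
  ⟨555, [(250, true), (250, true), (36, true)], [0, 3, 5, 4, 2, 4, 5, 6, 3, 4, 6, 5, 4]⟩,
  ⟨147, [(250, true), (250, true), (250, false), (250, false), (36, false)], [3, 4, 2, 4, 5, 4, 6, 3, 4, 6, 5]⟩,
  ⟨96, [(250, true), (128, true), (250, true), (128, true), (250, false), (250, false)], [4, 2, 4, 3, 4, 2, 3, 5, 4, 6, 5]⟩,
  ⟨116, [(250, true), (128, true), (250, false), (250, false)], [4, 4, 4, 3, 6, 4, 2, 4, 6, 3, 4]⟩,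
  ⟨354, [(128, true), (250, true), (250, true)], [4, 3, 4, 3, 6, 4, 4, 6, 4, 3, 2]⟩,
  ⟨96, [(250, true), (128, true), (128, true), (250, false), (250, false)], [4, 2, 6, 5, 4, 3, 2, 4, 4, 4]⟩,
  ⟨94, [(128, true), (250, true), (250, true), (128, false), (250, false), (128, false)], [1, 2, 4, 4, 5, 4, 2, 6, 4, 6]⟩,
  ⟨116, [(128, true), (250, false), (250, false)], [0, 1, 3, 4, 2, 5, 6, 4, 4, 2]⟩,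
  ⟨452, [(128, true)], [0, 3, 6, 4, 3, 6, 4, 3, 6, 4, 4]⟩,
  ⟨252, [(128, true)], [3, 6, 4, 3, 6, 4, 3, 6, 4, 4]⟩,
  ⟨326, [(128, true), (36, true)], [0, 4, 3, 4, 5, 4, 6, 4, 3, 6, 4, 6]⟩,
  ⟨555, [(128, true), (36, true)], [1, 2, 4, 4, 3, 4, 2, 4, 3, 2, 4, 5]⟩,
  ⟨332, [(250, true), (36, true)], [0, 5, 4, 3, 6, 4, 6]⟩,
  ⟨555, [(36, true), (250, true)], [0, 3, 4, 3, 4, 6, 3, 4, 3, 4, 2, 6, 4]⟩,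
  ⟨162, [(36, true), (250, true), (36, false), (250, false), (128, false), (128, false)], [4, 5, 4, 3, 6, 5, 4, 2, 3, 6]⟩,
  ⟨94, [(250, true), (128, true), (250, true), (128, false), (250, false), (128, false)], [3, 4, 2, 3, 4, 4, 3, 2, 5, 4, 5, 6, 4]⟩,
  ⟨162, [(250, true), (250, true), (36, true), (36, false), (250, false), (128, false), (128, false)], [0, 4, 5, 6, 3, 4, 4, 4, 2]⟩,
  ⟨96, [(250, true), (128, true), (250, false), (250, false)], [2, 3, 4, 3, 6, 4, 4, 4, 5]⟩,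
  ⟨116, [(250, true), (128, true), (128, true), (250, false), (250, false)], [4, 6, 5, 4, 6, 3, 4, 2, 4, 4, 2]⟩,
  ⟨96, [(128, true), (250, false), (250, false)], [4, 3, 6, 4, 3, 4, 4, 2, 4, 6, 3]⟩,
  ⟨147, [(128, true), (36, true), (250, false), (250, false), (36, false)], [2, 5, 4, 2, 3, 4, 2, 3, 5, 4, 6, 3]⟩,
  ⟨162, [(128, true), (36, true), (36, false), (250, false), (128, false), (128, false)], [4, 4, 3, 4, 2, 4, 3, 6, 4, 4, 3, 6]⟩,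
  ⟨310, [(250, true), (36, true)], [0, 4, 4, 3, 4, 4, 2, 4, 4, 3, 6, 4, 6]⟩,
  ⟨354, [(250, true), (128, true), (250, true)], [4, 3, 6, 4, 4, 2, 5, 4, 6, 3, 4, 2]⟩,
  ⟨116, [(128, true), (250, true), (128, true), (250, false), (250, false)], [4, 3, 6, 5, 4, 3, 4, 4, 6, 4, 4, 2]⟩,
  ⟨555, [(250, true), (128, true), (36, true)], [3, 4, 3, 2, 4, 4, 6, 4, 2]⟩,
  ⟨310, [(250, true), (250, true), (36, true)], [5, 6, 4, 2, 4, 3, 4, 3, 6, 4, 6]⟩,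
  ⟨96, [(128, true), (250, true), (128, true), (250, false), (250, false)], [4, 2, 4, 3, 6, 4, 2, 4, 4, 5, 6]⟩,
  ⟨162, [(250, true), (128, true), (36, true), (36, false), (250, false), (128, false), (128, false)], [4, 3, 6, 4, 3, 4, 4, 5, 6, 4, 3, 6]⟩,
  ⟨332, [(250, true), (250, true), (36, true)], [0, 5, 4, 6, 4, 3, 6, 4, 2, 4, 4]⟩,
  ⟨252, [(128, true), (128, true)], [2, 5, 4, 3, 4, 3, 5, 6, 4, 3, 4, 3]⟩,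
  ⟨452, [(128, true), (128, true)], [0, 4, 4, 6, 5, 4, 3, 4, 6, 3, 4, 5, 5]⟩,
  ⟨555, [(128, true), (250, true), (128, true), (128, true), (36, true)], [5, 4, 6, 3, 4, 2, 3, 5]⟩,
  ⟨310, [(250, true), (128, true)], [2, 3, 6, 4, 3, 6, 4, 3, 4, 3, 2, 4, 6]⟩,
  ⟨162, [(36, true), (250, true), (250, true), (36, true), (36, false), (250, false), (128, false), (128, false)], [3, 4, 6, 3, 5, 4, 2, 4, 3, 4, 3, 5]⟩,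
  ⟨162, [(128, true), (250, true), (128, true), (128, true), (36, true), (36, false), (250, false), (128, false), (128, false)], [6, 5, 4, 3, 6, 4, 5]⟩,
  ⟨332, [(250, true), (128, true)], [0, 4, 4, 4, 3, 4, 5, 6, 4, 3, 4, 6]⟩,
  ⟨555, [(36, true), (250, true), (250, true), (36, true)], [2, 3, 4, 5, 6, 4, 3, 4, 6, 4, 5, 5]⟩,
  ⟨252, [(128, true), (250, true), (128, true)], [0, 3, 4, 3, 4, 2, 4, 2, 4, 3, 6]⟩,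
  ⟨452, [(250, true), (36, true)], [2, 3, 6, 4, 2, 4, 3, 2, 5, 5, 4]⟩,
  ⟨555, [(128, true), (250, true), (250, true), (36, true)], [4, 3, 4, 2, 3, 4, 3, 5, 6, 4, 6, 5]⟩,
  ⟨555, [(128, true), (250, true), (128, true), (128, true)], [1, 5, 4, 3, 4, 2, 5, 5, 4, 3, 4]⟩,
  ⟨162, [(36, true), (250, true), (128, true), (36, true), (36, false), (250, false), (128, false), (128, false)], [5, 6, 3, 4, 2, 3, 4, 4, 2, 3]⟩,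
  ⟨252, [(250, true), (128, true), (36, true)], [2, 3, 5, 4, 2, 3, 4, 2, 3, 4, 2, 3]⟩,
  ⟨326, [(250, true)], [2, 5, 6, 3, 4, 2, 4, 3, 4, 6]⟩,
  ⟨354, [(250, true), (250, true)], [3, 4, 3, 2, 4, 6, 3, 4, 4, 6, 4, 6]⟩,
  ⟨310, [(250, true), (128, true), (36, true)], [3, 4, 3, 4, 4, 6, 4, 3, 4, 5, 6, 3, 4]⟩,
  ⟨94, [(128, true), (128, true), (250, true), (128, false), (250, false), (128, false)], [0, 3, 4, 5, 6, 4, 2, 4, 6, 4, 3, 6]⟩,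
  ⟨332, [(128, true), (250, true), (128, true)], [2, 4, 4, 3, 4, 5, 6, 4, 6, 3, 4, 6]⟩,
  ⟨326, [(128, true), (250, true)], [1, 3, 5, 4, 2, 4, 3, 2, 4, 5]⟩,
  ⟨452, [(128, true), (250, true), (128, true)], [4, 2, 4, 2, 3, 4, 3, 2, 4, 6, 3]⟩,
  ⟨252, [(250, true), (36, true)], [1, 2, 6, 4, 3, 2, 4, 3, 5, 5, 4, 2]⟩,
  ⟨162, [(128, true), (250, true), (250, true), (36, true), (36, false), (250, false), (128, false), (128, false)], [4, 3, 6, 4, 2, 3, 4, 2, 3, 4, 4, 4, 4]⟩,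
  ⟨162, [(128, true), (250, true), (128, true), (128, true), (36, false), (250, false), (128, false), (128, false)], [3, 4, 2, 3, 4, 5, 6, 4, 2, 3, 4, 6]⟩,
  ⟨555, [(36, true), (250, true), (128, true), (36, true)], [1, 2, 5, 4, 2, 4, 3, 4, 2, 4, 4, 3, 5]⟩,
  ⟨452, [(250, true), (128, true), (36, true)], [2, 3, 5, 4, 2, 3, 4, 2, 3, 4, 3, 2]⟩,
  ⟨147, [(250, true), (250, false), (250, false), (36, false)], [1, 3, 5, 4, 6, 5, 4, 3, 4, 5]⟩,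
  ⟨94, [(250, true), (250, true), (128, false), (250, false), (128, false)], [3, 4, 4, 2, 4, 5]⟩,
  ⟨332, [(250, true), (128, true), (36, true)], [3, 5, 4, 3, 2, 4, 6, 3, 4, 6]⟩,
  ⟨354, [(128, true), (128, true), (250, true)], [4, 4, 4, 2, 4, 4, 3, 2, 4]⟩,
  ⟨310, [(128, true), (250, true), (128, true)], [2, 5, 4, 2, 4, 3, 2, 5, 4, 5]⟩,
  ⟨147, [(128, true), (250, true), (250, false), (250, false), (36, false)], [6, 4, 4, 6, 4, 3, 4, 2, 3, 4, 5]⟩,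
  ⟨555, [(128, true), (128, true), (250, true), (128, true), (36, true)], [4, 3, 2, 6, 4, 5, 4, 6, 5, 4, 2, 4]⟩,
  ⟨555, [(250, true), (128, true), (250, true), (128, true), (36, true)], [2, 4, 6, 3, 5, 4, 3, 2, 4, 6, 4]⟩,
  ⟨94, [(36, true), (250, true), (128, false), (250, false), (128, false)], [3, 4, 2, 6, 5, 4, 3, 4, 4, 6, 4]⟩,
  ⟨96, [(128, true), (250, true), (128, true), (128, true), (250, false), (250, false)], [3, 6, 5, 6, 4, 6]⟩,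
  ⟨147, [(250, true), (128, true), (250, false), (250, false), (36, false)], [3, 4, 2, 4, 3, 4, 6, 4]⟩,
  ⟨332, [(36, true), (250, true), (128, true)], [1, 3, 5, 4, 2, 3, 5, 4, 3, 4, 2, 4, 5]⟩,
  ⟨96, [(128, true), (128, true), (250, true), (250, false), (250, false)], [4, 5, 4, 6, 4, 3, 2, 4, 2, 4, 4, 3, 4]⟩,
  ⟨116, [(128, true), (128, true), (250, true), (250, false), (250, false)], [3, 4, 4, 6, 4, 3, 6, 5, 4]⟩,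
  ⟨555, [(250, true), (128, true), (250, true)], [2, 4, 4, 6, 3, 5, 4, 3, 2, 4, 4, 5]⟩,
  ⟨354, [(250, true)], [2, 5, 5, 4, 3, 2, 4, 3, 6, 4, 5, 5]⟩,
  ⟨162, [(128, true), (128, true), (250, true), (128, true), (36, true), (36, false), (250, false), (128, false), (128, false)], [3, 4, 3, 2, 4, 3, 4, 4, 5, 6]⟩,
  ⟨162, [(250, true), (128, true), (250, true), (128, true), (36, true), (36, false), (250, false), (128, false), (128, false)], [1, 3, 5, 5, 4, 3, 4, 2, 4, 2, 4, 3]⟩,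
  ⟨354, [(36, true), (250, true)], [0, 3, 4, 4, 6, 4, 4, 3, 4, 6]⟩,
  ⟨116, [(128, true), (250, true), (128, true), (128, true), (250, false), (250, false)], [2, 5, 6, 4, 4, 3, 6, 4, 3, 6, 4, 2]⟩,
  ⟨326, [(250, true), (128, true)], [2, 4, 4, 6, 4, 3, 6, 4, 6, 4, 4, 2, 3]⟩,
  ⟨310, [(36, true), (250, true), (128, true)], [2, 5, 4, 3, 4, 4, 2, 5, 4, 3, 4, 4]⟩,
  ⟨162, [(250, true), (128, true), (250, true), (36, false), (250, false), (128, false), (128, false)], [1, 4, 3, 4, 4, 6, 4, 3, 4, 4, 2, 4]⟩,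
  ⟨94, [(250, true), (128, false), (250, false), (128, false)], [6, 4, 4, 3, 2, 4, 2, 4, 5, 6, 3]⟩,
  ⟨96, [(36, true), (250, true), (128, true), (250, false), (250, false)], [2, 3, 6, 4, 4, 3, 6, 4, 4, 3, 2, 6]⟩,
  ⟨326, [(36, true), (250, true)], [4, 4, 6, 3, 4, 2, 4, 6]⟩,
  ⟨116, [(36, true), (250, true), (128, true), (250, false), (250, false)], [3, 4, 5, 6, 4, 3, 4, 4, 5, 6, 4, 6]⟩,
  ⟨147, [(36, true), (250, true), (250, false), (250, false), (36, false)], [0, 5, 4, 2, 4, 3, 4, 6, 3, 5]⟩,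
  ⟨555, [(250, true), (128, true), (128, true)], [4, 4, 3, 5, 4, 2, 4, 3, 6, 4, 6, 5]⟩,
  ⟨96, [(128, true), (250, true), (250, false), (250, false)], [4, 4, 3, 2, 5, 4, 2, 4, 4, 3, 4]⟩,
  ⟨162, [(250, true), (128, true), (128, true), (36, false), (250, false), (128, false), (128, false)], [2, 4, 3, 2, 4, 2, 4, 5, 4, 3, 5, 4, 5]⟩,
  ⟨116, [(128, true), (250, true), (250, false), (250, false)], [4, 3, 4, 6, 5, 4, 2, 6, 3, 4, 4]⟩,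
  ⟨96, [(36, true), (250, true), (250, false), (250, false)], [0, 2, 4, 5, 6, 3, 4, 2, 4, 3, 4, 5, 4]⟩,
  ⟨116, [(36, true), (250, true), (250, false), (250, false)], [2, 4, 4, 4, 6, 4, 4, 4, 3, 4]⟩]

/-- the data -/
noncomputable def cover : Cover where
  size := 270
  reps := coverReps
  step := [coverStep0, coverStep1, coverStep2, coverStep3, coverStep4, coverStep5, coverStep6, coverStep7, coverStep8, coverStep9]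
  edge := [coverEdge0, coverEdge1, coverEdge2, coverEdge3, coverEdge4, coverEdge5, coverEdge6, coverEdge7, coverEdge8, coverEdge9, coverEdge10, coverEdge11, coverEdge12]
  bHead := [0]
  bTail := [[3], [3], [], []]

end CfsgLib.Spor.Th
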