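import Cfsg.Agent.Lib.Spor.Th.CoverData
import Cfsg.Agent.Lib.Spor.Th.DerivData

/-!
Checking the edges used for coverage.
-/

namespace CfsgLib.Spor.Th

theorem edge_ok_0 : cover.okEdge deriv 568 0 = true := by decide +kernel

theorem edge_ok_1 : cover.okEdge deriv 568 1 = true := by decide +kernel

theorem edge_ok_2 : cover.okEdge deriv 568 2 = true := by decide +kernel

theorem edge_ok_3 : cover.okEdge deriv 568 3 = true := by decide +kernel

end CfsgLib.Spor.Th
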