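import Cfsg.Agent.Lib.Spor.Th.CoverData
import Cfsg.Agent.Lib.Spor.Th.DerivData

/-!
Checking the edges used for coverage.
-/

namespace CfsgLib.Spor.Th

theorem edge_ok_4 : cover.okEdge deriv 568 4 = true := by decide +kernel

theorem edge_ok_5 : cover.okEdge deriv 568 5 = true := by decide +kernel

end CfsgLib.Spor.Th
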