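import Cfsg.Agent.Lib.Spor.Th.IndexBound
import Cfsg.Agent.Lib.ThCent.Setting

/-!
The index bound in the notation of `Lib/ThCent`, and for the subgroup as printed in the statement.
-/

namespace CfsgLib.Spor.Th

open Cfsg.Spor

theorem gth_eq (g : Th.Gen) : gth g = CfsgLib.ThCent.th g := rfl

theorem subK_eq : subK = CfsgLib.ThCent.dSub := by
  refine le_antisymm ((Subgroup.closure_le _).2 ?_) ((Subgroup.closure_le _).2 ?_)
  · rintro _ ⟨x, hx, hx', rfl⟩
    have hm : ∀ g : Th.Gen, g ≠ .u → gth g ∈ CfsgLib.ThCent.dSub := fun g hg =>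
      Subgroup.subset_closure ⟨g, hg, rfl⟩
    simp only [List.mem_cons, List.not_mem_nil, or_false, not_or] at hx'
    interval_cases x <;> simp [letter, letterList] <;> first
      | omega
      | exact hm _ (by decide)
  · rintro _ ⟨g, hg, rfl⟩
    rw [← gth_eq]
    have hm : ∀ x < 9, letter x ∈ subK := fun x hx =>
      Subgroup.subset_closure ⟨x, by omega, by simp; omega, rfl⟩
    cases g with
    | a => exact hm 0 (by norm_num)
    | b => exact hm 1 (by norm_num)
    | c => exact hm 2 (by norm_num)
    | d => exact hm 3 (by norm_num)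
    | e => exact hm 4 (by norm_num)
    | s => exact hm 5 (by norm_num)
    | t => exact hm 7 (by norm_num)
    | u => exact absurd rfl hg

/-- the index of the group `³D₄(2):3` in the presented group is finite and at most 143127000 as
soon as the involution `a` is nontrivial -/
theorem dSub_index_le (ha : CfsgLib.ThCent.th .a ≠ 1) :
    CfsgLib.ThCent.dSub.index ≠ 0 ∧ CfsgLib.ThCent.dSub.index ≤ 143127000 := by
  have ha' : letter 0 ≠ 1 := ha
  obtain ⟨h, hf⟩ := index_subK_le ha'
  rw [subK_eq] at h hf
  exact ⟨hf.index_ne_zero, h⟩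

end CfsgLib.Spor.Th
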