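import Cfsg.Agent.Lib.Spor.Th.DerivData

/-!
Checking items of the derivation.
-/

namespace CfsgLib.Spor.Th

theorem items_ok_120 : deriv.okItems 120 30 = true := by decide +kernel

theorem items_ok_150 : deriv.okItems 150 30 = true := by decide +kernel

theorem items_ok_180 : deriv.okItems 180 30 = true := by decide +kernel

theorem items_ok_210 : deriv.okItems 210 30 = true := by decide +kernel

end CfsgLib.Spor.Th
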