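import Cfsg.Agent.Lib.Spor.Th.DerivData

/-!
Checking items of the derivation.
-/

namespace CfsgLib.Spor.Th

theorem items_ok_360 : deriv.okItems 360 30 = true := by decide +kernel

theorem items_ok_390 : deriv.okItems 390 30 = true := by decide +kernel

theorem items_ok_420 : deriv.okItems 420 30 = true := by decide +kernel

theorem items_ok_450 : deriv.okItems 450 30 = true := by decide +kernel

end CfsgLib.Spor.Th
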