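import Cfsg.Agent.Lib.Spor.Th.DerivData

/-!
Checking items of the derivation.
-/

namespace CfsgLib.Spor.Th

theorem items_ok_480 : deriv.okItems 480 30 = true := by decide +kernel

theorem items_ok_510 : deriv.okItems 510 30 = true := by decide +kernel

theorem items_ok_540 : deriv.okItems 540 28 = true := by decide +kernel

end CfsgLib.Spor.Th
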