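import Cfsg.Agent.Lib.Spor.Th.Maps

/-!
A checker for the closure of thirteen orbits of the involution centraliser on the cosets of the
triality group.  An item is either an edge `x i * u * n = x j * v` or a stabiliser element
`x i * η = x i`, each justified by earlier items.
-/

namespace CfsgLib.Spor.Th

open CfsgLib.PresCert

/-- the element `n` as a word -/
noncomputable def wN : List Nat := [3, 2, 1, 0, 3, 2, 1]

/-- inverse word -/
noncomputable def twinv : List Nat → List Nat
  | [] => []
  | x :: w => twinv w ++ [tiv x]

/-- the generators of the normalised subgroup -/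
noncomputable def wGens : List (List Nat) :=
  [[0], [2], [4], [3, 2, 3, 4, 3, 2, 3], [5], [7], [9]]

/-- their images under conjugation by `n` -/
noncomputable def wPhi : List (List Nat) :=
  [[2], [0, 2], [2, 3, 2, 6, 4, 3, 2, 3, 6, 4, 3, 2, 3, 5, 4, 3, 2, 3, 6, 4, 3, 6, 6], [4], [5], [7],
    [3, 4, 3, 2, 3, 2, 4, 3, 10]]

/-- the same images, shorter, in the letters of the involution centraliser -/
noncomputable def wPhiS : List (List Nat) :=
  [[2], [0, 2], [3, 2, 3, 10, 3, 2, 3, 9], [4], [5], [7], [3, 4, 3, 2, 3, 2, 4, 3, 10]]

/-- the images under conjugation by the inverse of `n` -/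
noncomputable def wPsi : List (List Nat) :=
  [[0, 2], [0], [3, 4, 2, 3, 2, 4, 3], [3, 2, 3, 10, 3, 2, 3, 9], [5], [7],
    [3, 2, 3, 4, 9, 3, 2, 3]]

/-- one step of a derivation: an earlier edge and how it applies -/
structure Step where
  /-- the edge -/
  edge : Nat
  /-- stabiliser element as a word in stabiliser items, with signs -/
  eta : List (Nat × Bool)
  /-- the remainder as a word in the normalised generators -/
  h : List Nat

/-- An item. -/
inductive Item where
  /-- `x i * u * n = x j * v` -/
  | edge (i : Nat) (u : List Nat) (j : Nat) (v : List Nat)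
  /-- `x i * e = x i` -/
  | stab (i : Nat) (e : List Nat)

/-- A justification. -/
inductive Why where
  /-- a generator of the subgroup, or `n` -/
  | gen
  /-- definition of the orbit -/
  | orbit
  /-- going backwards round a relator -/
  | loop (r : Nat) (g : List Nat) (p : List Step)
  /-- two edges leaving from equivalent points -/
  | dupF (f : Nat) (s : Step)
  /-- two edges arriving at equivalent points -/
  | dupB (f : Nat) (s : Step)

/-- A binary tree of entries, indexed by the digits of a number, least significant first. -/
inductive ITree (α : Type) where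
  /-- an entry -/
  | leaf (x : α)
  /-- a branching -/
  | node (l r : ITree α)

/-- entry `i` -/
noncomputable def ITree.get {α : Type} (t : ITree α) : Nat → α :=
  ITree.rec (motive := fun _ => Nat → α) (fun x _ => x)
    (fun _ _ gl gr i => (Bool.rec (motive := fun _ => Nat → α) gl gr
      (Nat.beq (Nat.land i (nat_lit 1)) (nat_lit 1))) (Nat.shiftRight i (nat_lit 1))) t

/-- The data of a derivation. -/
structure Deriv where
  /-- number of orbits -/
  orbits : Nat
  /-- orbit representatives -/
  root : List (List Nat)
  /-- relators `n m₁ n m₂ ⋯` given by their `mᵢ` -/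
  rels : List (List (List Nat))
  /-- decomposition of the images of the generators -/
  dec : List (List Nat)
  /-- the items -/
  items : ITree (Item × Why)

namespace Deriv

variable (D : Deriv)

/-- an item -/
noncomputable def item (k : Nat) : Item × Why := D.items.get k

/-- word of a product of stabiliser items of orbit `i`, all of them before `k` -/
noncomputable def etaW (k i : Nat) : List (Nat × Bool) → Option (List Nat)
  | [] => some []
  | (t, s) :: l =>
    match (D.item t).1 with
    | .stab i' e =>
      if t < k ∧ i' = i then
        (etaW k i l).map fun w => (bif s then e else twinv e) ++ w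
      else none
    | .edge .. => none

/-- word of a product of normalised generators -/
noncomputable def hW (h : List Nat) : List Nat := (h.map fun x => wGens.getD x []).flatten

/-- word of the image -/
noncomputable def phiW (h : List Nat) : List Nat := (h.map fun x => wPhiS.getD x []).flatten

/-- word of the image under the inverse map -/
noncomputable def psiW (h : List Nat) : List Nat := (h.map fun x => wPsi.getD x []).flatten

/-- the generators are within range -/
noncomputable def okH (h : List Nat) : Bool := h.all fun x => Nat.blt x 7

/-- apply `n⁻¹` to the point `(j, cur)` -/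
noncomputable def back (k j : Nat) (cur : List Nat) (s : Step) : Option (Nat × List Nat) :=
  match (D.item s.edge).1, D.etaW k j s.eta with
  | .edge i u j' v, some e =>
    if s.edge < k ∧ j' = j ∧ Deriv.okH s.h = true ∧ eqC cur (e ++ v ++ Deriv.hW s.h) = true then
      some (i, u ++ Deriv.psiW s.h)
    else none
  | _, _ => none

/-- go backwards round part of a relator -/
noncomputable def backs (k : Nat) : List (List Nat) → List Step → Nat → List Nat →
    Option (Nat × List Nat)
  | m :: ms, s :: p, j, cur =>
    match D.back k j (cur ++ twinv m) s with
    | some q => backs k ms p q.1 q.2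
    | none => none
  | [], [], j, cur => some (j, cur)
  | _, _, _, _ => none

/-- the justification of an item -/
noncomputable def okItem (k : Nat) : Bool :=
  match D.item k with
  | (.stab i e, .gen) => Nat.beq i 0 && decide (e.length = 1) && e.all fun x => [0, 2, 3, 4, 5, 7].contains x
  | (.edge i u j v, .gen) => Nat.beq i 0 && Nat.beq j 0 && u.isEmpty && v.isEmpty
  | (.edge i u j v, .orbit) => v.isEmpty && decide (D.root.getD j [] = D.root.getD i [] ++ u ++ wN)
  | (.edge i u j v, .loop r g p) =>
    match D.rels.getD r [] with
    | m :: ms =>
      decide (r < D.rels.length ∧ g = u) &&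
      (match D.backs k ms.reverse p i g with
        | some (j', cur) => Nat.beq j' j && eqC v (cur ++ twinv m)
        | none => false)
    | [] => false
  | (.stab i e, .loop r g p) =>
    decide (r < D.rels.length) &&
      (match D.backs k (D.rels.getD r []).reverse p i g with
        | some (j', cur) => Nat.beq j' i && eqC e (cur ++ twinv g)
        | none => false)
  | (.stab j e, .dupF f s) =>
    match (D.item f).1, (D.item s.edge).1 with
    | .edge i u₂ j₂ v₂, .edge i₁ u₁ j₁ v₁ =>
      decide (f < k ∧ s.edge < k ∧ i₁ = i ∧ j₁ = j ∧ j₂ = j) && Deriv.okH s.h &&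
      (match D.etaW k i s.eta with
        | some η => eqC u₂ (η ++ u₁ ++ Deriv.hW s.h) && eqC e (v₁ ++ Deriv.phiW s.h ++ twinv v₂)
        | none => false)
    | _, _ => false
  | (.stab i e, .dupB f s) =>
    match (D.item f).1, (D.item s.edge).1 with
    | .edge i₂ u₂ j v₂, .edge i₁ u₁ j₁ v₁ =>
      decide (f < k ∧ s.edge < k ∧ j₁ = j ∧ i₁ = i ∧ i₂ = i) && Deriv.okH s.h &&
      (match D.etaW k j s.eta with
        | some η => eqC v₂ (η ++ v₁ ++ Deriv.hW s.h) && eqC e (u₁ ++ Deriv.psiW s.h ++ twinv u₂)
        | none => false)
    | _, _ => false
  | _ => false

/-- items in an interval are justified -/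
noncomputable def okItems (lo len : Nat) : Bool :=
  allBelow len fun t => D.okItem (Nat.add lo t)

/-- the relators and the decompositions are correct, and the first root is trivial -/
noncomputable def okSetup : Bool :=
  (D.rels.all fun ms => eqG (ms.map fun m => wN ++ m).flatten []) &&
  decide (D.root.getD 0 [] = []) && decide (D.dec.length = 7) &&
  allBelow 7 fun x => Deriv.okH (D.dec.getD x []) && eqC (wPhi.getD x []) (Deriv.hW (D.dec.getD x [])) &&
    eqC (wPhi.getD x []) (wPhiS.getD x []) &&
    eqC (wPsi.getD x []) (Deriv.phiW (D.dec.getD x []))

end Deriv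

end CfsgLib.Spor.Th
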