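import Cfsg.Agent.Lib.Spor.Th.Derive

/-!
Soundness of the derivation checker.
-/

namespace CfsgLib.Spor.Th

open CfsgLib.PresCert

theorem tev_nil : tev [] = 1 := by simp [tev]

theorem tev_winv {w : List Nat} (hw : ∀ x ∈ w, x < 11) : tev (twinv w) = (tev w)⁻¹ := by
  induction w with
  | nil => simp [twinv, tev]
  | cons x w ih =>
    rw [twinv, tev_append, tev_cons, tev_nil, mul_one, tev_cons, mul_inv_rev,
      ih fun y hy => hw y (List.mem_cons_of_mem _ hy), letter_tiv (hw x (List.mem_cons_self ..))]

theorem mem_selC_lt {x : Nat} (h : x ∈ selC) : x < 11 := by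
  simp [selC] at h; omega

theorem mem_selC_lt_winv : ∀ (g : List Nat), (∀ y ∈ twinv g, y < 11) → ∀ x ∈ g, x < 11
  | [], _, x, hx => by simp at hx
  | z :: g, h, x, hx => by
    simp only [twinv, List.mem_append, List.mem_singleton] at h
    rcases List.mem_cons.1 hx with rfl | hx
    · have := h (tiv x) (Or.inr rfl)
      by_contra hc
      have : tiv x = x := List.getD_eq_default _ _ (by simpa using hc)
      omega
    · exact mem_selC_lt_winv g (fun y hy => h y (Or.inl hy)) x hx

theorem tev_flatten_map (f : Nat → List Nat) (h : List Nat) :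
    tev (h.map f).flatten = (h.map fun x => tev (f x)).prod := by
  induction h with
  | nil => simp [tev]
  | cons x h ih => simp [tev_append, ih]

/-- the element `n` -/
noncomputable def elN : Cfsg.Spor.Th := tev wN

/-- the triality subgroup -/
noncomputable def subK : Subgroup Cfsg.Spor.Th :=
  Subgroup.closure {q | ∃ x < 11, x ∉ [9, 10] ∧ letter x = q}

theorem elN_mem : elN ∈ subK := by
  refine Subgroup.list_prod_mem _ fun q hq => ?_
  obtain ⟨x, hx, rfl⟩ := List.mem_map.1 hq
  refine Subgroup.subset_closure ⟨x, ?_, ?_, rfl⟩ <;> simp [wN] at hx ⊢ <;> omega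

theorem phi_gens : ∀ x < 7,
    (elN⁻¹ * tev (wGens.getD x []) * elN = tev (wPhi.getD x [])) := by
  have hK : ∀ x < 6, eqK (wGens.getD x [] ++ wN) (wN ++ wPhi.getD x []) = true := by decide +kernel
  have hG : eqG (wGens.getD 6 [] ++ wN) (wN ++ wPhi.getD 6 []) = true := by decide +kernel
  intro x hx
  have e : tev (wGens.getD x [] ++ wN) = tev (wN ++ wPhi.getD x []) := by
    rcases Nat.lt_succ_iff_lt_or_eq.1 hx with h | rfl
    · exact eqK_sound (hK x h)
    · exact eqG_sound hG
  rw [tev_append, tev_append] at e
  rw [mul_assoc, ← show elN = tev wN from rfl] at *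
  rw [e, inv_mul_cancel_left]

theorem elN_cube : elN * elN * elN = 1 := by
  have : eqG (wN ++ wN ++ wN) [] = true := by decide +kernel
  simpa [tev_append, elN, tev_nil, mul_assoc] using eqG_sound this

namespace Deriv

variable {D : Deriv}

theorem okH_lt {h : List Nat} (hh : Deriv.okH h = true) : ∀ x ∈ h, x < 7 := by
  simp only [okH, List.all_eq_true] at hh
  exact fun x hx => lt_of_blt (hh x hx)

theorem phi_gensS : ∀ x < 7,
    (elN⁻¹ * tev (wGens.getD x []) * elN = tev (wPhiS.getD x [])) := by
  have hS : ∀ x < 7, eqC (wPhi.getD x []) (wPhiS.getD x []) = true := by decide +kernel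
  exact fun x hx => (phi_gens x hx).trans (eqC_sound (hS x hx))

theorem phiW_spec {h : List Nat} (hh : ∀ x ∈ h, x < 7) :
    tev (Deriv.hW h) * elN = elN * tev (Deriv.phiW h) := by
  induction h with
  | nil => simp [hW, phiW, tev_nil]
  | cons x h ih =>
    have e := phi_gensS x (hh x (List.mem_cons_self ..))
    rw [mul_assoc, inv_mul_eq_iff_eq_mul] at e
    simp only [hW, phiW, List.map_cons, List.flatten_cons, tev_append] at ih ⊢
    rw [mul_assoc, ih fun y hy => hh y (List.mem_cons_of_mem _ hy), ← mul_assoc, e, mul_assoc]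

/-- what `okSetup` gives -/
structure Setup (D : Deriv) : Prop where
  rel : ∀ ms ∈ D.rels, tev (ms.map fun m => wN ++ m).flatten = 1 ∧ ∀ m ∈ ms, ∀ x ∈ m, x < 11
  root : D.root.getD 0 [] = []
  dec : ∀ x < 7, (∀ y ∈ D.dec.getD x [], y < 7) ∧ tev (wPhi.getD x []) = tev (Deriv.hW (D.dec.getD x [])) ∧
    tev (wPhi.getD x []) = tev (wPhiS.getD x []) ∧
    tev (wPsi.getD x []) = tev (Deriv.phiW (D.dec.getD x []))

theorem okSetup_spec (h : D.okSetup = true) : Setup D := by
  simp only [okSetup, Bool.and_eq_true, List.all_eq_true, decide_eq_true_eq] at h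
  obtain ⟨⟨⟨h1, h2⟩, -⟩, h4⟩ := h
  refine ⟨fun ms hms => ⟨by simpa [tev_nil] using eqG_sound (h1 ms hms), fun m hm y hy => ?_⟩,
    h2, fun x hx => ?_⟩
  · have e := h1 ms hms
    simp only [eqG, eqIn, Bool.and_eq_true, List.all_eq_true, List.contains_iff_mem] at e
    have := e.1.1 y (List.mem_flatten.2 ⟨_, List.mem_map.2 ⟨m, hm, rfl⟩, List.mem_append_right _ hy⟩)
    simp [selG] at this
    omega
  have := allBelow_spec h4 x hx
  simp only [Bool.and_eq_true] at this
  exact ⟨okH_lt this.1.1.1, eqC_sound this.1.1.2, eqC_sound this.1.2, eqC_sound this.2⟩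

theorem hW_flat (h : List Nat) (f : Nat → List Nat) :
    tev (Deriv.hW (h.map f).flatten) = (h.map fun x => tev (Deriv.hW (f x))).prod := by
  induction h with
  | nil => simp [hW, tev_nil]
  | cons x h ih =>
    simp only [List.map_cons, List.flatten_cons, List.prod_cons]
    rw [← ih]
    simp [hW, tev_append]

theorem psiW_eq (S : Setup D) {h : List Nat} (hh : ∀ x ∈ h, x < 7) :
    tev (Deriv.psiW h) = tev (Deriv.phiW (h.map fun x => D.dec.getD x []).flatten) := by
  induction h with
  | nil => simp [psiW, phiW, tev_nil]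
  | cons x h ih =>
    simp only [psiW, phiW, List.map_cons, List.flatten_cons, List.map_append, List.flatten_append,
      tev_append] at ih ⊢
    rw [ih fun y hy => hh y (List.mem_cons_of_mem _ hy),
      (S.dec x (hh x (List.mem_cons_self ..))).2.2.2]
    rfl

theorem psiW_spec (S : Setup D) {h : List Nat} (hh : ∀ x ∈ h, x < 7) :
    tev (Deriv.hW h) * elN⁻¹ = elN⁻¹ * tev (Deriv.psiW h) := by
  have hd : ∀ y ∈ (h.map fun x => D.dec.getD x []).flatten, y < 7 := by
    intro y hy
    obtain ⟨l, hl, hy⟩ := List.mem_flatten.1 hy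
    obtain ⟨x, hx, rfl⟩ := List.mem_map.1 hl
    exact (S.dec x (hh x hx)).1 y hy
  have e1 : tev (Deriv.phiW h) = tev (Deriv.hW (h.map fun x => D.dec.getD x []).flatten) := by
    rw [hW_flat, phiW, tev_flatten_map]
    refine congrArg List.prod (List.map_congr_left fun x hx => ?_)
    rw [← (S.dec x (hh x hx)).2.2.1, (S.dec x (hh x hx)).2.1]
  have e2 := phiW_spec hh
  have e3 := phiW_spec hd
  rw [← e1] at e3
  have hn : elN * elN = elN⁻¹ := eq_inv_of_mul_eq_one_left elN_cube
  rw [← hn]
  calc tev (Deriv.hW h) * (elN * elN) = elN * (tev (Deriv.phiW h) * elN) := by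
        rw [← mul_assoc, e2, mul_assoc]
    _ = elN * elN * tev (Deriv.psiW h) := by
        rw [e3, psiW_eq S hh, mul_assoc]

/-- the point `(i, g)` -/
noncomputable def pt (D : Deriv) (i : Nat) (g : List Nat) : Cfsg.Spor.Th :=
  tev (D.root.getD i []) * tev g

/-- two points are in the same coset of the triality subgroup -/
def Same (p q : Cfsg.Spor.Th) : Prop := p * q⁻¹ ∈ subK

theorem Same.rfl' (p : Cfsg.Spor.Th) : Same p p := by simp [Same]

theorem Same.symm {p q : Cfsg.Spor.Th} (h : Same p q) : Same q p := by
  simpa [Same] using subK.inv_mem h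

theorem Same.trans {p q r : Cfsg.Spor.Th} (h : Same p q) (h' : Same q r) : Same p r := by
  simpa [Same, mul_assoc] using subK.mul_mem h h'

theorem Same.mul {p q : Cfsg.Spor.Th} (h : Same p q) (x : Cfsg.Spor.Th) :
    Same (p * x) (q * x) := by
  simpa [Same, mul_assoc] using h

/-- the meaning of an item -/
def ItemOK (D : Deriv) : Item → Prop
  | .edge i u j v => Same (D.pt i u * elN) (D.pt j v)
  | .stab i e => Same (D.pt i e) (D.pt i []) ∧ ∀ x ∈ e, x ∈ selC

theorem etaW_spec {k i : Nat} (ih : ∀ t < k, ItemOK D (D.item t).1) :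
    ∀ {l : List (Nat × Bool)} {w : List Nat}, D.etaW k i l = some w →
      Same (D.pt i w) (D.pt i []) := by
  intro l
  induction l with
  | nil =>
    intro w h
    simp only [etaW, Option.some.injEq] at h
    subst h
    exact Same.rfl' _
  | cons a l hl =>
    obtain ⟨t, s⟩ := a
    intro w h
    simp only [etaW] at h
    split at h
    · rename_i i' e hte
      split_ifs at h with hc
      obtain ⟨rest, hr, rfl⟩ := Option.map_eq_some_iff.1 h
      have ht := ih t hc.1
      rw [hte, ItemOK, hc.2] at ht
      obtain ⟨h1, h2⟩ := ht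
      have h3 := hl hr
      cases s
      · have : tev (twinv e) = (tev e)⁻¹ := tev_winv fun x hx => mem_selC_lt (h2 x hx)
        have h4 := ((h1.mul (tev e)⁻¹).symm).mul (tev rest)
        simp only [pt, tev_nil, mul_one, mul_assoc, cond_false, tev_append, this,
          mul_inv_cancel] at h4 h3 ⊢
        exact h4.trans h3
      · have h4 := h1.mul (tev rest)
        simp only [pt, tev_nil, mul_one, mul_assoc, cond_true, tev_append] at h4 h3 ⊢
        exact h4.trans h3
    · simp at h

theorem back_spec (S : Setup D) {k j : Nat} (ih : ∀ t < k, ItemOK D (D.item t).1)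
    {cur : List Nat} {s : Step} {q : Nat × List Nat} (h : D.back k j cur s = some q) :
    Same (D.pt j cur * elN⁻¹) (D.pt q.1 q.2) := by
  simp only [back] at h
  split at h
  · rename_i i u j' v e hit he
    split_ifs at h with hc
    obtain ⟨hk, rfl, hh, heq⟩ := hc
    simp only [Option.some.injEq] at h
    subst h
    have hi := ih _ hk
    rw [hit, ItemOK] at hi
    have h1 := (etaW_spec ih he).mul (tev v * tev (Deriv.hW s.h) * elN⁻¹)
    have h2 := ((hi.mul elN⁻¹).symm).mul (tev (Deriv.psiW s.h))
    simp only [pt, tev_nil, mul_one, eqC_sound heq, tev_append, mul_assoc,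
      psiW_spec S (okH_lt hh), mul_inv_cancel_left] at h1 h2 ⊢
    exact h1.trans h2
  · simp at h

theorem backs_spec (S : Setup D) {k : Nat} (ih : ∀ t < k, ItemOK D (D.item t).1) :
    ∀ (ms : List (List Nat)) (p : List Step) (j : Nat) (cur : List Nat) (q : Nat × List Nat),
      (∀ m ∈ ms, ∀ x ∈ m, x < 11) → D.backs k ms p j cur = some q →
        Same (D.pt j cur) (D.pt q.1 q.2 * tev (ms.reverse.map fun m => wN ++ m).flatten) := by
  intro ms
  induction ms with
  | nil =>
    intro p j cur q _ h
    cases p with
    | nil =>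
      simp only [backs, Option.some.injEq] at h
      subst h
      simpa [tev_nil] using Same.rfl' _
    | cons => simp [backs] at h
  | cons m ms hms =>
    intro p j cur q hlt h
    cases p with
    | nil => simp [backs] at h
    | cons s p =>
      have hm := hlt m (List.mem_cons_self ..)
      simp only [backs] at h
      split at h
      · rename_i r hr
        have h1 := hms p r.1 r.2 q (fun m' hm' => hlt m' (List.mem_cons_of_mem _ hm')) h
        have h2 := (back_spec S ih hr).mul (elN * tev m)
        have h3 := h1.mul (elN * tev m)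
        simp only [pt, tev_append, tev_winv hm, mul_assoc, inv_mul_cancel_left, inv_mul_cancel,
          mul_one] at h2
        simp only [List.reverse_cons, List.map_append, List.flatten_append, List.map_cons,
          List.map_nil, List.flatten_cons, List.flatten_nil, List.append_nil, tev_append,
          show elN = tev wN from rfl, pt, mul_assoc] at h2 h3 ⊢
        exact h2.trans h3
      · simp at h

theorem okItem_spec (S : Setup D) {k : Nat} (ih : ∀ t < k, ItemOK D (D.item t).1)
    (h : D.okItem k = true) : ItemOK D (D.item k).1 := by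
  have hsel : ∀ {u v : List Nat}, eqC u v = true → ∀ x ∈ u, x ∈ selC := by
    intro u v e
    simp only [eqC, eqIn, Bool.and_eq_true, List.all_eq_true, List.contains_iff_mem] at e
    exact e.1.1
  unfold okItem at h
  split at h
  · -- a generator
    rename_i i e hk
    simp only [Bool.and_eq_true, decide_eq_true_eq, List.all_eq_true, List.contains_iff_mem] at h
    obtain ⟨⟨h1, h2⟩, h3⟩ := h
    obtain rfl := Nat.eq_of_beq_eq_true h1
    obtain ⟨x, rfl⟩ := List.length_eq_one_iff.1 h2
    have hx := h3 x (List.mem_singleton_self x)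
    rw [hk, ItemOK]
    refine ⟨?_, fun y hy => ?_⟩
    · simp only [Same, pt, S.root, tev_nil, one_mul, inv_one, mul_one, tev_cons]
      exact Subgroup.subset_closure ⟨x, by simp at hx; omega, by simp at hx ⊢; omega, rfl⟩
    · simp only [List.mem_singleton] at hy
      subst hy
      simp at hx
      simp [selC]
      omega
  · rename_i i u j v hk
    simp only [Bool.and_eq_true, List.isEmpty_iff] at h
    obtain ⟨⟨⟨h1, h2⟩, rfl⟩, rfl⟩ := h
    obtain rfl := Nat.eq_of_beq_eq_true h1
    obtain rfl := Nat.eq_of_beq_eq_true h2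
    rw [hk, ItemOK]
    simp only [Same, pt, S.root]
    simpa [tev_nil] using elN_mem
  · rename_i i u j v hk
    simp only [Bool.and_eq_true, List.isEmpty_iff, decide_eq_true_eq] at h
    obtain ⟨rfl, h2⟩ := h
    rw [hk, ItemOK]
    simp only [Same, pt, h2, tev_append, tev_nil, mul_one, ← show elN = tev wN from rfl]
    simp
  · rename_i i u j v r g p hk
    split at h
    · rename_i m ms hr
      simp only [Bool.and_eq_true, decide_eq_true_eq] at h
      obtain ⟨⟨hlen, rfl⟩, h⟩ := h
      split at h
      · rename_i j' cur hb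
        simp only [Bool.and_eq_true] at h
        obtain ⟨hj, he⟩ := h
        obtain rfl := Nat.eq_of_beq_eq_true hj
        have hmem : m :: ms ∈ D.rels := by
          rw [← hr, List.getD_eq_getElem?_getD, List.getElem?_eq_getElem hlen]
          exact List.getElem_mem _
        obtain ⟨hrel, hlt⟩ := S.rel _ hmem
        have hm := hlt m (List.mem_cons_self ..)
        have hb' := backs_spec S ih _ _ _ _ _ (fun m' hm' =>
          hlt m' (List.mem_cons_of_mem _ (List.mem_reverse.1 hm'))) hb
        rw [List.reverse_reverse] at hb'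
        simp only [List.map_cons, List.flatten_cons, tev_append,
          ← show elN = tev wN from rfl] at hrel
        rw [eq_inv_of_mul_eq_one_right hrel, mul_inv_rev] at hb'
        have := hb'.mul (elN)
        rw [hk, ItemOK]
        simp only [pt, eqC_sound he, tev_append, tev_winv hm, mul_assoc, inv_mul_cancel,
          mul_one] at this ⊢
        exact this
      · simp at h
    · simp at h
  · rename_i i e r g p hk
    simp only [Bool.and_eq_true, decide_eq_true_eq] at h
    obtain ⟨hlen, h⟩ := h
    split at h
    · rename_i j' cur hb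
      simp only [Bool.and_eq_true] at h
      obtain ⟨hj, he⟩ := h
      obtain rfl := Nat.eq_of_beq_eq_true hj
      have hmem : D.rels.getD r [] ∈ D.rels := by
        rw [List.getD_eq_getElem?_getD, List.getElem?_eq_getElem hlen]
        exact List.getElem_mem _
      obtain ⟨hrel, hlt⟩ := S.rel _ hmem
      have hb' := backs_spec S ih _ _ _ _ _
        (fun m hm => hlt m (List.mem_reverse.1 hm)) hb
      rw [List.reverse_reverse, hrel, mul_one] at hb'
      rw [hk, ItemOK]
      refine ⟨?_, hsel he⟩
      have := (hb'.mul (tev g)⁻¹).symm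
      have hg : tev (twinv g) = (tev g)⁻¹ := by
        refine tev_winv fun x hx => ?_
        have e := he
        simp only [eqC, eqIn, Bool.and_eq_true, List.all_eq_true, List.contains_iff_mem] at e
        exact mem_selC_lt_winv g (fun y hy => mem_selC_lt (e.1.2 y (List.mem_append_right _ hy))) x hx
      simp only [pt, eqC_sound he, tev_append, hg, tev_nil, mul_assoc, mul_inv_cancel,
        mul_one] at this ⊢
      exact this
    · simp at h
  · rename_i j e f s hk
    split at h
    · rename_i i u₂ j₂ v₂ i₁ u₁ j₁ v₁ hf hs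
      simp only [Bool.and_eq_true, decide_eq_true_eq] at h
      obtain ⟨⟨⟨hfk, hsk, rfl, rfl, rfl⟩, hh⟩, h⟩ := h
      split at h
      · rename_i η he
        simp only [Bool.and_eq_true] at h
        have A := ih _ hfk
        have B := ih _ hsk
        rw [hf, ItemOK] at A
        rw [hs, ItemOK] at B
        have h1 := (etaW_spec ih he).mul (tev u₁ * tev (Deriv.hW s.h) * elN)
        have h2 := B.mul (tev (Deriv.phiW s.h))
        simp only [pt, eqC_sound h.1, tev_append, tev_nil, mul_one, mul_assoc,
          phiW_spec (okH_lt hh)] at A h1 h2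
        have h3 := (((h2.symm).trans h1.symm).trans A).mul (tev v₂)⁻¹
        have hv : tev (twinv v₂) = (tev v₂)⁻¹ := by
          refine tev_winv fun x hx => ?_
          have e := h.2
          simp only [eqC, eqIn, Bool.and_eq_true, List.all_eq_true, List.contains_iff_mem] at e
          exact mem_selC_lt_winv v₂ (fun y hy => mem_selC_lt (e.1.2 y (List.mem_append_right _ hy))) x hx
        rw [hk, ItemOK]
        refine ⟨?_, hsel h.2⟩
        simp only [pt, eqC_sound h.2, tev_append, hv, tev_nil, mul_one, mul_assoc, mul_inv_cancel]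
          at h3 ⊢
        exact h3
      · simp at h
    · simp at h
  · rename_i i e f s hk
    split at h
    · rename_i i₂ u₂ j v₂ i₁ u₁ j₁ v₁ hf hs
      simp only [Bool.and_eq_true, decide_eq_true_eq] at h
      obtain ⟨⟨⟨hfk, hsk, rfl, rfl, rfl⟩, hh⟩, h⟩ := h
      split at h
      · rename_i η he
        simp only [Bool.and_eq_true] at h
        have A := (ih _ hfk)
        have B := (ih _ hsk)
        rw [hf, ItemOK] at A
        rw [hs, ItemOK] at B
        have A' := A.mul elN⁻¹
        have h1 := (etaW_spec ih he).mul (tev v₁ * tev (Deriv.hW s.h) * elN⁻¹)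
        have h2 := (B.mul elN⁻¹).mul (tev (Deriv.psiW s.h))
        simp only [pt, eqC_sound h.1, tev_append, tev_nil, mul_one, mul_assoc,
          psiW_spec S (okH_lt hh), mul_inv_cancel] at A' h1 h2
        have h3 := ((h2.trans h1.symm).trans A'.symm).mul (tev u₂)⁻¹
        have hv : tev (twinv u₂) = (tev u₂)⁻¹ := by
          refine tev_winv fun x hx => ?_
          have e := h.2
          simp only [eqC, eqIn, Bool.and_eq_true, List.all_eq_true, List.contains_iff_mem] at e
          exact mem_selC_lt_winv u₂ (fun y hy => mem_selC_lt (e.1.2 y (List.mem_append_right _ hy))) x hx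
        rw [hk, ItemOK]
        refine ⟨?_, hsel h.2⟩
        simp only [pt, eqC_sound h.2, tev_append, hv, tev_nil, mul_one, mul_assoc, mul_inv_cancel]
          at h3 ⊢
        exact h3
      · simp at h
    · simp at h
  · simp at h

theorem items_spec (S : Setup D) {N : Nat} (h : ∀ k < N, D.okItem k = true) :
    ∀ k < N, ItemOK D (D.item k).1 := by
  intro k
  induction k using Nat.strong_induction_on with
  | _ k ih => exact fun hk => okItem_spec S (fun t ht => ih t ht (ht.trans hk)) (h k hk)

end Deriv

end CfsgLib.Spor.Th
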