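import Cfsg.Agent.Lib.PresCert.Range

/-!
Deciding equations between words in a group presented by generators and relators, from a coset
table on a subgroup, the regular table of that subgroup, and a permutation action which is
faithful on the subgroup.
-/

namespace CfsgLib.Spor.Th

open CfsgLib.PresCert

theorem lt_of_blt {a b : Nat} (h : Nat.blt a b = true) : a < b := by simpa using h

/-- A presentation: number of generators, inverse map on generators, relators. -/
structure Pres where
  g : Nat
  inv : List Nat
  rels : List (List Nat)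

namespace Pres

variable (P : Pres)

/-- inverse generator -/
noncomputable def iv (x : Nat) : Nat := P.inv.getD x (nat_lit 0)

/-- inverse word -/
noncomputable def winv : List Nat → List Nat
  | [] => []
  | x :: w => winv w ++ [P.iv x]

/-- letter of the free group -/
noncomputable def fletter (x : Nat) : FreeGroup (Fin P.g) :=
  if h : x < P.g then FreeGroup.of ⟨x, h⟩ else 1

/-- relators as elements of the free group -/
def relSet : Set (FreeGroup (Fin P.g)) :=
  {r | ∃ w ∈ P.rels, (w.map P.fletter).prod = r} ∪
    {r | ∃ x < P.g, P.fletter x * P.fletter (P.iv x) = r}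

/-- the presented group -/
abbrev Grp : Type := PresentedGroup P.relSet

/-- generator -/
noncomputable def gen (x : Nat) : P.Grp := PresentedGroup.mk _ (P.fletter x)

/-- value of a word -/
noncomputable def ev (w : List Nat) : P.Grp := (w.map P.gen).prod

/-- the inverse map stays in range -/
noncomputable def okInv : Bool := allBelow P.g fun x => Nat.blt (P.iv x) P.g

theorem gen_mul_iv {x : Nat} (hx : x < P.g) : P.gen x * P.gen (P.iv x) = 1 := by
  rw [gen, gen, ← map_mul]
  exact PresentedGroup.one_of_mem (Or.inr ⟨x, hx, rfl⟩)

theorem gen_iv {x : Nat} (hx : x < P.g) : P.gen (P.iv x) = (P.gen x)⁻¹ :=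
  eq_inv_of_mul_eq_one_right (P.gen_mul_iv hx)

theorem ev_rel {w : List Nat} (hw : w ∈ P.rels) : P.ev w = 1 := by
  have : PresentedGroup.mk P.relSet ((w.map P.fletter).prod) = 1 :=
    PresentedGroup.one_of_mem (Or.inl ⟨w, hw, rfl⟩)
  rw [map_list_prod, List.map_map] at this
  exact this

theorem ev_nil : P.ev [] = 1 := by simp [ev]

theorem ev_cons (x : Nat) (w : List Nat) : P.ev (x :: w) = P.gen x * P.ev w := by simp [ev]

theorem ev_append (u v : List Nat) : P.ev (u ++ v) = P.ev u * P.ev v := by simp [ev]

theorem ev_winv {w : List Nat} (hw : ∀ x ∈ w, x < P.g) : P.ev (P.winv w) = (P.ev w)⁻¹ := by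
  induction w with
  | nil => simp [winv, ev]
  | cons x w ih =>
    rw [winv, ev_append, ev_cons, ev_nil, mul_one, ev_cons, mul_inv_rev,
      ih fun y hy => hw y (List.mem_cons_of_mem _ hy), P.gen_iv (hw x (List.mem_cons_self ..))]

theorem closure_gen : Subgroup.closure {q | ∃ x < P.g, P.gen x = q} = ⊤ := by
  rw [eq_top_iff, ← PresentedGroup.closure_range_of, Subgroup.closure_le]
  rintro _ ⟨x, rfl⟩
  exact Subgroup.subset_closure ⟨x.1, x.2, by simp [gen, fletter, PresentedGroup.of]⟩

/-- a map of the presented group given on the generators -/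
noncomputable def lift {Q : Type*} [Group Q] (f : Nat → Q)
    (h1 : ∀ w ∈ P.rels, (∀ x ∈ w, x < P.g) ∧ (w.map f).prod = 1)
    (h2 : ∀ x < P.g, P.iv x < P.g ∧ f (P.iv x) = (f x)⁻¹) : P.Grp →* Q :=
  PresentedGroup.toGroup (f := fun x : Fin P.g => f x.1) (by
    intro r hr
    rcases hr with ⟨w, hw, rfl⟩ | ⟨x, hx, rfl⟩
    · rw [map_list_prod, List.map_map]
      refine Eq.trans ?_ (h1 w hw).2
      refine congrArg List.prod (List.map_congr_left fun x hx => ?_)
      simp [fletter, (h1 w hw).1 x hx]
    · simp [fletter, hx, (h2 x hx).1, (h2 x hx).2])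

theorem lift_gen {Q : Type*} [Group Q] (f : Nat → Q) (h1) (h2) {x : Nat} (hx : x < P.g) :
    P.lift f h1 h2 (P.gen x) = f x := by
  rw [lift, gen, fletter, dif_pos hx]
  exact PresentedGroup.toGroup.of _

theorem lift_ev {Q : Type*} [Group Q] (f : Nat → Q) (h1) (h2) {w : List Nat}
    (hw : ∀ x ∈ w, x < P.g) : P.lift f h1 h2 (P.ev w) = (w.map f).prod := by
  rw [ev, map_list_prod, List.map_map]
  exact congrArg List.prod (List.map_congr_left fun x hx => P.lift_gen f h1 h2 (hw x hx))

end Pres

/-- follow a word through the table of a certificate -/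
noncomputable def go (C : Cert) : List Nat → Nat → Nat
  | [], c => c
  | x :: w, c => go C w (C.dest c x)

/-- word of a coset, read along at most `k` parents; `none` if that is not enough -/
noncomputable def pathAux (C : Cert) : Nat → Nat → Option (List Nat)
  | 0, v => bif Nat.beq v (nat_lit 0) || Nat.ble v (C.parC v) then some [] else none
  | k + 1, v =>
    bif Nat.beq v (nat_lit 0) || Nat.ble v (C.parC v) then some []
    else (pathAux C k (C.parC v)).map fun w => w ++ [C.parX v]

/-- images of points `p < deg` under the generators -/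
structure Act where
  deg : Nat
  tab : List BTree

namespace Act

variable (A : Act)

/-- image of a point under a generator -/
noncomputable def img (x p : Nat) : Nat := (A.tab.getD x (.leaf (nat_lit 0))).half p

/-- image of a point under a word -/
noncomputable def app : List Nat → Nat → Nat
  | [], p => p
  | x :: w, p => app w (A.img x p)

theorem app_append (u v : List Nat) (p : Nat) : A.app (u ++ v) p = A.app v (A.app u p) := by
  induction u generalizing p with
  | nil => rfl
  | cons x u ih => simp [app, ih]

/-- the tables respect the relators -/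
noncomputable def ok (P : Pres) : Bool :=
  (allBelow P.g fun x => allBelow A.deg fun p =>
    Nat.blt (A.img x p) A.deg && Nat.beq (A.img (P.iv x) (A.img x p)) p) &&
  P.rels.all fun w => (w.all fun x => Nat.blt x P.g) && allBelow A.deg fun p => Nat.beq (A.app w p) p

variable {A} {P : Pres}

theorem ok_gen (h : A.ok P = true) (_hi : P.okInv = true) {x p : Nat} (hx : x < P.g)
    (hp : p < A.deg) : A.img x p < A.deg ∧ A.img (P.iv x) (A.img x p) = p := by
  simp only [ok, Bool.and_eq_true] at h
  have := allBelow_spec (allBelow_spec h.1 x hx) p hp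
  simpa [Bool.and_eq_true, Nat.blt_eq, Nat.beq_eq] using this

/-- permutation of a generator -/
noncomputable def perm (h : A.ok P = true) (hi : P.okInv = true) (x : Nat) :
    Equiv.Perm (Fin A.deg) :=
  if hx : x < P.g then
    { toFun := fun p => ⟨A.img x p, (ok_gen h hi hx p.2).1⟩
      invFun := fun p => ⟨A.img (P.iv x) p,
        (ok_gen h hi (lt_of_blt (allBelow_spec hi x hx)) p.2).1⟩
      left_inv := fun p => Fin.ext (ok_gen h hi hx p.2).2
      right_inv := by
        have hy : P.iv x < P.g := lt_of_blt (allBelow_spec hi x hx)
        have hinj : ∀ p q : Fin A.deg, A.img (P.iv x) p = A.img (P.iv x) q → p = q := by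
          intro p q e
          have := congrArg (A.img (P.iv (P.iv x))) e
          rw [(ok_gen h hi hy p.2).2, (ok_gen h hi hy q.2).2] at this
          exact Fin.ext this
        intro p
        exact hinj _ p ((ok_gen h hi hx (ok_gen h hi hy p.2).1).2) }
  else 1

/-- the action; the inverse is taken so that the first letter acts first -/
noncomputable def hom (h : A.ok P = true) (hi : P.okInv = true) :
    P.Grp →* (Equiv.Perm (Fin A.deg))ᵐᵒᵖ :=
  P.lift (fun x => MulOpposite.op (A.perm h hi x)) (by
    intro w hw
    have h' := h
    simp only [ok, Bool.and_eq_true, List.all_eq_true] at h'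
    have hw' := h'.2 w hw
    have hb : ∀ x ∈ w, x < P.g := fun x hx => lt_of_blt (hw'.1 x hx)
    refine ⟨hb, ?_⟩
    have key : ∀ (v : List Nat), (∀ x ∈ v, x < P.g) → ∀ p : Fin A.deg,
        ((MulOpposite.unop (v.map fun x => MulOpposite.op (A.perm h hi x)).prod) p).1 =
          A.app v p := by
      intro v
      induction v with
      | nil => simp [app]
      | cons x v ih =>
        intro hv p
        simp only [List.map_cons, List.prod_cons, MulOpposite.unop_mul, Equiv.Perm.mul_apply,
          MulOpposite.unop_op, app]
        rw [ih fun y hy => hv y (List.mem_cons_of_mem _ hy)]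
        simp [perm, hv x (List.mem_cons_self ..)]
    refine MulOpposite.unop_injective (Equiv.ext fun p => Fin.ext ?_)
    rw [key w hb p, Nat.eq_of_beq_eq_true (allBelow_spec hw'.2 p p.2)]
    rfl) (by
    intro x hx
    have hy : P.iv x < P.g := lt_of_blt (allBelow_spec hi x hx)
    refine ⟨hy, eq_inv_of_mul_eq_one_right ?_⟩
    refine MulOpposite.unop_injective (Equiv.ext fun p => Fin.ext ?_)
    simp [perm, hx, hy, (ok_gen h hi hx p.2).2])

theorem hom_ev (h : A.ok P = true) (hi : P.okInv = true) (w : List Nat)
    (hw : ∀ x ∈ w, x < P.g) (p : Fin A.deg) :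
    ((MulOpposite.unop (A.hom h hi (P.ev w))) p).1 = A.app w p := by
  induction w generalizing p with
  | nil => simp [Pres.ev, app]
  | cons x w ih =>
    rw [Pres.ev_cons, map_mul, MulOpposite.unop_mul, Equiv.Perm.mul_apply,
      ih (fun y hy => hw y (List.mem_cons_of_mem _ hy)), hom,
      P.lift_gen _ _ _ (hw x (List.mem_cons_self ..))]
    simp [app, perm, hw x (List.mem_cons_self ..)]

end Act

/-- Everything needed to decide equations. -/
structure Sys where
  /-- the presentation -/
  P : Pres
  /-- table on the cosets of a subgroup -/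
  C : Cert
  /-- regular table of the subgroup -/
  L : Cert
  /-- generators of the subgroup as generators of the group -/
  sel : List Nat
  /-- the action -/
  A : Act
  /-- points which distinguish the elements of the subgroup -/
  base : List Nat

namespace Sys

variable (S : Sys)

/-- letter of the subgroup -/
noncomputable def sl (x : Nat) : Nat := S.sel.getD x (nat_lit 0)

/-- word of an element of the subgroup -/
noncomputable def subWord (k : Nat) : Option (List Nat) :=
  (pathAux S.L (nat_lit 64) k).map fun w => w.map S.sl

/-- the certificates fit together -/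
noncomputable def okShape : Bool :=
  S.P.okInv && decide (S.C.g = S.P.g ∧ S.C.inv = S.P.inv ∧ S.C.rels = S.P.rels) &&
  (S.P.rels.all fun w => w.all fun x => Nat.blt x S.P.g) &&
  (S.C.subs.all fun w => w.all fun x => S.sel.contains x) &&
  decide (S.sel.length = S.L.g) &&
  (allBelow S.L.g fun x => Nat.blt (S.sl x) S.P.g && Nat.blt (S.L.iv x) S.L.g &&
    Nat.beq (S.sl (S.L.iv x)) (S.P.iv (S.sl x))) &&
  (S.L.rels.all fun w => (w.all fun x => Nat.blt x S.L.g) && S.P.rels.contains (w.map S.sl)) &&
  S.L.subs.isEmpty &&
  (S.base.all fun p => Nat.blt p S.A.deg) &&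
  (allBelow S.L.n fun v => Nat.beq v (nat_lit 0) || Nat.ble v (S.L.parC v) ||
    (Nat.blt (S.L.parX v) S.L.g))

/-- a nontrivial element of the subgroup moves a base point -/
noncomputable def faithAt (k : Nat) : Bool :=
  Nat.beq k (nat_lit 0) ||
    match S.subWord k with
    | some w => w.all (fun x => Nat.blt x S.P.g) && S.base.any fun p => !(Nat.beq (S.A.app w p) p)
    | none => false

/-- `faithAt` on an interval -/
noncomputable def okFaith (lo len : Nat) : Bool := allBelow len fun j => S.faithAt (Nat.add lo j)

/-- `faithAt` holds on `[lo, hi)` -/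
def FaithOn (lo hi : Nat) : Prop := ∀ k, lo ≤ k → k < hi → S.faithAt k = true

theorem faithOn_of_ok {lo len : Nat} (h : S.okFaith lo len = true) : S.FaithOn lo (lo + len) := by
  intro k h1 h2
  obtain ⟨j, rfl⟩ := Nat.exists_eq_add_of_le h1
  exact allBelow_spec h j (by omega)

theorem FaithOn.join {lo mid hi : Nat} (h : S.FaithOn lo mid) (h' : S.FaithOn mid hi) :
    S.FaithOn lo hi := fun k h1 h2 =>
  (lt_or_ge k mid).elim (h k h1) fun h3 => h' k h3 h2

/-- the word is the identity -/
noncomputable def isOne (w : List Nat) : Bool :=
  (w.all fun x => Nat.blt x S.P.g) && Nat.beq (go S.C w (nat_lit 0)) (nat_lit 0) &&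
    S.base.all fun p => Nat.beq (S.A.app w p) p

/-- two words have the same value -/
noncomputable def same (u v : List Nat) : Bool :=
  (v.all fun x => Nat.blt x S.P.g) && S.isOne (u ++ S.P.winv v)

/-- What has to be checked about a system. -/
structure Valid (jc jl : List Cert.Just) : Prop where
  vc : Cert.Valid S.C jc
  vl : Cert.Valid S.L jl
  shape : S.okShape = true
  act : S.A.ok S.P = true
  faith : S.FaithOn 0 S.L.n

end Sys

end CfsgLib.Spor.Th
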