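import Cfsg.Agent.Lib.Spor.Th.Engine

/-!
Soundness of the decision procedure for equations, and the bound on the group order.
-/

namespace CfsgLib.Spor.Th.Sys

open CfsgLib.PresCert

variable {S : Sys} {jc jl : List Cert.Just}

theorem shape_spec (V : S.Valid jc jl) :
    S.P.okInv = true ∧ (S.C.g = S.P.g ∧ S.C.inv = S.P.inv ∧ S.C.rels = S.P.rels) ∧
    (∀ w ∈ S.P.rels, ∀ x ∈ w, x < S.P.g) ∧ (∀ w ∈ S.C.subs, ∀ x ∈ w, x ∈ S.sel) ∧
    S.sel.length = S.L.g ∧
    (∀ x < S.L.g, S.sl x < S.P.g ∧ S.L.iv x < S.L.g ∧ S.sl (S.L.iv x) = S.P.iv (S.sl x)) ∧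
    (∀ w ∈ S.L.rels, (∀ x ∈ w, x < S.L.g) ∧ w.map S.sl ∈ S.P.rels) ∧
    S.L.subs = [] ∧ (∀ p ∈ S.base, p < S.A.deg) ∧
    (∀ v < S.L.n, v = 0 ∨ v ≤ S.L.parC v ∨ S.L.parX v < S.L.g) := by
  have h := V.shape
  simp only [okShape, Bool.and_eq_true, decide_eq_true_eq, List.all_eq_true,
    List.contains_iff_mem, List.isEmpty_iff] at h
  obtain ⟨⟨⟨⟨⟨⟨⟨⟨⟨h0, h1⟩, h2⟩, h3⟩, h4⟩, h5⟩, h6⟩, h7⟩, h8⟩, h9⟩ := h
  refine ⟨h0, h1, fun w hw x hx => lt_of_blt (h2 w hw x hx), h3, h4, fun x hx => ?_,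
    fun w hw => ⟨fun x hx => lt_of_blt ((h6 w hw).1 x hx), (h6 w hw).2⟩, h7,
    fun p hp => lt_of_blt (h8 p hp), fun v hv => ?_⟩
  · have := allBelow_spec h5 x hx
    simp only [Bool.and_eq_true] at this
    exact ⟨lt_of_blt this.1.1, lt_of_blt this.1.2, Nat.eq_of_beq_eq_true this.2⟩
  · have := allBelow_spec h9 v hv
    simp only [Bool.or_eq_true] at this
    rcases this with (a | a) | a
    · exact Or.inl (Nat.eq_of_beq_eq_true a)
    · exact Or.inr (Or.inl (Nat.le_of_ble_eq_true a))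
    · exact Or.inr (Or.inr (lt_of_blt a))

/-- the subgroup -/
noncomputable def sub (S : Sys) : Subgroup S.P.Grp :=
  Subgroup.closure {q | ∃ x < S.L.g, S.P.gen (S.sl x) = q}

theorem iv_eq (V : S.Valid jc jl) (x : Nat) : S.C.iv x = S.P.iv x := by
  simp [Cert.iv, Pres.iv, (shape_spec V).2.1.2.1]

/-- the model of the big table -/
noncomputable def modelC (V : S.Valid jc jl) : Model S.C S.P.Grp where
  gen := S.P.gen
  gen_inv := fun x hx => by
    obtain ⟨h0, ⟨hg, -⟩, -⟩ := shape_spec V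
    rw [hg] at hx ⊢
    rw [iv_eq V]
    exact ⟨lt_of_blt (allBelow_spec h0 x hx), S.P.gen_iv hx⟩
  rels_eq := fun r hr => by
    obtain ⟨-, ⟨hg, -, hrels⟩, hlt, -⟩ := shape_spec V
    rw [hrels] at hr
    exact ⟨hg ▸ hlt r hr, S.P.ev_rel hr⟩
  sub := S.sub
  subs_mem := fun r hr => by
    obtain ⟨-, -, -, hs, hl, -⟩ := shape_spec V
    refine Subgroup.list_prod_mem _ fun q hq => ?_
    obtain ⟨x, hx, rfl⟩ := List.mem_map.1 hq
    obtain ⟨i, hi, e⟩ := List.getElem_of_mem (hs r hr x hx)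
    refine Subgroup.subset_closure ⟨i, hl ▸ hi, ?_⟩
    simp [sl, List.getD_eq_getElem?_getD, List.getElem?_eq_getElem hi, e]
  closure_gen := by
    rw [(shape_spec V).2.1.1]
    exact S.P.closure_gen

theorem slgen_inv (V : S.Valid jc jl) {x : Nat} (hx : x < S.L.g) :
    S.L.iv x < S.L.g ∧ S.P.gen (S.sl (S.L.iv x)) = (S.P.gen (S.sl x))⁻¹ := by
  obtain ⟨a, b, c⟩ := (shape_spec V).2.2.2.2.2.1 x hx
  exact ⟨b, by rw [c, S.P.gen_iv a]⟩

/-- the model of the regular table of the subgroup -/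
noncomputable def modelL (V : S.Valid jc jl) : Model S.L S.sub where
  gen := fun x => if hx : x < S.L.g then
    ⟨S.P.gen (S.sl x), Subgroup.subset_closure ⟨x, hx, rfl⟩⟩ else 1
  gen_inv := fun x hx => by
    obtain ⟨h1, h2⟩ := slgen_inv V hx
    refine ⟨h1, Subtype.ext ?_⟩
    simp [hx, h1, h2]
  rels_eq := fun r hr => by
    obtain ⟨h1, h2⟩ := (shape_spec V).2.2.2.2.2.2.1 r hr
    refine ⟨h1, Subtype.ext ?_⟩
    rw [SubmonoidClass.coe_list_prod, List.map_map]
    refine Eq.trans (congrArg List.prod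
      (List.map_congr_left (g := fun x => S.P.gen (S.sl x)) fun x hx => ?_)) ?_
    · simp [h1 x hx]
    · simpa [Pres.ev, List.map_map, Function.comp_def] using S.P.ev_rel h2
  sub := ⊥
  subs_mem := fun r hr => by simp [(shape_spec V).2.2.2.2.2.2.2.1] at hr
  closure_gen := by
    rw [eq_top_iff]
    rintro ⟨q, hq⟩ -
    induction hq using Subgroup.closure_induction'' with
    | mem q hq =>
      obtain ⟨x, hx, rfl⟩ := hq
      exact Subgroup.subset_closure ⟨x, hx, Subtype.ext (by simp [hx])⟩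
    | inv_mem q hq =>
      obtain ⟨x, hx, rfl⟩ := hq
      obtain ⟨h1, h2⟩ := slgen_inv V hx
      exact Subgroup.subset_closure ⟨_, h1, Subtype.ext (by simp [h1, h2])⟩
    | one => exact one_mem _
    | mul a b ha hb iha ihb => exact mul_mem iha ihb

theorem rel_slot (V : S.Valid jc jl) {c x : Nat} (hc : c < S.C.n) (hx : x < S.P.g) :
    S.C.dest c x < S.C.n ∧ Cert.Rel (modelC V) c (S.P.gen x) (S.C.dest c x) := by
  have hx' : x < S.C.g := (shape_spec V).2.1.1 ▸ hx
  exact ⟨Cert.dest_lt V.vc hc hx', Cert.slots_ok (modelC V) V.vc _ c x hc hx' rfl⟩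

theorem rel_go (V : S.Valid jc jl) : ∀ (w : List Nat) {c : Nat}, c < S.C.n →
    (∀ x ∈ w, x < S.P.g) →
    go S.C w c < S.C.n ∧ Cert.Rel (modelC V) c (S.P.ev w) (go S.C w c)
  | [], c, hc, _ => ⟨hc, by simpa [go, Pres.ev] using Cert.rel_refl (modelC V) c⟩
  | x :: w, c, hc, hw => by
    obtain ⟨h1, h2⟩ := rel_slot V hc (hw x (List.mem_cons_self ..))
    obtain ⟨h3, h4⟩ := rel_go V w h1 fun y hy => hw y (List.mem_cons_of_mem _ hy)
    exact ⟨h3, by rw [Pres.ev_cons]; exact Cert.rel_trans (modelC V) h2 h4⟩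

theorem mem_sub_of_go (V : S.Valid jc jl) {w : List Nat} (hw : ∀ x ∈ w, x < S.P.g)
    (h : go S.C w 0 = 0) : S.P.ev w ∈ S.sub := by
  have := (rel_go V w V.vc.pos hw).2
  rw [h] at this
  simpa [Cert.Rel, Cert.val_zero, modelC] using this

theorem val_path (V : S.Valid jc jl) : ∀ (k v : Nat) (w : List Nat), v < S.L.n →
    pathAux S.L k v = some w →
    ((Cert.val (modelL V) v : S.sub) : S.P.Grp) = S.P.ev (w.map S.sl) := by
  have stop : ∀ v, (Nat.beq v 0 || Nat.ble v (S.L.parC v)) = true →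
      ((Cert.val (modelL V) v : S.sub) : S.P.Grp) = 1 := by
    intro v hb
    have h : v = 0 ∨ v ≤ S.L.parC v := by simpa using hb
    rcases v with _ | v
    · simp [Cert.val_zero]
    · simp only [Cert.val, Cert.valAux]
      rw [if_pos h]
      rfl
  intro k
  induction k with
  | zero =>
    intro v w _ h
    simp only [pathAux] at h
    cases hb : (Nat.beq v 0 || Nat.ble v (S.L.parC v)) with
    | false => simp [hb] at h
    | true =>
      simp only [hb, cond_true, Option.some.injEq] at h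
      subst h
      simp [stop v hb, Pres.ev]
  | succ k ih =>
    intro v w hv h
    simp only [pathAux] at h
    cases hb : (Nat.beq v 0 || Nat.ble v (S.L.parC v)) with
    | true =>
      simp only [hb, cond_true, Option.some.injEq] at h
      subst h
      simp [stop v hb, Pres.ev]
    | false =>
      simp only [hb, cond_false] at h
      obtain ⟨w', hw', rfl⟩ := Option.map_eq_some_iff.1 h
      have h' : ¬ (v = 0 ∨ v ≤ S.L.parC v) := by
        intro h
        have : (Nat.beq v 0 || Nat.ble v (S.L.parC v)) = true := by simpa using h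
        rw [hb] at this
        exact Bool.false_ne_true this
      have hlt : S.L.parC v < v := by omega
      have hp : S.L.parX v < S.L.g := by
        rcases (shape_spec V).2.2.2.2.2.2.2.2.2 v hv with a | a | a
        · exact absurd a fun h => h' (Or.inl h)
        · omega
        · exact a
      rw [Cert.val_step (modelL V) hlt, Subgroup.coe_mul, ih _ w' (hlt.trans hv) hw',
        List.map_append, Pres.ev_append]
      simp [modelL, Pres.ev, hp]

theorem sub_elem (V : S.Valid jc jl) {q : S.P.Grp} (hq : q ∈ S.sub) :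
    ∃ k < S.L.n, q = (Cert.val (modelL V) k : S.sub) := by
  obtain ⟨k, hk, h⟩ := Cert.exists_coset (modelL V) V.vl ⟨q, hq⟩
  have e : (⟨q, hq⟩ : S.sub) = Cert.val (modelL V) k := by
    simpa [modelL, mul_inv_eq_one] using h
  exact ⟨k, hk, congrArg Subtype.val e⟩

theorem isOne_sound (V : S.Valid jc jl) {w : List Nat} (h : S.isOne w = true) : S.P.ev w = 1 := by
  simp only [isOne, Bool.and_eq_true, List.all_eq_true] at h
  obtain ⟨⟨h1, h2⟩, h3⟩ := h
  have hw : ∀ x ∈ w, x < S.P.g := fun x hx => lt_of_blt (h1 x hx)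
  obtain ⟨k, hk, e⟩ := sub_elem V (mem_sub_of_go V hw (Nat.eq_of_beq_eq_true h2))
  by_cases h0 : k = 0
  · subst h0
    simpa [Cert.val_zero] using e
  · exfalso
    have hb : Nat.beq k 0 = false := by simpa [Bool.eq_false_iff] using h0
    have hf := V.faith k (Nat.zero_le k) hk
    simp only [faithAt, hb, Bool.false_or] at hf
    split at hf
    swap
    · simp at hf
    rename_i v hsw
    obtain ⟨w0, hw0, rfl⟩ := Option.map_eq_some_iff.1 hsw
    rw [val_path V _ k w0 hk hw0] at e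
    simp only [Bool.and_eq_true, List.all_eq_true, List.any_eq_true] at hf
    obtain ⟨hv, p, hp, hne⟩ := hf
    have hpd := (shape_spec V).2.2.2.2.2.2.2.2.1 p hp
    have hi := (shape_spec V).1
    have a1 := Act.hom_ev V.act hi w hw ⟨p, hpd⟩
    have a2 := Act.hom_ev V.act hi _ (fun x hx => lt_of_blt (hv x hx)) ⟨p, hpd⟩
    rw [← e, a1] at a2
    rw [← a2, Nat.eq_of_beq_eq_true (h3 p hp)] at hne
    simp at hne

theorem winv_lt (V : S.Valid jc jl) : ∀ {v : List Nat}, (∀ x ∈ v, x < S.P.g) →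
    ∀ x ∈ S.P.winv v, x < S.P.g
  | [], _, x, hx => by simp [Pres.winv] at hx
  | y :: v, hv, x, hx => by
    simp only [Pres.winv, List.mem_append, List.mem_singleton] at hx
    rcases hx with hx | rfl
    · exact winv_lt V (fun z hz => hv z (List.mem_cons_of_mem _ hz)) x hx
    · exact lt_of_blt (allBelow_spec (shape_spec V).1 y (hv y (List.mem_cons_self ..)))

theorem same_sound (V : S.Valid jc jl) {u v : List Nat} (h : S.same u v = true) :
    S.P.ev u = S.P.ev v := by
  simp only [same, Bool.and_eq_true, List.all_eq_true] at h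
  have := isOne_sound V h.2
  rw [Pres.ev_append, S.P.ev_winv fun x hx => lt_of_blt (h.1 x hx)] at this
  exact mul_inv_eq_one.1 this

theorem card_le (V : S.Valid jc jl) :
    Finite S.P.Grp ∧ Nat.card S.P.Grp ≤ S.C.n * S.L.n := by
  obtain ⟨hc, hfi⟩ := Cert.index_le (modelC V) V.vc
  obtain ⟨hl, hlf⟩ := Cert.index_le (modelL V) V.vl
  have hl' : (⊥ : Subgroup S.sub).index ≤ S.L.n := hl
  rw [Subgroup.index_bot] at hl'
  have : Finite S.sub := by
    refine Nat.finite_of_card_ne_zero ?_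
    have := hlf.index_ne_zero
    change (⊥ : Subgroup S.sub).index ≠ 0 at this
    rwa [Subgroup.index_bot] at this
  have hne : Nat.card S.P.Grp ≠ 0 := by
    rw [← Subgroup.index_mul_card S.sub]
    exact Nat.mul_ne_zero hfi.index_ne_zero Nat.card_pos.ne'
  refine ⟨Nat.finite_of_card_ne_zero hne, ?_⟩
  rw [← Subgroup.index_mul_card S.sub]
  exact Nat.mul_le_mul hc hl'

end CfsgLib.Spor.Th.Sys
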