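import Cfsg.Agent.Lib.Spor.Th.OrbitBound
import Cfsg.Agent.Lib.ThCent.Simple

/-!
The presented Thompson group from a lower bound of its order.
-/

set_option maxRecDepth 100000

namespace CfsgLib.Spor.Th

open Cfsg.Spor

/-- order and index from nontriviality and divisibility -/
theorem thFacts_of (hNT : Nontrivial Cfsg.Spor.Th)
    (hd : ∀ [Finite Cfsg.Spor.Th], 90745943887872000 ∣ Nat.card Cfsg.Spor.Th) :
    CfsgLib.ThCent.ThFacts := by
  have ha : CfsgLib.ThCent.th .a ≠ 1 := fun h =>
    CfsgLib.ThCent.not_comm_ab hNT (by rw [h]; exact Commute.one_left _)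
  obtain ⟨hne, hle⟩ := dSub_index_le ha
  have hD : Nat.card CfsgLib.ThCent.dSub = 634023936 := CfsgLib.ThCent.card_dSub hNT
  have h := Subgroup.index_mul_card CfsgLib.ThCent.dSub
  rw [hD] at h
  have : Finite Cfsg.Spor.Th := Nat.finite_of_card_ne_zero (by omega)
  obtain ⟨k, hk⟩ := hd
  have hN : (90745943887872000 : ℕ) = 143127000 * 634023936 := by norm_num
  rw [hk, hN, mul_right_comm, Nat.mul_left_inj (by norm_num)] at h
  have hk1 : k = 1 := by
    refine le_antisymm ?_ (Nat.one_le_iff_ne_zero.2 fun h0 => hne (by rw [h, h0, mul_zero]))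
    rw [h] at hle
    by_contra hc
    have : 143127000 * 2 ≤ 143127000 * k := Nat.mul_le_mul_left _ (Nat.not_le.1 hc)
    omega
  refine ⟨?_, ?_⟩
  · rw [hk, hk1, mul_one]
  · rw [h, hk1, mul_one]

variable (hNT : Nontrivial Cfsg.Spor.Th)
  (hd : ∀ [Finite Cfsg.Spor.Th], 90745943887872000 ∣ Nat.card Cfsg.Spor.Th)

include hNT hd

/-- the presented group is simple of the order of the Thompson group -/
theorem isTh_of : Cfsg.IsTh Cfsg.Spor.Th :=
  CfsgLib.ThCent.isTh (thFacts_of hNT hd) (orbitBound (thFacts_of hNT hd))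

end CfsgLib.Spor.Th
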