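import Cfsg.Agent.Lib.Spor.Th.DerivPart0
import Cfsg.Agent.Lib.Spor.Th.DerivPart1
import Cfsg.Agent.Lib.Spor.Th.DerivPart2
import Cfsg.Agent.Lib.Spor.Th.DerivPart3
import Cfsg.Agent.Lib.Spor.Th.DerivPart4
import Cfsg.Agent.Lib.Spor.Th.CoverChk
import Cfsg.Agent.Lib.Spor.Th.CoverEdge0
import Cfsg.Agent.Lib.Spor.Th.CoverEdge1
import Cfsg.Agent.Lib.Spor.Th.CoverEdge2
import Cfsg.Agent.Lib.Spor.Th.CoverEdge3
import Cfsg.Agent.Lib.Spor.Th.CoverEdge4
import Cfsg.Agent.Lib.Spor.Th.ChainChk

/-!
The triality subgroup of the presented Thompson group has index at most 143127000, provided the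
central involution is nontrivial.
-/

namespace CfsgLib.Spor.Th

open CfsgLib.PresCert

theorem items_ok : ∀ k < 568, deriv.okItem k = true := by
  intro k hk
  have key : ∀ lo len, deriv.okItems lo len = true → lo ≤ k → k < lo + len →
      deriv.okItem k = true := by
    intro lo len h h1 h2
    obtain ⟨j, rfl⟩ := Nat.exists_eq_add_of_le h1
    exact allBelow_spec h j (by omega)
  rcases lt_or_ge k 30 with h0 | h0
  · exact key 0 30 items_ok_0 (by omega) (by omega)
  rcases lt_or_ge k 60 with h30 | h30
  · exact key 30 30 items_ok_30 (by omega) (by omega)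
  rcases lt_or_ge k 90 with h60 | h60
  · exact key 60 30 items_ok_60 (by omega) (by omega)
  rcases lt_or_ge k 120 with h90 | h90
  · exact key 90 30 items_ok_90 (by omega) (by omega)
  rcases lt_or_ge k 150 with h120 | h120
  · exact key 120 30 items_ok_120 (by omega) (by omega)
  rcases lt_or_ge k 180 with h150 | h150
  · exact key 150 30 items_ok_150 (by omega) (by omega)
  rcases lt_or_ge k 210 with h180 | h180
  · exact key 180 30 items_ok_180 (by omega) (by omega)
  rcases lt_or_ge k 240 with h210 | h210
  · exact key 210 30 items_ok_210 (by omega) (by omega)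
  rcases lt_or_ge k 270 with h240 | h240
  · exact key 240 30 items_ok_240 (by omega) (by omega)
  rcases lt_or_ge k 300 with h270 | h270
  · exact key 270 30 items_ok_270 (by omega) (by omega)
  rcases lt_or_ge k 330 with h300 | h300
  · exact key 300 30 items_ok_300 (by omega) (by omega)
  rcases lt_or_ge k 360 with h330 | h330
  · exact key 330 30 items_ok_330 (by omega) (by omega)
  rcases lt_or_ge k 390 with h360 | h360
  · exact key 360 30 items_ok_360 (by omega) (by omega)
  rcases lt_or_ge k 420 with h390 | h390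
  · exact key 390 30 items_ok_390 (by omega) (by omega)
  rcases lt_or_ge k 450 with h420 | h420
  · exact key 420 30 items_ok_420 (by omega) (by omega)
  rcases lt_or_ge k 480 with h450 | h450
  · exact key 450 30 items_ok_450 (by omega) (by omega)
  rcases lt_or_ge k 510 with h480 | h480
  · exact key 480 30 items_ok_480 (by omega) (by omega)
  rcases lt_or_ge k 540 with h510 | h510
  · exact key 510 30 items_ok_510 (by omega) (by omega)
  rcases lt_or_ge k 568 with h540 | h540
  · exact key 540 28 items_ok_540 (by omega) (by omega)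
  omega

theorem edge_ok : ∀ i < deriv.orbits, cover.okEdge deriv 568 i = true := by
  intro i hi
  have hi' : i < 13 := hi
  interval_cases i
  · exact edge_ok_0
  · exact edge_ok_1
  · exact edge_ok_2
  · exact edge_ok_3
  · exact edge_ok_4
  · exact edge_ok_5
  · exact edge_ok_6
  · exact edge_ok_7
  · exact edge_ok_8
  · exact edge_ok_9
  · exact edge_ok_10
  · exact edge_ok_11
  · exact edge_ok_12

theorem chain_ok : ∀ i < 13, okChain deriv 568 i (chains.getD i ⟨[], none, 0⟩) = true := by
  intro i hi
  interval_cases i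
  · exact chain_ok_0
  · exact chain_ok_1
  · exact chain_ok_2
  · exact chain_ok_3
  · exact chain_ok_4
  · exact chain_ok_5
  · exact chain_ok_6
  · exact chain_ok_7
  · exact chain_ok_8
  · exact chain_ok_9
  · exact chain_ok_10
  · exact chain_ok_11
  · exact chain_ok_12

theorem setup : Deriv.Setup deriv := Deriv.okSetup_spec setup_ok

theorem items_spec : ∀ k < 568, Deriv.ItemOK deriv (deriv.item k).1 :=
  Deriv.items_spec setup items_ok

theorem stab_sel : ∀ k < 568, ∀ i e, (deriv.item k).1 = .stab i e → ∀ x ∈ e, x ∈ selC := by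
  intro k hk i e h
  have := items_spec k hk
  rw [h] at this
  exact this.2

/-- the letters occurring in an edge are letters of the involution centraliser -/
noncomputable def edgeSel (k : Nat) : Bool :=
  match (deriv.item k).1 with
  | .edge _ _ _ v => v.all fun x => selC.contains x
  | _ => true

theorem edgeSel_ok : allBelow 568 edgeSel = true := by decide +kernel

theorem edge_sel : ∀ k < 568, ∀ i u j v, (deriv.item k).1 = .edge i u j v → Cover.CWord v := by
  intro k hk i u j v h
  have := allBelow_spec edgeSel_ok k hk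
  simp only [edgeSel, h, List.all_eq_true, List.contains_iff_mem] at this
  exact this

/-- the map from the presented involution centraliser -/
noncomputable def fromC : sysC.P.Grp →* Cfsg.Spor.Th := toTh sysC_valid okSel_C

theorem fromC_ev {w : List Nat} (hw : ∀ x ∈ w, x ∈ selC) :
    fromC (sysC.P.ev (w.map (pos selC))) = tev w := toTh_map sysC_valid okSel_C hw

theorem C_word (q : sysC.P.Grp) : ∃ w, (∀ x ∈ w, x < sysC.P.g) ∧ q = sysC.P.ev w := by
  have hq : q ∈ Subgroup.closure {q | ∃ x < sysC.P.g, sysC.P.gen x = q} := by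
    rw [sysC.P.closure_gen]; trivial
  induction hq using Subgroup.closure_induction'' with
  | mem q hq => obtain ⟨x, hx, rfl⟩ := hq; exact ⟨[x], by simpa using hx, by simp [Pres.ev]⟩
  | inv_mem q hq =>
    obtain ⟨x, hx, rfl⟩ := hq
    exact ⟨[sysC.P.iv x], by simpa using lt_of_blt (allBelow_spec (Sys.shape_spec sysC_valid).1 x hx),
      by simp [Pres.ev, sysC.P.gen_iv hx]⟩
  | one => exact ⟨[], by simp, by simp [Pres.ev]⟩
  | mul a b _ _ ha hb =>
    obtain ⟨u, hu, rfl⟩ := ha
    obtain ⟨v, hv, rfl⟩ := hb
    exact ⟨u ++ v, fun x hx => (List.mem_append.1 hx).elim (hu x) (hv x), (sysC.P.ev_append u v).symm⟩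

/-- the index of the triality subgroup is at most 143127000 -/
theorem index_subK_le (ha : letter 0 ≠ 1) :
    subK.index ≤ 143127000 ∧ subK.FiniteIndex := by
  have ha' : sysC.P.gen 0 ≠ 1 := by
    intro h
    refine ha ?_
    have := fromC_ev (w := [0]) (by simp [selC])
    have e : ([0] : List Nat).map (pos selC) = [0] := by decide +kernel
    rw [e] at this
    simpa [Pres.ev, h, tev] using this.symm
  have hidx := fun i : Fin 13 =>
    Count.index_le (N := 568) stab_sel ha' (chain_ok i i.2)
  have : ∀ i : Fin 13, Finite (sysC.P.Grp ⧸ Count.stabGrp deriv 568 i) :=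
    fun i => @Subgroup.finite_quotient_of_finiteIndex _ _ _ (hidx i).2
  -- the point of a class
  let pt : Fin 13 → sysC.P.Grp → Cfsg.Spor.Th ⧸ subK := fun i q =>
    QuotientGroup.mk ((tev (deriv.root.getD i []) * (fromC q)⁻¹)⁻¹)
  have hinv : ∀ (i : Fin 13) (q h : sysC.P.Grp), h ∈ Count.stabGrp deriv 568 i →
      pt i (q * h) = pt i q := by
    intro i q h hh
    induction hh using Subgroup.closure_induction generalizing q with
    | mem x hx =>
      obtain ⟨k, hk, e, hke, he, rfl⟩ := hx
      have A := items_spec k hk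
      rw [hke] at A
      have A' := (A.1.mul ((tev e)⁻¹ * (fromC q)⁻¹))
      simp only [Deriv.pt, tev_nil, mul_one, mul_assoc, mul_inv_cancel_left] at A'
      refine (QuotientGroup.eq.2 ?_)
      have := subK.inv_mem A'
      simpa [fromC_ev he, mul_assoc] using this
    | one => simp
    | mul x y _ _ hx hy => rw [← mul_assoc, hy (q * x), hx q]
    | inv x _ hx =>
      have := hx (q * x⁻¹)
      rw [inv_mul_cancel_right] at this
      exact this.symm
  let F : (Σ i : Fin 13, sysC.P.Grp ⧸ Count.stabGrp deriv 568 i) → Cfsg.Spor.Th ⧸ subK := fun t =>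
    Quotient.liftOn' t.2 (pt t.1) (by
      intro a b hab
      rw [QuotientGroup.leftRel_apply] at hab
      have := hinv t.1 a _ hab
      rw [mul_inv_cancel_left] at this
      exact this.symm)
  have hF : Function.Surjective F := by
    intro y
    obtain ⟨g, rfl⟩ := QuotientGroup.mk_surjective y
    obtain ⟨i, hi, w, hw, h⟩ := Cover.reached_all setup (by norm_num [deriv]) items_spec edge_sel
      step_ok edge_ok g⁻¹
    refine ⟨⟨⟨i, hi⟩, QuotientGroup.mk ((sysC.P.ev (w.map (pos selC)))⁻¹)⟩, ?_⟩
    show pt ⟨i, hi⟩ _ = _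
    refine QuotientGroup.eq.2 ?_
    simp only [inv_inv, map_inv, fromC_ev hw]
    simpa [Deriv.Same, Deriv.pt, mul_assoc] using subK.inv_mem h
  have : Finite (Cfsg.Spor.Th ⧸ subK) := Finite.of_surjective F hF
  refine ⟨?_, Subgroup.finiteIndex_of_finite_quotient⟩
  rw [Subgroup.index_eq_card]
  refine (Nat.card_le_card_of_surjective F hF).trans ?_
  rw [Nat.card_sigma]
  calc ∑ i : Fin 13, Nat.card (sysC.P.Grp ⧸ Count.stabGrp deriv 568 i)
      ≤ ∑ i : Fin 13, (chains.getD i ⟨[], none, 0⟩).idx :=
        Finset.sum_le_sum fun i _ => (hidx i).1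
    _ = 143127000 := by decide +kernel

end CfsgLib.Spor.Th
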