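import Cfsg.Agent.Lib.Spor.Th.KData

/-!
Checking slots of the certificate.
-/

namespace CfsgLib.Spor.Th.K

open CfsgLib.PresCert

theorem slots_24 : cert.okRange 12288 512 = true := by decide +kernel

theorem slots_25 : cert.okRange 12800 512 = true := by decide +kernel

theorem slots_26 : cert.okRange 13312 512 = true := by decide +kernel

theorem slots_27 : cert.okRange 13824 512 = true := by decide +kernel

theorem slots_28 : cert.okRange 14336 512 = true := by decide +kernel

theorem slots_29 : cert.okRange 14848 512 = true := by decide +kernel

theorem slots_30 : cert.okRange 15360 512 = true := by decide +kernel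

theorem slots_31 : cert.okRange 15872 512 = true := by decide +kernel


end CfsgLib.Spor.Th.K
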