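import Cfsg.Agent.Lib.Spor.Th.KData

/-!
Checking slots of the certificate.
-/

namespace CfsgLib.Spor.Th.K

open CfsgLib.PresCert

theorem slots_32 : cert.okRange 16384 512 = true := by decide +kernel

theorem slots_33 : cert.okRange 16896 512 = true := by decide +kernel

theorem slots_34 : cert.okRange 17408 64 = true := by decide +kernel


end CfsgLib.Spor.Th.K
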