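import Cfsg.Agent.Lib.Spor.Th.SysCFaith0

/-!
The decision system for the subgroup `C` is valid.
-/

namespace CfsgLib.Spor.Th

theorem sysC_valid : sysC.Valid C.justs L.justs where
  vc := C.valid
  vl := L.valid
  shape := sysC_shape
  act := sysC_act
  faith := (sysC.faithOn_of_ok faithC_0)

end CfsgLib.Spor.Th
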