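import Cfsg.Agent.Lib.Spor.Th.SysG2Faith0

/-!
The decision system for the subgroup `G2` is valid.
-/

namespace CfsgLib.Spor.Th

theorem sysG2_valid : sysG2.Valid G2.justs U.justs where
  vc := G2.valid
  vl := U.valid
  shape := sysG2_shape
  act := sysG2_act
  faith := (Sys.FaithOn.join _ (Sys.FaithOn.join _ (Sys.FaithOn.join _ (sysG2.faithOn_of_ok faithG2_0) (sysG2.faithOn_of_ok faithG2_1)) (sysG2.faithOn_of_ok faithG2_2)) (sysG2.faithOn_of_ok faithG2_3))

end CfsgLib.Spor.Th
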