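import Cfsg.Agent.Lib.Spor.Th.SysKDef

/-!
Nontrivial elements of the subgroup move a base point.
-/

namespace CfsgLib.Spor.Th

theorem faithK_10 : sysK.okFaith 15120 1512 = true := by decide +kernel

theorem faithK_11 : sysK.okFaith 16632 1512 = true := by decide +kernel

end CfsgLib.Spor.Th
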