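import Cfsg.Agent.Lib.Spor.Th.SysKFaith0
import Cfsg.Agent.Lib.Spor.Th.SysKFaith1
import Cfsg.Agent.Lib.Spor.Th.SysKFaith2
import Cfsg.Agent.Lib.Spor.Th.SysKFaith3
import Cfsg.Agent.Lib.Spor.Th.SysKFaith4
import Cfsg.Agent.Lib.Spor.Th.SysKFaith5
import Cfsg.Agent.Lib.Spor.Th.SysKFaith6
import Cfsg.Agent.Lib.Spor.Th.SysKFaith7
import Cfsg.Agent.Lib.Spor.Th.SysKFaith8
import Cfsg.Agent.Lib.Spor.Th.SysKFaith9
import Cfsg.Agent.Lib.Spor.Th.SysKFaith10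
import Cfsg.Agent.Lib.Spor.Th.SysKFaith11

/-!
The decision system for the subgroup `K` is valid.
-/

namespace CfsgLib.Spor.Th

theorem sysK_valid : sysK.Valid K.justs UT.justs where
  vc := K.valid
  vl := UT.valid
  shape := sysK_shape
  act := sysK_act
  faith := (Sys.FaithOn.join _ (Sys.FaithOn.join _ (Sys.FaithOn.join _ (Sys.FaithOn.join _ (Sys.FaithOn.join _ (Sys.FaithOn.join _ (Sys.FaithOn.join _ (Sys.FaithOn.join _ (Sys.FaithOn.join _ (Sys.FaithOn.join _ (Sys.FaithOn.join _ (Sys.FaithOn.join _ (Sys.FaithOn.join _ (Sys.FaithOn.join _ (Sys.FaithOn.join _ (Sys.FaithOn.join _ (Sys.FaithOn.join _ (Sys.FaithOn.join _ (Sys.FaithOn.join _ (Sys.FaithOn.join _ (Sys.FaithOn.join _ (Sys.FaithOn.join _ (Sys.FaithOn.join _ (sysK.faithOn_of_ok faithK_0) (sysK.faithOn_of_ok faithK_1)) (sysK.faithOn_of_ok faithK_2)) (sysK.faithOn_of_ok faithK_3)) (sysK.faithOn_of_ok faithK_4)) (sysK.faithOn_of_ok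 faithK_5)) (sysK.faithOn_of_ok faithK_6)) (sysK.faithOn_of_ok faithK_7)) (sysK.faithOn_of_ok faithK_8)) (sysK.faithOn_of_ok faithK_9)) (sysK.faithOn_of_ok faithK_10)) (sysK.faithOn_of_ok faithK_11)) (sysK.faithOn_of_ok faithK_12)) (sysK.faithOn_of_ok faithK_13)) (sysK.faithOn_of_ok faithK_14)) (sysK.faithOn_of_ok faithK_15)) (sysK.faithOn_of_ok faithK_16)) (sysK.faithOn_of_ok faithK_17)) (sysK.faithOn_of_ok faithK_18)) (sysK.faithOn_of_ok faithK_19)) (sysK.faithOn_of_ok faithK_20)) (sysK.faithOn_of_ok faithK_21)) (sysK.faithOn_of_ok faithK_22)) (sysK.faithOn_of_ok faithK_23))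

end CfsgLib.Spor.Th
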