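import Cfsg.Agent.Lib.Spor.Th.Rels
import Cfsg.Agent.Lib.Spor.Th.SysC
import Cfsg.Agent.Lib.Spor.Th.SysG2
import Cfsg.Agent.Lib.Spor.Th.SysK

/-!
The three presented subgroups map to the Thompson group; equalities decided in them hold there.
-/

namespace CfsgLib.Spor.Th

open CfsgLib.PresCert

/-- A system whose generators are named by letters of the Thompson group. -/
noncomputable def okSel (S : Sys) (sel : List Nat) : Bool :=
  decide (sel.length = S.P.g) &&
  (S.P.rels.all fun w => (thRels.contains (w.map fun x => sel.getD x 0)) ||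
    (match w with
      | [x, y] => Nat.beq x y && Nat.blt (sel.getD x 0) 5
      | _ => false)) &&
  allBelow S.P.g fun x => Nat.blt (sel.getD x 0) 11 && Nat.blt (S.P.iv x) S.P.g &&
    Nat.beq (sel.getD (S.P.iv x) 0) (tiv (sel.getD x 0))

/-- position of a letter -/
noncomputable def pos (sel : List Nat) (x : Nat) : Nat := sel.findIdx fun y => Nat.beq y x

/-- equality of words decided in the system -/
noncomputable def eqIn (S : Sys) (sel : List Nat) (u v : List Nat) : Bool :=
  (u.all fun x => sel.contains x) && (v.all fun x => sel.contains x) &&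
    S.same (u.map (pos sel)) (v.map (pos sel))

variable {S : Sys} {sel : List Nat} {jc jl : List Cert.Just}

theorem invol_sq {x : Nat} (hx : x < 5) : letter x * letter x = 1 := by
  have h : (letter x)⁻¹ = letter x := by
    interval_cases x <;> simp [letter, letterList, inv_a, inv_b, inv_c, inv_d, inv_e]
  simpa [h] using mul_inv_cancel (letter x)

theorem sel_rels (V : S.Valid jc jl) (h : okSel S sel = true) {w : List Nat} (hw : w ∈ S.P.rels) :
    (∀ x ∈ w, x < S.P.g) ∧ (w.map fun x => letter (sel.getD x 0)).prod = 1 := by
  refine ⟨(Sys.shape_spec V).2.2.1 w hw, ?_⟩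
  simp only [okSel, Bool.and_eq_true, List.all_eq_true, Bool.or_eq_true,
    List.contains_iff_mem] at h
  rcases h.1.2 w hw with h' | h'
  · have := tev_rel h'
    simpa [tev, List.map_map, Function.comp_def] using this
  · match w, h' with
    | [x, y], h' =>
      simp only [Bool.and_eq_true] at h'
      obtain rfl := Nat.eq_of_beq_eq_true h'.1
      simpa using invol_sq (lt_of_blt h'.2)

theorem sel_inv (h : okSel S sel = true) {x : Nat} (hx : x < S.P.g) :
    S.P.iv x < S.P.g ∧ letter (sel.getD (S.P.iv x) 0) = (letter (sel.getD x 0))⁻¹ := by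
  simp only [okSel, Bool.and_eq_true] at h
  have := allBelow_spec h.2 x hx
  simp only [Bool.and_eq_true] at this
  exact ⟨lt_of_blt this.1.2,
    by rw [Nat.eq_of_beq_eq_true this.2, letter_tiv (lt_of_blt this.1.1)]⟩

/-- the map of the presented subgroup -/
noncomputable def toTh (V : S.Valid jc jl) (h : okSel S sel = true) : S.P.Grp →* Cfsg.Spor.Th :=
  S.P.lift (fun x => letter (sel.getD x 0)) (fun _ hw => sel_rels V h hw) (fun _ hx => sel_inv h hx)

theorem pos_lt (h : okSel S sel = true) {x : Nat} (hx : x ∈ sel) :
    pos sel x < S.P.g ∧ sel.getD (pos sel x) 0 = x := by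
  simp only [okSel, Bool.and_eq_true, decide_eq_true_eq] at h
  have hl : pos sel x < sel.length :=
    List.findIdx_lt_length_of_exists ⟨x, hx, by simp⟩
  refine ⟨h.1.1 ▸ hl, ?_⟩
  rw [List.getD_eq_getElem?_getD, List.getElem?_eq_getElem hl, Option.getD_some]
  exact Nat.eq_of_beq_eq_true (List.findIdx_getElem (w := hl))

theorem toTh_map (V : S.Valid jc jl) (h : okSel S sel = true) {u : List Nat}
    (hu : ∀ x ∈ u, x ∈ sel) : toTh V h (S.P.ev (u.map (pos sel))) = tev u := by
  rw [toTh, S.P.lift_ev _ _ _ (by
    intro y hy
    obtain ⟨x, hx, rfl⟩ := List.mem_map.1 hy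
    exact (pos_lt h (hu x hx)).1), tev, List.map_map]
  exact congrArg List.prod (List.map_congr_left fun x hx =>
    congrArg letter (pos_lt h (hu x hx)).2)

theorem eqIn_sound (V : S.Valid jc jl) (h : okSel S sel = true) {u v : List Nat}
    (e : eqIn S sel u v = true) : tev u = tev v := by
  simp only [eqIn, Bool.and_eq_true, List.all_eq_true, List.contains_iff_mem] at e
  rw [← toTh_map V h e.1.1, ← toTh_map V h e.1.2, Sys.same_sound V e.2]

/-- letters of the involution centraliser -/
noncomputable def selC : List Nat := [0, 2, 3, 4, 5, 6, 7, 8, 9, 10]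

/-- letters of the triality group -/
noncomputable def selK : List Nat := [0, 1, 2, 3, 4, 5, 6, 7, 8]

/-- letters of the group of type G2 -/
noncomputable def selG : List Nat := [0, 1, 2, 3, 4, 9, 10]

theorem okSel_C : okSel sysC selC = true := by decide +kernel
theorem okSel_K : okSel sysK selK = true := by decide +kernel
theorem okSel_G : okSel sysG2 selG = true := by decide +kernel

/-- equality in the involution centraliser -/
noncomputable def eqC (u v : List Nat) : Bool := eqIn sysC selC u v

/-- equality in the triality group -/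
noncomputable def eqK (u v : List Nat) : Bool := eqIn sysK selK u v

/-- equality in the group of type G2 -/
noncomputable def eqG (u v : List Nat) : Bool := eqIn sysG2 selG u v

theorem eqC_sound {u v : List Nat} (e : eqC u v = true) : tev u = tev v :=
  eqIn_sound sysC_valid okSel_C e

theorem eqK_sound {u v : List Nat} (e : eqK u v = true) : tev u = tev v :=
  eqIn_sound sysK_valid okSel_K e

theorem eqG_sound {u v : List Nat} (e : eqG u v = true) : tev u = tev v :=
  eqIn_sound sysG2_valid okSel_G e

end CfsgLib.Spor.Th
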