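import Cfsg.Agent.Lib.Spor.Th.DSubBound
import Cfsg.Agent.Lib.ThCent.Simple

/-!
The centraliser of the involution moves the coset of the triality group to at most 120 cosets,
given the exact index of that group.
-/

namespace CfsgLib.Spor.Th

open CfsgLib.PresCert

/-- the chains of the nontrivial orbits keep their points fixed by the central involution -/
noncomputable def okFix : Bool :=
  allBelow 13 fun i => Nat.blt i 2 ||
    ((chains.getD i ⟨[], none, 0⟩).central.isNone &&
      (chains.getD i ⟨[], none, 0⟩).levs.all fun L => Nat.beq (sysC.A.app [0] L.base) L.base)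

theorem fix_ok : okFix = true := by decide +kernel

/-- the central involution commutes with the generators -/
noncomputable def okCentral : Bool := allBelow sysC.P.g fun x => sysC.same [0, x] [x, 0]

theorem central_ok : okCentral = true := by decide +kernel

theorem gen0_central (q : sysC.P.Grp) : Commute (sysC.P.gen 0) q := by
  have hq : q ∈ Subgroup.closure {q | ∃ x < sysC.P.g, sysC.P.gen x = q} := by
    rw [sysC.P.closure_gen]; trivial
  induction hq using Subgroup.closure_induction with
  | mem q hq =>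
    obtain ⟨x, hx, rfl⟩ := hq
    have := Sys.same_sound sysC_valid (allBelow_spec central_ok x hx)
    simpa [Commute, SemiconjBy, Pres.ev] using this
  | one => exact Commute.one_right _
  | mul a b _ _ ha hb => exact ha.mul_right hb
  | inv a _ ha => exact ha.inv_right

theorem fromC_gen0 : fromC (sysC.P.gen 0) = CfsgLib.ThCent.th .a := by
  have := fromC_ev (w := [0]) (by simp [selC])
  have e : ([0] : List Nat).map (pos selC) = [0] := by decide +kernel
  rw [e] at this
  simpa [Pres.ev, tev, CfsgLib.ThCent.th, letter, letterList, gth, PresentedGroup.of] using this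

/-- the tail of the representative of the second class -/
def rootTail : List Nat := [3, 2, 1, 0, 3, 2, 1]

/-- the image of `a` under the representative of the second class -/
def oddInvol : List Nat := [2, 5, 4, 3, 2, 3, 6, 6, 4, 3, 2, 3, 6, 4, 3, 2, 3, 5, 4, 5, 4]

theorem root_one : deriv.root.getD 1 [] = [9, 3] ++ rootTail := by decide +kernel

theorem okTail : eqK (rootTail ++ [0] ++ twinv rootTail) [0, 2] = true := by decide +kernel

theorem okHead : eqC ([9, 3] ++ [0, 2] ++ twinv [9, 3]) oddInvol = true := by decide +kernel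

theorem tev_oddInvol :
    tev (deriv.root.getD 1 []) * tev [0] * (tev (deriv.root.getD 1 []))⁻¹ = tev oddInvol := by
  rw [root_one, ← eqC_sound okHead, tev_append, tev_append, tev_append, ← eqK_sound okTail,
    tev_append, tev_append, tev_winv (by simp [rootTail]), tev_winv (by simp)]
  group

theorem okMoved :
    ((Finset.univ : Finset (Fin 819)).filter fun c : Fin 819 =>
        !(Nat.beq (CfsgLib.ThCent.appD [[0]] c.1) c.1)).card ≠
      ((Finset.univ : Finset (Fin 819)).filter fun c : Fin 819 =>
        !(Nat.beq (CfsgLib.ThCent.appD [oddInvol.reverse] c.1) c.1)).card := by decide +kernel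

theorem coe_actVal_rev : ∀ w : List Nat, (∀ x ∈ w, x < 9) →
    ((CfsgLib.ThCent.actVal CfsgLib.ThCent.dModel w.reverse : CfsgLib.ThCent.dSub) :
      Cfsg.Spor.Th) = tev w
  | [], _ => by simp [CfsgLib.ThCent.actVal, tev]
  | x :: w, hw => by
    have hx := hw x (List.mem_cons_self ..)
    have e : ∀ y, y < 9 → CfsgLib.ThCent.letVal CfsgLib.ThCent.th CfsgLib.ThCent.dkLets y = letter y := by
      intro y hy
      interval_cases y <;>
        simp [CfsgLib.ThCent.letVal, CfsgLib.ThCent.sval, CfsgLib.ThCent.dkLets, letter, letterList, CfsgLib.ThCent.th, gth, PresentedGroup.of]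
    rw [List.reverse_cons, CfsgLib.ThCent.actVal_append_d, Subgroup.coe_mul,
      coe_actVal_rev w fun y hy => hw y (List.mem_cons_of_mem _ hy), tev_cons, ← e x hx,
      ← CfsgLib.ThCent.coe_letD hx]
    simp [CfsgLib.ThCent.actVal]
    rfl

open CfsgLib.ThCent in
theorem oddInvol_not_conj (hNT : Nontrivial Cfsg.Spor.Th) {d : Cfsg.Spor.Th} (hd : d ∈ dSub) :
    d * th .a * d⁻¹ ≠ tev oddInvol := by
  intro h
  have hlt : ∀ x ∈ oddInvol, x < 9 := by decide
  have e : (⟨d, hd⟩ : dSub) * dVal [[0]] * (⟨d, hd⟩ : dSub)⁻¹ = dVal [oddInvol.reverse] := by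
    refine Subtype.ext ?_
    have e1 : ((dVal [oddInvol.reverse] : dSub) : Cfsg.Spor.Th) = tev oddInvol := by
      rw [← coe_actVal_rev _ hlt]; simp [dVal]
    have e2 : ((dVal [[0]] : dSub) : Cfsg.Spor.Th) = th .a := by
      rw [show dVal [[0]] = actVal dModel [0] by simp [dVal], actVal_zero, coe_fD (by decide)]
    rw [Subgroup.coe_mul, Subgroup.coe_mul, InvMemClass.coe_inv, e1, e2]
    exact h
  have hc := congrArg (fun σ : Equiv.Perm (Fin dCert.n) => σ.support.card)
    (congrArg (repD hNT) e)
  simp only [map_mul, map_inv, Equiv.Perm.card_support_conj] at hc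
  refine okMoved ?_
  have key : ∀ w : List Nat, (∀ x ∈ w, x < 9) → (repD hNT (dVal [w])).support.card =
      ((Finset.univ : Finset (Fin 819)).filter fun c : Fin 819 =>
        !(Nat.beq (appD [w] c.1) c.1)).card := by
    intro w hw
    have hiff : ∀ c : Fin dCert.n, repD hNT (dVal [w]) c ≠ c ↔
        (!(Nat.beq (appD [w] c.1) c.1)) = true := by
      intro c
      rw [← repD_dVal hNT [w] (by simpa using hw) c, Bool.not_eq_true']
      constructor
      · intro hne
        exact Bool.eq_false_iff.2 fun hb => hne (Fin.ext (Nat.eq_of_beq_eq_true hb))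
      · intro hb he
        rw [he] at hb
        simp at hb
    exact congrArg Finset.card (Finset.ext fun (c : Fin dCert.n) =>
      (Equiv.Perm.mem_support.trans (hiff c)).trans
        ⟨fun h => Finset.mem_filter.2 ⟨Finset.mem_univ _, h⟩, fun h => (Finset.mem_filter.1 h).2⟩)
  rwa [key [0] (by simp), key oddInvol.reverse (fun x hx => hlt x (List.mem_reverse.1 hx))] at hc

/-- the coset of an element of the involution centraliser in a class -/
noncomputable def cpt (i : Fin 13) (q : sysC.P.Grp) : Cfsg.Spor.Th ⧸ subK :=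
  QuotientGroup.mk ((tev (deriv.root.getD i []) * (fromC q)⁻¹)⁻¹)

theorem cpt_inv (i : Fin 13) (q h : sysC.P.Grp) (hh : h ∈ Count.stabGrp deriv 568 i) :
    cpt i (q * h) = cpt i q := by
  induction hh using Subgroup.closure_induction generalizing q with
  | mem x hx =>
    obtain ⟨k, hk, e, hke, he, rfl⟩ := hx
    have A := items_spec k hk
    rw [hke] at A
    have A' := (A.1.mul ((tev e)⁻¹ * (fromC q)⁻¹))
    simp only [Deriv.pt, tev_nil, mul_one, mul_assoc, mul_inv_cancel_left] at A'
    refine (QuotientGroup.eq.2 ?_)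
    have := subK.inv_mem A'
    simpa [fromC_ev he, mul_assoc] using this
  | one => simp
  | mul x y _ _ hx hy => rw [← mul_assoc, hy (q * x), hx q]
  | inv x _ hx =>
    have := hx (q * x⁻¹)
    rw [inv_mul_cancel_right] at this
    exact this.symm

/-- the cosets class by class -/
noncomputable def cmap (t : Σ i : Fin 13, sysC.P.Grp ⧸ Count.stabGrp deriv 568 i) :
    Cfsg.Spor.Th ⧸ subK :=
  Quotient.liftOn' t.2 (cpt t.1) (by
    intro a b hab
    rw [QuotientGroup.leftRel_apply] at hab
    have := cpt_inv t.1 a _ hab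
    rw [mul_inv_cancel_left] at this
    exact this.symm)

theorem cmap_mk (i : Fin 13) (q : sysC.P.Grp) :
    cmap ⟨i, QuotientGroup.mk q⟩ = cpt i q := rfl

theorem cmap_surjective : Function.Surjective cmap := by
  intro y
  obtain ⟨g, rfl⟩ := QuotientGroup.mk_surjective y
  obtain ⟨i, hi, w, hw, h⟩ := Cover.reached_all setup (by norm_num [deriv]) items_spec edge_sel
    step_ok edge_ok g⁻¹
  refine ⟨⟨⟨i, hi⟩, QuotientGroup.mk ((sysC.P.ev (w.map (pos selC)))⁻¹)⟩, ?_⟩
  show cpt ⟨i, hi⟩ _ = _
  refine QuotientGroup.eq.2 ?_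
  simp only [inv_inv, map_inv, fromC_ev hw]
  simpa [Deriv.Same, Deriv.pt, mul_assoc] using subK.inv_mem h

theorem smul_cpt (i : Fin 13) (q : sysC.P.Grp) (g : Cfsg.Spor.Th)
    (h : QuotientGroup.mk g = cpt i q) :
    (QuotientGroup.mk (fromC (sysC.P.gen 0) * g) : Cfsg.Spor.Th ⧸ subK) =
      cpt i (q * sysC.P.gen 0) := by
  unfold cpt at h ⊢
  rw [QuotientGroup.eq] at h ⊢
  rw [← (gen0_central q).eq, map_mul]
  simpa [mul_assoc] using h

/-- with the exact index, the centraliser of `a` has at most 120 cosets in the orbit of the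
triality group -/
theorem orbitBound (F : CfsgLib.ThCent.ThFacts) : CfsgLib.ThCent.OrbitBound := by
  have hta : CfsgLib.ThCent.th .a ≠ 1 := CfsgLib.ThCent.th_a_ne_one F
  have ha : sysC.P.gen 0 ≠ 1 := fun h => hta (by rw [← fromC_gen0, h, map_one])
  have hidx := fun i : Fin 13 => Count.index_le (N := 568) stab_sel ha (chain_ok i i.2)
  have : ∀ i : Fin 13, Finite (sysC.P.Grp ⧸ Count.stabGrp deriv 568 i) :=
    fun i => @Subgroup.finite_quotient_of_finiteIndex _ _ _ (hidx i).2
  have hN : Nat.card (Cfsg.Spor.Th ⧸ subK) = 143127000 := by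
    rw [← Subgroup.index_eq_card, subK_eq]; exact F.index
  have hsum : ∑ i : Fin 13, (chains.getD i ⟨[], none, 0⟩).idx = 143127000 := by decide +kernel
  have h2 : ∑ i : Fin 13, (Count.stabGrp deriv 568 i).index ≤ 143127000 :=
    hsum ▸ Finset.sum_le_sum fun i _ => (hidx i).1
  have hcardσ : Nat.card (Σ i : Fin 13, sysC.P.Grp ⧸ Count.stabGrp deriv 568 i) =
      ∑ i : Fin 13, (Count.stabGrp deriv 568 i).index := by
    rw [Nat.card_sigma]
    rfl
  have h1 := Nat.card_le_card_of_surjective cmap cmap_surjective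
  rw [hN, hcardσ] at h1
  have hb : Function.Bijective cmap :=
    (Nat.bijective_iff_surjective_and_card _).2 ⟨cmap_surjective, by rw [hcardσ, hN]; omega⟩
  have heq : ∀ i : Fin 13, (Count.stabGrp deriv 568 i).index =
      (chains.getD i ⟨[], none, 0⟩).idx := fun i =>
    (Finset.sum_eq_sum_iff_of_le fun j _ => (hidx j).1).1 (by omega) i (Finset.mem_univ i)
  -- the central involution is outside the stabilisers of the nontrivial orbits
  have hout : ∀ i : Fin 13, 2 ≤ i.1 → sysC.P.gen 0 ∉ Count.stabGrp deriv 568 i := by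
    intro i hi hmem
    obtain ⟨hfin, hcard⟩ := Sys.card_le sysC_valid
    have hcard' : Nat.card sysC.P.Grp ≤ 92897280 := hcard.trans (le_of_eq (by decide +kernel))
    have hf := allBelow_spec fix_ok i.1 i.2
    simp only [Bool.or_eq_true, Bool.and_eq_true, List.all_eq_true] at hf
    rcases hf with h | ⟨hnone, hfix⟩
    · exact absurd (lt_of_blt h) (by omega)
    have hc := chain_ok i i.2
    simp only [okChain, Bool.and_eq_true] at hc
    obtain ⟨hl, hc⟩ := hc
    rw [Option.isNone_iff_eq_none] at hnone
    rw [hnone] at hc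
    have hid := Nat.eq_of_beq_eq_true hc
    have hb1 := Count.levs_bound stab_sel _ [] hl
    simp only [List.nil_append] at hb1
    have hle : Nat.card (Count.fixer deriv 568 i []) ≤ Nat.card (Count.stabGrp deriv 568 i) :=
      Nat.card_le_card_of_injective
        (fun q => (⟨q.1, q.2.1⟩ : Count.stabGrp deriv 568 i))
        (fun a b e => Subtype.ext (congrArg Subtype.val e :))
    set bs := (chains.getD i ⟨[], none, 0⟩).levs.map (·.base) with hbs
    have hafix : sysC.P.gen 0 ∈ Count.fixer deriv 568 i bs := by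
      refine ⟨hmem, fun p hp => Fin.ext ?_⟩
      obtain ⟨L, hL, hLp⟩ := List.mem_map.1 hp
      have hag : sysC.P.ev [0] = sysC.P.gen 0 := by simp [Pres.ev]
      rw [← hag, Count.actC_ev (fun x hx => by
        simp at hx; subst hx; exact Count.pos_bound (x := 0) (by simp [selC])), ← hLp]
      exact Nat.eq_of_beq_eq_true (hfix L hL)
    have h2fix : 2 ≤ Nat.card (Count.fixer deriv 568 i bs) := by
      refine Finite.one_lt_card_iff_nontrivial.2 ⟨⟨1, one_mem _⟩, ⟨_, hafix⟩, ?_⟩
      simpa [Subtype.ext_iff] using ha.symm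
    have h0 : (Count.stabGrp deriv 568 i).index * Nat.card (Count.stabGrp deriv 568 i) =
        Nat.card sysC.P.Grp := Subgroup.index_mul_card _
    rw [heq i] at h0
    have hS : levProd (chains.getD i ⟨[], none, 0⟩).levs * 2 ≤
        Nat.card (Count.stabGrp deriv 568 i) :=
      le_trans (Nat.mul_le_mul_left _ h2fix) (hb1.trans hle)
    have h3 := Nat.mul_le_mul_left (chains.getD i ⟨[], none, 0⟩).idx hS
    rw [← mul_assoc, hid] at h3
    omega
  have hfin : Finite (Cfsg.Spor.Th ⧸ subK) := Finite.of_surjective cmap cmap_surjective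
  -- the orbit lies in the first class
  have hsub : {q : Cfsg.Spor.Th ⧸ subK |
      ∃ g ∈ Subgroup.centralizer ({CfsgLib.ThCent.th .a} : Set Cfsg.Spor.Th),
        (g : Cfsg.Spor.Th ⧸ subK) = q} ⊆ Set.range fun x => cmap ⟨0, x⟩ := by
    rintro _ ⟨g, hg, rfl⟩
    obtain ⟨⟨i, x⟩, hx⟩ := cmap_surjective (g : Cfsg.Spor.Th ⧸ subK)
    induction x using QuotientGroup.induction_on with
    | _ q =>
      rw [cmap_mk] at hx
      by_cases hi : i.1 = 0
      · obtain rfl : i = 0 := Fin.ext hi
        exact ⟨QuotientGroup.mk q, hx⟩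
      by_cases hi1 : i.1 = 1
      · obtain rfl : i = 1 := Fin.ext hi1
        exfalso
        have hmem : (g⁻¹ * (tev (deriv.root.getD 1 []) * (fromC q)⁻¹)⁻¹) ∈ subK :=
          QuotientGroup.eq.1 hx.symm
        have hga : g * fromC (sysC.P.gen 0) = fromC (sysC.P.gen 0) * g := by
          rw [fromC_gen0]
          exact (Subgroup.mem_centralizer_iff.1 hg _ rfl).symm
        have hqa : fromC q * fromC (sysC.P.gen 0) = fromC (sysC.P.gen 0) * fromC q := by
          rw [← map_mul, ← map_mul, (gen0_central q).eq]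
        refine oddInvol_not_conj (CfsgLib.ThCent.ThFacts.nontrivial F)
          (subK_eq ▸ subK.inv_mem hmem) ?_
        rw [← tev_oddInvol,
          show tev [0] = fromC (sysC.P.gen 0) by rw [fromC_gen0]; simp [tev, CfsgLib.ThCent.th, letter, letterList, gth, PresentedGroup.of],
          ← fromC_gen0]
        generalize fromC (sysC.P.gen 0) = A at hga hqa ⊢
        generalize fromC q = Q at hqa ⊢
        generalize tev (deriv.root.getD 1 []) = R
        have e1 : g * A * g⁻¹ = A := by rw [hga]; group
        have e2 : Q⁻¹ * A * Q = A := by rw [mul_assoc, ← hqa]; group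
        calc (g⁻¹ * (R * Q⁻¹)⁻¹)⁻¹ * A * ((g⁻¹ * (R * Q⁻¹)⁻¹)⁻¹)⁻¹
            = R * (Q⁻¹ * (g * A * g⁻¹) * Q) * R⁻¹ := by group
          _ = R * A * R⁻¹ := by rw [e1, e2]
      refine absurd ?_ (hout i (by omega))
      have hs := smul_cpt i q g hx.symm
      have hcm : fromC (sysC.P.gen 0) * g = g * fromC (sysC.P.gen 0) := by
        rw [fromC_gen0]
        exact Subgroup.mem_centralizer_iff.1 hg _ rfl
      have hK : fromC (sysC.P.gen 0) ∈ subK := by
        rw [fromC_gen0, subK_eq]
        exact Subgroup.subset_closure ⟨.a, by simp [CfsgLib.ThCent.dSet], rfl⟩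
      rw [hcm, QuotientGroup.mk_mul_of_mem _ hK, ← hx, ← cmap_mk, ← cmap_mk] at hs
      have := hb.1 hs
      rw [Sigma.mk.injEq] at this
      have h' := eq_of_heq this.2
      rw [QuotientGroup.eq, inv_mul_cancel_left] at h'
      exact h'
  have := (Set.ncard_le_ncard hsub (Set.toFinite _)).trans
    (le_of_eq_of_le (Set.ncard_range_of_injective fun x y e => by
      have := hb.1 e
      exact eq_of_heq (Sigma.mk.injEq _ _ _ _ ▸ this).2) (by
      rw [← Subgroup.index_eq_card, heq 0]))
  show Set.ncard _ ≤ 120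
  rw [← subK_eq]
  exact this

end CfsgLib.Spor.Th
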