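import Cfsg.Agent.Lib.Spor.Th.Words

/-!
The relators hold.
-/

namespace CfsgLib.Spor.Th

open Cfsg.Spor

set_option maxHeartbeats 2000000

theorem inv_a : (gth .a)⁻¹ = gth .a := gth_sq _ (by simp [Th.extra, Th.a])
theorem inv_b : (gth .b)⁻¹ = gth .b := gth_sq _ (by simp [Th.extra, Th.b])
theorem inv_c : (gth .c)⁻¹ = gth .c := gth_sq _ (by simp [Th.extra, Th.c])
theorem inv_d : (gth .d)⁻¹ = gth .d := gth_sq _ (by simp [Th.extra, Th.d])
theorem inv_e : (gth .e)⁻¹ = gth .e := gth_sq _ (by simp [Th.extra, Th.e])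

theorem extra_map_aux {Q : Type} [Group Q] (φ : FreeGroup Th.Gen →* Q)
    (ha : (φ Th.a)⁻¹ = φ Th.a) (hb : (φ Th.b)⁻¹ = φ Th.b) (hc : (φ Th.c)⁻¹ = φ Th.c)
    (hd : (φ Th.d)⁻¹ = φ Th.d) (he : (φ Th.e)⁻¹ = φ Th.e) :
    Th.extra.map φ = thRels.map fun w => (w.map fun x =>
      [φ Th.a, φ Th.b, φ Th.c, φ Th.d, φ Th.e, φ Th.s, (φ Th.s)⁻¹, φ Th.t, (φ Th.t)⁻¹, φ Th.u,
        (φ Th.u)⁻¹].getD x 1).prod := by
  simp only [Th.a, Th.b, Th.c, Th.d, Th.e] at ha hb hc hd he
  simp [Th.extra, thRels, pow_succ, mul_assoc, Th.a, Th.b, Th.c, Th.d, Th.e, Th.s, Th.t, Th.u,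
    ha, hb, hc, hd, he]

theorem extra_map :
    Th.extra.map (PresentedGroup.mk (coxRelators Th.edges ∪ {r | r ∈ Th.extra})) =
      thRels.map tev :=
  extra_map_aux _ inv_a inv_b inv_c inv_d inv_e

theorem tev_rel {w : List Nat} (hw : w ∈ thRels) : tev w = 1 := by
  have : tev w ∈ thRels.map tev := List.mem_map.2 ⟨w, hw, rfl⟩
  rw [← extra_map] at this
  obtain ⟨r, hr, e⟩ := List.mem_map.1 this
  rw [← e]
  exact extra_eq_one hr

theorem tev_cons (x : Nat) (w : List Nat) : tev (x :: w) = letter x * tev w := by simp [tev]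

theorem tev_append (u v : List Nat) : tev (u ++ v) = tev u * tev v := by simp [tev]

theorem letter_tiv {x : Nat} (hx : x < 11) : letter (tiv x) = (letter x)⁻¹ := by
  interval_cases x <;> simp [letter, letterList, tiv, inv_a, inv_b, inv_c, inv_d, inv_e]

/-- every element is a word in the letters -/
theorem letters_top : Subgroup.closure {q | ∃ x < 11, letter x = q} = ⊤ := by
  rw [eq_top_iff, ← PresentedGroup.closure_range_of, Subgroup.closure_le]
  rintro _ ⟨x, rfl⟩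
  have h : ∀ k < 11, letter k ∈ Subgroup.closure {q | ∃ x < 11, letter x = q} := fun k hk =>
    Subgroup.subset_closure ⟨k, hk, rfl⟩
  cases x
  · exact h 0 (by norm_num)
  · exact h 1 (by norm_num)
  · exact h 2 (by norm_num)
  · exact h 3 (by norm_num)
  · exact h 4 (by norm_num)
  · exact h 5 (by norm_num)
  · exact h 7 (by norm_num)
  · exact h 9 (by norm_num)

end CfsgLib.Spor.Th
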