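import Cfsg.Agent.Lib.Spor.Th.EngineSound
import Cfsg.Agent.Lib.Spor.Th.CCert
import Cfsg.Agent.Lib.Spor.Th.LCert
import Cfsg.Agent.Lib.Spor.Th.ActData

/-!
The decision system for the subgroup `C` of the Thompson group.
-/

namespace CfsgLib.Spor.Th

open CfsgLib.PresCert

/-- the decision system -/
noncomputable def sysC : Sys where
  P := ⟨C.cert.g, C.cert.inv, C.cert.rels⟩
  C := C.cert
  L := L.cert
  sel := [2, 3, 4, 5, 6, 7]
  A := ⟨270, actC⟩
  base := [197, 68]

theorem sysC_shape : sysC.okShape = true := by decide +kernel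

theorem sysC_act : sysC.A.ok sysC.P = true := by decide +kernel

end CfsgLib.Spor.Th
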