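import Cfsg.Agent.Lib.Spor.Th.EngineSound
import Cfsg.Agent.Lib.Spor.Th.G2Cert
import Cfsg.Agent.Lib.Spor.Th.UCert
import Cfsg.Agent.Lib.Spor.Th.ActData

/-!
The decision system for the subgroup `G2` of the Thompson group.
-/

namespace CfsgLib.Spor.Th

open CfsgLib.PresCert

/-- the decision system -/
noncomputable def sysG2 : Sys where
  P := ⟨G2.cert.g, G2.cert.inv, G2.cert.rels⟩
  C := G2.cert
  L := U.cert
  sel := [0, 1, 2, 3, 4]
  A := ⟨702, actG2⟩
  base := [523, 137]

theorem sysG2_shape : sysG2.okShape = true := by decide +kernel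

theorem sysG2_act : sysG2.A.ok sysG2.P = true := by decide +kernel

end CfsgLib.Spor.Th
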