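import Cfsg.Agent.Lib.Spor.Th.SysG2Def

/-!
Nontrivial elements of the subgroup move a base point.
-/

namespace CfsgLib.Spor.Th

theorem faithG2_0 : sysG2.okFaith 0 3024 = true := by decide +kernel

theorem faithG2_1 : sysG2.okFaith 3024 3024 = true := by decide +kernel

theorem faithG2_2 : sysG2.okFaith 6048 3024 = true := by decide +kernel

theorem faithG2_3 : sysG2.okFaith 9072 3024 = true := by decide +kernel

end CfsgLib.Spor.Th
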