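import Cfsg.Agent.Lib.Spor.Th.UTData

/-!
Checking slots of the certificate.
-/

namespace CfsgLib.Spor.Th.UT

open CfsgLib.PresCert

theorem slots_40 : cert.okRange 20480 512 = true := by decide +kernel

theorem slots_41 : cert.okRange 20992 512 = true := by decide +kernel

theorem slots_42 : cert.okRange 21504 512 = true := by decide +kernel

theorem slots_43 : cert.okRange 22016 512 = true := by decide +kernel

theorem slots_44 : cert.okRange 22528 512 = true := by decide +kernel

theorem slots_45 : cert.okRange 23040 512 = true := by decide +kernel

theorem slots_46 : cert.okRange 23552 512 = true := by decide +kernel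

theorem slots_47 : cert.okRange 24064 512 = true := by decide +kernel


end CfsgLib.Spor.Th.UT
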