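import Cfsg.Agent.Lib.Spor.Th.UTData

/-!
Checking slots of the certificate.
-/

namespace CfsgLib.Spor.Th.UT

open CfsgLib.PresCert

theorem slots_56 : cert.okRange 28672 512 = true := by decide +kernel

theorem slots_57 : cert.okRange 29184 512 = true := by decide +kernel

theorem slots_58 : cert.okRange 29696 512 = true := by decide +kernel

theorem slots_59 : cert.okRange 30208 512 = true := by decide +kernel

theorem slots_60 : cert.okRange 30720 512 = true := by decide +kernel

theorem slots_61 : cert.okRange 31232 512 = true := by decide +kernel

theorem slots_62 : cert.okRange 31744 512 = true := by decide +kernel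

theorem slots_63 : cert.okRange 32256 512 = true := by decide +kernel


end CfsgLib.Spor.Th.UT
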