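import Cfsg.Agent.Lib.PresCert.Range
import Cfsg.Agent.Lib.Spor.Th.UTPart0
import Cfsg.Agent.Lib.Spor.Th.UTPart1
import Cfsg.Agent.Lib.Spor.Th.UTPart2
import Cfsg.Agent.Lib.Spor.Th.UTPart3
import Cfsg.Agent.Lib.Spor.Th.UTPart4
import Cfsg.Agent.Lib.Spor.Th.UTPart5
import Cfsg.Agent.Lib.Spor.Th.UTPart6
import Cfsg.Agent.Lib.Spor.Th.UTPart7
import Cfsg.Agent.Lib.Spor.Th.UTPart8

/-!
The certificate is valid.
-/

namespace CfsgLib.Spor.Th.UT

open CfsgLib.PresCert

theorem facts_ok : cert.okFacts 0 justs = true := by decide +kernel

theorem justs_length : justs.length = cert.nfact := by decide +kernel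

theorem labs_ok : ((List.range cert.nfact).all fun i => Nat.ble (cert.fLab i) cert.g) = true := by
  decide +kernel

theorem valid : Cert.Valid cert justs where
  facts := facts_ok
  len := justs_length
  labs := labs_ok
  slots := fun c hc => (((((((((((((((((((((((((((((((((((((((((((((((((((((((((((((((((((((((Cert.slotsOK_of_range slots_0).join (Cert.slotsOK_of_range slots_1)).join (Cert.slotsOK_of_range slots_2)).join (Cert.slotsOK_of_range slots_3)).join (Cert.slotsOK_of_range slots_4)).join (Cert.slotsOK_of_range slots_5)).join (Cert.slotsOK_of_range slots_6)).join (Cert.slotsOK_of_range slots_7)).join (Cert.slotsOK_of_range slots_8)).join (Cert.slotsOK_of_range slots_9)).join (Cert.slotsOK_of_range slots_10)).join (Cert.slotsOK_of_range slots_11)).join (Cert.slotsOK_of_range slots_12)).join (Cert.slotsOK_of_range slots_13)).join (Cert.slotsOK_of_range slots_14)).join (Cert.slotsOK_of_range slots_15)).join (Cert.slotsOK_of_range slots_16)).join (Cert.slotsOK_of_range slots_17)).join (Cert.slotsOK_of_range slots_18)).join (Cert.slotsOK_of_range slots_19)).join (Cert.slotsOK_of_range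 slots_20)).join (Cert.slotsOK_of_range slots_21)).join (Cert.slotsOK_of_range slots_22)).join (Cert.slotsOK_of_range slots_23)).join (Cert.slotsOK_of_range slots_24)).join (Cert.slotsOK_of_range slots_25)).join (Cert.slotsOK_of_range slots_26)).join (Cert.slotsOK_of_range slots_27)).join (Cert.slotsOK_of_range slots_28)).join (Cert.slotsOK_of_range slots_29)).join (Cert.slotsOK_of_range slots_30)).join (Cert.slotsOK_of_range slots_31)).join (Cert.slotsOK_of_range slots_32)).join (Cert.slotsOK_of_range slots_33)).join (Cert.slotsOK_of_range slots_34)).join (Cert.slotsOK_of_range slots_35)).join (Cert.slotsOK_of_range slots_36)).join (Cert.slotsOK_of_range slots_37)).join (Cert.slotsOK_of_range slots_38)).join (Cert.slotsOK_of_range slots_39)).join (Cert.slotsOK_of_range slots_40)).join (Cert.slotsOK_of_range slots_41)).join (Cert.slotsOK_of_range slots_42)).join (Cert.slotsOK_of_range slots_43)).join (Cert.slotsOK_of_range slots_44)).join (Cert.slotsOK_of_range slots_45)).join (Cert.slotsOK_of_range slots_46)).join (Cert.slotsOK_of_range slots_47)).join (Cert.slotsOK_of_range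 slots_48)).join (Cert.slotsOK_of_range slots_49)).join (Cert.slotsOK_of_range slots_50)).join (Cert.slotsOK_of_range slots_51)).join (Cert.slotsOK_of_range slots_52)).join (Cert.slotsOK_of_range slots_53)).join (Cert.slotsOK_of_range slots_54)).join (Cert.slotsOK_of_range slots_55)).join (Cert.slotsOK_of_range slots_56)).join (Cert.slotsOK_of_range slots_57)).join (Cert.slotsOK_of_range slots_58)).join (Cert.slotsOK_of_range slots_59)).join (Cert.slotsOK_of_range slots_60)).join (Cert.slotsOK_of_range slots_61)).join (Cert.slotsOK_of_range slots_62)).join (Cert.slotsOK_of_range slots_63)).join (Cert.slotsOK_of_range slots_64)).join (Cert.slotsOK_of_range slots_65)).join (Cert.slotsOK_of_range slots_66)).join (Cert.slotsOK_of_range slots_67)).join (Cert.slotsOK_of_range slots_68)).join (Cert.slotsOK_of_range slots_69)).join (Cert.slotsOK_of_range slots_70)) c (Nat.zero_le c) hc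
  pos := (by decide +kernel : 0 < cert.n)

end CfsgLib.Spor.Th.UT
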