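import Cfsg.Agent.Lib.Spor.Th.EngineSound
import Cfsg.Agent.Lib.Spor.Th.KCert
import Cfsg.Agent.Lib.Spor.Th.UTCert
import Cfsg.Agent.Lib.Spor.Th.ActData

/-!
The decision system for the subgroup `K` of the Thompson group.
-/

namespace CfsgLib.Spor.Th

open CfsgLib.PresCert

/-- the decision system -/
noncomputable def sysK : Sys where
  P := ⟨K.cert.g, K.cert.inv, K.cert.rels⟩
  C := K.cert
  L := UT.cert
  sel := [0, 1, 2, 3, 4, 7, 8]
  A := ⟨819, actK⟩
  base := [394, 582]

theorem sysK_shape : sysK.okShape = true := by decide +kernel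

theorem sysK_act : sysK.A.ok sysK.P = true := by decide +kernel

end CfsgLib.Spor.Th
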