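import Cfsg.Agent.Lib.Spor.Th.DeriveSound
import Cfsg.Agent.Lib.Spor.Th.DSubBound
import Cfsg.Agent.Lib.ThCent.DCent
import Cfsg.Prelude.Def_Exceptional

/-!
The subgroup of index 143127000 of the presented Thompson group has a simple normal subgroup of
order 211341312 and index three.
-/

set_option autoImplicit false
set_option maxRecDepth 100000

namespace CfsgLib.Spor.Th

open Cfsg.Spor
open scoped commutatorElement

section General

variable {D : Type*} [Group D]

/-- a normal subgroup `N` with `D = N S`, where `S` centralises `x`, has abelian image on the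
normal closure of `x` -/
theorem normalClosure_le_sup {N : Subgroup D} [N.Normal] {S : Subgroup D} {x : D}
    (hS : ∀ k ∈ S, Commute k x) (htop : N ⊔ S = ⊤) :
    Subgroup.normalClosure {x} ≤ N ⊔ Subgroup.zpowers x := by
  refine (Subgroup.closure_le _).2 fun y hy => ?_
  obtain ⟨z, hz, h⟩ := Group.mem_conjugatesOfSet_iff.1 hy
  rw [Set.mem_singleton_iff] at hz
  subst hz
  obtain ⟨g, rfl⟩ := isConj_iff.1 h
  obtain ⟨n, hn, k, hk, rfl⟩ := Subgroup.mem_sup_of_normal_left.1 (htop ▸ Subgroup.mem_top g :
    g ∈ N ⊔ S)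
  have e : n * k * z * (n * k)⁻¹ = (n * (z * n⁻¹ * z⁻¹)) * z := by
    rw [mul_inv_rev]
    calc n * k * z * (k⁻¹ * n⁻¹) = n * (k * z) * k⁻¹ * n⁻¹ := by group
      _ = _ := by rw [(hS k hk).eq]; group
  rw [SetLike.mem_coe, e]
  exact Subgroup.mem_sup_of_normal_left.2
    ⟨_, mul_mem hn (Subgroup.Normal.conj_mem ‹N.Normal› _ (inv_mem hn) z), z,
      Subgroup.mem_zpowers z, rfl⟩

/-- The conditions used for simplicity: `L` is a perfect normal subgroup, generated by the
conjugates of an element centralised by a maximal core-free subgroup, and a prime divides the order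
of `L` once. -/
theorem simple_of_maximal [Finite D] {S : Subgroup D} {x : D} (hS : ∀ k ∈ S, Commute k x)
    (hmax : ∀ T : Subgroup D, S ≤ T → T = S ∨ T = ⊤)
    (hfree : ∀ N : Subgroup D, N.Normal → N ≤ S → N = ⊥)
    (hperf : Subgroup.normalClosure {x} ≤ ⁅Subgroup.normalClosure {x}, Subgroup.normalClosure {x}⁆)
    {p : ℕ} (hp : p.Prime) (hdvd : p ∣ Nat.card (Subgroup.normalClosure ({x} : Set D)))
    (hsq : ¬ p ^ 2 ∣ Nat.card (Subgroup.normalClosure ({x} : Set D))) :
    IsSimpleGroup (Subgroup.normalClosure ({x} : Set D)) := by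
  classical
  haveI := Fact.mk hp
  set L := Subgroup.normalClosure ({x} : Set D) with hL
  -- normal subgroups of the whole group inside `L`
  have big : ∀ N : Subgroup D, N.Normal → N ≤ L → N ≠ ⊥ → N = L := by
    intro N hN hle hne
    have htop : N ⊔ S = ⊤ := by
      rcases hmax _ le_sup_right with h | h
      · exact absurd (hfree N hN (h ▸ le_sup_left)) hne
      · exact h
    have h1 : L ≤ N ⊔ Subgroup.zpowers x := normalClosure_le_sup hS htop
    refine le_antisymm hle (hperf.trans ?_)
    rw [Subgroup.commutator_le]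
    intro y hy z hz
    obtain ⟨n, hn, a, ha, rfl⟩ := Subgroup.mem_sup_of_normal_left.1 (h1 hy)
    obtain ⟨m, hm, b, hb, rfl⟩ := Subgroup.mem_sup_of_normal_left.1 (h1 hz)
    have hab : Commute a b := by
      obtain ⟨i, rfl⟩ := ha
      obtain ⟨j, rfl⟩ := hb
      exact (Commute.refl x).zpow_zpow i j
    rw [← QuotientGroup.eq_one_iff]
    show QuotientGroup.mk' N ⁅n * a, m * b⁆ = 1
    rw [map_commutatorElement, commutatorElement_eq_one_iff_mul_comm, map_mul, map_mul,
      show QuotientGroup.mk' N n = 1 from (QuotientGroup.eq_one_iff n).2 hn,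
      show QuotientGroup.mk' N m = 1 from (QuotientGroup.eq_one_iff m).2 hm, one_mul, one_mul,
      ← map_mul, ← map_mul, hab.eq]
  have : Nontrivial L := Finite.one_lt_card_iff_nontrivial.1
    (hp.one_lt.trans_le (Nat.le_of_dvd Nat.card_pos hdvd))
  refine ⟨fun M hM => ?_⟩
  let N : Subgroup D := M.map L.subtype
  have hNL : N ≤ L := Subgroup.map_subtype_le M
  have hcard : ∀ g : D, Nat.card (N.map (MulAut.conj g).toMonoidHom) = Nat.card N := fun g =>
    Subgroup.card_map_of_injective (MulAut.conj g).injective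
  have hcN : Nat.card N = Nat.card M := Subgroup.card_map_of_injective L.subtype_injective
  have conjL : ∀ g : D, N.map (MulAut.conj g).toMonoidHom ≤ L ∧
      ((N.map (MulAut.conj g).toMonoidHom).subgroupOf L).Normal := by
    intro g
    have hle : N.map (MulAut.conj g).toMonoidHom ≤ L := by
      rintro _ ⟨y, hy, rfl⟩
      exact Subgroup.normalClosure_normal.conj_mem y (hNL hy) g
    refine ⟨hle, ⟨?_⟩⟩
    rintro ⟨y, hy⟩ hy' ⟨l, hl⟩
    rw [Subgroup.mem_subgroupOf] at hy' ⊢
    obtain ⟨_, ⟨m, hm, rfl⟩, rfl⟩ := hy'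
    have hl' : g⁻¹ * l * g ∈ L := by
      simpa using Subgroup.normalClosure_normal.conj_mem l hl g⁻¹
    refine ⟨_, ⟨_, hM.conj_mem m hm ⟨_, hl'⟩, rfl⟩, ?_⟩
    simp [MulAut.conj_apply, mul_assoc]
  by_cases hbot : N = ⊥
  · left
    exact (Subgroup.map_eq_bot_iff_of_injective _ L.subtype_injective).1 hbot
  right
  suffices N = L by
    rw [eq_top_iff]
    intro y _
    obtain ⟨z, hz, e⟩ := this.ge y.2
    rwa [← L.subtype_injective e]
  by_cases hpN : p ∣ Nat.card N
  · -- all elements of order `p` of `L` lie in every conjugate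
    obtain ⟨y, hy⟩ := exists_prime_orderOf_dvd_card' (G := L) p hdvd
    have hin : ∀ g : D, (y : D) ∈ N.map (MulAut.conj g).toMonoidHom := by
      intro g
      obtain ⟨hle, hn⟩ := conjL g
      set K := (N.map (MulAut.conj g).toMonoidHom).subgroupOf L
      have hK : Nat.card K = Nat.card N :=
        (Nat.card_congr (Subgroup.subgroupOfEquivOfLe hle).toEquiv).trans (hcard g)
      show y ∈ K
      rw [← QuotientGroup.eq_one_iff]
      by_contra h
      have ho := orderOf_map_dvd (QuotientGroup.mk' K) y
      rw [hy] at ho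
      have ho' : orderOf (QuotientGroup.mk' K y) = p :=
        (hp.eq_one_or_self_of_dvd _ ho).resolve_left fun e => h (orderOf_eq_one_iff.1 e)
      have h2 : p ∣ K.index := ho' ▸ orderOf_dvd_natCard _
      refine hsq ?_
      rw [← K.card_mul_index, sq]
      exact mul_dvd_mul (hK ▸ hpN) h2
    have hcore : (y : D) ∈ N.normalCore := fun g => by
      obtain ⟨m, hm, e⟩ := hin g⁻¹
      have : g * (y : D) * g⁻¹ = m := by
        rw [← e]; simp [MulAut.conj_apply, mul_assoc]
      rw [this]; exact hm
    have := big N.normalCore inferInstance ((Subgroup.normalCore_le N).trans hNL) fun e => by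
      rw [e, Subgroup.mem_bot, ← Subgroup.coe_one L] at hcore
      rw [Subtype.ext hcore, orderOf_one] at hy
      exact hp.one_lt.ne hy
    exact le_antisymm hNL (this.ge.trans (Subgroup.normalCore_le N))
  · -- the join of the conjugates has order prime to `p`
    haveI := Fintype.ofFinite D
    set P : Subgroup D → Prop := fun K => K ≤ L ∧ (K.subgroupOf L).Normal ∧ ¬ p ∣ Nat.card K
    have key : P (Finset.univ.sup fun g : D => N.map (MulAut.conj g).toMonoidHom) := by
      refine Finset.sup_induction (p := P) ?_ ?_ fun g _ => ⟨(conjL g).1, (conjL g).2, by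
        rw [hcard g]; exact hpN⟩
      · refine ⟨bot_le, by rw [Subgroup.bot_subgroupOf]; infer_instance, ?_⟩
        rw [Subgroup.card_bot]; exact hp.not_dvd_one
      · intro U hU V hV
        obtain ⟨hU1, hU2, hU3⟩ := hU
        obtain ⟨hV1, hV2, hV3⟩ := hV
        refine ⟨sup_le hU1 hV1, ?_, ?_⟩
        · rw [Subgroup.subgroupOf_sup hU1 hV1]
          exact Subgroup.sup_normal _ _
        · have hsup : (U ⊔ V).subgroupOf L = U.subgroupOf L ⊔ V.subgroupOf L :=
            Subgroup.subgroupOf_sup hU1 hV1
          have e1 : Nat.card ↥(U ⊔ V) = Nat.card ↥(U.subgroupOf L ⊔ V.subgroupOf L) := by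
            rw [← hsup]
            exact (Nat.card_congr (Subgroup.subgroupOfEquivOfLe (sup_le hU1 hV1)).toEquiv).symm
          rw [e1]
          intro hd
          set U' := U.subgroupOf L
          set V' := V.subgroupOf L
          have eU : Nat.card U' = Nat.card U := Nat.card_congr (Subgroup.subgroupOfEquivOfLe hU1).toEquiv
          have eV : Nat.card V' = Nat.card V := Nat.card_congr (Subgroup.subgroupOfEquivOfLe hV1).toEquiv
          have hdv : Nat.card ↥(U' ⊔ V') ∣ Nat.card U' * Nat.card V' := by
            let φ : U' × V' → ↥(U' ⊔ V') := fun t =>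
              ⟨t.1.1 * t.2.1, mul_mem (Subgroup.mem_sup_left t.1.2) (Subgroup.mem_sup_right t.2.2)⟩
            have h := Subgroup.index_mul_card ((U'.subgroupOf (U' ⊔ V')))
            have h2 : (U'.subgroupOf (U' ⊔ V')).index = U'.relIndex (U' ⊔ V') := rfl
            rw [h2, Subgroup.relIndex_sup_left, Nat.card_congr
              (Subgroup.subgroupOfEquivOfLe (le_sup_left : U' ≤ U' ⊔ V')).toEquiv] at h
            rw [← h, mul_comm (Nat.card U')]
            exact mul_dvd_mul_right (Subgroup.relIndex_dvd_card U' V') _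
          rcases hp.dvd_mul.1 (hd.trans hdv) with h | h
          · exact hU3 (eU ▸ h)
          · exact hV3 (eV ▸ h)
    obtain ⟨k1, -, k3⟩ := key
    set M' := Finset.univ.sup fun g : D => N.map (MulAut.conj g).toMonoidHom
    have hMn : M'.Normal := ⟨fun y hy g => by
      have : M'.map (MulAut.conj g).toMonoidHom ≤ M' := by
        rw [Subgroup.map_le_iff_le_comap]
        refine Finset.sup_le fun k _ => ?_
        rw [← Subgroup.map_le_iff_le_comap, Subgroup.map_map]
        refine le_trans (le_of_eq ?_) (Finset.le_sup (f := fun g : D =>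
          N.map (MulAut.conj g).toMonoidHom) (Finset.mem_univ (g * k)))
        congr 1
        ext z
        simp [mul_assoc]
      exact this ⟨y, hy, rfl⟩⟩
    have hne : M' ≠ ⊥ := fun e => hbot (by
      rw [← le_bot_iff, ← e]
      refine le_trans (le_of_eq ?_) (Finset.le_sup (f := fun g : D =>
        N.map (MulAut.conj g).toMonoidHom) (Finset.mem_univ 1))
      ext z
      simp)
    rw [big M' hMn k1 hne] at k3
    exact absurd hdvd k3

end General

section Th

open CfsgLib.ThCent

/-- the character of the triality subgroup -/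
def triGen (g : Th.Gen) : Multiplicative (ZMod 3) :=
  if g = .t then Multiplicative.ofAdd 1 else 1

open Classical in
/-- a letter in the subgroup -/
noncomputable def lD (x : Nat) : CfsgLib.ThCent.dSub :=
  if h : letter x ∈ CfsgLib.ThCent.dSub then ⟨letter x, h⟩ else 1

theorem letter_mem {x : Nat} (hx : x < 9) : letter x ∈ CfsgLib.ThCent.dSub := by
  have h : ∀ g : Th.Gen, g ≠ .u → gth g ∈ CfsgLib.ThCent.dSub := fun g hg =>
    Subgroup.subset_closure ⟨g, hg, rfl⟩
  interval_cases x <;> simp only [letter, letterList, List.getD_cons_zero, List.getD_cons_succ] <;>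
    first | exact h _ (by decide) | exact inv_mem (h _ (by decide))

theorem lD_rel {w : List Nat} (hw : w ∈ thRels) (hl : ∀ x ∈ w, x < 9) : (w.map lD).prod = 1 := by
  apply Subtype.ext
  rw [SubmonoidClass.coe_list_prod, List.map_map, OneMemClass.coe_one]
  refine Eq.trans ?_ (tev_rel hw)
  exact congrArg List.prod (List.map_congr_left fun x hx => by
    simp [lD, letter_mem (hl x hx)])

theorem lD_gen {g : Th.Gen} (hg : g ≠ .u) :
    fD g = lD (match g with | .a => 0 | .b => 1 | .c => 2 | .d => 3 | .e => 4 | .s => 5 | .t => 7 | .u => 9) := by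
  apply Subtype.ext
  rw [coe_fD hg, lD, dif_pos (letter_mem (by revert hg; cases g <;> simp))]
  cases g <;> first | rfl | exact absurd rfl hg

/-- the simple subgroup -/
noncomputable def triL : Subgroup CfsgLib.ThCent.dSub := Subgroup.normalClosure {fD .a}

variable (hNT : Nontrivial Cfsg.Spor.Th)
include hNT

theorem exists_triChar : ∃ χ : CfsgLib.ThCent.dSub →* Multiplicative (ZMod 3),
    ∀ g, g ≠ Th.Gen.u → χ (fD g) = triGen g := by
  let f : Th.Gen → Cfsg.Spor.Th × Multiplicative (ZMod 3) := fun g => (th g, triGen g)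
  have hw : ((klWords ++ lsWords ++ soWords ++ dxWords).all fun kw =>
      decide (kw.1 = 999) || decide (wordVal triGen kw.2 = 1)) = true := by decide +kernel
  have hrel : DRel f := by
    refine ⟨fun g hg => Prod.ext (th_invol g hg) ?_, fun kw hkw h9 => Prod.ext ?_ ?_⟩
    · cases g <;> simp [CfsgLib.ThCent.invol] at hg <;> simp [f, triGen]
    · rw [show (wordVal f kw.2).1 = wordVal th kw.2 from
        map_wordVal (MonoidHom.fst Cfsg.Spor.Th (Multiplicative (ZMod 3))) f th _ fun _ _ => rfl]
      exact dRel_th.rels kw hkw h9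
    · rw [show (wordVal f kw.2).2 = wordVal triGen kw.2 from
        map_wordVal (MonoidHom.snd Cfsg.Spor.Th (Multiplicative (ZMod 3))) f triGen _ fun _ _ => rfl]
      have := List.all_eq_true.1 hw kw hkw
      simp only [Bool.or_eq_true, decide_eq_true_eq, h9, false_or] at this
      exact this
  obtain ⟨hfin, hc⟩ := dGroup_bound f hrel
  set P := Subgroup.closure (f '' dSet) with hP
  let p : P →* CfsgLib.ThCent.dSub := ((MonoidHom.fst _ _).comp P.subtype).codRestrict _ (by
    rintro ⟨q, hq⟩
    show q.1 ∈ CfsgLib.ThCent.dSub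
    have hle : P ≤ CfsgLib.ThCent.dSub.comap (MonoidHom.fst _ _) := by
      rw [hP, Subgroup.closure_le]
      rintro _ ⟨g, hg, rfl⟩
      exact Subgroup.subset_closure ⟨g, hg, rfl⟩
    exact hle hq)
  have hs : Function.Surjective p := by
    rintro ⟨q, hq⟩
    have hle : CfsgLib.ThCent.dSub ≤ P.map (MonoidHom.fst _ _) := by
      rw [hP, MonoidHom.map_closure, CfsgLib.ThCent.dSub]
      refine Subgroup.closure_mono ?_
      rintro _ ⟨g, hg, rfl⟩
      exact ⟨f g, ⟨g, hg, rfl⟩, rfl⟩
    obtain ⟨z, hz, e⟩ := hle hq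
    exact ⟨⟨z, hz⟩, Subtype.ext e⟩
  have := dSub_bound.1
  have hb : Function.Bijective p := (Nat.bijective_iff_surjective_and_card p).2
    ⟨hs, le_antisymm (hc.trans (card_dSub hNT).ge) (Nat.card_le_card_of_surjective p hs)⟩
  refine ⟨((MonoidHom.snd _ _).comp P.subtype).comp (MulEquiv.ofBijective p hb).symm.toMonoidHom,
    fun g hg => ?_⟩
  have e : (MulEquiv.ofBijective p hb).symm (fD g) = ⟨f g, Subgroup.subset_closure ⟨g, hg, rfl⟩⟩ := by
    rw [MulEquiv.symm_apply_eq]
    exact Subtype.ext (coe_fD hg)
  show ((MulEquiv.ofBijective p hb).symm (fD g)).1.2 = triGen g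
  rw [e]

theorem triL_card : Nat.card triL = 211341312 ∧ ∀ g, g ≠ Th.Gen.u → g ≠ .t → fD g ∈ triL := by
  have := dSub_bound.1
  obtain ⟨χ, hχ⟩ := exists_triChar hNT
  have hle : triL ≤ χ.ker := Subgroup.normalClosure_le_normal (by
    simp [hχ .a (by decide), triGen])
  haveI : triL.Normal := Subgroup.normalClosure_normal
  let q := fun x => QuotientGroup.mk' triL (lD x)
  have hrel : ∀ w ∈ thRels, (∀ x ∈ w, x < 9) → (w.map q).prod = 1 := fun w hw hl => by
    rw [show (w.map q) = (w.map lD).map (QuotientGroup.mk' triL) by rw [List.map_map]; rfl,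
      ← map_list_prod, lD_rel hw hl, map_one]
  have qa : q 0 = 1 := (QuotientGroup.eq_one_iff _).2 (by
    rw [← lD_gen (g := .a) (by decide)]; exact Subgroup.subset_normalClosure rfl)
  have sq : ∀ x, x < 5 → q x * q x = 1 := fun x hx => by
    have := hrel [x, x] (by interval_cases x <;> decide +kernel) (by simp; omega)
    simpa using this
  have qb : q 1 = 1 := by
    have := hrel [0, 1, 0, 1, 0, 1] (by decide +kernel) (by simp)
    simp only [List.map_cons, List.map_nil, List.prod_cons, List.prod_nil, qa, one_mul, mul_one] at this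
    rwa [sq 1 (by norm_num), mul_one] at this
  have qc : q 2 = 1 := by
    have := hrel [1, 2, 1, 2, 1, 2] (by decide +kernel) (by simp)
    simp only [List.map_cons, List.map_nil, List.prod_cons, List.prod_nil, qb, one_mul, mul_one] at this
    rwa [sq 2 (by norm_num), mul_one] at this
  have qde : q 3 = q 4 := by
    have h8 := hrel [1, 2, 3, 4, 1, 2, 3, 4, 1, 2, 3, 4, 1, 2, 3, 4, 1, 2, 3, 4, 1, 2, 3, 4, 1, 2, 3, 4, 1, 2, 3, 4]
      (by decide +kernel) (by simp)
    have h3 := hrel [3, 4, 3, 4, 3, 4] (by decide +kernel) (by simp)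
    simp only [List.map_cons, List.map_nil, List.prod_cons, List.prod_nil, qb, qc, one_mul, mul_one] at h8 h3
    have e8 : (q 3 * q 4) ^ 8 = 1 := by rw [← h8]; simp [pow_succ, mul_assoc]
    have e3 : (q 3 * q 4) ^ 3 = 1 := by rw [← h3]; simp [pow_succ, mul_assoc]
    have e1 : q 3 * q 4 = 1 := by
      calc q 3 * q 4 = ((q 3 * q 4) ^ 3) ^ 3 * ((q 3 * q 4) ^ 8)⁻¹ := by
            rw [← pow_mul]; simp only [pow_succ, pow_zero, one_mul, mul_inv_rev]; group
        _ = 1 := by rw [e3, e8]; simp
    exact mul_right_cancel (e1.trans (sq 4 (by norm_num)).symm)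
  have hsi : q 6 = (q 5)⁻¹ := by
    refine eq_inv_of_mul_eq_one_right ?_
    show QuotientGroup.mk' triL (lD 5) * QuotientGroup.mk' triL (lD 6) = 1
    rw [← map_mul, show lD 5 * lD 6 = 1 from Subtype.ext (by
      rw [Subgroup.coe_mul, lD, lD, dif_pos (letter_mem (by norm_num)),
        dif_pos (letter_mem (by norm_num))]
      simp [letter, letterList]), map_one]
  obtain ⟨qd, qs⟩ : q 3 = 1 ∧ q 5 = 1 := by
    have h19 := hrel [4, 6, 4, 5, 6, 6, 6, 4, 5, 5, 5] (by decide +kernel) (by simp)
    have h18 := hrel [5, 3, 5, 3] (by decide +kernel) (by simp)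
    have h7 := hrel [5, 5, 5, 5, 5, 5, 5] (by decide +kernel) (by simp)
    simp only [List.map_cons, List.map_nil, List.prod_cons, List.prod_nil, mul_one, hsi, ← qde] at h19 h18 h7
    generalize hd : q 3 = d at h19 h18 sq
    generalize hs' : q 5 = s at h19 h18 h7
    have hd2 : d * d = 1 := hd ▸ sq 3 (by norm_num)
    have hds : d * s = s⁻¹ * d := by
      calc d * s = s⁻¹ * (s * (d * (s * d))) * d⁻¹ := by group
        _ = s⁻¹ * d := by rw [h18, inv_eq_of_mul_eq_one_left hd2]; group
    have hds' : d * s⁻¹ = s * d := by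
      calc d * s⁻¹ = s * (s⁻¹ * d) * s⁻¹ := by group
        _ = s * d := by rw [← hds]; group
    have e : d = s ^ (4 : ℤ) := by
      have : d * s⁻¹ * d * s * s⁻¹ * s⁻¹ * s⁻¹ * d * s * s * s = 1 := by
        rw [← h19]; simp only [mul_assoc]
      rw [hds', mul_assoc s d d, hd2, mul_one] at this
      rw [show s * s * s⁻¹ * s⁻¹ * s⁻¹ * d * s * s * s = s⁻¹ * d * s * s * s by group,
        ← hds, show d * s * s * s * s = d * (s ^ (4 : ℤ)) by simp [zpow_ofNat, pow_succ, mul_assoc]] at this
      calc d = d⁻¹ := (inv_eq_of_mul_eq_one_left hd2).symm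
        _ = s ^ (4 : ℤ) := inv_eq_of_mul_eq_one_right this
    have h7' : s ^ (7 : ℤ) = 1 := by rw [← h7]; simp [zpow_ofNat, pow_succ, mul_assoc]
    have h88 : s ^ (8 : ℤ) = 1 := by rw [← hd2, e]; group
    have es : s = 1 := by
      calc s = s ^ (8 : ℤ) * (s ^ (7 : ℤ))⁻¹ := by group
        _ = 1 := by rw [h88, h7']; simp
    exact ⟨by rw [e, es, one_zpow], es⟩
  have hmem : ∀ g, g ≠ Th.Gen.u → g ≠ .t → fD g ∈ triL := by
    intro g hu ht
    rw [lD_gen hu, ← QuotientGroup.eq_one_iff]
    cases g with
    | a => exact qa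
    | b => exact qb
    | c => exact qc
    | d => exact qd
    | e => exact qde.symm.trans qd
    | s => exact qs
    | t => exact absurd rfl ht
    | u => exact absurd rfl hu
  refine ⟨?_, hmem⟩
  have htop : triL ⊔ Subgroup.zpowers (fD .t) = ⊤ := by
    rw [eq_top_iff, ← closure_fD, Subgroup.closure_le]
    rintro _ ⟨x, hx, rfl⟩
    have hd : ∀ g, g ≠ Th.Gen.u → fD g ∈ triL ⊔ Subgroup.zpowers (fD .t) := fun g hg => by
      by_cases ht : g = .t
      · subst ht; exact Subgroup.mem_sup_right (Subgroup.mem_zpowers _)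
      · exact Subgroup.mem_sup_left (hmem g hg ht)
    have hh := List.all_eq_true.1 dLets_no_u (dkLets.getD x (.a, true)) (by
      rw [List.getD_eq_getElem?_getD, List.getElem?_eq_getElem hx]; exact List.getElem_mem _)
    simp only [decide_eq_true_eq] at hh
    rw [SetLike.mem_coe, CfsgLib.ThCent.letVal]
    generalize dkLets.getD x (.a, true) = pr at hh
    obtain ⟨g, _ | _⟩ := pr <;> simp [sval] <;> exact hd g hh
  have ht3 : fD .t ^ 3 = 1 := by
    have := lD_rel (w := [7, 7, 7]) (by decide +kernel) (by simp)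
    rw [lD_gen (g := .t) (by decide)]
    simpa [pow_succ, mul_assoc] using this
  have hidx : triL.index = 3 := by
    have h1 : χ.ker.index ∣ triL.index := Subgroup.index_dvd_of_le hle
    have h2 : χ.ker.index = 3 := by
      have hs : Function.Surjective χ := by
        intro z
        refine ⟨fD .t ^ (Multiplicative.toAdd z).val, ?_⟩
        rw [map_pow, hχ .t (by decide), triGen, if_pos rfl, ← ofAdd_nsmul]
        simp
      rw [Subgroup.index_ker, MonoidHom.range_eq_top.2 hs, Subgroup.card_top]
      simp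
    have h3 : triL.index ∣ 3 := by
      rw [Subgroup.index_eq_card]
      have : ∀ z : CfsgLib.ThCent.dSub ⧸ triL, z ∈ Subgroup.zpowers (QuotientGroup.mk' triL (fD .t)) := by
        intro z
        obtain ⟨y, rfl⟩ := QuotientGroup.mk'_surjective triL z
        obtain ⟨n, hn, k, hk, rfl⟩ := Subgroup.mem_sup_of_normal_left.1 (htop ▸ Subgroup.mem_top y :
          y ∈ triL ⊔ Subgroup.zpowers (fD .t))
        rw [map_mul, show QuotientGroup.mk' triL n = 1 from (QuotientGroup.eq_one_iff n).2 hn, one_mul]
        obtain ⟨i, rfl⟩ := hk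
        exact ⟨i, (map_zpow _ _ _).symm⟩
      have hz : Subgroup.zpowers (QuotientGroup.mk' triL (fD .t)) = ⊤ := (Subgroup.eq_top_iff' _).2 this
      rw [← Subgroup.card_top, ← hz, Nat.card_zpowers]
      exact orderOf_dvd_of_pow_eq_one (by rw [← map_pow, ht3, map_one])
    exact Nat.dvd_antisymm h3 (h2 ▸ h1)
  have h := triL.index_mul_card
  rw [hidx, card_dSub hNT] at h
  omega

theorem triL_is3D4 : Cfsg.Is3D4 triL := by
  classical
  have := dSub_bound.1
  obtain ⟨hcard, hmem⟩ := triL_card hNT
  refine ⟨?_, 2, (Nat.prime_two.isPrimePow), by rw [hcard]; norm_num⟩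
  refine simple_of_maximal (S := kD) ?_ ?_ ?_ ?_ (p := 13) (by norm_num)
    (by rw [show Subgroup.normalClosure {fD Th.Gen.a} = triL from rfl, hcard]; norm_num)
    (by rw [show Subgroup.normalClosure {fD Th.Gen.a} = triL from rfl, hcard]; norm_num)
  · intro k hk
    apply Subtype.ext
    rw [Subgroup.coe_mul, Subgroup.coe_mul, coe_fD (by decide)]
    exact (kD_comm k hk).symm.eq
  · intro T hT
    by_cases h : T = ⊤
    · exact Or.inr h
    left
    have e1 := index_eq DK.valid dPrim (M := dModel) (dSub_le_model.trans hT) h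
    refine (Subgroup.eq_of_le_of_card_ge hT ?_).symm
    have a := T.index_mul_card
    have b := kD.index_mul_card
    rw [e1, show dCert.n = 819 from rfl] at a
    rw [index_kD hNT] at b
    omega
  · intro N hN hle
    refine (Subgroup.eq_bot_iff_forall _).2 fun q hq => repD_injective hNT ?_
    refine Equiv.ext fun c => ?_
    rw [map_one, Equiv.Perm.one_apply, repD, rep]
    show (cosetEquiv DK.valid dPrim dSub_le_model (kD_ne_top hNT)).symm
      (q • (cosetEquiv DK.valid dPrim dSub_le_model (kD_ne_top hNT) c)) = c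
    rw [Equiv.symm_apply_eq]
    obtain ⟨g, hg⟩ := QuotientGroup.mk_surjective
      (cosetEquiv DK.valid dPrim dSub_le_model (kD_ne_top hNT) c)
    rw [← hg, MulAction.Quotient.smul_mk, QuotientGroup.eq, smul_eq_mul, mul_inv_rev]
    exact hle (by simpa using hN.conj_mem _ (inv_mem hq) g⁻¹)
  · rw [show Subgroup.normalClosure {fD Th.Gen.a} = triL from rfl]
    haveI : triL.Normal := Subgroup.normalClosure_normal
    refine Subgroup.normalClosure_le_normal ?_
    intro z hz
    rw [Set.mem_singleton_iff.1 hz]
    let φ := Abelianization.of (G := triL)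
    have key : φ ⟨fD .a, hmem _ (by decide) (by decide)⟩ = 1 := by
      let v : Nat → Abelianization triL := fun x =>
        if h : lD x ∈ triL then φ ⟨lD x, h⟩ else 1
      have hx : ∀ x < 4, lD x ∈ triL := fun x hx => by
        interval_cases x
        · exact lD_gen (g := .a) (by decide) ▸ hmem _ (by decide) (by decide)
        · exact lD_gen (g := .b) (by decide) ▸ hmem _ (by decide) (by decide)
        · exact lD_gen (g := .c) (by decide) ▸ hmem _ (by decide) (by decide)
        · exact lD_gen (g := .d) (by decide) ▸ hmem _ (by decide) (by decide)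
      have hv : ∀ w ∈ thRels, (∀ x ∈ w, x < 4) → (w.map v).prod = 1 := fun w hw hl => by
        have : ∀ l : List Nat, (∀ x ∈ l, x < 4) → ∃ h : (l.map lD).prod ∈ triL,
            (l.map v).prod = φ ⟨(l.map lD).prod, h⟩ := by
          intro l
          induction l with
          | nil => intro _; exact ⟨one_mem _, (map_one φ).symm⟩
          | cons x l ih =>
            intro hl
            obtain ⟨h, e⟩ := ih fun y hy => hl y (List.mem_cons_of_mem _ hy)
            have h1 := hx x (hl x (List.mem_cons_self ..))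
            refine ⟨mul_mem h1 h, ?_⟩
            rw [List.map_cons, List.prod_cons, e, show v x = φ ⟨lD x, h1⟩ from dif_pos h1, ← map_mul]
            rfl
        obtain ⟨h, e⟩ := this w hl
        rw [e, ← map_one φ]
        exact congrArg φ (Subtype.ext (lD_rel hw fun x hx => lt_trans (hl x hx) (by norm_num)))
      have s : ∀ x, x < 4 → v x * v x = 1 := fun x hx => by
        have := hv [x, x] (by interval_cases x <;> decide +kernel) (by simp; omega)
        simpa using this
      have ab := hv [0, 1, 0, 1, 0, 1] (by decide +kernel) (by simp)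
      have bc := hv [1, 2, 1, 2, 1, 2] (by decide +kernel) (by simp)
      have cd := hv [0, 3, 2, 3, 2, 3, 2, 3, 2] (by decide +kernel) (by simp)
      simp only [List.map_cons, List.map_nil, List.prod_cons, List.prod_nil, mul_one] at ab bc cd
      have key : v 0 = 1 := by
        have h4 : (v 3 * v 2) ^ 4 = 1 := by
          rw [mul_pow, show (4 : ℕ) = 2 * 2 from rfl, pow_mul, pow_mul, sq (v 3), sq (v 2),
            s 3 (by norm_num), s 2 (by norm_num)]
          simp
        calc v 0 = v 0 * (v 3 * v 2) ^ 4 := by rw [h4, mul_one]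
          _ = 1 := by rw [← cd]; simp [pow_succ, mul_assoc]
      rw [show v 0 = φ ⟨lD 0, hx 0 (by norm_num)⟩ from dif_pos (hx 0 (by norm_num))] at key
      rw [← key]
      exact congrArg φ (Subtype.ext (lD_gen (g := .a) (by decide)))
    have hc : (⟨fD .a, hmem _ (by decide) (by decide)⟩ : triL) ∈ commutator triL := by
      rw [← Abelianization.ker_of, MonoidHom.mem_ker]; exact key
    have := Subgroup.mem_map_of_mem triL.subtype hc
    rwa [commutator_def, Subgroup.map_commutator, ← MonoidHom.range_eq_map, Subgroup.range_subtype] at this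

end Th

end CfsgLib.Spor.Th
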