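import Cfsg.Prelude.Def_Spor_Th
import Cfsg.Agent.Lib.Spor.Th.Engine

/-!
Words in the generators of the presented Thompson group.  Letters 0, …, 10 stand for
a, b, c, d, e, s, s⁻¹, t, t⁻¹, u, u⁻¹.
-/

namespace CfsgLib.Spor.Th

open Cfsg.Spor

/-- a generator of the presented group -/
noncomputable def gth (x : Th.Gen) : Cfsg.Spor.Th :=
  PresentedGroup.mk _ (FreeGroup.of x)

/-- letters -/
noncomputable def letterList : List Cfsg.Spor.Th :=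
  [gth .a, gth .b, gth .c, gth .d, gth .e, gth .s, (gth .s)⁻¹, gth .t, (gth .t)⁻¹, gth .u, (gth .u)⁻¹]

/-- a letter -/
noncomputable def letter (x : Nat) : Cfsg.Spor.Th := letterList.getD x 1

/-- value of a word -/
noncomputable def tev (w : List Nat) : Cfsg.Spor.Th := (w.map letter).prod

/-- inverse letter -/
noncomputable def tiv (x : Nat) : Nat := [0, 1, 2, 3, 4, 6, 5, 8, 7, 10, 9].getD x x

/-- the relators as words -/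
def thRels : List (List Nat) :=
  [[0, 0],
   [1, 1],
   [2, 2],
   [3, 3],
   [4, 4],
   [0, 1, 0, 1, 0, 1],
   [0, 4, 0, 4],
   [1, 2, 1, 2, 1, 2],
   [1, 3, 1, 3],
   [1, 4, 1, 4],
   [0, 3, 2, 3, 2, 3, 2, 3, 2],
   [2, 4, 2, 4],
   [3, 4, 3, 4, 3, 4],
   [1, 2, 3, 4, 1, 2, 3, 4, 1, 2, 3, 4, 1, 2, 3, 4, 1, 2, 3, 4, 1, 2, 3, 4, 1, 2, 3, 4, 1, 2, 3, 4],
   [5, 5, 5, 5, 5, 5, 5],
   [6, 0, 5, 0],
   [6, 1, 5, 1],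
   [6, 2, 5, 2],
   [5, 3, 5, 3],
   [4, 6, 4, 5, 6, 6, 6, 4, 5, 5, 5],
   [7, 7, 7],
   [8, 0, 7, 0],
   [8, 1, 7, 1],
   [8, 2, 7, 2],
   [8, 3, 7, 3],
   [8, 4, 7, 4],
   [8, 5, 7, 6, 6],
   [9, 9, 2, 0],
   [10, 0, 9, 0],
   [10, 2, 9, 2],
   [10, 4, 9, 4],
   [3, 4, 10, 3, 9, 3, 4, 10, 3, 9],
   [10, 1, 2, 0, 1, 9, 1, 0, 2, 1, 4],
   [3, 10, 3, 1, 2, 0, 1, 3, 9, 3, 1, 0, 2, 1, 2, 4, 3, 10, 3, 1, 2, 0, 1, 4, 10],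
   [10, 7, 9, 7],
   [4, 6, 6, 10, 5, 5, 4, 6, 6, 9, 5, 5],
   [0, 2, 6, 10, 6, 10, 6, 10],
   [0, 2, 6, 10, 5, 9, 6, 10, 5, 9, 6, 10, 5, 9, 6, 10, 5, 9],
   [3, 6, 6, 9, 5, 5, 3, 6, 6, 9, 5, 5, 3, 6, 6, 9, 5, 5, 3, 6, 6, 9, 5, 5, 6, 6, 4, 3, 2, 3, 4, 5, 5, 5, 4, 3, 2, 3, 4, 6, 3, 2, 3, 2, 0]]

theorem extra_eq_one {r : FreeGroup Th.Gen} (h : r ∈ Th.extra) :
    PresentedGroup.mk (coxRelators Th.edges ∪ {r | r ∈ Th.extra}) r = 1 :=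
  PresentedGroup.one_of_mem (Or.inr h)

theorem gth_sq (x : Th.Gen) (h : FreeGroup.of x ^ 2 ∈ Th.extra) : (gth x)⁻¹ = gth x := by
  have := extra_eq_one h
  rw [map_pow] at this
  exact inv_eq_of_mul_eq_one_left (by rw [← this, sq]; rfl)

end CfsgLib.Spor.Th
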